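import Mathlib

/-!
# Euler characteristic of a long exact sequence of modules of finite length (helper85)

`0 → A 0 → B 0 → C 0 → A 1 → B 1 → C 1 → ⋯ → C d → A (d+1) = 0` exact, all terms of finite
length.  Then `∑_{i ≤ d} (-1)^i (ℓ(A i) - ℓ(B i) + ℓ(C i)) = 0`.
-/

set_option autoImplicit false
set_option linter.unusedSectionVars false

universe u v

namespace Groth.Agent.H85.EulerLES

open Module

section RankNullity

variable {S : Type u} [Ring S] {A : Type v} {B : Type v} [AddCommGroup A] [Module S A]
  [AddCommGroup B] [Module S B]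

theorem length_eq_ker_add_range (f : A →ₗ[S] B) :
    Module.length S A = Module.length S (LinearMap.ker f) + Module.length S (LinearMap.range f) :=
  Module.length_eq_add_of_exact (LinearMap.ker f).subtype f.rangeRestrict
    (Submodule.subtype_injective _) f.surjective_rangeRestrict (by
      intro x
      constructor
      · intro hx
        have hx' : f x = 0 := congrArg Subtype.val hx
        exact ⟨⟨x, hx'⟩, rfl⟩
      · rintro ⟨y, rfl⟩
        exact Subtype.ext y.2)

theorem length_range_ne_top (f : A →ₗ[S] B) (hB : Module.length S B ≠ ⊤) :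
    Module.length S (LinearMap.range f) ≠ ⊤ := by
  intro h
  apply hB
  have := Module.length_le_of_injective (LinearMap.range f).subtype (Submodule.subtype_injective _)
  rw [h, top_le_iff] at this
  exact this

end RankNullity

section LES

variable {S : Type u} [Ring S]
variable (A B C : ℕ → Type v) [∀ i, AddCommGroup (A i)] [∀ i, Module S (A i)]
  [∀ i, AddCommGroup (B i)] [∀ i, Module S (B i)] [∀ i, AddCommGroup (C i)] [∀ i, Module S (C i)]
variable (u : ∀ i, A i →ₗ[S] B i) (v : ∀ i, B i →ₗ[S] C i) (δ : ∀ i, C i →ₗ[S] A (i + 1))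
variable (hu0 : Function.Injective (u 0))
  (huv : ∀ i, Function.Exact (u i) (v i)) (hvδ : ∀ i, Function.Exact (v i) (δ i))
  (hδu : ∀ i, Function.Exact (δ i) (u (i + 1)))
  (hA : ∀ i, Module.length S (A i) ≠ ⊤) (hB : ∀ i, Module.length S (B i) ≠ ⊤)
  (hC : ∀ i, Module.length S (C i) ≠ ⊤)

/-- abbreviation: the length as an integer -/
noncomputable def len (X : Type v) [AddCommGroup X] [Module S X] : ℤ :=
  ((Module.length S X).toNat : ℤ)

omit [∀ i, AddCommGroup (A i)] [∀ i, Module S (A i)]
  [∀ i, AddCommGroup (B i)] [∀ i, Module S (B i)] [∀ i, AddCommGroup (C i)] [∀ i, Module S (C i)] in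
theorem len_add {X Y Z : Type v} [AddCommGroup X] [Module S X] [AddCommGroup Y] [Module S Y]
    [AddCommGroup Z] [Module S Z]
    (h : Module.length S X = Module.length S Y + Module.length S Z)
    (hY : Module.length S Y ≠ ⊤) (hZ : Module.length S Z ≠ ⊤) :
    len (S := S) X = len (S := S) Y + len (S := S) Z := by
  unfold len
  rw [h, ENat.toNat_add hY hZ]
  push_cast
  rfl

include hu0 huv hvδ hδu hA hB hC in
theorem euler_partial (d : ℕ) :
    ∑ i ∈ Finset.range (d + 1), (-1 : ℤ) ^ i *
        (len (S := S) (A i) - len (S := S) (B i) + len (S := S) (C i)) =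
      (-1 : ℤ) ^ d * len (S := S) (LinearMap.range (δ d)) := by
  -- the three rank-nullity identities
  have hBi : ∀ i, len (S := S) (B i) =
      len (S := S) (LinearMap.range (u i)) + len (S := S) (LinearMap.range (v i)) := by
    intro i
    have h1 := length_eq_ker_add_range (v i)
    rw [LinearMap.exact_iff.mp (huv i)] at h1
    exact len_add h1 (length_range_ne_top (u i) (hB i)) (length_range_ne_top (v i) (hC i))
  have hCi : ∀ i, len (S := S) (C i) =
      len (S := S) (LinearMap.range (v i)) + len (S := S) (LinearMap.range (δ i)) := by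
    intro i
    have h1 := length_eq_ker_add_range (δ i)
    rw [LinearMap.exact_iff.mp (hvδ i)] at h1
    exact len_add h1 (length_range_ne_top (v i) (hC i)) (length_range_ne_top (δ i) (hA (i + 1)))
  have hAs : ∀ i, len (S := S) (A (i + 1)) =
      len (S := S) (LinearMap.range (δ i)) + len (S := S) (LinearMap.range (u (i + 1))) := by
    intro i
    have h1 := length_eq_ker_add_range (u (i + 1))
    rw [LinearMap.exact_iff.mp (hδu i)] at h1
    exact len_add h1 (length_range_ne_top (δ i) (hA (i + 1)))
      (length_range_ne_top (u (i + 1)) (hB (i + 1)))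
  have hA0 : len (S := S) (A 0) = len (S := S) (LinearMap.range (u 0)) := by
    unfold len
    rw [(LinearEquiv.ofInjective (u 0) hu0).length_eq]
  induction d with
  | zero =>
    rw [Finset.sum_range_one, pow_zero, one_mul, one_mul, hA0, hBi 0, hCi 0]
    ring
  | succ d ih =>
    rw [Finset.sum_range_succ, ih, hAs d, hBi (d + 1), hCi (d + 1), pow_succ]
    ring

include hu0 huv hvδ hδu hA hB hC in
/-- **Euler characteristic of a long exact sequence** -/
theorem euler (d : ℕ) (hvanish : Subsingleton (A (d + 1))) :
    ∑ i ∈ Finset.range (d + 1), (-1 : ℤ) ^ i *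
        (len (S := S) (A i) - len (S := S) (B i) + len (S := S) (C i)) = 0 := by
  rw [euler_partial A B C u v δ hu0 huv hvδ hδu hA hB hC d]
  have : Subsingleton (LinearMap.range (δ d)) := by
    refine ⟨fun x y => Subtype.ext (Subsingleton.elim _ _)⟩
  have h0 : Module.length S (LinearMap.range (δ d)) = 0 := Module.length_eq_zero
  unfold len
  rw [h0]
  simp

end LES

end Groth.Agent.H85.EulerLES
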