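import Mathlib

/-!
# Homogeneous systems of parameters in nonnegatively `ℤ`-graded algebras over a field

`R` is a commutative `k`-algebra graded by `𝒜 : ℤ → Submodule k R`, with `𝒜 n = ⊥` for `n < 0`
and `𝒜 0 = k · 1`.  We prove homogeneous prime avoidance and the existence of homogeneous
parameters: if every chain of primes containing a homogeneous ideal `I` has length `≤ m`,
there are `m` homogeneous elements of positive degree generating, together with `I`, an ideal whose
radical contains the irrelevant ideal.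
-/

set_option autoImplicit false

namespace Groth.Agent.H85.GradedNN

open DirectSum

variable {k : Type*} [Field k] {R : Type*} [CommRing R] [Algebra k R]
  (𝒜 : ℤ → Submodule k R) [GradedAlgebra 𝒜]

/-- homogeneous of positive degree -/
def PosHom (x : R) : Prop := ∃ n : ℤ, 0 < n ∧ x ∈ 𝒜 n

/-- the irrelevant ideal -/
def irr : Ideal R := Ideal.span {x | PosHom 𝒜 x}

theorem posHom_zero : PosHom 𝒜 (0 : R) := ⟨1, one_pos, Submodule.zero_mem _⟩

variable {𝒜} in
theorem PosHom.pow {x : R} (hx : PosHom 𝒜 x) {n : ℕ} (hn : 0 < n) : PosHom 𝒜 (x ^ n) := by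
  obtain ⟨d, hd, hxd⟩ := hx
  refine ⟨n • d, ?_, SetLike.pow_mem_graded n hxd⟩
  rw [nsmul_eq_mul]
  exact mul_pos (by exact_mod_cast hn) hd

variable {𝒜} in
theorem PosHom.mul {x y : R} (hx : PosHom 𝒜 x) (hy : PosHom 𝒜 y) : PosHom 𝒜 (x * y) := by
  obtain ⟨d, hd, hxd⟩ := hx
  obtain ⟨e, he, hye⟩ := hy
  exact ⟨d + e, by omega, SetLike.mul_mem_graded hxd hye⟩

variable {𝒜} in
theorem PosHom.mem_irr {x : R} (hx : PosHom 𝒜 x) : x ∈ irr 𝒜 := Ideal.subset_span hx

variable {𝒜} in
theorem PosHom.prod {ι : Type*} (s : Finset ι) (hs : s.Nonempty) (f : ι → R)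
    (hf : ∀ i ∈ s, PosHom 𝒜 (f i)) : PosHom 𝒜 (∏ i ∈ s, f i) := by
  classical
  induction hs using Finset.Nonempty.cons_induction with
  | singleton a => simpa using hf a (by simp)
  | cons a s ha hs ih =>
    rw [Finset.prod_cons]
    exact (hf a (by simp)).mul (ih fun i hi => hf i (by simp [hi]))

/-- **Homogeneous prime avoidance.** -/
theorem exists_posHom_notMem_aux : ∀ (n : ℕ) (s : Finset (Ideal R)), s.card = n →
    (∀ p ∈ s, p.IsPrime) → (∀ p ∈ s, ¬ irr 𝒜 ≤ p) → ∃ x, PosHom 𝒜 x ∧ ∀ p ∈ s, x ∉ p := by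
  classical
  intro n
  induction n with
  | zero =>
    intro s hs _ _
    rw [Finset.card_eq_zero] at hs
    subst hs
    exact ⟨0, posHom_zero 𝒜, by simp⟩
  | succ n ih =>
    intro s hs hprime hirr
    rcases Nat.eq_zero_or_pos n with hn | hn
    · subst hn
      rw [Finset.card_eq_one] at hs
      obtain ⟨p, rfl⟩ := hs
      have hp := hirr p (by simp)
      by_contra hcon
      push Not at hcon
      apply hp
      unfold irr
      rw [Ideal.span_le]
      intro x hx
      by_contra hxp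
      exact hxp (by simpa using hcon x hx)
    · have key : ∀ p ∈ s, ∃ x, PosHom 𝒜 x ∧ ∀ q ∈ s.erase p, x ∉ q := by
        intro p hp
        refine ih (s.erase p) ?_ (fun q hq => hprime q (Finset.mem_of_mem_erase hq))
          (fun q hq => hirr q (Finset.mem_of_mem_erase hq))
        rw [Finset.card_erase_of_mem hp, hs]; rfl
      choose! x hxpos hx using key
      by_cases h : ∃ p ∈ s, x p ∉ p
      · obtain ⟨p, hp, hxp⟩ := h
        refine ⟨x p, hxpos p hp, fun q hq => ?_⟩
        by_cases hqp : q = p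
        · rw [hqp]; exact hxp
        · exact hx p hp q (Finset.mem_erase.mpr ⟨hqp, hq⟩)
      · push Not at h
        have hne : s.Nonempty := by
          rw [← Finset.card_pos, hs]; omega
        obtain ⟨p₀, hp₀⟩ := hne
        have hne' : (s.erase p₀).Nonempty := by
          rw [← Finset.card_pos, Finset.card_erase_of_mem hp₀, hs]; simpa using hn
        set y : R := ∏ q ∈ s.erase p₀, x q with hy
        have hypos : PosHom 𝒜 y :=
          PosHom.prod _ hne' _ fun q hq => hxpos q (Finset.mem_of_mem_erase hq)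
        obtain ⟨a, ha, hxa⟩ := hxpos p₀ hp₀
        obtain ⟨b, hb, hyb⟩ := hypos
        have hA : a.toNat ≠ 0 := by omega
        have hB : b.toNat ≠ 0 := by omega
        have h1 : x p₀ ^ b.toNat ∈ 𝒜 (a * b) := by
          have := SetLike.pow_mem_graded b.toNat hxa
          rw [nsmul_eq_mul, Int.toNat_of_nonneg hb.le, mul_comm] at this
          exact this
        have h2 : y ^ a.toNat ∈ 𝒜 (a * b) := by
          have := SetLike.pow_mem_graded a.toNat hyb
          rw [nsmul_eq_mul, Int.toNat_of_nonneg ha.le] at this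
          exact this
        refine ⟨x p₀ ^ b.toNat + y ^ a.toNat, ⟨a * b, mul_pos ha hb, Submodule.add_mem _ h1 h2⟩, ?_⟩
        intro q hq hmem
        by_cases hqp : q = p₀
        · subst hqp
          have := hprime q hq
          have h3 : x q ^ b.toNat ∈ q := Ideal.pow_mem_of_mem _ (h q hq) _ (Nat.pos_of_ne_zero hB)
          have h4 : y ^ a.toNat ∈ q := (Ideal.add_mem_iff_right _ h3).mp hmem
          have h5 : y ∈ q := Ideal.IsPrime.mem_of_pow_mem inferInstance _ h4
          rw [hy, Ideal.IsPrime.prod_mem_iff] at h5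
          obtain ⟨q', hq', hxq'⟩ := h5
          have hq's : q' ∈ s := Finset.mem_of_mem_erase hq'
          have hne'' : q ≠ q' := fun e => (Finset.ne_of_mem_erase hq') e.symm
          exact hx q' hq's q (Finset.mem_erase.mpr ⟨hne'', hq⟩) hxq'
        · haveI := hprime q hq
          have hqe : q ∈ s.erase p₀ := Finset.mem_erase.mpr ⟨hqp, hq⟩
          have h3 : y ∈ q := by
            rw [hy, Ideal.IsPrime.prod_mem_iff]
            exact ⟨q, hqe, h q hq⟩
          have h4 : y ^ a.toNat ∈ q := Ideal.pow_mem_of_mem _ h3 _ (Nat.pos_of_ne_zero hA)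
          have h5 : x p₀ ^ b.toNat ∈ q := (Ideal.add_mem_iff_left _ h4).mp hmem
          have h6 : x p₀ ∈ q := Ideal.IsPrime.mem_of_pow_mem inferInstance _ h5
          exact hx p₀ hp₀ q hqe h6

/-- **Homogeneous prime avoidance.** -/
theorem exists_posHom_notMem (s : Finset (Ideal R))
    (hprime : ∀ p ∈ s, p.IsPrime) (hirr : ∀ p ∈ s, ¬ irr 𝒜 ≤ p) :
    ∃ x, PosHom 𝒜 x ∧ ∀ p ∈ s, x ∉ p :=
  exists_posHom_notMem_aux 𝒜 s.card s rfl hprime hirr

section Irr

variable (hpos : ∀ n : ℤ, n < 0 → 𝒜 n = ⊥) (h0 : 𝒜 0 = Submodule.span k {(1 : R)})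

include hpos in
omit [GradedAlgebra 𝒜] in
theorem eq_zero_of_mem_of_neg {n : ℤ} (hn : n < 0) {x : R} (hx : x ∈ 𝒜 n) : x = 0 := by
  rw [hpos n hn] at hx
  exact (Submodule.mem_bot k).mp hx

include h0 in
omit [GradedAlgebra 𝒜] in
theorem exists_smul_one_of_mem_zero {x : R} (hx : x ∈ 𝒜 0) : ∃ c : k, c • (1 : R) = x := by
  rw [h0, Submodule.mem_span_singleton] at hx
  exact hx

include hpos in
theorem decompose_zero_of_mem_irr {a : R} (ha : a ∈ irr 𝒜) : (decompose 𝒜 a 0 : R) = 0 := by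
  unfold irr Ideal.span at ha
  induction ha using Submodule.closure_induction with
  | zero => simp
  | add x y _ _ hx hy =>
    rw [decompose_add, DirectSum.add_apply, Submodule.coe_add, hx, hy, add_zero]
  | smul_mem w g hg =>
    obtain ⟨n, hn, hgn⟩ := hg
    have h1 : (decompose 𝒜 (w * g) (-n + n) : R) = (decompose 𝒜 w (-n) : R) * g :=
      coe_decompose_mul_add_of_right_mem 𝒜 hgn
    rw [neg_add_cancel] at h1
    rw [smul_eq_mul, h1]
    have h2 : (decompose 𝒜 w (-n) : R) ∈ 𝒜 (-n) := SetLike.coe_mem _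
    rw [eq_zero_of_mem_of_neg 𝒜 hpos (by omega) h2, zero_mul]

include hpos in
theorem one_notMem_irr [Nontrivial R] : (1 : R) ∉ irr 𝒜 := by
  intro h
  have h1 := decompose_zero_of_mem_irr 𝒜 hpos h
  rw [decompose_of_mem_same 𝒜 (SetLike.GradedOne.one_mem)] at h1
  exact one_ne_zero h1

include hpos in
theorem sub_decompose_zero_mem_irr (x : R) : x - (decompose 𝒜 x 0 : R) ∈ irr 𝒜 := by
  induction x using DirectSum.Decomposition.inductionOn 𝒜 with
  | zero => simp
  | @homogeneous n m =>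
    rcases lt_trichotomy n 0 with h | h | h
    · have h2 : (m : R) ∈ 𝒜 n := m.2
      rw [eq_zero_of_mem_of_neg 𝒜 hpos h h2]; simp
    · subst h
      rw [decompose_of_mem_same 𝒜 m.2, sub_self]; exact zero_mem _
    · rw [decompose_of_mem_ne 𝒜 m.2 h.ne', sub_zero]
      exact Ideal.subset_span ⟨n, h, m.2⟩
  | add a b ha hb =>
    have : a + b - (decompose 𝒜 (a + b) 0 : R) =
        (a - (decompose 𝒜 a 0 : R)) + (b - (decompose 𝒜 b 0 : R)) := by
      rw [decompose_add, DirectSum.add_apply, Submodule.coe_add]; ring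
    rw [this]
    exact Ideal.add_mem _ ha hb

include hpos h0 in
/-- a proper homogeneous ideal is contained in the irrelevant ideal -/
theorem le_irr (J : Ideal R) (hJ : J.IsHomogeneous 𝒜) (hne : J ≠ ⊤) : J ≤ irr 𝒜 := by
  intro a ha
  have h1 := sub_decompose_zero_mem_irr 𝒜 hpos a
  have h2 : (decompose 𝒜 a 0 : R) ∈ J := hJ 0 ha
  have h3 : (decompose 𝒜 a 0 : R) ∈ 𝒜 0 := SetLike.coe_mem _
  obtain ⟨c, hc⟩ := exists_smul_one_of_mem_zero 𝒜 h0 h3
  by_cases hc0 : c = 0
  · rw [← hc, hc0, zero_smul, sub_zero] at h1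
    exact h1
  · exfalso
    apply hne
    rw [Ideal.eq_top_iff_one]
    have : (1 : R) = algebraMap k R c⁻¹ * (decompose 𝒜 a 0 : R) := by
      rw [← hc, ← Algebra.smul_def, smul_smul, inv_mul_cancel₀ hc0, one_smul]
    rw [this]
    exact Ideal.mul_mem_left _ _ h2

include hpos h0 in
theorem irr_isMaximal [Nontrivial R] : (irr 𝒜).IsMaximal := by
  rw [Ideal.isMaximal_iff]
  refine ⟨one_notMem_irr 𝒜 hpos, fun J x hJ hx hxJ => ?_⟩
  have h1 := sub_decompose_zero_mem_irr 𝒜 hpos x
  have h3 : (decompose 𝒜 x 0 : R) ∈ 𝒜 0 := SetLike.coe_mem _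
  obtain ⟨c, hc⟩ := exists_smul_one_of_mem_zero 𝒜 h0 h3
  have hc0 : c ≠ 0 := by
    rintro rfl
    rw [← hc, zero_smul, sub_zero] at h1
    exact hx h1
  have h2 : (decompose 𝒜 x 0 : R) ∈ J := by
    have : (decompose 𝒜 x 0 : R) = x - (x - (decompose 𝒜 x 0 : R)) := by ring
    rw [this]
    exact Ideal.sub_mem _ hxJ (hJ h1)
  have : (1 : R) = algebraMap k R c⁻¹ * (decompose 𝒜 x 0 : R) := by
    rw [← hc, ← Algebra.smul_def, smul_smul, inv_mul_cancel₀ hc0, one_smul]
  rw [this]
  exact Ideal.mul_mem_left _ _ h2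

theorem irr_isHomogeneous : (irr 𝒜).IsHomogeneous 𝒜 := by
  apply Ideal.homogeneous_span
  rintro x ⟨n, -, hx⟩
  exact ⟨n, hx⟩

end Irr

/-- every chain of primes starting above `I` has length at most `m` -/
def ChainBound (I : Ideal R) (m : ℕ) : Prop :=
  ∀ l : LTSeries (PrimeSpectrum R), I ≤ l.head.asIdeal → l.length ≤ m

theorem chainBound_bot (m : ℕ) (h : ringKrullDim R ≤ m) : ChainBound (R := R) ⊥ m := by
  intro l _
  have h1 : (l.length : WithBot ℕ∞) ≤ ringKrullDim R := Order.LTSeries.length_le_krullDim l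
  have h2 := h1.trans h
  exact_mod_cast h2

section HSOP

variable (hpos : ∀ n : ℤ, n < 0 → 𝒜 n = ⊥) (h0 : 𝒜 0 = Submodule.span k {(1 : R)})

include hpos h0 in
theorem irr_le_radical_of_chainBound_zero [Nontrivial R] (I : Ideal R) (hI : I.IsHomogeneous 𝒜)
    (h : ChainBound I 0) : irr 𝒜 ≤ I.radical := by
  rw [hI.radical_eq]
  refine le_sInf ?_
  rintro J ⟨hJh, hIJ, hJp⟩
  have hJle : J ≤ irr 𝒜 := le_irr 𝒜 hpos h0 J hJh hJp.ne_top
  by_contra hne
  have hlt : J < irr 𝒜 := lt_of_le_of_ne hJle (fun e => hne (e ▸ le_rfl))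
  have hmax := irr_isMaximal 𝒜 hpos h0
  let a : PrimeSpectrum R := ⟨J, hJp⟩
  let b : PrimeSpectrum R := ⟨irr 𝒜, hmax.isPrime⟩
  have hab : a < b := hlt
  have := h ((RelSeries.singleton _ b).cons a hab) (by simpa using hIJ)
  simp at this

include hpos h0 in
theorem chainBound_sup_span [Nontrivial R] (I : Ideal R) (m : ℕ) (h : ChainBound I (m + 1)) (x : R)
    (hx : ∀ p ∈ I.minimalPrimes, ¬ irr 𝒜 ≤ p → x ∉ p) :
    ChainBound (I ⊔ Ideal.span {x}) m := by
  intro l hl
  have hIl : I ≤ l.head.asIdeal := le_trans le_sup_left hl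
  have hxl : x ∈ l.head.asIdeal := hl (Ideal.mem_sup_right (Ideal.mem_span_singleton_self x))
  obtain ⟨p, hp, hpl⟩ := Ideal.exists_minimalPrimes_le hIl
  have hmax := irr_isMaximal 𝒜 hpos h0
  by_cases hirr : irr 𝒜 ≤ p
  · have hhead : irr 𝒜 = l.head.asIdeal := hmax.eq_of_le l.head.2.ne_top (hirr.trans hpl)
    by_contra hlen
    have h0lt : 0 < l.length := by omega
    have hstep : l.toFun (Fin.castSucc ⟨0, h0lt⟩) < l.toFun (Fin.succ ⟨0, h0lt⟩) :=
      l.step ⟨0, h0lt⟩
    have hlt : l.head.asIdeal < (l.toFun (Fin.succ ⟨0, h0lt⟩)).asIdeal := hstep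
    rw [← hhead] at hlt
    exact (l.toFun (Fin.succ ⟨0, h0lt⟩)).2.ne_top (hmax.1.2 _ hlt)
  · have hxp := hx p hp hirr
    have hlt : (⟨p, hp.1.1⟩ : PrimeSpectrum R) < l.head := by
      refine lt_of_le_of_ne hpl (fun e => hxp ?_)
      have : p = l.head.asIdeal := congrArg PrimeSpectrum.asIdeal e
      rw [this]; exact hxl
    have := h (l.cons ⟨p, hp.1.1⟩ hlt) (by simpa using hp.1.2)
    simpa using this

include hpos h0 in
/-- **Existence of homogeneous parameters.** -/
theorem exists_hsop [IsNoetherianRing R] [Nontrivial R] : ∀ (m : ℕ) (I : Ideal R),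
    I.IsHomogeneous 𝒜 → ChainBound I m →
    ∃ x : Fin m → R, (∀ i, PosHom 𝒜 (x i)) ∧
      irr 𝒜 ≤ (I ⊔ Ideal.span (Set.range x)).radical := by
  classical
  intro m
  induction m with
  | zero =>
    intro I hI h
    refine ⟨Fin.elim0, fun i => i.elim0, ?_⟩
    have : Set.range (Fin.elim0 : Fin 0 → R) = ∅ := Set.range_eq_empty _
    rw [this, Ideal.span_empty, sup_bot_eq]
    exact irr_le_radical_of_chainBound_zero 𝒜 hpos h0 I hI h
  | succ m ih =>
    intro I hI h
    have hfin := Ideal.finite_minimalPrimes_of_isNoetherianRing R I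
    obtain ⟨x₀, hx₀, hx₀'⟩ := exists_posHom_notMem 𝒜 (hfin.toFinset.filter (fun p => ¬ irr 𝒜 ≤ p))
      (fun p hp => by
        rw [Finset.mem_filter, Set.Finite.mem_toFinset] at hp
        exact hp.1.1.1)
      (fun p hp => by
        rw [Finset.mem_filter] at hp
        exact hp.2)
    have hI' : (I ⊔ Ideal.span {x₀}).IsHomogeneous 𝒜 := by
      refine Ideal.IsHomogeneous.sup hI (Ideal.homogeneous_span 𝒜 _ ?_)
      rintro y hy
      rw [Set.mem_singleton_iff] at hy
      subst hy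
      obtain ⟨n, -, hn⟩ := hx₀
      exact ⟨n, hn⟩
    have hcb : ChainBound (I ⊔ Ideal.span {x₀}) m :=
      chainBound_sup_span 𝒜 hpos h0 I m h x₀ (fun p hp hirr => hx₀' p (by
        rw [Finset.mem_filter, Set.Finite.mem_toFinset]
        exact ⟨hp, hirr⟩))
    obtain ⟨x', hx', hrad⟩ := ih _ hI' hcb
    refine ⟨Fin.cons x₀ x', ?_, ?_⟩
    · intro i
      refine Fin.cases ?_ (fun j => ?_) i
      · simpa using hx₀
      · simpa using hx' j
    · have : Set.range (Fin.cons x₀ x' : Fin (m + 1) → R) = insert x₀ (Set.range x') :=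
        Fin.range_cons x₀ x'
      rw [this, Ideal.span_insert, ← sup_assoc]
      exact hrad

end HSOP

end Groth.Agent.H85.GradedNN
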