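import Groth.Agent.H85.StdGraded
import Groth.Agent.H98.SegreRingNoeth

/-!
# Basic facts on the Segre product ring: grading, finite type
-/

set_option autoImplicit false
universe u

namespace Groth.Agent.H85.SegreRingFacts

open scoped TensorProduct
open DirectSum Groth.Agent.H85.GradedNN

section FiniteType

variable {k : Type*} [Field k] {R : Type*} [CommRing R] [Algebra k R]
  (𝒜 : ℤ → Submodule k R) [GradedAlgebra 𝒜]
  (hpos : ∀ n : ℤ, n < 0 → 𝒜 n = ⊥) (h0 : 𝒜 0 = Submodule.span k {(1 : R)})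

include hpos h0 in
/-- a Noetherian nonnegatively graded algebra with `R_0 = k` is of finite type over `k` -/
theorem finiteType_of_isNoetherianRing [IsNoetherianRing R] : Algebra.FiniteType k R := by
  classical
  have hfg : (irr 𝒜).FG := IsNoetherian.noetherian _
  obtain ⟨G, hGsub, hGspan⟩ :=
    (Submodule.fg_span_iff_fg_span_finset_subset {x | PosHom 𝒜 x}).mp hfg
  have hdeg : ∀ g ∈ G, ∃ d : ℤ, 0 < d ∧ g ∈ 𝒜 d := fun g hg => hGsub hg
  choose! dg hdgpos hdgmem using hdeg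
  refine ⟨⟨G, ?_⟩⟩
  rw [eq_top_iff]
  have key : ∀ (n : ℕ) (m : ℤ), m ≤ n → ∀ a ∈ 𝒜 m, a ∈ Algebra.adjoin k (G : Set R) := by
    intro n
    induction n with
    | zero =>
      intro m hm a ha
      rcases lt_or_eq_of_le hm with h | h
      · rw [eq_zero_of_mem_of_neg 𝒜 hpos (by exact_mod_cast h) ha]
        exact zero_mem _
      · rw [h, Nat.cast_zero, h0, Submodule.mem_span_singleton] at ha
        obtain ⟨c, rfl⟩ := ha
        rw [Algebra.smul_def, mul_one]
        exact Subalgebra.algebraMap_mem _ c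
    | succ n ih =>
      intro m hm a ha
      by_cases hm' : m ≤ n
      · exact ih m hm' a ha
      have hmpos : 0 < m := by
        have : (0 : ℤ) ≤ n := by positivity
        omega
      have ha_irr : a ∈ Submodule.span R {x | PosHom 𝒜 x} :=
        PosHom.mem_irr (𝒜 := 𝒜) ⟨m, hmpos, ha⟩
      rw [hGspan, Submodule.mem_span_finset] at ha_irr
      obtain ⟨c, -, hc⟩ := ha_irr
      have h1 : a = (decompose 𝒜 a m : R) := (decompose_of_mem_same 𝒜 ha).symm
      rw [h1, ← hc, decompose_sum, DFinsupp.finsetSum_apply, AddSubmonoidClass.coe_finsetSum]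
      refine Subalgebra.sum_mem _ fun g hg => ?_
      have h2 := coe_decompose_mul_add_of_right_mem 𝒜 (hdgmem g hg) (a := c g) (i := m - dg g)
      rw [sub_add_cancel] at h2
      rw [smul_eq_mul, h2]
      refine Subalgebra.mul_mem _ ?_ (Algebra.subset_adjoin (Finset.mem_coe.mpr hg))
      refine ih (m - dg g) ?_ _ (SetLike.coe_mem _)
      have := hdgpos g hg
      push_cast at hm
      omega
  rintro r -
  rw [← DirectSum.sum_support_decompose 𝒜 r]
  refine Subalgebra.sum_mem _ fun n _ => ?_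
  exact key n.toNat n (Int.self_le_toNat n) _ (SetLike.coe_mem _)

end FiniteType

section Segre

variable {k : Type u} [Field k] {R S T : Type u} [CommRing R] [CommRing S] [CommRing T]
  [Algebra k R] [Algebra k S] [Algebra k T]
  (𝒜 : ℤ → Submodule k R) [GradedAlgebra 𝒜] (ℬ : ℤ → Submodule k S) [GradedAlgebra ℬ]
  (𝒯 : ℤ → Submodule k T) [GradedAlgebra 𝒯] (ψ : T →ₐ[k] R ⊗[k] S)
  (hψ : Function.Injective ψ)
  (hdegT : ∀ n : ℤ, (𝒯 n).map ψ.toLinearMap =
      Submodule.span k {x : R ⊗[k] S | ∃ a ∈ 𝒜 n, ∃ b ∈ ℬ n, x = a ⊗ₜ[k] b})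

include hψ hdegT in
theorem segre_hpos (hposR : ∀ n : ℤ, n < 0 → 𝒜 n = ⊥) : ∀ n : ℤ, n < 0 → 𝒯 n = ⊥ := by
  intro n hn
  have h1 : (𝒯 n).map ψ.toLinearMap = ⊥ := by
    rw [hdegT n, Submodule.span_eq_bot]
    rintro _ ⟨a, ha, b, -, rfl⟩
    rw [hposR n hn, Submodule.mem_bot] at ha
    rw [ha, TensorProduct.zero_tmul]
  rw [eq_bot_iff]
  intro t ht
  have h2 : ψ t ∈ (𝒯 n).map ψ.toLinearMap := ⟨t, ht, rfl⟩
  rw [h1, Submodule.mem_bot] at h2
  rw [Submodule.mem_bot]
  exact hψ (h2.trans (map_zero ψ).symm)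

include hψ hdegT in
theorem segre_h0 (h0R : 𝒜 0 = Submodule.span k {(1 : R)})
    (h0S : ℬ 0 = Submodule.span k {(1 : S)}) : 𝒯 0 = Submodule.span k {(1 : T)} := by
  apply le_antisymm
  · intro t ht
    have h1 : ψ t ∈ (𝒯 0).map ψ.toLinearMap := ⟨t, ht, rfl⟩
    rw [hdegT 0] at h1
    have hle : Submodule.span k {x : R ⊗[k] S | ∃ a ∈ 𝒜 0, ∃ b ∈ ℬ 0, x = a ⊗ₜ[k] b} ≤
        Submodule.span k {(1 : R ⊗[k] S)} := by
      apply Submodule.span_le.mpr
      rintro _ ⟨a, ha, b, hb, rfl⟩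
      rw [h0R, Submodule.mem_span_singleton] at ha
      rw [h0S, Submodule.mem_span_singleton] at hb
      obtain ⟨c, rfl⟩ := ha
      obtain ⟨c', rfl⟩ := hb
      rw [SetLike.mem_coe, Submodule.mem_span_singleton]
      refine ⟨c * c', ?_⟩
      rw [TensorProduct.smul_tmul_smul]
      rfl
    have h2 := hle h1
    rw [Submodule.mem_span_singleton] at h2 ⊢
    obtain ⟨c, hc⟩ := h2
    refine ⟨c, hψ ?_⟩
    rw [map_smul, map_one, hc]
  · rw [Submodule.span_le, Set.singleton_subset_iff]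
    exact SetLike.GradedOne.one_mem

include hψ hdegT in
theorem segre_finiteType (hposR : ∀ n : ℤ, n < 0 → 𝒜 n = ⊥)
    (h0R : 𝒜 0 = Submodule.span k {(1 : R)}) (h0S : ℬ 0 = Submodule.span k {(1 : S)})
    [Algebra.FiniteType k R] [Algebra.FiniteType k S] : Algebra.FiniteType k T := by
  haveI : IsNoetherianRing T :=
    Groth.Agent.H98.segre_ring_isNoetherian 𝒜 ℬ 𝒯 ψ ⟨hψ, hdegT⟩
  exact finiteType_of_isNoetherianRing 𝒯 (segre_hpos 𝒜 ℬ 𝒯 ψ hψ hdegT hposR)
    (segre_h0 𝒜 ℬ 𝒯 ψ hψ hdegT h0R h0S)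

end Segre

end Groth.Agent.H85.SegreRingFacts
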