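import Mathlib
import Groth.Prelude.Def_GrLC
import Groth.Agent.H85.GradedHSOP
import Groth.Agent.H85.SegreRingFacts

/-!
# Bridge between the `GrLC` setting (`ℤ → AddSubgroup R`, `R_0` a field) and graded algebras
over a field (`ℤ → Submodule k R`) (helper85)
-/

set_option autoImplicit false
set_option linter.unusedSectionVars false
set_option linter.unusedVariables false

universe u

namespace Groth.Agent.H85.GrLCBridge

open DirectSum Groth.Agent.H85.GradedNN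

variable {R : Type u} [CommRing R] (𝒜 : ℤ → AddSubgroup R) [GradedRing 𝒜]

/-- the pieces as submodules over the degree-zero subring -/
def sub (n : ℤ) : Submodule (GrLC.deg0 𝒜) R := GrLC.comp 𝒜 𝒜 n

theorem mem_sub {n : ℤ} {x : R} : x ∈ sub 𝒜 n ↔ x ∈ 𝒜 n := Iff.rfl

instance subGradedMonoid : SetLike.GradedMonoid (sub 𝒜) where
  one_mem := SetLike.GradedOne.one_mem (A := 𝒜)
  mul_mem := fun _ _ _ _ ha hb => SetLike.GradedMul.mul_mem (A := 𝒜) ha hb

noncomputable instance subDecomposition : DirectSum.Decomposition (sub 𝒜) where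
  decompose' := fun x => (DirectSum.decompose 𝒜 x : DirectSum ℤ fun i => 𝒜 i)
  left_inv := DirectSum.Decomposition.left_inv (ℳ := 𝒜)
  right_inv := DirectSum.Decomposition.right_inv (ℳ := 𝒜)

noncomputable instance subGradedAlgebra : GradedAlgebra (sub 𝒜) where

theorem decompose_sub (x : R) (n : ℤ) :
    ((DirectSum.decompose (sub 𝒜) x n : sub 𝒜 n) : R) = (DirectSum.decompose 𝒜 x n : R) := rfl

theorem isHomogeneous_sub (I : Ideal R) (hI : I.IsHomogeneous 𝒜) : I.IsHomogeneous (sub 𝒜) :=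
  fun i _ hr => hI i hr

theorem sub_neg (hpos : ∀ n : ℤ, n < 0 → 𝒜 n = ⊥) (n : ℤ) (hn : n < 0) : sub 𝒜 n = ⊥ := by
  rw [eq_bot_iff]
  intro x hx
  have hx' : x ∈ 𝒜 n := hx
  rw [hpos n hn] at hx'
  rw [Submodule.mem_bot]
  exact (AddSubgroup.mem_bot).mp hx'

theorem sub_zero : sub 𝒜 0 = Submodule.span (GrLC.deg0 𝒜) {(1 : R)} := by
  apply le_antisymm
  · intro x hx
    rw [Submodule.mem_span_singleton]
    refine ⟨⟨x, hx⟩, ?_⟩
    change x * 1 = x
    rw [mul_one]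
  · rw [Submodule.span_le, Set.singleton_subset_iff]
    exact SetLike.GradedOne.one_mem (A := 𝒜)

/-- the irrelevant ideal -/
def irrI : Ideal R := Ideal.span (⋃ n ∈ Set.Ioi (0 : ℤ), (𝒜 n : Set R))

theorem mem_irrI_of_pos {n : ℤ} (hn : 0 < n) {x : R} (hx : x ∈ 𝒜 n) : x ∈ irrI 𝒜 := by
  apply Ideal.subset_span
  simp only [Set.mem_iUnion, Set.mem_Ioi, SetLike.mem_coe, exists_prop]
  exact ⟨n, hn, hx⟩

theorem irrI_le {J : Ideal R} (h : ∀ n : ℤ, 0 < n → ∀ x ∈ 𝒜 n, x ∈ J) : irrI 𝒜 ≤ J := by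
  unfold irrI
  rw [Ideal.span_le]
  intro x hx
  simp only [Set.mem_iUnion, Set.mem_Ioi, SetLike.mem_coe, exists_prop] at hx
  obtain ⟨n, hn, hx⟩ := hx
  exact h n hn x hx

theorem irrI_isHomogeneous : (irrI 𝒜).IsHomogeneous 𝒜 := by
  apply Ideal.homogeneous_span
  intro x hx
  simp only [Set.mem_iUnion, Set.mem_Ioi, SetLike.mem_coe, exists_prop] at hx
  obtain ⟨n, -, hx⟩ := hx
  exact ⟨n, hx⟩

/-- the irrelevant ideal as a homogeneous ideal -/
def irrH : HomogeneousIdeal 𝒜 := ⟨irrI 𝒜, irrI_isHomogeneous 𝒜⟩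

theorem irrH_toIdeal : (irrH 𝒜).toIdeal = irrI 𝒜 := rfl

section Field

variable (hpos : ∀ n : ℤ, n < 0 → 𝒜 n = ⊥) (h0 : IsField (GrLC.deg0 𝒜))

theorem irr_sub_eq : letI : Field (GrLC.deg0 𝒜) := h0.toField
    irr (sub 𝒜) = irrI 𝒜 := by
  letI : Field (GrLC.deg0 𝒜) := h0.toField
  apply le_antisymm
  · unfold irr
    rw [Ideal.span_le]
    rintro x ⟨n, hn, hx⟩
    exact mem_irrI_of_pos 𝒜 hn hx
  · apply irrI_le
    intro n hn x hx
    exact PosHom.mem_irr (𝒜 := sub 𝒜) ⟨n, hn, hx⟩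

include h0 in
/-- homogeneous prime avoidance -/
theorem avoid (s : Finset (Ideal R)) (hprime : ∀ p ∈ s, p.IsPrime)
    (hirr : ∀ p ∈ s, ¬ irrI 𝒜 ≤ p) :
    ∃ (n : ℤ) (x : R), 0 < n ∧ x ∈ 𝒜 n ∧ ∀ p ∈ s, x ∉ p := by
  letI : Field (GrLC.deg0 𝒜) := h0.toField
  obtain ⟨x, ⟨n, hn, hx⟩, hxp⟩ := exists_posHom_notMem (k := GrLC.deg0 𝒜) (sub 𝒜) s hprime (by
    intro p hp hle
    rw [irr_sub_eq 𝒜 h0] at hle
    exact hirr p hp hle)
  exact ⟨n, x, hn, hx, hxp⟩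

include hpos h0 in
theorem chainBound_sup_span' [Nontrivial R] (I : Ideal R) (c : ℕ) (h : ChainBound I (c + 1))
    (x : R) (hx : ∀ p ∈ I.minimalPrimes, ¬ irrI 𝒜 ≤ p → x ∉ p) :
    ChainBound (I ⊔ Ideal.span {x}) c := by
  letI : Field (GrLC.deg0 𝒜) := h0.toField
  refine chainBound_sup_span (k := GrLC.deg0 𝒜) (sub 𝒜) (sub_neg 𝒜 hpos) (sub_zero 𝒜) I c h x ?_
  intro p hp hle
  rw [irr_sub_eq 𝒜 h0] at hle
  exact hx p hp hle

include hpos h0 in
theorem irrI_le_radical_of_chainBound_zero [Nontrivial R] (I : Ideal R)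
    (hI : I.IsHomogeneous 𝒜) (h : ChainBound I 0) : irrI 𝒜 ≤ I.radical := by
  letI : Field (GrLC.deg0 𝒜) := h0.toField
  have := irr_le_radical_of_chainBound_zero (k := GrLC.deg0 𝒜) (sub 𝒜) (sub_neg 𝒜 hpos)
    (sub_zero 𝒜) I (isHomogeneous_sub 𝒜 I hI) h
  rw [irr_sub_eq 𝒜 h0] at this
  exact this

include hpos h0 in
theorem irrI_isMaximal [Nontrivial R] : (irrI 𝒜).IsMaximal := by
  letI : Field (GrLC.deg0 𝒜) := h0.toField
  have := irr_isMaximal (k := GrLC.deg0 𝒜) (sub 𝒜) (sub_neg 𝒜 hpos) (sub_zero 𝒜)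
  rw [irr_sub_eq 𝒜 h0] at this
  exact this

include hpos h0 in
theorem le_irrI (J : Ideal R) (hJ : J.IsHomogeneous 𝒜) (hne : J ≠ ⊤) : J ≤ irrI 𝒜 := by
  letI : Field (GrLC.deg0 𝒜) := h0.toField
  have := le_irr (k := GrLC.deg0 𝒜) (sub 𝒜) (sub_neg 𝒜 hpos) (sub_zero 𝒜) J
    (isHomogeneous_sub 𝒜 J hJ) hne
  rw [irr_sub_eq 𝒜 h0] at this
  exact this

include hpos h0 in
/-- the irrelevant ideal is the unique *maximal ideal -/
theorem isStarLocal_irrH [Nontrivial R] : GrLC.IsStarLocal 𝒜 (irrH 𝒜) := by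
  have hmax := irrI_isMaximal 𝒜 hpos h0
  have hco : IsCoatom (irrH 𝒜) := by
    constructor
    · intro h
      apply hmax.ne_top
      have := congrArg HomogeneousIdeal.toIdeal h
      exact this
    · intro K hK
      by_contra hne
      have hKne : K.toIdeal ≠ ⊤ := fun h => hne (HomogeneousIdeal.toIdeal_injective h)
      have hle : K.toIdeal ≤ irrI 𝒜 := le_irrI 𝒜 hpos h0 K.toIdeal K.isHomogeneous hKne
      have hlt : (irrH 𝒜).toIdeal < K.toIdeal := hK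
      exact absurd (lt_of_lt_of_le hlt hle) (lt_irrefl _)
  refine ⟨hco, ?_⟩
  intro n hn
  have hnne : n.toIdeal ≠ ⊤ := by
    intro h
    exact hn.1 (HomogeneousIdeal.toIdeal_injective h)
  have hle : n.toIdeal ≤ irrI 𝒜 := le_irrI 𝒜 hpos h0 n.toIdeal n.isHomogeneous hnne
  have hle' : n ≤ irrH 𝒜 := hle
  rcases eq_or_lt_of_le hle' with h | h
  · exact h
  · exact absurd (hn.2 _ h) hco.1

include hpos h0 in
theorem finiteType [IsNoetherianRing R] : Algebra.FiniteType (GrLC.deg0 𝒜) R := by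
  letI : Field (GrLC.deg0 𝒜) := h0.toField
  exact Groth.Agent.H85.SegreRingFacts.finiteType_of_isNoetherianRing (k := GrLC.deg0 𝒜) (sub 𝒜)
    (sub_neg 𝒜 hpos) (sub_zero 𝒜)

end Field

end Groth.Agent.H85.GrLCBridge
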