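import Mathlib
import Groth.Agent.H84.FrobFixed

/-!
# `q`-linear endomorphisms over separably closed fields (helper for S3212, S3213)

Adapts `Groth.Agent.H84.FrobFixed` (algebraically closed case) to separably closed fields, replacing
bijectivity by semisimplicity (the image spans).
-/

set_option autoImplicit false
set_option linter.unusedSectionVars false
universe u v

namespace Groth.Agent.H85.QLinSep

open Polynomial Groth.Agent.H84

section poly

variable {k : Type u} [Field k] (q : ℕ) (c : ℕ → k)

/-- a nonzero root of `XP m - X`, over a separably closed field. -/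
theorem exists_root [IsSepClosed k] (hq : 2 ≤ q) (hq0 : (q : k) = 0) (m : ℕ)
    (h : ∃ j ≤ m, c j ≠ 0) : ∃ y : k, y ≠ 0 ∧ (XP q c m).eval y = y := by
  classical
  set Q : k[X] := XP q c m - X with hQ
  have hdeg : (X : k[X]).natDegree < (XP q c m).natDegree := by
    rw [natDegree_X]
    have := XP_natDegree q c hq m h
    omega
  have hQdeg : Q.natDegree = (XP q c m).natDegree := natDegree_sub_eq_left_of_natDegree_lt hdeg
  have hQ2 : 2 ≤ Q.natDegree := by
    rw [hQdeg]
    exact le_trans hq (XP_natDegree q c hq m h)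
  have hsep : Q.Separable := by
    rw [separable_def, hQ, derivative_sub, XP_derivative q c hq0, derivative_X, zero_sub]
    exact (isCoprime_one_right).neg_right
  have hcard : Q.roots.card = Q.natDegree :=
    (IsSepClosed.splits_of_separable Q hsep).natDegree_eq_card_roots.symm
  have hnodup : Q.roots.Nodup := nodup_roots hsep
  have hQ0 : Q ≠ 0 := by
    intro h0
    rw [h0, natDegree_zero] at hQ2
    omega
  have h2 : 1 < Q.roots.toFinset.card := by
    rw [Multiset.toFinset_card_of_nodup hnodup, hcard]
    omega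
  obtain ⟨a, ha, b, hb, hab⟩ := Finset.one_lt_card.mp h2
  have key : ∀ z ∈ Q.roots.toFinset, (XP q c m).eval z = z := by
    intro z hz
    rw [Multiset.mem_toFinset, mem_roots hQ0, IsRoot.def, hQ, eval_sub, eval_X, sub_eq_zero] at hz
    exact hz
  by_cases ha0 : a = 0
  · refine ⟨b, ?_, key b hb⟩
    rintro rfl
    exact hab ha0
  · exact ⟨a, ha0, key a ha⟩

/-- Artin–Schreier-type roots: `x ^ q - x = a` is solvable. -/
theorem exists_as_root [IsSepClosed k] (hq : 2 ≤ q) (hq0 : (q : k) = 0) (a : k) :
    ∃ x : k, x ^ q - x = a := by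
  have hq1 : 0 < q := by omega
  have hdeg : (X ^ q - (X + C a) : k[X]).degree ≠ 0 := by
    have h1 : (X + C a : k[X]).degree < (X ^ q : k[X]).degree := by
      rw [degree_X_pow]
      calc (X + C a : k[X]).degree ≤ 1 := by
            refine (degree_add_le _ _).trans (max_le degree_X_le ?_)
            exact degree_C_le.trans (by norm_num)
        _ < (q : WithBot ℕ) := by exact_mod_cast hq
    rw [degree_sub_eq_left_of_degree_lt h1, degree_X_pow]
    exact_mod_cast hq1.ne'
  have hsep : (X ^ q - (X + C a) : k[X]).Separable := by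
    rw [separable_def, derivative_sub, derivative_X_pow, hq0, C_0, zero_mul, derivative_add,
      derivative_X, derivative_C, add_zero, zero_sub]
    exact (isCoprime_one_right).neg_right
  obtain ⟨x, hx⟩ := IsSepClosed.exists_root _ hdeg hsep
  simp only [IsRoot.def, eval_sub, eval_pow, eval_X, eval_add, eval_C] at hx
  exact ⟨x, by linear_combination hx⟩

end poly

section step1

variable {k : Type u} [Field k] {V : Type v} [AddCommGroup V] [Module k V]
variable (σ : k →+* k) (q : ℕ) (hσ : ∀ a, σ a = a ^ q)

include hσ in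
/-- Existence of a nonzero fixed vector of an injective `q`-semilinear endomorphism. -/
theorem exists_fixed [IsSepClosed k] [FiniteDimensional k V] [Nontrivial V]
    (hq : 2 ≤ q) (hq0 : (q : k) = 0) (Φ : V →ₛₗ[σ] V) (hinj : Function.Injective Φ) :
    ∃ v : V, v ≠ 0 ∧ Φ v = v := by
  classical
  obtain ⟨v, hv⟩ := exists_ne (0 : V)
  set e : ℕ → V := fun i => Φ^[i] v with he
  have he_succ : ∀ i, e (i + 1) = Φ (e i) := fun i => Function.iterate_succ_apply' Φ i v
  have he_ne : ∀ i, e i ≠ 0 := by
    intro i
    induction i with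
    | zero => exact hv
    | succ i ih =>
      rw [he_succ]
      intro h0
      exact ih (hinj (h0.trans (map_zero Φ).symm))
  obtain ⟨m, hind, hmem⟩ := exists_dep (k := k) e (he_ne 0)
  obtain ⟨c0, hc0⟩ := (Submodule.mem_span_range_iff_exists_fun k).mp hmem
  set c : ℕ → k := fun i => if h : i < m + 1 then c0 ⟨i, h⟩ else 0 with hc
  have hsum : ∑ i ∈ Finset.range (m + 1), c i • e i = e (m + 1) := by
    rw [← hc0, ← Fin.sum_univ_eq_sum_range (fun i => c i • e i) (m + 1)]
    apply Finset.sum_congr rfl
    intro i _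
    have : (i : ℕ) < m + 1 := i.2
    simp only [hc, dif_pos this]
  have hcne : ∃ j ≤ m, c j ≠ 0 := by
    by_contra hcon
    push Not at hcon
    apply he_ne (m + 1)
    rw [← hsum]
    apply Finset.sum_eq_zero
    intro i hi
    rw [hcon i (by simpa [Nat.lt_succ_iff] using hi), zero_smul]
  obtain ⟨y, hy0, hy⟩ := exists_root q c hq hq0 m hcne
  set x : ℕ → k := fun i => (XP q c i).eval y with hx
  have hx0 : x 0 = c 0 * y ^ q := by simp [hx, XP_zero]
  have hxs : ∀ i, x (i + 1) = (x i) ^ q + c (i + 1) * y ^ q := by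
    intro i; simp [hx, XP_succ]
  have hxm : x m = y := hy
  set w : V := ∑ i ∈ Finset.range (m + 1), x i • e i with hw
  refine ⟨w, ?_, ?_⟩
  · intro hw0
    have h1 : ∑ i : Fin (m + 1), x i • e i = 0 := by
      rw [Fin.sum_univ_eq_sum_range (fun i => x i • e i) (m + 1)]
      exact hw0
    have h2 := Fintype.linearIndependent_iff.mp hind (fun i => x i) h1 (Fin.last m)
    simp only [Fin.val_last] at h2
    exact hy0 (hxm ▸ h2)
  · have h1 : Φ w = ∑ i ∈ Finset.range (m + 1), (x i) ^ q • e (i + 1) := by
      rw [hw, map_sum]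
      apply Finset.sum_congr rfl
      intro i _
      rw [map_smulₛₗ, hσ, he_succ]
    rw [h1, Finset.sum_range_succ, hxm, ← hsum, Finset.smul_sum, hw]
    rw [Finset.sum_range_succ' (fun i => x i • e i) m,
      Finset.sum_range_succ' (fun i => y ^ q • c i • e i) m, ← add_assoc,
      ← Finset.sum_add_distrib]
    congr 1
    · apply Finset.sum_congr rfl
      intro i _
      rw [hxs, add_smul, mul_comm, mul_smul]
    · rw [hx0, mul_comm, mul_smul]

include hσ in
/-- A semisimple `q`-semilinear endomorphism (image spans) of a finite-dimensional space is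
injective. -/
theorem injective_of_span [FiniteDimensional k V] (hq : 1 ≤ q) (Φ : V →ₛₗ[σ] V)
    (hss : Submodule.span k (Set.range Φ) = ⊤) : Function.Injective Φ := by
  classical
  let b := Module.finBasis k V
  have hspan : ⊤ ≤ Submodule.span k (Set.range (fun i => Φ (b i))) := by
    rw [← hss, Submodule.span_le]
    rintro _ ⟨v, rfl⟩
    rw [← b.sum_repr v, map_sum]
    apply Submodule.sum_mem
    intro i _
    rw [map_smulₛₗ]
    exact Submodule.smul_mem _ _ (Submodule.subset_span ⟨i, rfl⟩)
  have hli : LinearIndependent k (fun i => Φ (b i)) :=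
    linearIndependent_of_top_le_span_of_card_eq_finrank hspan (by simp)
  rw [injective_iff_map_eq_zero]
  intro v hv
  rw [← b.sum_repr v, map_sum] at hv
  simp only [map_smulₛₗ] at hv
  have h0 := Fintype.linearIndependent_iff.mp hli (fun i => σ (b.repr v i)) hv
  have : b.repr v = 0 := by
    ext i
    have := h0 i
    rw [hσ] at this
    exact pow_eq_zero_iff (by omega) |>.mp this
  exact b.repr.map_eq_zero_iff.mp this

end step1

section step2

variable {k : Type u} [Field k] [IsSepClosed k] {V : Type v} [AddCommGroup V] [Module k V]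
  [FiniteDimensional k V]
variable (σ : k →+* k) (q : ℕ) (hσ : ∀ a, σ a = a ^ q)

include hσ in
/-- On the span of the fixed vectors, `Φ - 1` is onto (Artin–Schreier). -/
theorem exists_sub_eq_of_mem_span (hq : 2 ≤ q) (hq0 : (q : k) = 0) (Φ : V →ₛₗ[σ] V) :
    ∀ w ∈ Submodule.span k {v : V | Φ v = v}, ∀ a : k,
      ∃ w' ∈ Submodule.span k {v : V | Φ v = v}, Φ w' - w' = a • w := by
  intro w hw
  induction hw using Submodule.span_induction with
  | mem v hv =>
    intro a
    obtain ⟨x, hx⟩ := exists_as_root q hq hq0 a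
    refine ⟨x • v, Submodule.smul_mem _ x (Submodule.subset_span hv), ?_⟩
    have hv' : Φ v = v := hv
    rw [map_smulₛₗ, hσ, hv', ← sub_smul, hx]
  | zero => intro a; exact ⟨0, Submodule.zero_mem _, by simp⟩
  | add x y _ _ hx hy =>
    intro a
    obtain ⟨x', hx', hx''⟩ := hx a
    obtain ⟨y', hy', hy''⟩ := hy a
    refine ⟨x' + y', Submodule.add_mem _ hx' hy', ?_⟩
    rw [map_add, smul_add, ← hx'', ← hy'']
    abel
  | smul b x _ hx =>
    intro a
    obtain ⟨x', hx', hx''⟩ := hx (a * b)
    exact ⟨x', hx', by rw [hx'', mul_smul]⟩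

include hσ in
/-- The fixed vectors of a semisimple `q`-semilinear endomorphism span the space. -/
theorem span_fixed_eq_top (hq : 2 ≤ q) (hq0 : (q : k) = 0) (Φ : V →ₛₗ[σ] V)
    (hss : Submodule.span k (Set.range Φ) = ⊤) :
    Submodule.span k {v : V | Φ v = v} = ⊤ := by
  classical
  set W : Submodule k V := Submodule.span k {v : V | Φ v = v} with hW
  have hWW : W ≤ W.comap Φ := by
    rw [hW, Submodule.span_le]
    intro v hv
    change Φ v ∈ Submodule.span k {v : V | Φ v = v}
    rw [hv]
    exact Submodule.subset_span hv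
  by_contra hne
  set Ψ : (V ⧸ W) →ₛₗ[σ] (V ⧸ W) := W.mapQ W Φ hWW with hΨ
  have hΨss : Submodule.span k (Set.range Ψ) = ⊤ := by
    rw [eq_top_iff]
    rintro x -
    obtain ⟨v, rfl⟩ := Submodule.Quotient.mk_surjective W x
    have hv : v ∈ Submodule.span k (Set.range Φ) := by rw [hss]; trivial
    induction hv using Submodule.span_induction with
    | mem y hy =>
      obtain ⟨z, rfl⟩ := hy
      apply Submodule.subset_span
      exact ⟨Submodule.Quotient.mk z, by rw [hΨ, Submodule.mapQ_apply]⟩
    | zero => rw [Submodule.Quotient.mk_zero]; exact Submodule.zero_mem _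
    | add y z _ _ hy hz => rw [Submodule.Quotient.mk_add]; exact Submodule.add_mem _ hy hz
    | smul a y _ hy => rw [Submodule.Quotient.mk_smul]; exact Submodule.smul_mem _ a hy
  have hΨinj : Function.Injective Ψ := injective_of_span σ q hσ (by omega) Ψ hΨss
  have : Nontrivial (V ⧸ W) := Submodule.Quotient.nontrivial_iff.mpr hne
  obtain ⟨ubar, hu0, hufix⟩ := exists_fixed σ q hσ hq hq0 Ψ hΨinj
  obtain ⟨u, rfl⟩ := Submodule.Quotient.mk_surjective W ubar
  rw [hΨ, Submodule.mapQ_apply, Submodule.Quotient.eq] at hufix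
  obtain ⟨w', hw', hw''⟩ := exists_sub_eq_of_mem_span σ q hσ hq hq0 Φ _ hufix (-1)
  apply hu0
  rw [Submodule.Quotient.mk_eq_zero]
  have hfix : Φ (u + w') = u + w' := by
    rw [map_add]
    have : Φ w' = w' - (Φ u - u) := by
      rw [neg_one_smul] at hw''
      rw [sub_eq_add_neg w', ← hw'']; abel
    rw [this]; abel
  have : u + w' ∈ W := Submodule.subset_span hfix
  have h2 := W.sub_mem this hw'
  simpa using h2

end step2

section step3

variable {k : Type u} [Field k] [IsSepClosed k]
variable (σ : k →+* k) (q : ℕ) (hσ : ∀ a, σ a = a ^ q)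

include hσ in
theorem sub_one_surjective_aux (hq : 2 ≤ q) (hq0 : (q : k) = 0) :
    ∀ (n : ℕ) (V : Type v) [AddCommGroup V] [Module k V] [FiniteDimensional k V],
      Module.finrank k V = n → ∀ (Φ : V →ₛₗ[σ] V) (w : V), ∃ w' : V, Φ w' - w' = w := by
  intro n
  induction n using Nat.strong_induction_on with
  | _ n ih =>
    intro V _ _ _ hn Φ w
    by_cases hss : Submodule.span k (Set.range Φ) = ⊤
    · have hw : w ∈ Submodule.span k {v : V | Φ v = v} := by
        rw [span_fixed_eq_top σ q hσ hq hq0 Φ hss]; trivial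
      obtain ⟨w', -, hw'⟩ := exists_sub_eq_of_mem_span σ q hσ hq hq0 Φ w hw 1
      exact ⟨w', by rw [hw', one_smul]⟩
    · set V₁ : Submodule k V := Submodule.span k (Set.range Φ) with hV₁
      have hlt : Module.finrank k V₁ < n := by
        rw [← hn]
        exact Submodule.finrank_lt hss
      let Φ₁ : V₁ →ₛₗ[σ] V₁ :=
        (Φ.domRestrict V₁).codRestrict V₁ (fun x => Submodule.subset_span ⟨x, rfl⟩)
      obtain ⟨u, hu⟩ := ih _ hlt V₁ rfl Φ₁ ⟨Φ w, Submodule.subset_span ⟨w, rfl⟩⟩
      have hu' : Φ (u : V) - u = Φ w := by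
        have := congrArg (Subtype.val) hu
        simpa [Φ₁] using this
      refine ⟨u - w, ?_⟩
      rw [map_sub, ← sub_eq_zero]
      have : Φ ↑u - Φ w - (↑u - w) - w = (Φ (u : V) - u) - Φ w := by abel
      rw [this, hu', sub_self]

include hσ in
/-- `Φ - 1` is surjective for every `q`-semilinear endomorphism of a finite-dimensional space over a
separably closed field. -/
theorem sub_one_surjective {V : Type v} [AddCommGroup V] [Module k V] [FiniteDimensional k V]
    (hq : 2 ≤ q) (hq0 : (q : k) = 0) (Φ : V →ₛₗ[σ] V) (w : V) : ∃ w' : V, Φ w' - w' = w :=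
  sub_one_surjective_aux σ q hσ hq hq0 _ V rfl Φ w

end step3

section statements

variable (k : Type u) [Field k] [IsSepClosed k] (p : ℕ) [Fact p.Prime] [CharP k p]
  (r : ℕ) (hr : 0 < r) (V : Type v) [AddCommGroup V] [Module k V] [FiniteDimensional k V]
  (φ : V →+ V) (hφ : ∀ (c : k) (v : V), φ (c • v) = c ^ (p ^ r) • φ v)

/-- The semilinear map attached to an additive `q`-linear map. -/
def toSemilinear : V →ₛₗ[iterateFrobenius k p r] V where
  toFun := φ
  map_add' := map_add φ
  map_smul' c v := by
    rw [hφ, iterateFrobenius_def]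

omit [IsSepClosed k] [FiniteDimensional k V] in
theorem toSemilinear_apply (v : V) : toSemilinear k p r V φ hφ v = φ v := rfl

include hr in
omit [IsSepClosed k] in
theorem two_le_q : 2 ≤ p ^ r := by
  calc 2 ≤ p := (Fact.out : p.Prime).two_le
    _ = p ^ 1 := (pow_one p).symm
    _ ≤ p ^ r := Nat.pow_le_pow_right (Fact.out : p.Prime).pos hr

include hr in
omit [IsSepClosed k] in
theorem q_cast : ((p ^ r : ℕ) : k) = 0 := by
  rw [Nat.cast_pow, CharP.cast_eq_zero, zero_pow hr.ne']

include hr hφ in
theorem surjective_sub : Function.Surjective (fun v : V => v - φ v) := by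
  intro w
  obtain ⟨w', hw'⟩ := sub_one_surjective (iterateFrobenius k p r) (p ^ r)
    (fun a => iterateFrobenius_def p r a) (two_le_q p r hr) (q_cast k p r hr)
    (toSemilinear k p r V φ hφ) (-w)
  refine ⟨w', ?_⟩
  simp only [toSemilinear_apply] at hw'
  change w' - φ w' = w
  rw [← neg_inj, neg_sub, hw']

include hr hφ in
theorem exists_basis_fixed (hss : Submodule.span k (Set.range φ) = ⊤) :
    ∃ b : Module.Basis (Fin (Module.finrank k V)) k V, (∀ i, φ (b i) = b i) ∧
      ∀ v : V, φ v = v → ∀ i, (b.repr v i) ^ (p ^ r) = b.repr v i := by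
  classical
  have hspan : Submodule.span k {v : V | φ v = v} = ⊤ :=
    span_fixed_eq_top (iterateFrobenius k p r) (p ^ r)
      (fun a => iterateFrobenius_def p r a) (two_le_q p r hr) (q_cast k p r hr)
      (toSemilinear k p r V φ hφ) hss
  obtain ⟨s, hs, hspan', hli⟩ := exists_linearIndependent k {v : V | φ v = v}
  rw [hspan] at hspan'
  let b₀ : Module.Basis s k V := Module.Basis.mk hli (by
    rw [Subtype.range_coe_subtype, Set.ofPred_mem_eq, hspan'])
  have hfin : Fintype s := FiniteDimensional.fintypeBasisIndex b₀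
  have hcard : Fintype.card s = Module.finrank k V :=
    (Module.finrank_eq_card_basis b₀).symm
  let e : s ≃ Fin (Module.finrank k V) := Fintype.equivFinOfCardEq hcard
  let b := b₀.reindex e
  have hbfix : ∀ i, φ (b i) = b i := by
    intro i
    have : b i = (e.symm i : V) := by
      simp [b, b₀]
    rw [this]
    exact hs (e.symm i).2
  refine ⟨b, hbfix, ?_⟩
  intro v hv i
  have h1 : φ v = ∑ j, (b.repr v j) ^ (p ^ r) • b j := by
    conv_lhs => rw [← b.sum_repr v]
    rw [map_sum]
    apply Finset.sum_congr rfl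
    intro j _
    rw [hφ, hbfix]
  rw [hv] at h1
  have h2 := congrArg (fun x => b.repr x i) h1
  simp only [map_sum, map_smul, Module.Basis.repr_self, Finsupp.smul_single, smul_eq_mul,
    mul_one, Finsupp.coe_finsetSum, Finset.sum_apply, Finsupp.single_apply,
    Finset.sum_ite_eq', Finset.mem_univ, if_true] at h2
  exact h2.symm

end statements

end Groth.Agent.H85.QLinSep
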