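import Mathlib
import Groth.Agent.H89.AdicRetract

/-!
# Lifting idempotents in adically complete (noncommutative) algebras, and in `End(P)`
-/

set_option autoImplicit false
universe u v

namespace Groth.Agent.H85.IdemLiftAdic

section algebra

variable {A : Type*} [CommRing A] (I : Ideal A) {E : Type*} [Ring E] [Algebra A E]

theorem mul_mem_left (n : ℕ) (x : E) {s : E} (hs : s ∈ (I ^ n • ⊤ : Submodule A E)) :
    x * s ∈ (I ^ n • ⊤ : Submodule A E) := by
  refine Submodule.smul_induction_on hs (fun r hr z _ => ?_) (fun a b ha hb => ?_)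
  · rw [mul_smul_comm]
    exact Submodule.smul_mem_smul hr Submodule.mem_top
  · rw [mul_add]
    exact add_mem ha hb

theorem mul_mem_right (n : ℕ) (x : E) {s : E} (hs : s ∈ (I ^ n • ⊤ : Submodule A E)) :
    s * x ∈ (I ^ n • ⊤ : Submodule A E) := by
  refine Submodule.smul_induction_on hs (fun r hr z _ => ?_) (fun a b ha hb => ?_)
  · rw [smul_mul_assoc]
    exact Submodule.smul_mem_smul hr Submodule.mem_top
  · rw [add_mul]
    exact add_mem ha hb

theorem mul_mem_mul (m n : ℕ) {s t : E} (hs : s ∈ (I ^ m • ⊤ : Submodule A E))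
    (ht : t ∈ (I ^ n • ⊤ : Submodule A E)) : s * t ∈ (I ^ (m + n) • ⊤ : Submodule A E) := by
  refine Submodule.smul_induction_on hs (fun r hr z _ => ?_) (fun a b ha hb => ?_)
  · rw [smul_mul_assoc, pow_add, Submodule.mul_smul]
    exact Submodule.smul_mem_smul hr (mul_mem_left I n z ht)
  · rw [add_mul]
    exact add_mem ha hb

theorem mem_of_le {m n : ℕ} (h : m ≤ n) {s : E} (hs : s ∈ (I ^ n • ⊤ : Submodule A E)) :
    s ∈ (I ^ m • ⊤ : Submodule A E) :=
  Submodule.smul_mono_left (Ideal.pow_le_pow_right h) hs

/-- The Newton step for idempotents. -/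
def step (a : E) : E := 3 * a ^ 2 - 2 * a ^ 3

theorem step_sq_sub (a : E) :
    step a ^ 2 - step a = (a ^ 2 - a) ^ 2 * (4 * a ^ 2 - 4 * a - 3) := by
  unfold step
  noncomm_ring

theorem step_sub (a : E) : step a - a = (a ^ 2 - a) * (1 - 2 * a) := by
  unfold step
  noncomm_ring

/-- Idempotents lift along `E → E/IE` when `E` is `I`-adically complete. -/
theorem exists_isIdempotentElem_sub_mem [IsAdicComplete I E] (a : E)
    (ha : a ^ 2 - a ∈ (I • ⊤ : Submodule A E)) :
    ∃ e : E, IsIdempotentElem e ∧ e - a ∈ (I • ⊤ : Submodule A E) := by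
  let f : ℕ → E := fun n => step^[n] a
  have hf_succ : ∀ n, f (n + 1) = step (f n) := fun n => Function.iterate_succ_apply' step n a
  have hsq : ∀ n, f n ^ 2 - f n ∈ (I ^ (n + 1) • ⊤ : Submodule A E) := by
    intro n
    induction n with
    | zero =>
      rw [zero_add, pow_one]
      exact ha
    | succ n ih =>
      rw [hf_succ, step_sq_sub]
      apply mul_mem_right
      have := mul_mem_mul I (n + 1) (n + 1) ih ih
      rw [← sq] at this
      exact mem_of_le I (by omega) this
  have hdiff : ∀ n, f (n + 1) - f n ∈ (I ^ (n + 1) • ⊤ : Submodule A E) := by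
    intro n
    rw [hf_succ, step_sub]
    exact mul_mem_right I _ _ (hsq n)
  have hcauchy : ∀ m n, m ≤ n → f n - f m ∈ (I ^ m • ⊤ : Submodule A E) := by
    intro m n hmn
    induction n, hmn using Nat.le_induction with
    | base => rw [sub_self]; exact zero_mem _
    | succ n hmn ih =>
      have : f (n + 1) - f m = (f (n + 1) - f n) + (f n - f m) := by abel
      rw [this]
      exact add_mem (mem_of_le I (by omega) (hdiff n)) ih
  obtain ⟨e, he⟩ := IsPrecomplete.prec (inferInstance : IsPrecomplete I E) (f := f) (by
    intro m n hmn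
    rw [SModEq.sub_mem]
    have := hcauchy m n hmn
    rw [← neg_sub]
    exact neg_mem this)
  have hed : ∀ n, e - f n ∈ (I ^ n • ⊤ : Submodule A E) := by
    intro n
    have := (he n).symm
    rwa [SModEq.sub_mem] at this
  refine ⟨e, ?_, ?_⟩
  · have h0 : e ^ 2 - e = 0 := by
      apply IsHausdorff.haus (inferInstance : IsHausdorff I E)
      intro n
      rw [SModEq.zero]
      have hd := hed n
      have h1 : e ^ 2 - e = (f n ^ 2 - f n) + f n * (e - f n) + (e - f n) * f n +
          (e - f n) * (e - f n) - (e - f n) := by noncomm_ring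
      rw [h1]
      refine sub_mem (add_mem (add_mem (add_mem ?_ ?_) ?_) ?_) hd
      · exact mem_of_le I (by omega) (hsq n)
      · exact mul_mem_left I n _ hd
      · exact mul_mem_right I n _ hd
      · exact mul_mem_left I n _ hd
    rw [IsIdempotentElem, ← sq]
    exact sub_eq_zero.mp h0
  · have h1 := hed 1
    have h2 := hdiff 0
    rw [pow_one] at h1
    rw [zero_add, pow_one] at h2
    have : e - a = (e - f 1) + (f 1 - f 0) := by
      change e - a = (e - f 1) + (f 1 - a)
      abel
    rw [this]
    exact add_mem h1 h2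

end algebra


section endo

variable {A : Type u} [CommRing A] (I : Ideal A)
  {P : Type v} [AddCommGroup P] [Module A P] [Module.Finite A P] [Module.Projective A P]

theorem isAdicComplete_end [IsAdicComplete I A] : IsAdicComplete I (Module.End A P) := by
  obtain ⟨n, π, hπ⟩ := Module.Finite.exists_fin' A P
  obtain ⟨s, hs⟩ := Module.projective_lifting_property π LinearMap.id hπ
  have : IsAdicComplete I (Module.End A (Fin n → A)) :=
    Groth.Agent.H89.isAdicComplete_of_finite_projective I _
  let g : Module.End A P →ₗ[A] Module.End A (Fin n → A) :=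
    { toFun := fun x => s ∘ₗ x ∘ₗ π
      map_add' := fun x y => by
        ext v
        simp
      map_smul' := fun r x => by
        ext v
        simp }
  let f : Module.End A (Fin n → A) →ₗ[A] Module.End A P :=
    { toFun := fun y => π ∘ₗ y ∘ₗ s
      map_add' := fun x y => by
        ext v
        simp
      map_smul' := fun r x => by
        ext v
        simp }
  refine Groth.Agent.H89.isAdicComplete_of_retract I g f ?_
  ext x v
  have h1 : ∀ w, π (s w) = w := fun w => LinearMap.congr_fun hs w
  change π (s (x (π (s v)))) = x v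
  rw [h1, h1]

theorem apply_mem_of_mem {s : Module.End A P} (hs : s ∈ (I • ⊤ : Submodule A (Module.End A P)))
    (v : P) : s v ∈ (I • ⊤ : Submodule A P) := by
  refine Submodule.smul_induction_on hs (fun r hr z _ => ?_) (fun a b ha hb => ?_)
  · rw [LinearMap.smul_apply]
    exact Submodule.smul_mem_smul hr Submodule.mem_top
  · rw [LinearMap.add_apply]
    exact add_mem ha hb

theorem mem_of_apply_mem (π : A) {x : Module.End A P}
    (hx : ∀ v, x v ∈ (Ideal.span {π} • ⊤ : Submodule A P)) :
    x ∈ (Ideal.span {π} • ⊤ : Submodule A (Module.End A P)) := by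
  let μ : P →ₗ[A] P := π • LinearMap.id
  have hmem : ∀ v, x v ∈ LinearMap.range μ := by
    intro v
    have := hx v
    rw [Submodule.ideal_span_singleton_smul, Submodule.mem_smul_pointwise_iff_exists] at this
    obtain ⟨w, -, hw⟩ := this
    exact ⟨w, by simpa [μ] using hw⟩
  let x' : P →ₗ[A] LinearMap.range μ := x.codRestrict (LinearMap.range μ) hmem
  obtain ⟨y, hy⟩ := Module.projective_lifting_property μ.rangeRestrict x'
    (LinearMap.surjective_rangeRestrict μ)
  have hxy : x = π • y := by
    ext v
    have := congrArg Subtype.val (LinearMap.congr_fun hy v)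
    simp only [LinearMap.comp_apply, LinearMap.codRestrict_apply, LinearMap.rangeRestrict, x'] at this
    rw [LinearMap.smul_apply, ← this]
    simp [μ]
  rw [hxy]
  exact Submodule.smul_mem_smul (Ideal.mem_span_singleton_self π) Submodule.mem_top

/-- Lifting idempotent endomorphisms of `P/πP` to `P`, for `P` finite projective over a `π`-adically
complete ring. -/
theorem exists_idem_end (π : A) [IsAdicComplete (Ideal.span {π}) A] (a : Module.End A P)
    (ha : ∀ v, (a * a - a) v ∈ (Ideal.span {π} • ⊤ : Submodule A P)) :
    ∃ e : Module.End A P, IsIdempotentElem e ∧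
      ∀ v, (e - a) v ∈ (Ideal.span {π} • ⊤ : Submodule A P) := by
  have hc : IsAdicComplete (Ideal.span {π}) (Module.End A P) := isAdicComplete_end _
  obtain ⟨e, he, hea⟩ := exists_isIdempotentElem_sub_mem (Ideal.span {π}) a (by
    rw [sq]
    exact mem_of_apply_mem π ha)
  exact ⟨e, he, fun v => apply_mem_of_mem _ hea v⟩

end endo

end Groth.Agent.H85.IdemLiftAdic
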