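import Groth.Agent.H85.GradedModNN

/-!
# Homogeneous associated primes of graded modules
-/

set_option autoImplicit false

namespace Groth.Agent.H85.GradedNN

open DirectSum

variable {k : Type*} [Field k] {R : Type*} [CommRing R] [Algebra k R]
  (𝒜 : ℤ → Submodule k R) [GradedAlgebra 𝒜]
  {M : Type*} [AddCommGroup M] [Module R M]
  (ℳ : ℤ → AddSubgroup M) [DirectSum.Decomposition ℳ] [SetLike.GradedSMul 𝒜 ℳ]

/-- the annihilator of a homogeneous element is a homogeneous ideal -/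
theorem colon_singleton_isHomogeneous {j : ℤ} {g : M} (hg : g ∈ ℳ j) :
    ((⊥ : Submodule R M).colon {g}).IsHomogeneous 𝒜 := by
  intro i r hr
  rw [Submodule.mem_colon_singleton, Submodule.mem_bot] at hr ⊢
  have h1 := decompose_smul_of_mem_right 𝒜 ℳ hg r i
  rw [hr] at h1
  simpa using h1.symm

/-- a nonzero homogeneous element is killed by a homogeneous associated prime -/
theorem exists_homogeneous_isAssociatedPrime [H : IsNoetherianRing R] {n : ℤ} {u : M}
    (hu : u ∈ ℳ n) (hu0 : u ≠ 0) :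
    ∃ P : Ideal R, IsAssociatedPrime P M ∧ P.IsHomogeneous 𝒜 ∧
      (⊥ : Submodule R M).colon {u} ≤ P := by
  simp only [isAssociatedPrime_iff]
  obtain ⟨P, ⟨l, h₁, y, ⟨m, hy⟩, rfl⟩, h₃⟩ :=
    set_has_maximal_iff_noetherian.mpr H
      { P | (⊥ : Submodule R M).colon {u} ≤ P ∧ P ≠ ⊤ ∧
          ∃ y : M, (∃ m, y ∈ ℳ m) ∧ P = (⊥ : Submodule R M).colon {y} }
      ⟨_, rfl.le, by simpa, u, ⟨n, hu⟩, rfl⟩
  have hhom := colon_singleton_isHomogeneous 𝒜 ℳ hy
  refine ⟨_, ⟨?_, y, rfl⟩, hhom, l⟩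
  refine Ideal.IsHomogeneous.isPrime_of_homogeneous_mem_or_mem hhom h₁ ?_
  rintro a b ⟨da, ha'⟩ - hab
  rw [or_iff_not_imp_left]
  intro ha
  rw [Submodule.mem_colon_singleton] at ha hab
  have H₁ : (⊥ : Submodule R M).colon {y} ≤ (⊥ : Submodule R M).colon {a • y} := by
    intro c hc
    rw [Submodule.mem_colon_singleton, Submodule.mem_bot] at hc ⊢
    rw [smul_comm, hc, smul_zero]
  have hay : a • y ∈ ℳ (da + m) := by
    have := SetLike.GradedSMul.smul_mem (A := 𝒜) (B := ℳ) ha' hy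
    rwa [vadd_eq_add] at this
  rwa [H₁.eq_of_not_lt (h₃ _ ⟨l.trans H₁, by simpa using ha, _, ⟨_, hay⟩, rfl⟩),
    Submodule.mem_colon_singleton, smul_comm, smul_smul]

end Groth.Agent.H85.GradedNN
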