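import Groth.Agent.H85.GradedAss
import Groth.Agent.H72.DepthLocIneq
import Groth.Agent.H14.DimTrdeg
import Groth.Agent.H24.SupportLoc
import Groth.Prelude.Def_CAlg

/-!
# Unmixedness of graded Cohen–Macaulay modules

For a finitely generated graded module `M` of dimension `r` over a nonnegatively graded finitely
generated `k`-algebra `R` with `R₀ = k`, which is Cohen–Macaulay at the irrelevant ideal, every
homogeneous associated prime `𝔮` has `dim R/𝔮 ≥ r`.  Consequently, if `M` is a finite module over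
`k[x₁, …, x_r]`, every nonzero homogeneous element of `M` is torsion free over `k[x₁, …, x_r]`.
-/

set_option autoImplicit false

universe u

namespace Groth.Agent.H85.GradedCM

open DirectSum MvPolynomial Groth.Agent.H85.GradedNN

section General

variable {R : Type u} [CommRing R] {M : Type u} [AddCommGroup M] [Module R M]

/-- a minimal prime computing (at least) the dimension -/
theorem exists_minimalPrimes_le_ringKrullDim_quotient (I : Ideal R) (r : ℕ)
    (h : (r : WithBot ℕ∞) ≤ ringKrullDim (R ⧸ I)) :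
    ∃ p ∈ I.minimalPrimes, (r : WithBot ℕ∞) ≤ ringKrullDim (R ⧸ p) := by
  rw [ringKrullDim_quotient, Order.le_krullDim_iff] at h
  obtain ⟨l, hl⟩ := h
  have hhead : I ≤ (l.head : PrimeSpectrum R).asIdeal := l.head.2
  obtain ⟨p, hp, hpl⟩ := Ideal.exists_minimalPrimes_le hhead
  refine ⟨p, hp, ?_⟩
  rw [ringKrullDim_quotient, Order.le_krullDim_iff]
  refine ⟨⟨l.length, fun i => ⟨(l i).1, ?_⟩, fun i => l.step i⟩, hl⟩
  intro a ha
  exact (l.head_le i) (hpl ha)

/-- heights in `R ⧸ p` bound the dimension of the localization of `M`, for `p` in the support -/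
theorem height_le_supportDim_localization [Module.Finite R M] (p : Ideal R) [p.IsPrime]
    (hp : Module.annihilator R M ≤ p) (s : Ideal R) [s.IsPrime] (P' : Ideal (R ⧸ p)) [P'.IsPrime]
    (hs : s = P'.comap (Ideal.Quotient.mk p)) :
    ((P'.height : ℕ∞) : WithBot ℕ∞) ≤
      Module.supportDim (Localization.AtPrime s) (LocalizedModule s.primeCompl M) := by
  subst hs
  set s := P'.comap (Ideal.Quotient.mk p) with hs
  let g := Localization.localRingHom s P' (Ideal.Quotient.mk p) rfl
  have hg : Function.Surjective g :=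
    RingHom.surjective_localRingHom_of_surjective (Ideal.Quotient.mk p)
      Ideal.Quotient.mk_surjective P'
  have hmem : ∀ Q : PrimeSpectrum (Localization.AtPrime P'),
      PrimeSpectrum.comap g Q ∈
        Module.support (Localization.AtPrime s) (LocalizedModule s.primeCompl M) := by
    intro Q
    rw [Groth.Agent.H24.mem_support_localizedModule_iff, Module.mem_support_iff_of_finite]
    intro a ha
    show g (algebraMap R (Localization.AtPrime s) a) ∈ Q.asIdeal
    rw [Localization.localRingHom_to_map, Ideal.Quotient.eq_zero_iff_mem.mpr (hp ha), map_zero]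
    exact zero_mem _
  let f : PrimeSpectrum (Localization.AtPrime P') →
      Module.support (Localization.AtPrime s) (LocalizedModule s.primeCompl M) :=
    fun Q => ⟨PrimeSpectrum.comap g Q, hmem Q⟩
  have hf : StrictMono f := by
    apply Monotone.strictMono_of_injective
    · intro Q₁ Q₂ h
      show PrimeSpectrum.comap g Q₁ ≤ PrimeSpectrum.comap g Q₂
      exact Ideal.comap_mono h
    · intro Q₁ Q₂ h
      have h' : PrimeSpectrum.comap g Q₁ = PrimeSpectrum.comap g Q₂ := congrArg Subtype.val h
      exact PrimeSpectrum.comap_injective_of_surjective g hg h'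
  have h1 := Order.krullDim_le_of_strictMono f hf
  rw [← IsLocalization.AtPrime.ringKrullDim_eq_height P' (Localization.AtPrime P')]
  exact h1

/-- a minimal prime over a homogeneous ideal is homogeneous -/
theorem isHomogeneous_of_mem_minimalPrimes {k : Type*} [Field k] [Algebra k R]
    (𝒜 : ℤ → Submodule k R) [GradedAlgebra 𝒜] (I : Ideal R) (hI : I.IsHomogeneous 𝒜)
    (p : Ideal R) (hp : p ∈ I.minimalPrimes) : p.IsHomogeneous 𝒜 := by
  haveI := hp.1.1
  have h1 : ((p.homogeneousCore 𝒜).toIdeal).IsPrime := Ideal.IsPrime.homogeneousCore hp.1.1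
  have h2 : I ≤ (p.homogeneousCore 𝒜).toIdeal := by
    have := Ideal.homogeneousCore_mono 𝒜 hp.1.2
    rw [← hI.toIdeal_homogeneousCore_eq_self]
    exact this
  have h3 : (p.homogeneousCore 𝒜).toIdeal ≤ p := Ideal.toIdeal_homogeneousCore_le 𝒜 p
  have h4 : p ≤ (p.homogeneousCore 𝒜).toIdeal := hp.2 ⟨h1, h2⟩ h3
  have h5 : (p.homogeneousCore 𝒜).toIdeal = p := le_antisymm h3 h4
  rw [← h5]
  exact (p.homogeneousCore 𝒜).isHomogeneous

end General

section Integral

variable {k : Type*} [Field k] {R : Type*} [CommRing R] [Algebra k R]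
  {M : Type*} [AddCommGroup M] [Module R M]

/-- if `R'` is integral over `k[x₁, …, x_r]` and `dim R' ≥ r` then the `xᵢ` are algebraically
independent -/
theorem algebraicIndependent_of_isIntegral_of_le {r : ℕ} (x : Fin r → R)
    (hint : (aeval x : MvPolynomial (Fin r) k →ₐ[k] R).toRingHom.IsIntegral)
    (hdim : (r : WithBot ℕ∞) ≤ ringKrullDim R) : AlgebraicIndependent k x := by
  rw [algebraicIndependent_iff_injective_aeval]
  by_contra hinj
  rw [injective_iff_map_eq_zero] at hinj
  push Not at hinj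
  obtain ⟨f, hf, hf0⟩ := hinj
  set φ : MvPolynomial (Fin r) k →ₐ[k] R := aeval x with hφ
  have hker : ∀ a ∈ Ideal.span {f}, φ.toRingHom a = 0 := by
    intro a ha
    rw [Ideal.mem_span_singleton] at ha
    obtain ⟨b, rfl⟩ := ha
    show φ (f * b) = 0
    rw [map_mul, hf, zero_mul]
  let g : MvPolynomial (Fin r) k ⧸ Ideal.span {f} →+* R :=
    Ideal.Quotient.lift (Ideal.span {f}) φ.toRingHom hker
  have hcomp : g.comp (Ideal.Quotient.mk (Ideal.span {f})) = φ.toRingHom := by
    ext a <;> simp [g]
  have hg : g.IsIntegral := by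
    apply RingHom.IsIntegral.tower_top (Ideal.Quotient.mk (Ideal.span {f})) g
    rw [hcomp]; exact hint
  have h1 : ringKrullDim R ≤ ringKrullDim (MvPolynomial (Fin r) k ⧸ Ideal.span {f}) := by
    letI : Algebra (MvPolynomial (Fin r) k ⧸ Ideal.span {f}) R := g.toAlgebra
    haveI : Algebra.IsIntegral (MvPolynomial (Fin r) k ⧸ Ideal.span {f}) R := ⟨hg⟩
    exact Groth.Agent.H54.ringKrullDim_le_of_isIntegral
  have h2 : ringKrullDim (MvPolynomial (Fin r) k ⧸ Ideal.span {f}) + 1 ≤
      ringKrullDim (MvPolynomial (Fin r) k) :=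
    ringKrullDim_quotient_succ_le_of_nonZeroDivisor (mem_nonZeroDivisors_of_ne_zero hf0)
  rw [Groth.Agent.H54.ringKrullDim_mvPolynomial_fin_field] at h2
  have h3 : ((r : ℕ) : WithBot ℕ∞) + 1 ≤ (r : WithBot ℕ∞) :=
    (add_le_add_left (hdim.trans h1) 1).trans h2
  have h4 : ((r + 1 : ℕ) : WithBot ℕ∞) ≤ ((r : ℕ) : WithBot ℕ∞) := by
    push_cast
    exact h3
  have h5 : r + 1 ≤ r := by exact_mod_cast h4
  omega

/-- if `M` is finite over `k[x₁, …, x_d]` then `R ⧸ J` is integral over `k[x₁, …, x_d]` for every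
ideal `J` containing the annihilator of `M` -/
theorem isIntegral_aeval_mk_of_generators {d : ℕ} (x : Fin d → R) (B : Finset M)
    (hB : ∀ u : M, ∃ c : M → MvPolynomial (Fin d) k, u = ∑ b ∈ B, aeval x (c b) • b)
    (J : Ideal R) (hJ : Module.annihilator R M ≤ J) :
    (aeval (fun i => Ideal.Quotient.mk J (x i)) :
      MvPolynomial (Fin d) k →ₐ[k] R ⧸ J).toRingHom.IsIntegral := by
  classical
  set φ : MvPolynomial (Fin d) k →ₐ[k] R := aeval x with hφ
  letI : Module (MvPolynomial (Fin d) k) M := Module.compHom M φ.toRingHom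
  have hsmul : ∀ (q : MvPolynomial (Fin d) k) (u : M), q • u = φ q • u := fun _ _ => rfl
  haveI : Module.Finite (MvPolynomial (Fin d) k) M := by
    refine ⟨⟨B, ?_⟩⟩
    rw [eq_top_iff]
    rintro u -
    obtain ⟨c, rfl⟩ := hB u
    refine Submodule.sum_mem _ fun b hb => ?_
    rw [← hsmul]
    exact Submodule.smul_mem _ _ (Submodule.subset_span hb)
  let x' : Fin d → R ⧸ J := fun i => Ideal.Quotient.mk J (x i)
  have hcomp : (aeval x' : MvPolynomial (Fin d) k →ₐ[k] R ⧸ J) = (Ideal.Quotient.mkₐ k J).comp φ := by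
    apply MvPolynomial.algHom_ext
    intro i
    simp [x', hφ]
  show (aeval x' : MvPolynomial (Fin d) k →ₐ[k] R ⧸ J).toRingHom.IsIntegral
  intro rbar
  obtain ⟨r, rfl⟩ := Ideal.Quotient.mk_surjective rbar
  let f : Module.End (MvPolynomial (Fin d) k) M :=
    { toFun := fun u => r • u
      map_add' := fun u v => smul_add r u v
      map_smul' := fun q u => by
        simp only [RingHom.id_apply]
        rw [hsmul, hsmul, smul_comm] }
  obtain ⟨P, hPmonic, hP⟩ := LinearMap.exists_monic_and_aeval_eq_zero (MvPolynomial (Fin d) k) f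
  refine ⟨P, hPmonic, ?_⟩
  have hfpow : ∀ (i : ℕ) (u : M), (f ^ i) u = r ^ i • u := by
    intro i
    induction i with
    | zero => intro u; simp
    | succ i ih =>
      intro u
      rw [pow_succ, Module.End.mul_apply, ih, pow_succ, mul_smul]
      rfl
  have hmem : Polynomial.eval₂ φ.toRingHom r P ∈ J := by
    apply hJ
    rw [Module.mem_annihilator]
    intro u
    have h1 : (Polynomial.aeval f P) u = 0 := by rw [hP]; rfl
    rw [Polynomial.aeval_eq_sum_range, LinearMap.sum_apply] at h1
    rw [Polynomial.eval₂_eq_sum_range, Finset.sum_smul, ← h1]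
    refine Finset.sum_congr rfl fun i _ => ?_
    rw [LinearMap.smul_apply, hfpow, hsmul, mul_smul]
    rfl
  have h2 := Polynomial.hom_eval₂ P φ.toRingHom (Ideal.Quotient.mk J) r
  have h3 : (aeval x' : MvPolynomial (Fin d) k →ₐ[k] R ⧸ J).toRingHom =
      (Ideal.Quotient.mk J).comp φ.toRingHom := by
    rw [hcomp]; rfl
  rw [h3, ← h2]
  exact Ideal.Quotient.eq_zero_iff_mem.mpr hmem

end Integral

section Graded

variable {k : Type u} [Field k] {R : Type u} [CommRing R] [Algebra k R]
  (𝒜 : ℤ → Submodule k R) [GradedAlgebra 𝒜]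
  {M : Type u} [AddCommGroup M] [Module R M]
  (ℳ : ℤ → AddSubgroup M) [DirectSum.Decomposition ℳ] [SetLike.GradedSMul 𝒜 ℳ]
  (hpos : ∀ n : ℤ, n < 0 → 𝒜 n = ⊥) (h0 : 𝒜 0 = Submodule.span k {(1 : R)})

include ℳ hpos h0 in
/-- the localization of a graded module at the irrelevant ideal has the same dimension -/
theorem le_supportDim_localization_irr [Algebra.FiniteType k R] [Module.Finite R M]
    [(irr 𝒜).IsPrime] (r : ℕ) (hr : Module.supportDim R M = r) :
    (r : WithBot ℕ∞) ≤ Module.supportDim (Localization.AtPrime (irr 𝒜))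
      (LocalizedModule (irr 𝒜).primeCompl M) := by
  have hI : (r : WithBot ℕ∞) ≤ ringKrullDim (R ⧸ Module.annihilator R M) := by
    rw [← Module.supportDim_eq_ringKrullDim_quotient_annihilator, hr]
  obtain ⟨p, hp, hdim⟩ := exists_minimalPrimes_le_ringKrullDim_quotient _ r hI
  haveI hpprime : p.IsPrime := hp.1.1
  have hphom : p.IsHomogeneous 𝒜 :=
    isHomogeneous_of_mem_minimalPrimes 𝒜 _ (annihilator_isHomogeneous 𝒜 ℳ) p hp
  have hple : p ≤ irr 𝒜 := le_irr 𝒜 hpos h0 p hphom hpprime.ne_top
  set P' : Ideal (R ⧸ p) := (irr 𝒜).map (Ideal.Quotient.mk p) with hP'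
  have hcomap : irr 𝒜 = P'.comap (Ideal.Quotient.mk p) := (Ideal.comap_map_mk hple).symm
  haveI : Nontrivial R := ⟨⟨0, 1, fun h => hpprime.ne_top (by
    rw [Ideal.eq_top_iff_one, ← h]; exact zero_mem _)⟩⟩
  have hmax : (irr 𝒜).IsMaximal := irr_isMaximal 𝒜 hpos h0
  haveI hP'max : P'.IsMaximal := by
    rcases Ideal.map_eq_top_or_isMaximal_of_surjective (Ideal.Quotient.mk p)
      Ideal.Quotient.mk_surjective hmax with h | h
    · exfalso
      apply hmax.ne_top
      rw [hcomap, hP', h, Ideal.comap_top]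
    · exact h
  have hht := Groth.Agent.H14.height_of_isMaximal_of_finiteType_domain k (R ⧸ p) P'
  have h5 := height_le_supportDim_localization (M := M) p hp.1.2 (irr 𝒜) P' hcomap
  rw [hht] at h5
  exact hdim.trans h5

include ℳ hpos h0 in
/-- **Unmixedness**: for `M` Cohen–Macaulay at the irrelevant ideal, every homogeneous associated
prime has maximal dimension. -/
theorem le_ringKrullDim_quotient_of_isAssociatedPrime [Algebra.FiniteType k R] [Module.Finite R M]
    [(irr 𝒜).IsPrime] (r : ℕ) (hr : Module.supportDim R M = r)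
    (hCM : Subsingleton (LocalizedModule (irr 𝒜).primeCompl M) ∨
      LocCoh.IsCohenMacaulayModule (Localization.AtPrime (irr 𝒜))
        (LocalizedModule (irr 𝒜).primeCompl M))
    (q : Ideal R) (hq : IsAssociatedPrime q M) (hqhom : q.IsHomogeneous 𝒜) :
    (r : WithBot ℕ∞) ≤ ringKrullDim (R ⧸ q) := by
  haveI : IsNoetherianRing R := Algebra.FiniteType.isNoetherianRing k R
  haveI hqprime : q.IsPrime := hq.isPrime
  have hqle : q ≤ irr 𝒜 := le_irr 𝒜 hpos h0 q hqhom hqprime.ne_top
  have h5 := le_supportDim_localization_irr 𝒜 ℳ hpos h0 r hr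
  have hCM' : LocCoh.IsCohenMacaulayModule (Localization.AtPrime (irr 𝒜))
      (LocalizedModule (irr 𝒜).primeCompl M) := by
    rcases hCM with h | h
    · exfalso
      rw [Module.supportDim_eq_bot_of_subsingleton] at h5
      exact WithBot.coe_ne_bot (le_bot_iff.mp h5)
    · exact h
  unfold LocCoh.IsCohenMacaulayModule at hCM'
  have h1 := Groth.Agent.H72.DepthLocIneq.depth_localization_le_height_of_mem_associatedPrimes M q
    (irr 𝒜) hqle hq
  have hne : (irr 𝒜).map (Ideal.Quotient.mk q) ≠ ⊤ := by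
    intro h
    have h2 : (irr 𝒜) = ⊤ := by
      rw [← Ideal.comap_map_mk hqle, h, Ideal.comap_top]
    exact (inferInstance : (irr 𝒜).IsPrime).ne_top h2
  have h3 := Ideal.height_le_ringKrullDim_of_ne_top hne
  rw [hCM'] at h5
  exact h5.trans ((WithBot.coe_le_coe.mpr h1).trans h3)

include ℳ hpos h0 in
/-- for `M` Cohen–Macaulay at the irrelevant ideal and finite over `k[x₁, …, x_r]`, `r = dim M`,
nonzero homogeneous elements are torsion free over `k[x₁, …, x_r]` -/
theorem eq_zero_of_aeval_smul_eq_zero [Algebra.FiniteType k R] [Module.Finite R M]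
    [(irr 𝒜).IsPrime] (r : ℕ) (hr : Module.supportDim R M = r)
    (hCM : Subsingleton (LocalizedModule (irr 𝒜).primeCompl M) ∨
      LocCoh.IsCohenMacaulayModule (Localization.AtPrime (irr 𝒜))
        (LocalizedModule (irr 𝒜).primeCompl M))
    (x : Fin r → R) (B : Finset M)
    (hB : ∀ u : M, ∃ c : M → MvPolynomial (Fin r) k, u = ∑ b ∈ B, aeval x (c b) • b)
    {n : ℤ} {u : M} (hu : u ∈ ℳ n) (hu0 : u ≠ 0) (p : MvPolynomial (Fin r) k)
    (hp : aeval x p • u = 0) : p = 0 := by
  haveI : IsNoetherianRing R := Algebra.FiniteType.isNoetherianRing k R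
  obtain ⟨q, hq, hqhom, hle⟩ := exists_homogeneous_isAssociatedPrime 𝒜 ℳ hu hu0
  have hdim := le_ringKrullDim_quotient_of_isAssociatedPrime 𝒜 ℳ hpos h0 r hr hCM q hq hqhom
  have hann : Module.annihilator R M ≤ q := by
    have := hq.annihilator_le
    rwa [Submodule.annihilator_top] at this
  have hint := isIntegral_aeval_mk_of_generators (k := k) x B hB q hann
  have hind := algebraicIndependent_of_isIntegral_of_le _ hint hdim
  rw [algebraicIndependent_iff_injective_aeval] at hind
  apply hind
  rw [map_zero]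
  have hmem : aeval x p ∈ q := by
    apply hle
    rw [Submodule.mem_colon_singleton, Submodule.mem_bot]
    exact hp
  have hcomp : (aeval (fun i => Ideal.Quotient.mk q (x i)) : MvPolynomial (Fin r) k →ₐ[k] R ⧸ q) =
      (Ideal.Quotient.mkₐ k q).comp (aeval x) := by
    apply MvPolynomial.algHom_ext
    intro i
    simp
  rw [hcomp, AlgHom.comp_apply]
  exact Ideal.Quotient.eq_zero_iff_mem.mpr hmem

end Graded

end Groth.Agent.H85.GradedCM
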