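import Mathlib
import Groth.Agent.H98.GrStar.LCCompare
import Groth.Agent.H98.GrHt.Main
import Groth.Agent.H98.Bass1.Final
import Groth.Agent.H98.Bass0.StarLocalSoc
import Groth.Agent.H58.LCDepthExt
import Groth.Agent.H58.X26.DepthInf
import Groth.Agent.H72.DepthCM

/-!
# Graded rings defined over a field (ℤ-graded, `GrLC` setting): the irrelevant ideal
is maximal of height `dim R`; depth vanishing of graded local cohomology for CM rings (helper85)
-/

set_option autoImplicit false
set_option linter.unusedSectionVars false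
set_option linter.unusedVariables false

universe u

namespace Groth.Agent.H85.GrLCBase

open DirectSum

variable {R : Type u} [CommRing R] (𝒜 : ℤ → AddSubgroup R) [GradedRing 𝒜]

/-- positive-degree pieces lie in the irrelevant ideal -/
theorem mem_irr_of_pos (m : HomogeneousIdeal 𝒜)
    (hmsp : m.toIdeal = Ideal.span (⋃ n ∈ Set.Ioi (0 : ℤ), (𝒜 n : Set R)))
    (n : ℤ) (hn : 0 < n) (r : R) (hr : r ∈ 𝒜 n) : r ∈ m.toIdeal := by
  rw [hmsp]
  apply Ideal.subset_span
  simp only [Set.mem_iUnion, Set.mem_Ioi, SetLike.mem_coe, exists_prop]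
  exact ⟨n, hn, hr⟩

/-- the irrelevant ideal of a graded ring defined over a field is maximal -/
theorem isMaximal_irr (hpos : ∀ n : ℤ, n < 0 → 𝒜 n = ⊥) (h0 : IsField (GrLC.deg0 𝒜))
    (m : HomogeneousIdeal 𝒜) (hne : m.toIdeal ≠ ⊤)
    (hmsp : m.toIdeal = Ideal.span (⋃ n ∈ Set.Ioi (0 : ℤ), (𝒜 n : Set R))) :
    m.toIdeal.IsMaximal := by
  classical
  rw [Ideal.isMaximal_iff]
  refine ⟨fun h => hne ((Ideal.eq_top_iff_one _).mpr h), ?_⟩
  intro J x hmJ hxm hxJ
  -- the degree zero component of x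
  set x0 : R := (DirectSum.decompose 𝒜 x 0 : R) with hx0
  have hx0mem : x0 ∈ 𝒜 0 := SetLike.coe_mem _
  have hdiff : x - x0 ∈ m.toIdeal := by
    rw [m.isHomogeneous.mem_iff]
    intro i
    rw [DirectSum.decompose_sub, DirectSum.sub_apply, AddSubgroupClass.coe_sub]
    rcases lt_trichotomy i 0 with hi | hi | hi
    · have hzero : ∀ y ∈ 𝒜 i, y = 0 := by
        intro y hy
        rw [hpos i hi] at hy
        exact (AddSubgroup.mem_bot).mp hy
      have h1 : ((DirectSum.decompose 𝒜 x i : 𝒜 i) : R) = 0 :=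
        hzero _ (SetLike.coe_mem (DirectSum.decompose 𝒜 x i))
      have h2 : ((DirectSum.decompose 𝒜 x0 i : 𝒜 i) : R) = 0 :=
        DirectSum.decompose_of_mem_ne 𝒜 hx0mem (Ne.symm (ne_of_lt hi))
      rw [h1, h2, sub_zero]
      exact zero_mem _
    · subst hi
      rw [DirectSum.decompose_of_mem_same 𝒜 hx0mem, sub_self]
      exact zero_mem _
    · have h2 : ((DirectSum.decompose 𝒜 x0 i : 𝒜 i) : R) = 0 :=
        DirectSum.decompose_of_mem_ne 𝒜 hx0mem (ne_of_lt hi)
      rw [h2, sub_zero]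
      exact mem_irr_of_pos 𝒜 m hmsp i hi _ (SetLike.coe_mem _)
  have hx0ne : x0 ≠ 0 := by
    intro h
    apply hxm
    have : x = x - x0 := by rw [h, sub_zero]
    rw [this]
    exact hdiff
  -- invert x0 in the degree zero field
  let a : GrLC.deg0 𝒜 := ⟨x0, hx0mem⟩
  have ha : a ≠ 0 := fun h => hx0ne (congrArg Subtype.val h)
  obtain ⟨b, hb⟩ := h0.mul_inv_cancel ha
  have hb' : x0 * (b : R) = 1 := congrArg Subtype.val hb
  have hx0J : x0 ∈ J := by
    have : x0 = x - (x - x0) := by ring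
    rw [this]
    exact sub_mem hxJ (hmJ hdiff)
  rw [← hb']
  exact Ideal.mul_mem_right _ _ hx0J

variable [IsNoetherianRing R]

/-- every prime has height at most the height of the *maximal ideal -/
theorem height_le_height_irr (m : HomogeneousIdeal 𝒜) (hm : GrLC.IsStarLocal 𝒜 m)
    [hmax : m.toIdeal.IsMaximal] (P : Ideal R) [hP : P.IsPrime] :
    P.height ≤ m.toIdeal.height := by
  classical
  set q : HomogeneousIdeal 𝒜 := Ideal.homogeneousCore 𝒜 P with hq
  have hqP : q.toIdeal ≤ P := Ideal.toIdeal_homogeneousCore_le 𝒜 P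
  haveI hqprime : q.toIdeal.IsPrime := Groth.Agent.H98.GrHt.isPrime_core 𝒜 P
  have hqm : q.toIdeal ≤ m.toIdeal :=
    Groth.Agent.H98.Bass0.le_of_isStarLocal 𝒜 hm _ q.isHomogeneous hqprime.ne_top
  have hcore : ∀ g, ∀ x ∈ 𝒜 g, x ∈ P → x ∈ q.toIdeal := by
    intro g x hx hxP
    exact Ideal.mem_homogeneousCore_of_homogeneous_of_mem ⟨g, hx⟩ hxP
  have h1 := Groth.Agent.H98.GrHt.height_eq 𝒜 P
  have h2 := Groth.Agent.H98.Bass1.height_map_le q P hqP hcore
  rw [Module.finrank_self] at h2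
  have h2' : (P.map (Ideal.Quotient.mk q.toIdeal)).height ≤ 1 := by exact_mod_cast h2
  rcases eq_or_lt_of_le hqP with heq | hlt
  · rw [← heq]
    exact Ideal.height_mono hqm
  · have hqm' : q.toIdeal < m.toIdeal := by
      refine lt_of_le_of_ne hqm ?_
      intro h
      rw [h] at hlt
      exact (ne_of_lt hlt) (hmax.eq_of_le hP.ne_top hlt.le)
    haveI : m.toIdeal.IsPrime := hmax.isPrime
    have h3 := Ideal.height_add_one_le_of_lt_of_isPrime hqm'
    rw [h1]
    calc q.toIdeal.height + (P.map (Ideal.Quotient.mk q.toIdeal)).height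
        ≤ q.toIdeal.height + 1 := by gcongr
      _ ≤ m.toIdeal.height := h3

/-- the *maximal ideal has height `dim R` -/
theorem height_irr_eq (m : HomogeneousIdeal 𝒜) (hm : GrLC.IsStarLocal 𝒜 m)
    [hmax : m.toIdeal.IsMaximal] (n : ℕ) (hn : ringKrullDim R = n) :
    m.toIdeal.height = n := by
  haveI : FiniteRingKrullDim R := by
    rw [finiteRingKrullDim_iff_ne_bot_and_top, hn]
    refine ⟨?_, ?_⟩
    · exact WithBot.coe_ne_bot
    · intro h
      have h' : ((n : ℕ∞) : WithBot ℕ∞) = ((⊤ : ℕ∞) : WithBot ℕ∞) := h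
      rw [WithBot.coe_inj] at h'
      exact ENat.natCast_ne_top n h'
  obtain ⟨p, hp, hph⟩ := Ideal.exists_isMaximal_height (R := R)
  haveI : p.IsPrime := hp.isPrime
  have h1 := height_le_height_irr 𝒜 m hm p
  have h2 : (m.toIdeal.height : WithBot ℕ∞) ≤ ringKrullDim R :=
    Ideal.height_le_ringKrullDim_of_ne_top hmax.ne_top
  have h3 : (p.height : WithBot ℕ∞) ≤ m.toIdeal.height := by exact_mod_cast h1
  rw [hph] at h3
  have h4 : (m.toIdeal.height : WithBot ℕ∞) = n := by
    rw [← hn]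
    exact le_antisymm h2 h3
  exact_mod_cast h4

omit [IsNoetherianRing R] in
/-- **depth vanishing**: for a Cohen–Macaulay graded ring defined over a field of dimension `n`,
`*H^j_m(R) = 0` for `j < n`. -/
theorem subsingleton_H_of_cm [hCM : LocCoh.IsCohenMacaulayRing R]
    (m : HomogeneousIdeal 𝒜) (hm : GrLC.IsStarLocal 𝒜 m)
    [hmax : m.toIdeal.IsMaximal] (n : ℕ) (hn : ringKrullDim R = n)
    (I : GrLC.StarInjRes 𝒜 𝒜) (j : ℕ) (hj : j < n) : Subsingleton (I.H m j) := by
  haveI : m.toIdeal.IsPrime := hmax.isPrime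
  obtain ⟨e⟩ := Groth.Agent.H98.GrStar.nonempty_H_equiv_locCoh I m j
  have hne : m.toIdeal • (⊤ : Submodule R R) ≠ ⊤ := by
    intro h
    apply hmax.ne_top
    rw [← Ideal.mul_top m.toIdeal]
    exact h
  have hht := height_irr_eq 𝒜 m hm n hn
  have hCMloc := hCM.isCohenMacaulayLocalRing_localization m.toIdeal
  have hdep := hCMloc.supportDim_eq_depth
  rw [Module.supportDim_self_eq_ringKrullDim,
    IsLocalization.AtPrime.ringKrullDim_eq_height m.toIdeal (Localization.AtPrime m.toIdeal),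
    WithBot.coe_inj, hht] at hdep
  have hdepth : (n : ℕ∞) ≤ LocCoh.idealDepth m.toIdeal R := by
    rw [Groth.Agent.H58.X26.idealDepth_eq_iInf_depth_localization]
    refine le_iInf₂ fun p hp => ?_
    have hpe : p.asIdeal = m.toIdeal := (hmax.eq_of_le p.isPrime.ne_top hp).symm
    have : p = ⟨m.toIdeal, hmax.isPrime⟩ := PrimeSpectrum.ext hpe
    subst this
    rw [Groth.Agent.H72.DepthCM.depth_localizedModule_self, ← hdep]
  have hlt : (j : ℕ∞) < LocCoh.idealDepth m.toIdeal R :=
    lt_of_lt_of_le (by exact_mod_cast hj) hdepth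
  have := Groth.Agent.H58.LC.subsingleton_H_of_lt_idealDepth m.toIdeal R hne j hlt
  exact e.toEquiv.subsingleton

end Groth.Agent.H85.GrLCBase
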