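import Mathlib
import Groth.Agent.H98.GrStar.Self

/-!
# From gradings by a general `SetLike` class to gradings by additive subgroups (helper85)

A graded ring `𝒜 : ℤ → σ` (e.g. `σ = Submodule k R`) gives the graded ring
`selfGr 𝒜 : ℤ → AddSubgroup R` with the same pieces; graded modules, `*`injectivity, `*`injective
resolutions of `R`, homogeneous ideals and the pieces of graded local cohomology transfer.
-/

set_option autoImplicit false
universe u

namespace Groth.Agent.H85.GrConv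

open Groth.Agent.H98.GrStar

variable {ι : Type} [AddCommGroup ι] [DecidableEq ι]
variable {R : Type u} [CommRing R] {σ : Type u} [SetLike σ R] [AddSubgroupClass σ R]
  (𝒜 : ι → σ) [GradedRing 𝒜]

instance selfGrGradedMonoid : SetLike.GradedMonoid (selfGr 𝒜) where
  one_mem := SetLike.GradedOne.one_mem (A := 𝒜)
  mul_mem := fun _ _ _ _ ha hb => SetLike.GradedMul.mul_mem (A := 𝒜) ha hb

instance selfGrGradedRing : GradedRing (selfGr 𝒜) where
  toGradedMonoid := selfGrGradedMonoid 𝒜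
  toDecomposition := selfGrDecomposition 𝒜

/-- a graded module over `𝒜` as a graded module over `selfGr 𝒜` -/
def toAG (X : GrLC.GMod.{u} 𝒜) : GrLC.GMod.{u} (selfGr 𝒜) :=
  { carrier := X.carrier
    acg := X.acg
    mod := X.mod
    gr := X.gr
    dec := X.dec
    gsmul := ⟨fun {_ _ _ _} ha hb => SetLike.GradedSMul.smul_mem (A := 𝒜) (B := X.gr) ha hb⟩ }

/-- a graded module over `selfGr 𝒜` as a graded module over `𝒜` -/
def ofAG (X : GrLC.GMod.{u} (selfGr 𝒜)) : GrLC.GMod.{u} 𝒜 :=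
  { carrier := X.carrier
    acg := X.acg
    mod := X.mod
    gr := X.gr
    dec := X.dec
    gsmul := ⟨fun {_ _ _ _} ha hb =>
      SetLike.GradedSMul.smul_mem (A := selfGr 𝒜) (B := X.gr) ha hb⟩ }

theorem isStarInj_toAG (X : GrLC.GMod.{u} 𝒜) (h : GrLC.IsStarInj 𝒜 X.gr) :
    GrLC.IsStarInj (selfGr 𝒜) (toAG 𝒜 X).gr := by
  intro A B f hf hinj g hg
  exact h (ofAG 𝒜 A) (ofAG 𝒜 B) f hf hinj g hg

/-- a `*`injective resolution of `R` over `𝒜` as one over `selfGr 𝒜` -/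
def resAG (E : GrLC.StarInjRes 𝒜 𝒜) : GrLC.StarInjRes (selfGr 𝒜) (selfGr 𝒜) where
  X n := toAG 𝒜 (E.X n)
  d n := E.d n
  ε := E.ε
  d_grHom := E.d_grHom
  ε_grHom := E.ε_grHom
  ε_injective := E.ε_injective
  exact_zero := E.exact_zero
  exact_succ := E.exact_succ
  starInj n := isStarInj_toAG 𝒜 (E.X n) (E.starInj n)

/-- a homogeneous ideal for `𝒜` as one for `selfGr 𝒜` -/
def homAG (a : HomogeneousIdeal 𝒜) : HomogeneousIdeal (selfGr 𝒜) :=
  ⟨a.toIdeal, fun i _ hx => a.isHomogeneous i hx⟩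

theorem homAG_toIdeal (a : HomogeneousIdeal 𝒜) : (homAG 𝒜 a).toIdeal = a.toIdeal := rfl

theorem Hcomp_eq_bot_iff (E : GrLC.StarInjRes 𝒜 𝒜) (a : HomogeneousIdeal 𝒜) (i : ℕ) (g : ι) :
    E.Hcomp a i g = ⊥ ↔ (resAG 𝒜 E).Hgr (homAG 𝒜 a) i g = ⊥ := by
  constructor
  · intro h
    rw [eq_bot_iff]
    rintro x ⟨z, hz, rfl⟩
    have h1 : E.toH a i z ∈ E.Hcomp a i g := ⟨z, hz, rfl⟩
    rw [h] at h1
    exact (AddSubgroup.mem_bot).mpr ((Submodule.mem_bot _).mp h1)
  · intro h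
    rw [eq_bot_iff]
    rintro x ⟨z, hz, rfl⟩
    have h1 : (resAG 𝒜 E).toH (homAG 𝒜 a) i z ∈ (resAG 𝒜 E).Hgr (homAG 𝒜 a) i g := ⟨z, hz, rfl⟩
    rw [h] at h1
    exact (Submodule.mem_bot _).mpr ((AddSubgroup.mem_bot).mp h1)

end Groth.Agent.H85.GrConv
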