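import Groth.Agent.S13234
import Groth.Agent.S13232
import Groth.Agent.H49.CMLocalize
import Groth.Agent.H15.Depth

/-!
# A `ℤ`-graded Noetherian ring is Cohen–Macaulay as soon as it is so at its `*`-maximal ideal
(helper85)

`R` a Noetherian `ℤ`-graded ring, `m` a prime ideal containing every proper homogeneous ideal
(e.g. the irrelevant ideal when `R_0` is a field and `R` is nonnegatively graded).  If `R_m` is
Cohen–Macaulay then `R` is a Cohen–Macaulay ring.  Uses helper98's `depth M_p = depth M_{p*} + d`,
`dim M_p = dim M_{p*} + d` (S13234, S13232) and helper49's localization of CM local rings.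
-/

set_option autoImplicit false
universe u

namespace Groth.Agent.H85.GrCMLocal

variable {R : Type u} [CommRing R]

theorem cm_atPrime_congr (p₁ p₂ : Ideal R) [p₁.IsPrime] [h2 : p₂.IsPrime] (h : p₁ = p₂)
    (hcm : LocCoh.IsCohenMacaulayLocalRing (Localization.AtPrime p₁)) :
    LocCoh.IsCohenMacaulayLocalRing (Localization.AtPrime p₂) := by
  subst h
  exact hcm

/-- the localization at a prime below `m` is Cohen–Macaulay if `R_m` is -/
theorem isCohenMacaulayLocalRing_of_le {m q : Ideal R} [hm : m.IsPrime] [hq : q.IsPrime]
    (hqm : q ≤ m) (h : LocCoh.IsCohenMacaulayLocalRing (Localization.AtPrime m)) :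
    LocCoh.IsCohenMacaulayLocalRing (Localization.AtPrime q) := by
  have hdisj : Disjoint (m.primeCompl : Set R) (q : Set R) := by
    rw [Set.disjoint_left]
    intro a ha haq
    exact ha (hqm haq)
  set q' : Ideal (Localization.AtPrime m) := q.map (algebraMap R (Localization.AtPrime m))
    with hq'
  haveI hq'prime : q'.IsPrime :=
    IsLocalization.isPrime_of_isPrime_disjoint m.primeCompl (Localization.AtPrime m) q hq hdisj
  have hcomap : q'.comap (algebraMap R (Localization.AtPrime m)) = q :=
    IsLocalization.comap_map_of_isPrime_disjoint m.primeCompl (Localization.AtPrime m) hq hdisj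
  have h1 : LocCoh.IsCohenMacaulayLocalRing (Localization.AtPrime q') :=
    Groth.Agent.H49.isCohenMacaulayLocalRing_localization _ h q'
  let e := IsLocalization.localizationLocalizationAtPrimeIsoLocalization m.primeCompl q'
  have h2 : LocCoh.IsCohenMacaulayLocalRing
      (Localization.AtPrime (q'.comap (algebraMap R (Localization.AtPrime m)))) :=
    Groth.Agent.H49.isCohenMacaulayLocalRing_of_ringEquiv e.symm.toRingEquiv h1
  exact cm_atPrime_congr _ q hcomap h2

/-- `R_p` as a localized module is `R_p` -/
noncomputable def locSelf (p : Ideal R) [p.IsPrime] :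
    LocalizedModule p.primeCompl R ≃ₗ[Localization.AtPrime p] Localization.AtPrime p :=
  (IsLocalizedModule.iso p.primeCompl
    (Algebra.linearMap R (Localization.AtPrime p))).extendScalarsOfIsLocalization
    p.primeCompl (Localization.AtPrime p)

theorem depth_locSelf (p : Ideal R) [p.IsPrime] :
    LocCoh.depth (Localization.AtPrime p) (LocalizedModule p.primeCompl R) =
      LocCoh.depth (Localization.AtPrime p) (Localization.AtPrime p) := by
  unfold LocCoh.depth
  exact Groth.Agent.H15.idealDepth_congr (locSelf p) _

theorem supportDim_locSelf (p : Ideal R) [p.IsPrime] :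
    Module.supportDim (Localization.AtPrime p) (LocalizedModule p.primeCompl R) =
      Module.supportDim (Localization.AtPrime p) (Localization.AtPrime p) :=
  Module.supportDim_eq_of_equiv (locSelf p)

variable [hN : IsNoetherianRing R] (𝒜 : ℤ → AddSubgroup R) [GradedRing 𝒜]

/-- **graded local-to-global principle for the Cohen–Macaulay property** -/
theorem isCohenMacaulayRing_of_localization (m : Ideal R) [m.IsPrime]
    (hm : ∀ I : Ideal R, I.IsHomogeneous 𝒜 → I ≠ ⊤ → I ≤ m)
    (h : LocCoh.IsCohenMacaulayLocalRing (Localization.AtPrime m)) :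
    LocCoh.IsCohenMacaulayRing R := by
  classical
  refine @LocCoh.IsCohenMacaulayRing.mk _ _ hN ?_
  intro p hp
  set q : Ideal R := (Ideal.homogeneousCore 𝒜 p).toIdeal with hq
  haveI hqprime : q.IsPrime := Ideal.IsPrime.homogeneousCore hp
  have hqm : q ≤ m := hm q (Ideal.homogeneousCore 𝒜 p).isHomogeneous hqprime.ne_top
  have hqcm : LocCoh.IsCohenMacaulayLocalRing (Localization.AtPrime q) :=
    isCohenMacaulayLocalRing_of_le hqm h
  have hqp : q ≤ p := Ideal.toIdeal_homogeneousCore_le 𝒜 p
  haveI : (p.map (Ideal.Quotient.mk q)).IsPrime := by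
    apply Ideal.map_isPrime_of_surjective Ideal.Quotient.mk_surjective
    rw [Ideal.mk_ker]
    exact hqp
  obtain ⟨d, hd⟩ : ∃ d : ℕ, (p.map (Ideal.Quotient.mk q)).height = d :=
    (ENat.ne_top_iff_exists.mp Ideal.height_ne_top_of_isPrime).imp fun _ h => h.symm
  have hdepth := Groth.Agent.S13234.result R 𝒜 R 𝒜 p d hd
  haveI : Nontrivial (LocalizedModule p.primeCompl R) :=
    (locSelf p).toEquiv.nontrivial
  have hdim := Groth.Agent.S13232.result R 𝒜 R 𝒜 p d hd inferInstance
  rw [depth_locSelf, depth_locSelf] at hdepth
  rw [supportDim_locSelf, supportDim_locSelf] at hdim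
  haveI : IsNoetherianRing (Localization.AtPrime p) :=
    IsLocalization.isNoetherianRing p.primeCompl _ hN
  refine { supportDim_eq_depth := ?_ }
  rw [hdim, hdepth, hqcm.supportDim_eq_depth]
  push_cast
  rfl

end Groth.Agent.H85.GrCMLocal
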