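import Groth.Agent.H85.SegreOneCMB
import Groth.Agent.H85.GrConv
import Groth.Agent.H85.GrCMLocal
import Groth.Agent.H72.FlatCM

/-!
# Segre products with a one-dimensional factor: Cohen–Macaulayness from a regular sequence
(helper85)

* a graded `k`-algebra `T` (`T_0 = k`) of dimension `s` with a regular sequence of length `s` in
  `T_+` is a Cohen–Macaulay ring;
* a graded Cohen–Macaulay `k`-algebra `S` of dimension `s` has a homogeneous regular sequence of
  length `s` whose degrees are positive multiples of a given `D > 0`.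
-/

set_option autoImplicit false
universe u

namespace Groth.Agent.H85.SegreOneCM

open scoped TensorProduct
open DirectSum Groth.Agent.H85.GradedNN Groth.Agent.H85.GradedCM Groth.Agent.H85.StdGraded
  Groth.Agent.H85.DepthSocle Groth.Agent.H85.SegreRingFacts Groth.Agent.H85.SegreDimOne
  Groth.Agent.H85.SegreGorOne Groth.Agent.H85.GrLCRegSeq Groth.Agent.H85.GrLCRS
  Groth.Agent.H98.GrStar Groth.Agent.H85.GrConv

section CM

variable {k : Type u} [Field k] {T : Type u} [CommRing T] [Algebra k T]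
  (𝒯 : ℤ → Submodule k T) [GradedAlgebra 𝒯]
  (hposT : ∀ n : ℤ, n < 0 → 𝒯 n = ⊥) (h0T : 𝒯 0 = Submodule.span k {(1 : T)})

include hposT h0T in
/-- a graded `k`-algebra which is Cohen–Macaulay at its irrelevant ideal is Cohen–Macaulay -/
theorem isCohenMacaulayRing_of_irr [Nontrivial T] [IsNoetherianRing T]
    (hmax : (irr 𝒯).IsMaximal)
    (h : haveI := hmax.isPrime; LocCoh.IsCohenMacaulayLocalRing (Localization.AtPrime (irr 𝒯))) :
    LocCoh.IsCohenMacaulayRing T := by
  haveI := hmax.isPrime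
  refine Groth.Agent.H85.GrCMLocal.isCohenMacaulayRing_of_localization (selfGr 𝒯) (irr 𝒯) ?_ h
  intro J hJ hne
  exact le_irr 𝒯 hposT h0T J (fun i _ hx => hJ i hx) hne

include hposT h0T in
/-- a graded `k`-algebra of dimension `s` with a regular sequence of length `s` in the irrelevant
ideal is Cohen–Macaulay -/
theorem isCohenMacaulayRing_of_regular [Nontrivial T] [IsNoetherianRing T] (s : ℕ)
    (hdim : ringKrullDim T = s) (f : ℕ → T) (hf : ∀ i, i < s → f i ∈ irr 𝒯)
    (hreg : ∀ i, i < s → ∀ t : T, f i * t ∈ Jid f i → t ∈ Jid f i) :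
    LocCoh.IsCohenMacaulayRing T := by
  classical
  have hmax : (irr 𝒯).IsMaximal := irr_isMaximal 𝒯 hposT h0T
  haveI hprime : (irr 𝒯).IsPrime := hmax.isPrime
  apply isCohenMacaulayRing_of_irr 𝒯 hposT h0T hmax
  set A := Localization.AtPrime (irr 𝒯) with hA
  haveI : IsNoetherianRing A := IsLocalization.isNoetherianRing (irr 𝒯).primeCompl A inferInstance
  have hwr := Groth.Agent.H85.JidReg.isWeaklyRegular_of_Jid f s hreg
  have hwr' := hwr.of_flat (S := A)
  have hmem : ∀ r ∈ (List.ofFn (fun l : Fin s => f l)).map (algebraMap T A),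
      r ∈ IsLocalRing.maximalIdeal A := by
    intro r hr
    rw [List.mem_map] at hr
    obtain ⟨t, ht, rfl⟩ := hr
    rw [List.mem_ofFn] at ht
    obtain ⟨l, rfl⟩ := ht
    rw [← Localization.AtPrime.map_eq_maximalIdeal]
    exact Ideal.mem_map_of_mem _ (hf l l.2)
  have hdepth := Groth.Agent.H15.le_idealDepth (IsLocalRing.maximalIdeal A) A hwr' hmem
  rw [List.length_map, List.length_ofFn] at hdepth
  have hle := Groth.Agent.H72.FlatCM.depth_le_ringKrullDim A
  have hdimA : ringKrullDim A ≤ s := by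
    rw [IsLocalization.AtPrime.ringKrullDim_eq_height (irr 𝒯) A, ← hdim]
    exact Ideal.height_le_ringKrullDim_of_ne_top hprime.ne_top
  rw [Groth.Agent.H72.FlatCM.isCohenMacaulayLocalRing_iff]
  apply le_antisymm
  · refine hdimA.trans ?_
    have : ((s : ℕ∞) : WithBot ℕ∞) ≤ ((LocCoh.depth A A : ℕ∞) : WithBot ℕ∞) :=
      WithBot.coe_le_coe.mpr hdepth
    exact this
  · exact hle

end CM

section SSide

variable {k : Type u} [Field k] {S : Type u} [CommRing S] [Algebra k S]
  (ℬ : ℤ → Submodule k S) [GradedAlgebra ℬ]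
  (hposS : ∀ n : ℤ, n < 0 → ℬ n = ⊥) (h0S : ℬ 0 = Submodule.span k {(1 : S)})

include hposS in
theorem selfGr_neg : ∀ n : ℤ, n < 0 → selfGr ℬ n = ⊥ := by
  intro n hn
  rw [eq_bot_iff]
  intro z hz
  have hz' : z ∈ ℬ n := hz
  rw [hposS n hn] at hz'
  exact (AddSubgroup.mem_bot).mpr ((Submodule.mem_bot k).mp hz')

include h0S in
theorem isField_deg0_selfGr [Nontrivial S] : IsField (GrLC.deg0 (selfGr ℬ)) where
  exists_pair_ne := ⟨0, 1, fun h => zero_ne_one (α := S) (congrArg Subtype.val h)⟩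
  mul_comm := mul_comm
  mul_inv_cancel := by
    rintro ⟨a, ha⟩ hne
    have ha' : a ∈ ℬ 0 := ha
    obtain ⟨c, rfl⟩ := exists_smul_one_of_mem_zero ℬ h0S ha'
    have hc : c ≠ 0 := by
      rintro rfl
      apply hne
      apply Subtype.ext
      simp
    have hmem : c⁻¹ • (1 : S) ∈ ℬ 0 := Submodule.smul_mem _ _ SetLike.GradedOne.one_mem
    refine ⟨⟨c⁻¹ • (1 : S), hmem⟩, Subtype.ext ?_⟩
    change c • (1 : S) * c⁻¹ • (1 : S) = 1
    rw [smul_mul_smul_comm, mul_one, mul_inv_cancel₀ hc, one_smul]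

include hposS h0S in
/-- a homogeneous regular sequence of maximal length with degrees multiples of `D` -/
theorem exists_regular_seq [Nontrivial S] [hCM : LocCoh.IsCohenMacaulayRing S] (s : ℕ)
    (hs : ringKrullDim S = s) {D : ℤ} (hD : 0 < D) :
    ∃ (g : ℕ → S) (c : ℕ → ℕ), (∀ i, i < s → g i ∈ ℬ ((c i : ℤ) * D)) ∧ (∀ i, i < s → 1 ≤ c i) ∧
      ∀ i, i < s → ∀ r : S, g i * r ∈ Jid g i → r ∈ Jid g i := by
  classical
  have hpos' := selfGr_neg ℬ hposS
  have h0' := isField_deg0_selfGr ℬ h0S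
  have hm' := Groth.Agent.H85.GrLCBridge.isStarLocal_irrH (selfGr ℬ) hpos' h0'
  obtain ⟨g, dg, -, hdeg, hdD, hreg, -⟩ :=
    exists_regular_sop (selfGr ℬ) hpos' h0' (Groth.Agent.H85.GrLCBridge.irrH (selfGr ℬ)) hm' rfl s hs
      {d : ℤ | 0 < d ∧ D ∣ d} (fun d hd => hd.1) (by
        intro fs hprime hirr
        obtain ⟨n, z, hn, hz, hzp⟩ :=
          Groth.Agent.H85.GrLCBridge.avoid (selfGr ℬ) h0' fs hprime hirr
        refine ⟨D.toNat • n, ⟨?_, ?_⟩, z ^ D.toNat, SetLike.pow_mem_graded _ hz, ?_⟩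
        · rw [nsmul_eq_mul, Int.toNat_of_nonneg hD.le]
          positivity
        · rw [nsmul_eq_mul, Int.toNat_of_nonneg hD.le]
          exact dvd_mul_right D n
        · intro p hp hzmem
          haveI := hprime p hp
          exact hzp p hp (Ideal.IsPrime.mem_of_pow_mem inferInstance _ hzmem))
  refine ⟨g, fun i => (dg i / D).toNat, ?_, ?_, hreg⟩
  · intro i hi
    obtain ⟨hpos, q, hq⟩ := hdD i hi
    have hq0 : 0 < q := by
      by_contra hle
      push Not at hle
      have : D * q ≤ 0 := mul_nonpos_of_nonneg_of_nonpos hD.le hle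
      omega
    have h1 : dg i / D = q := by
      rw [hq]
      exact Int.mul_ediv_cancel_left q hD.ne'
    show g i ∈ ℬ ((((dg i / D).toNat : ℕ) : ℤ) * D)
    rw [h1, Int.toNat_of_nonneg hq0.le, mul_comm, ← hq]
    exact hdeg i hi
  · intro i hi
    obtain ⟨hpos, q, hq⟩ := hdD i hi
    have hq0 : 0 < q := by
      by_contra hle
      push Not at hle
      have : D * q ≤ 0 := mul_nonpos_of_nonneg_of_nonpos hD.le hle
      omega
    have h1 : dg i / D = q := by
      rw [hq]
      exact Int.mul_ediv_cancel_left q hD.ne'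
    show 1 ≤ (dg i / D).toNat
    rw [h1]
    omega

end SSide

end Groth.Agent.H85.SegreOneCM
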