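import Mathlib
import Groth.Agent.H98.GrStar.GrLES3
import Groth.Agent.H98.GrStar.HighVanish
import Groth.Agent.H98.GrStar.EndDeg

/-!
# a-invariants and regular homogeneous elements (helper85)

Step lemmas for graded local cohomology: if `x` is a homogeneous `M`-regular element of degree
`d > 0` and `*H^j_a(M) = 0` for `j ≤ n`, then `*H^j_a(M/xM) = 0` for `j < n` and
`end *H^n_a(M/xM) = end *H^{n+1}_a(M) + d`.  Also transfer along homogeneous isomorphisms.
-/

set_option autoImplicit false
set_option linter.unusedSectionVars false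
set_option linter.unusedVariables false

universe u

namespace Groth.Agent.H85.GrLCStep

open DirectSum Groth.Agent.H98.GrStar

variable {R : Type u} [CommRing R] [IsNoetherianRing R]
  {𝒜 : ℤ → AddSubgroup R} [GradedRing 𝒜]
variable {M : Type u} [AddCommGroup M] [Module R M] {ℳ : ℤ → AddSubgroup M}
  [DirectSum.Decomposition ℳ] [SetLike.GradedSMul 𝒜 ℳ]
variable {N : Type u} [AddCommGroup N] [Module R N] {𝒩 : ℤ → AddSubgroup N}
  [DirectSum.Decomposition 𝒩] [SetLike.GradedSMul 𝒜 𝒩]

section Transfer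

variable (a : HomogeneousIdeal 𝒜) (π : M →ₗ[R] N) (hπg : GrLC.IsGrHom ℳ 𝒩 π)
  (hbij : Function.Bijective π) (E : GrLC.StarInjRes 𝒜 ℳ) (F : GrLC.StarInjRes 𝒜 𝒩)

include hπg hbij in
/-- the inverse of a bijective homogeneous map is homogeneous -/
theorem symm_isGrHom :
    GrLC.IsGrHom 𝒩 ℳ (LinearEquiv.ofBijective π hbij).symm.toLinearMap := by
  intro g y hy
  apply GrSES.mem_of_map_mem ℳ 𝒩 π hπg hbij.1
  have : π ((LinearEquiv.ofBijective π hbij).symm y) = y :=
    (LinearEquiv.ofBijective π hbij).apply_symm_apply y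
  change π ((LinearEquiv.ofBijective π hbij).symm y) ∈ 𝒩 g
  rw [this]
  exact hy

include hbij in
theorem Hmap_symm_Hmap (i : ℕ) (x : E.H a i) :
    Hmap a (LinearEquiv.ofBijective π hbij).symm.toLinearMap F E i (Hmap a π E F i x) = x := by
  rw [← Hmap_comp]
  have : (LinearEquiv.ofBijective π hbij).symm.toLinearMap ∘ₗ π = LinearMap.id := by
    ext m
    exact (LinearEquiv.ofBijective π hbij).symm_apply_apply m
  rw [this, Hmap_id]

include hbij in
theorem Hmap_Hmap_symm (i : ℕ) (y : F.H a i) :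
    Hmap a π E F i (Hmap a (LinearEquiv.ofBijective π hbij).symm.toLinearMap F E i y) = y := by
  rw [← Hmap_comp]
  have : π ∘ₗ (LinearEquiv.ofBijective π hbij).symm.toLinearMap = LinearMap.id := by
    ext m
    exact (LinearEquiv.ofBijective π hbij).apply_symm_apply m
  rw [this, Hmap_id]

include hbij in
/-- vanishing transfers along a bijective linear map -/
theorem subsingleton_of_bijective (i : ℕ) (h : Subsingleton (E.H a i)) :
    Subsingleton (F.H a i) := by
  refine ⟨fun y y' => ?_⟩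
  rw [← Hmap_Hmap_symm a π hbij E F i y, ← Hmap_Hmap_symm a π hbij E F i y']
  congr 1
  exact Subsingleton.elim _ _

include hπg hbij in
/-- the pieces correspond along a bijective homogeneous map -/
theorem Hgr_ne_bot_iff (i : ℕ) (k : ℤ) : F.Hgr a i k ≠ ⊥ ↔ E.Hgr a i k ≠ ⊥ := by
  have hsymm := symm_isGrHom π hπg hbij
  constructor
  · intro h hE
    apply h
    rw [eq_bot_iff]
    intro y hy
    have h1 := Hmap_isGrHom a _ hsymm F E i k y hy
    rw [hE, AddSubgroup.mem_bot] at h1
    rw [AddSubgroup.mem_bot, ← Hmap_Hmap_symm a π hbij E F i y, h1, map_zero]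
  · intro h hF
    apply h
    rw [eq_bot_iff]
    intro x hx
    have h1 := Hmap_isGrHom a π hπg E F i k x hx
    rw [hF, AddSubgroup.mem_bot] at h1
    rw [AddSubgroup.mem_bot, ← Hmap_symm_Hmap a π hbij E F i x, h1, map_zero]

include hπg hbij in
/-- the ends agree along a bijective homogeneous map -/
theorem endDeg_eq_of_bijective (i : ℕ) :
    GrLC.endDeg (F.Hgr a i) = GrLC.endDeg (E.Hgr a i) := by
  unfold GrLC.endDeg
  refine iSup_congr fun k => ?_
  exact iSup_congr_Prop (Hgr_ne_bot_iff a π hπg hbij E F i k) (fun _ => rfl)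

end Transfer

section Step

variable (a : HomogeneousIdeal 𝒜) (x : R) {d : ℤ} (hx : x ∈ 𝒜 d) (hreg : IsSMulRegular M x)
  (π : M →ₗ[R] N) (hπ : Function.Surjective π) (hπg : GrLC.IsGrHom ℳ 𝒩 π)
  (hker : LinearMap.ker π = LinearMap.range (x • (LinearMap.id : M →ₗ[R] M)))
  (E : GrLC.StarInjRes 𝒜 ℳ) (F : GrLC.StarInjRes 𝒜 𝒩)

include hx hreg hπ hπg hker in
/-- vanishing of `*H^j(M)` and `*H^{j+1}(M)` gives vanishing of `*H^j(M/xM)` -/
theorem step_vanish (j : ℕ) (h1 : Subsingleton (E.H a j)) (h2 : Subsingleton (E.H a (j + 1))) :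
    Subsingleton (F.H a j) := by
  let T := mulSES (𝒩 := 𝒩) x hx hreg π hπ hπg hker
  refine ⟨fun z z' => ?_⟩
  have key : ∀ w : F.H a j, w = 0 := by
    intro w
    have hδ : T.Hδ a (shiftDeg E d) F j w = 0 := by
      have : Subsingleton ((shiftDeg E d).H a (j + 1)) := h2
      exact Subsingleton.elim _ _
    obtain ⟨y, hy⟩ := T.exact_right a (shiftDeg E d) E F j w hδ
    rw [← hy, Subsingleton.elim y 0, map_zero]
  rw [key z, key z']

include hx hreg hπ hπg hker in
/-- the pieces of `*H^n(M/xM)` are the kernels of multiplication by `x` on `*H^{n+1}(M)` -/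
theorem step_piece (n : ℕ) (h1 : Subsingleton (E.H a n)) (k : ℤ) :
    F.Hgr a n k ≠ ⊥ ↔ ∃ z ∈ E.Hgr a (n + 1) (k - d), z ≠ 0 ∧ x • z = 0 := by
  let T := mulSES (𝒩 := 𝒩) x hx hreg π hπ hπg hker
  constructor
  · intro hne
    obtain ⟨w, hw, hw0⟩ : ∃ w ∈ F.Hgr a n k, w ≠ 0 := by
      by_contra hcon
      push Not at hcon
      apply hne
      rw [eq_bot_iff]
      intro w hw
      exact (AddSubgroup.mem_bot).mpr (hcon w hw)
    have hδmem := T.Hδ_isGrHom a (shiftDeg E d) F n k w hw
    refine ⟨(show E.H a (n + 1) from T.Hδ a (shiftDeg E d) F n w), hδmem, ?_, ?_⟩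
    · intro h0
      apply hw0
      obtain ⟨y, hy⟩ := T.exact_right a (shiftDeg E d) E F n w h0
      rw [← hy, Subsingleton.elim y 0, map_zero]
    · have h3 := T.Hmap_u_Hδ a (shiftDeg E d) E F n w
      rw [Hmap_shiftDeg_smul a E x d T.u (fun _ => rfl)] at h3
      exact h3
  · rintro ⟨z, hz, hz0, hxz⟩ hbot
    have h3 : Hmap a T.u (shiftDeg E d) E (n + 1) (show (shiftDeg E d).H a (n + 1) from z) = 0 := by
      rw [Hmap_shiftDeg_smul a E x d T.u (fun _ => rfl)]
      exact hxz
    obtain ⟨y, hy, hyz⟩ := T.exact_left_deg a (shiftDeg E d) E F n k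
      (show (shiftDeg E d).H a (n + 1) from z) hz h3
    rw [hbot, AddSubgroup.mem_bot] at hy
    apply hz0
    rw [hy, map_zero] at hyz
    exact hyz.symm

include hx hreg hπ hπg hker in
/-- **the a-invariant step**: `end *H^n(M/xM) = end *H^{n+1}(M) + d` when `d > 0`,
`*H^n(M) = 0` and `*H^{n+1}(M)` vanishes in high degrees. -/
theorem step_endDeg (hd : 0 < d) (n : ℕ) (h1 : Subsingleton (E.H a n))
    (hbdd : ∃ B : ℤ, ∀ k : ℤ, B ≤ k → ∀ z ∈ E.Hgr a (n + 1) k, z = 0) :
    GrLC.endDeg (F.Hgr a n) =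
      GrLC.endDeg (E.Hgr a (n + 1)) + (((d : ℤ) : WithTop ℤ) : WithBot (WithTop ℤ)) := by
  classical
  have hpiece := step_piece a x hx hreg π hπ hπg hker E F n h1
  obtain ⟨B, hB⟩ := hbdd
  by_cases hS : ∃ k : ℤ, E.Hgr a (n + 1) k ≠ ⊥
  · -- the largest nonzero degree
    have hbound : ∀ k : ℤ, E.Hgr a (n + 1) k ≠ ⊥ → k ≤ B := by
      intro k hk
      by_contra hcon
      push Not at hcon
      apply hk
      rw [eq_bot_iff]
      intro z hz
      exact (AddSubgroup.mem_bot).mpr (hB k hcon.le z hz)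
    obtain ⟨a₀, ha₀, hmax⟩ := Int.exists_greatest_of_bdd ⟨B, hbound⟩ hS
    have hEend : GrLC.endDeg (E.Hgr a (n + 1)) = ((a₀ : WithTop ℤ) : WithBot (WithTop ℤ)) := by
      apply le_antisymm
      · apply endDeg_le_of_forall
        intro k hk
        by_contra hne
        have := hmax k hne
        omega
      · exact le_endDeg _ a₀ ha₀
    have hzero_above : ∀ k : ℤ, a₀ < k → E.Hgr a (n + 1) k = ⊥ := by
      intro k hk
      by_contra hne
      have := hmax k hne
      omega
    have hFend : GrLC.endDeg (F.Hgr a n) = (((a₀ + d : ℤ) : WithTop ℤ) : WithBot (WithTop ℤ)) := by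
      apply le_antisymm
      · apply endDeg_le_of_forall
        intro k hk
        by_contra hne
        obtain ⟨z, hz, hz0, _⟩ := (hpiece k).mp hne
        rw [hzero_above (k - d) (by omega), AddSubgroup.mem_bot] at hz
        exact hz0 hz
      · apply le_endDeg
        rw [hpiece]
        obtain ⟨z, hz, hz0⟩ : ∃ z ∈ E.Hgr a (n + 1) a₀, z ≠ 0 := by
          by_contra hcon
          push Not at hcon
          apply ha₀
          rw [eq_bot_iff]
          intro w hw
          exact (AddSubgroup.mem_bot).mpr (hcon w hw)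
        refine ⟨z, ?_, hz0, ?_⟩
        · have : a₀ + d - d = a₀ := by ring
          rw [this]
          exact hz
        · have h3 := smul_mem_Hgr E a hx (n + 1) z hz
          rw [hzero_above (d + a₀) (by omega), AddSubgroup.mem_bot] at h3
          exact h3
    rw [hEend, hFend]
    push_cast
    rfl
  · push Not at hS
    have hE : GrLC.endDeg (E.Hgr a (n + 1)) = ⊥ := by
      unfold GrLC.endDeg
      rw [iSup_eq_bot]
      intro k
      rw [iSup_eq_bot]
      intro hk
      exact absurd (hS k) hk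
    have hF : GrLC.endDeg (F.Hgr a n) = ⊥ := by
      unfold GrLC.endDeg
      rw [iSup_eq_bot]
      intro k
      rw [iSup_eq_bot]
      intro hk
      exfalso
      obtain ⟨z, hz, hz0, _⟩ := (hpiece k).mp hk
      rw [hS (k - d), AddSubgroup.mem_bot] at hz
      exact hz0 hz
    rw [hE, hF, WithBot.bot_add]

end Step

end Groth.Agent.H85.GrLCStep
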