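import Mathlib
import Groth.Agent.H85.GrLCBase
import Groth.Agent.H85.GrLCStep
import Groth.Agent.H98.GrStar.Self
import Groth.Agent.H98.GrStar.Res

/-!
# The a-invariant of the quotient of a graded Cohen–Macaulay ring by a homogeneous regular sequence
(helper85)
-/

set_option autoImplicit false
set_option linter.unusedSectionVars false
set_option linter.unusedVariables false

universe u

namespace Groth.Agent.H85.GrLCRegSeq

open DirectSum Groth.Agent.H98.GrStar Groth.Agent.H85.GrLCStep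

variable {R : Type u} [CommRing R] (𝒜 : ℤ → AddSubgroup R) [GradedRing 𝒜]

/-- the ideals `(g 0, …, g (i-1))` -/
def Jid (g : ℕ → R) : ℕ → Ideal R
  | 0 => ⊥
  | i + 1 => Jid g i ⊔ Ideal.span {g i}

theorem Jid_zero (g : ℕ → R) : Jid g 0 = ⊥ := rfl

theorem Jid_succ (g : ℕ → R) (i : ℕ) : Jid g (i + 1) = Jid g i ⊔ Ideal.span {g i} := rfl

theorem Jid_mono_succ (g : ℕ → R) (i : ℕ) : Jid g i ≤ Jid g (i + 1) := le_sup_left

theorem mem_Jid_succ (g : ℕ → R) (i : ℕ) (r : R) :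
    r ∈ Jid g (i + 1) ↔ ∃ c : R, r - g i * c ∈ Jid g i := by
  rw [Jid_succ, Submodule.mem_sup]
  constructor
  · rintro ⟨y, hy, z, hz, rfl⟩
    obtain ⟨c, rfl⟩ := Ideal.mem_span_singleton'.mp hz
    refine ⟨c, ?_⟩
    have : y + c * g i - g i * c = y := by ring
    rw [this]
    exact hy
  · rintro ⟨c, hc⟩
    refine ⟨r - g i * c, hc, g i * c, ?_, by ring⟩
    exact Ideal.mem_span_singleton'.mpr ⟨c, mul_comm _ _⟩

theorem Jid_isHomogeneous (g : ℕ → R) (hg : ∀ i, SetLike.IsHomogeneousElem 𝒜 (g i)) (i : ℕ) :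
    (Jid g i).IsHomogeneous 𝒜 := by
  induction i with
  | zero => exact Ideal.IsHomogeneous.bot 𝒜
  | succ i ih =>
    rw [Jid_succ]
    refine ih.sup (Ideal.homogeneous_span 𝒜 _ ?_)
    intro x hx
    rw [Set.mem_singleton_iff] at hx
    rw [hx]
    exact hg i

/-- comparison with the ideals of initial segments of the list -/
theorem ofList_take_eq_Jid {t : ℕ} (f : Fin t → R) (g : ℕ → R)
    (hg : ∀ (i : ℕ) (h : i < t), g i = f ⟨i, h⟩) (i : ℕ) (hi : i ≤ t) :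
    Ideal.ofList ((List.ofFn f).take i) = Jid g i := by
  induction i with
  | zero => simp [Jid_zero]
  | succ i ih =>
    have hit : i < t := hi
    have hlen : i < (List.ofFn f).length := by simpa using hit
    rw [List.take_succ_eq_append_getElem hlen, Ideal.ofList_append, Ideal.ofList_singleton,
      ih (le_of_lt hit), Jid_succ, List.getElem_ofFn, hg i hit]

variable [IsNoetherianRing R]

section Chain

variable (g : ℕ → R) (hg : ∀ i, SetLike.IsHomogeneousElem 𝒜 (g i))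

/-- the homogeneous ideals `(g 0, …, g (i-1))` -/
def J (i : ℕ) : HomogeneousIdeal 𝒜 := ⟨Jid g i, Jid_isHomogeneous 𝒜 g hg i⟩

theorem J_toIdeal (i : ℕ) : (J 𝒜 g hg i).toIdeal = Jid g i := rfl

/-- the graded modules `R ⧸ (g 0, …, g (i-1))` -/
noncomputable def X (i : ℕ) : GrLC.GMod.{u} 𝒜 := quotIdealGMod 𝒜 (J 𝒜 g hg i)

/-- the transition map `R ⧸ J i → R ⧸ J (i+1)` -/
noncomputable def trans (i : ℕ) : (X 𝒜 g hg i).carrier →ₗ[R] (X 𝒜 g hg (i + 1)).carrier :=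
  Submodule.mapQ (J 𝒜 g hg i).toIdeal (J 𝒜 g hg (i + 1)).toIdeal LinearMap.id
    (fun x hx => Jid_mono_succ g i hx)

theorem trans_mk (i : ℕ) (r : R) :
    trans 𝒜 g hg i (Ideal.Quotient.mk (J 𝒜 g hg i).toIdeal r) =
      Ideal.Quotient.mk (J 𝒜 g hg (i + 1)).toIdeal r := rfl

theorem trans_surjective (i : ℕ) : Function.Surjective (trans 𝒜 g hg i) := by
  intro y
  obtain ⟨r, rfl⟩ := Ideal.Quotient.mk_surjective y
  exact ⟨Ideal.Quotient.mk _ r, rfl⟩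

theorem trans_isGrHom (i : ℕ) :
    GrLC.IsGrHom (X 𝒜 g hg i).gr (X 𝒜 g hg (i + 1)).gr (trans 𝒜 g hg i) := by
  intro k y hy
  obtain ⟨s, hs, rfl⟩ := hy
  exact ⟨s, hs, rfl⟩

theorem trans_ker (i : ℕ) :
    LinearMap.ker (trans 𝒜 g hg i) =
      LinearMap.range (g i • (LinearMap.id : (X 𝒜 g hg i).carrier →ₗ[R] (X 𝒜 g hg i).carrier)) := by
  ext y
  obtain ⟨r, rfl⟩ := Ideal.Quotient.mk_surjective y
  rw [LinearMap.mem_ker]
  constructor
  · intro h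
    have h1 : Ideal.Quotient.mk (J 𝒜 g hg (i + 1)).toIdeal r = 0 := h
    rw [Ideal.Quotient.eq_zero_iff_mem, J_toIdeal, mem_Jid_succ] at h1
    obtain ⟨c, hc⟩ := h1
    refine ⟨Ideal.Quotient.mk _ c, ?_⟩
    change g i • (Ideal.Quotient.mk (J 𝒜 g hg i).toIdeal c) = Ideal.Quotient.mk _ r
    rw [Algebra.smul_def, Ideal.Quotient.algebraMap_eq, ← map_mul, eq_comm,
      Ideal.Quotient.eq]
    exact hc
  · rintro ⟨z, hz⟩
    obtain ⟨c, rfl⟩ := Ideal.Quotient.mk_surjective z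
    have hz' : g i • (Ideal.Quotient.mk (J 𝒜 g hg i).toIdeal c) = Ideal.Quotient.mk _ r := hz
    rw [Algebra.smul_def, Ideal.Quotient.algebraMap_eq, ← map_mul, eq_comm,
      Ideal.Quotient.eq] at hz'
    change Ideal.Quotient.mk (J 𝒜 g hg (i + 1)).toIdeal r = 0
    rw [Ideal.Quotient.eq_zero_iff_mem, J_toIdeal, mem_Jid_succ]
    exact ⟨c, hz'⟩

theorem isSMulRegular_X (i : ℕ) (hreg : ∀ r : R, g i * r ∈ Jid g i → r ∈ Jid g i) :
    IsSMulRegular (X 𝒜 g hg i).carrier (g i) := by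
  change IsSMulRegular (R ⧸ (J 𝒜 g hg i).toIdeal) (g i)
  rw [isSMulRegular_quotient_iff_mem_of_smul_mem]
  intro r hr
  exact hreg r hr

instance finite_X (i : ℕ) : Module.Finite R (X 𝒜 g hg i).carrier :=
  (inferInstance : Module.Finite R (R ⧸ (J 𝒜 g hg i).toIdeal))

end Chain

section Main

variable (hpos : ∀ n : ℤ, n < 0 → 𝒜 n = ⊥)
  (m : HomogeneousIdeal 𝒜)
  (hmsp : m.toIdeal = Ideal.span (⋃ n ∈ Set.Ioi (0 : ℤ), (𝒜 n : Set R)))
  (g : ℕ → R) (hg : ∀ i, SetLike.IsHomogeneousElem 𝒜 (g i)) (dg : ℕ → ℤ)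

include hpos hmsp in
/-- the inductive statement along the chain of quotients -/
theorem chain (n : ℕ) (I : GrLC.StarInjRes 𝒜 𝒜) (hI : ∀ j, j < n → Subsingleton (I.H m j))
    (t : ℕ) (htn : t ≤ n)
    (hdeg : ∀ i, i < t → g i ∈ 𝒜 (dg i)) (hdpos : ∀ i, i < t → 0 < dg i)
    (hreg : ∀ i, i < t → ∀ r : R, g i * r ∈ Jid g i → r ∈ Jid g i) :
    ∀ i, i ≤ t →
      (∀ j, j < n - i → Subsingleton ((res 𝒜 (X 𝒜 g hg i).gr).H m j)) ∧
      GrLC.endDeg ((res 𝒜 (X 𝒜 g hg i).gr).Hgr m (n - i)) =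
        GrLC.endDeg (I.Hgr m n) +
          ((((∑ l ∈ Finset.range i, dg l : ℤ) : ℤ) : WithTop ℤ) : WithBot (WithTop ℤ)) := by
  have hpos' : ∀ n : ℤ, n < 0 → ∀ r ∈ 𝒜 n, r = 0 := by
    intro k hk r hr
    rw [hpos k hk] at hr
    exact (AddSubgroup.mem_bot).mp hr
  have hirr : ∀ n : ℤ, 0 < n → ∀ r ∈ 𝒜 n, r ∈ m.toIdeal :=
    fun k hk r hr => Groth.Agent.H85.GrLCBase.mem_irr_of_pos 𝒜 m hmsp k hk r hr
  intro i
  induction i with
  | zero =>
    intro _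
    -- transfer from `R` to `R ⧸ ⊥`
    let π₀ : R →ₗ[R] (X 𝒜 g hg 0).carrier := quotMap 𝒜 (J 𝒜 g hg 0)
    have hπ₀g : GrLC.IsGrHom 𝒜 (X 𝒜 g hg 0).gr π₀ := fun k s hs => ⟨s, hs, rfl⟩
    have hπ₀bij : Function.Bijective π₀ := by
      constructor
      · rw [← LinearMap.ker_eq_bot]
        change LinearMap.ker (quotMap 𝒜 (J 𝒜 g hg 0)) = ⊥
        rw [quotMap_ker]
        rfl
      · exact quotMap_surjective 𝒜 (J 𝒜 g hg 0)
    refine ⟨fun j hj => ?_, ?_⟩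
    · exact subsingleton_of_bijective m π₀ hπ₀bij I (res 𝒜 (X 𝒜 g hg 0).gr) j (hI j (by omega))
    · rw [Finset.range_zero, Finset.sum_empty, Nat.sub_zero]
      rw [endDeg_eq_of_bijective m π₀ hπ₀g hπ₀bij I (res 𝒜 (X 𝒜 g hg 0).gr) n]
      change _ = _ + ((0 : WithTop ℤ) : WithBot (WithTop ℤ))
      rw [WithBot.coe_zero, add_zero]
  | succ i ih =>
    intro hi
    obtain ⟨ihv, ihe⟩ := ih (by omega)
    have hit : i < t := hi
    obtain ⟨k, hk⟩ : ∃ k, n - i = k + 1 := ⟨n - i - 1, by omega⟩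
    have hk' : n - (i + 1) = k := by omega
    have hregX := isSMulRegular_X 𝒜 g hg i (hreg i hit)
    have hbdd := vanishHigh 𝒜 hpos' m hirr (k + 1) (X 𝒜 g hg i) (res 𝒜 (X 𝒜 g hg i).gr)
    rw [hk']
    refine ⟨fun j hj => ?_, ?_⟩
    · exact step_vanish m (g i) (hdeg i hit) hregX (trans 𝒜 g hg i) (trans_surjective 𝒜 g hg i)
        (trans_isGrHom 𝒜 g hg i) (trans_ker 𝒜 g hg i) (res 𝒜 (X 𝒜 g hg i).gr)
        (res 𝒜 (X 𝒜 g hg (i + 1)).gr) j (ihv j (by omega)) (ihv (j + 1) (by omega))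
    · rw [step_endDeg m (g i) (hdeg i hit) hregX (trans 𝒜 g hg i) (trans_surjective 𝒜 g hg i)
        (trans_isGrHom 𝒜 g hg i) (trans_ker 𝒜 g hg i) (res 𝒜 (X 𝒜 g hg i).gr)
        (res 𝒜 (X 𝒜 g hg (i + 1)).gr) (hdpos i hit) k (ihv k (by omega)) hbdd]
      rw [← hk, ihe, Finset.sum_range_succ, add_assoc]
      congr 1

end Main

end Groth.Agent.H85.GrLCRegSeq
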