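import Mathlib
import Groth.Agent.H85.GrLCRegSeq
import Groth.Agent.H98.GrStar.HighVanish
import Groth.Agent.H98.GrStar.EndDeg

/-!
# `*H^0` of a quotient `R ⧸ J` and the a-invariant via a maximal homogeneous regular sequence
(helper85)
-/

set_option autoImplicit false
set_option linter.unusedSectionVars false
set_option linter.unusedVariables false

universe u

namespace Groth.Agent.H85.GrLCTop

open DirectSum Groth.Agent.H98.GrStar

section General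

variable {R : Type u} [CommRing R] {𝒜 : ℤ → AddSubgroup R} [GradedRing 𝒜]
variable {M : Type u} [AddCommGroup M] [Module R M] {ℳ : ℤ → AddSubgroup M}
  [DirectSum.Decomposition ℳ] [SetLike.GradedSMul 𝒜 ℳ]
variable (E : GrLC.StarInjRes 𝒜 ℳ) (a : HomogeneousIdeal 𝒜)

theorem toH_zero_eq_zero (z : E.cocyc a 0) (h : E.toH a 0 z = 0) : (z : (E.X 0).carrier) = 0 := by
  have h1 : z ∈ (E.cobdy a 0).comap (E.cocyc a 0).subtype :=
    (Submodule.Quotient.mk_eq_zero _).mp h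
  have h2 : (z : (E.X 0).carrier) ∈ E.cobdy a 0 := h1
  exact (Submodule.mem_bot R).mp h2

/-- if `*H^0_a(M) = 0` then `Γ_a(M) = 0` -/
theorem eq_zero_of_mem_gam_of_subsingleton (h : Subsingleton (E.H a 0)) (u : M)
    (hu : u ∈ GrLC.gam a.toIdeal M) : u = 0 := by
  have h1 : E.toH a 0 ⟨E.ε u, ε_mem_cocyc E a u hu⟩ = 0 := Subsingleton.elim _ _
  have h2 := toH_zero_eq_zero E a _ h1
  exact E.ε_injective (by rw [map_zero]; exact h2)

/-- a nonzero homogeneous torsion element gives a nonzero piece of `*H^0` -/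
theorem Hgr_zero_ne_bot (d : ℤ) (u : M) (hud : u ∈ ℳ d) (hu : u ∈ GrLC.gam a.toIdeal M)
    (hne : u ≠ 0) : E.Hgr a 0 d ≠ ⊥ := by
  intro hbot
  have hmem := toH_ε_mem_Hgr E a d u hu hud
  rw [hbot, AddSubgroup.mem_bot] at hmem
  have h2 := toH_zero_eq_zero E a _ hmem
  exact hne (E.ε_injective (by rw [map_zero]; exact h2))

/-- if `M_d = 0` then `*H^0_a(M)_d = 0` -/
theorem Hgr_zero_eq_bot (d : ℤ) (h : ∀ u ∈ ℳ d, u = 0) : E.Hgr a 0 d = ⊥ := by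
  rw [eq_bot_iff]
  intro x hx
  rw [AddSubgroup.mem_bot]
  exact Hgr_zero_eq_zero E a d (fun m hm _ => h m hm) x hx

end General

section Quot

variable {R : Type u} [CommRing R] (𝒜 : ℤ → AddSubgroup R) [GradedRing 𝒜]
variable (J : HomogeneousIdeal 𝒜) (E : GrLC.StarInjRes 𝒜 (quotIdealGMod 𝒜 J).gr)
  (a : HomogeneousIdeal 𝒜)

/-- if `*H^0_a(R ⧸ J) = 0` then `J` is `a`-saturated -/
theorem mem_of_pow_mul_mem (h : Subsingleton (E.H a 0)) (u : R) (N : ℕ)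
    (hu : ∀ r ∈ a.toIdeal ^ N, r * u ∈ J.toIdeal) : u ∈ J.toIdeal := by
  have h1 : (Ideal.Quotient.mk J.toIdeal u) ∈ GrLC.gam a.toIdeal (quotIdealGMod 𝒜 J).carrier := by
    refine ⟨N, fun r hr => ?_⟩
    change r • (Ideal.Quotient.mk J.toIdeal u) = 0
    rw [Algebra.smul_def, Ideal.Quotient.algebraMap_eq, ← map_mul]
    exact Ideal.Quotient.eq_zero_iff_mem.mpr (hu r hr)
  have h2 := eq_zero_of_mem_gam_of_subsingleton E a h _ h1
  exact Ideal.Quotient.eq_zero_iff_mem.mp h2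

/-- if `R_d ⊆ J` for all `d > c` then the end of `*H^0_a(R ⧸ J)` is at most `c` -/
theorem endDeg_zero_le (c : ℤ) (h : ∀ d : ℤ, c < d → ∀ x ∈ 𝒜 d, x ∈ J.toIdeal) :
    GrLC.endDeg (E.Hgr a 0) ≤ ((c : WithTop ℤ) : WithBot (WithTop ℤ)) := by
  apply endDeg_le_of_forall
  intro d hd
  apply Hgr_zero_eq_bot
  intro u hu
  obtain ⟨s, hs, rfl⟩ := hu
  exact Ideal.Quotient.eq_zero_iff_mem.mpr (h d hd s hs)

/-- if `a ^ N ⊆ J` and `R_d ⊄ J` then `*H^0_a(R ⧸ J)_d ≠ 0` -/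
theorem Hgr_zero_ne_bot_of_notMem (N : ℕ) (hN : a.toIdeal ^ N ≤ J.toIdeal) (d : ℤ) (x : R)
    (hx : x ∈ 𝒜 d) (hxJ : x ∉ J.toIdeal) : E.Hgr a 0 d ≠ ⊥ := by
  refine Hgr_zero_ne_bot E a d (Ideal.Quotient.mk J.toIdeal x) ⟨x, hx, rfl⟩ ?_ ?_
  · refine ⟨N, fun r hr => ?_⟩
    change r • (Ideal.Quotient.mk J.toIdeal x) = 0
    rw [Algebra.smul_def, Ideal.Quotient.algebraMap_eq, ← map_mul]
    exact Ideal.Quotient.eq_zero_iff_mem.mpr (J.toIdeal.mul_mem_right _ (hN hr))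
  · intro h
    exact hxJ (Ideal.Quotient.eq_zero_iff_mem.mp h)

/-- if `a ^ N ⊆ J` and the end of `*H^0_a(R ⧸ J)` is at most `c`, then `R_d ⊆ J` for `d > c` -/
theorem mem_of_endDeg_zero_le (N : ℕ) (hN : a.toIdeal ^ N ≤ J.toIdeal) (c : ℤ)
    (h : GrLC.endDeg (E.Hgr a 0) ≤ ((c : WithTop ℤ) : WithBot (WithTop ℤ)))
    (d : ℤ) (hd : c < d) (x : R) (hx : x ∈ 𝒜 d) : x ∈ J.toIdeal := by
  by_contra hxJ
  have h1 := Hgr_zero_ne_bot_of_notMem 𝒜 J E a N hN d x hx hxJ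
  have h2 := le_endDeg (E.Hgr a 0) d h1
  have h3 := h2.trans h
  rw [WithBot.coe_le_coe, WithTop.coe_le_coe] at h3
  omega

end Quot

end Groth.Agent.H85.GrLCTop
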