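import Mathlib
import Groth.Agent.H85.GrLCBridge
import Groth.Agent.H85.GrLCTop

/-!
# Existence of homogeneous regular sequences of parameters in graded Cohen–Macaulay rings
defined over a field (helper85)
-/

set_option autoImplicit false
set_option linter.unusedSectionVars false
set_option linter.unusedVariables false

universe u

namespace Groth.Agent.H85.GrLCRS

open DirectSum Groth.Agent.H98.GrStar Groth.Agent.H85.GrLCRegSeq Groth.Agent.H85.GradedNN
  Groth.Agent.H85.GrLCBridge

section Jid

variable {R : Type u} [CommRing R]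

theorem Jid_congr (g g' : ℕ → R) (i : ℕ) (h : ∀ l, l < i → g l = g' l) : Jid g i = Jid g' i := by
  induction i with
  | zero => rfl
  | succ i ih =>
    rw [Jid_succ, Jid_succ, ih (fun l hl => h l (by omega)), h i (by omega)]

theorem Jid_map {S : Type*} [CommRing S] (φ : R →+* S) (g : ℕ → R) (i : ℕ) :
    (Jid g i).map φ = Jid (fun l => φ (g l)) i := by
  induction i with
  | zero => exact Ideal.map_bot
  | succ i ih =>
    rw [Jid_succ, Jid_succ, Ideal.map_sup, ih, Ideal.map_span, Set.image_singleton]

theorem Jid_le (g : ℕ → R) (I : Ideal R) (i : ℕ) (h : ∀ l, l < i → g l ∈ I) : Jid g i ≤ I := by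
  induction i with
  | zero => exact bot_le
  | succ i ih =>
    rw [Jid_succ]
    refine sup_le (ih (fun l hl => h l (by omega))) ?_
    rw [Ideal.span_le, Set.singleton_subset_iff]
    exact h i (by omega)

theorem mem_Jid_self (g : ℕ → R) (i l : ℕ) (hl : l < i) : g l ∈ Jid g i := by
  induction i with
  | zero => omega
  | succ i ih =>
    rw [Jid_succ]
    by_cases h : l < i
    · exact Ideal.mem_sup_left (ih h)
    · have : l = i := by omega
      subst this
      exact Ideal.mem_sup_right (Ideal.mem_span_singleton_self _)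

end Jid

variable {R : Type u} [CommRing R] [hCM : LocCoh.IsCohenMacaulayRing R]
  (𝒜 : ℤ → AddSubgroup R) [GradedRing 𝒜]
  (hpos : ∀ n : ℤ, n < 0 → 𝒜 n = ⊥) (h0 : IsField (GrLC.deg0 𝒜))
  (m : HomogeneousIdeal 𝒜) (hm : GrLC.IsStarLocal 𝒜 m)
  (hmsp : m.toIdeal = Ideal.span (⋃ n ∈ Set.Ioi (0 : ℤ), (𝒜 n : Set R)))
  (n : ℕ) (hn : ringKrullDim R = n)

include hpos h0 hm hmsp hn in
/-- for a partial homogeneous regular sequence of length `t < dim R`, the ideal it generates is
saturated with respect to the irrelevant ideal -/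
theorem saturated (g : ℕ → R) (hg : ∀ i, SetLike.IsHomogeneousElem 𝒜 (g i)) (dg : ℕ → ℤ)
    (t : ℕ) (htn : t < n)
    (hdeg : ∀ i, i < t → g i ∈ 𝒜 (dg i)) (hdpos : ∀ i, i < t → 0 < dg i)
    (hreg : ∀ i, i < t → ∀ r : R, g i * r ∈ Jid g i → r ∈ Jid g i)
    (u : R) (N : ℕ) (hu : ∀ r ∈ m.toIdeal ^ N, r * u ∈ Jid g t) : u ∈ Jid g t := by
  haveI : IsNoetherianRing R := inferInstance
  have hmne : m.toIdeal ≠ ⊤ := Groth.Agent.H98.Bass0.ne_top_of_isStarLocal 𝒜 hm
  haveI hmax : m.toIdeal.IsMaximal := Groth.Agent.H85.GrLCBase.isMaximal_irr 𝒜 hpos h0 m hmne hmsp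
  have hI : ∀ j, j < n → Subsingleton ((res 𝒜 𝒜).H m j) := fun j hj =>
    Groth.Agent.H85.GrLCBase.subsingleton_H_of_cm 𝒜 m hm n hn (res 𝒜 𝒜) j hj
  obtain ⟨hvan, -⟩ := chain 𝒜 hpos m hmsp g hg dg n (res 𝒜 𝒜) hI t (le_of_lt htn) hdeg hdpos hreg
    t le_rfl
  have h0' : Subsingleton ((res 𝒜 (X 𝒜 g hg t).gr).H m 0) := hvan 0 (by omega)
  exact Groth.Agent.H85.GrLCTop.mem_of_pow_mul_mem 𝒜 (J 𝒜 g hg t) (res 𝒜 (X 𝒜 g hg t).gr) m h0'
    u N hu

include hpos h0 hm hmsp hn in
/-- **Existence of homogeneous regular sequences of parameters**, with degrees in a set `D` of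
positive integers for which homogeneous prime avoidance holds. -/
theorem exists_regular_sop (D : Set ℤ) (hD : ∀ d ∈ D, 0 < d)
    (havoid : ∀ s : Finset (Ideal R), (∀ p ∈ s, p.IsPrime) → (∀ p ∈ s, ¬ m.toIdeal ≤ p) →
      ∃ d ∈ D, ∃ x ∈ 𝒜 d, ∀ p ∈ s, x ∉ p) :
    ∃ (g : ℕ → R) (dg : ℕ → ℤ), (∀ i, SetLike.IsHomogeneousElem 𝒜 (g i)) ∧
      (∀ i, i < n → g i ∈ 𝒜 (dg i)) ∧ (∀ i, i < n → dg i ∈ D) ∧
      (∀ i, i < n → ∀ r : R, g i * r ∈ Jid g i → r ∈ Jid g i) ∧
      m.toIdeal ≤ (Jid g n).radical := by
  classical
  haveI : IsNoetherianRing R := inferInstance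
  have hmne : m.toIdeal ≠ ⊤ := Groth.Agent.H98.Bass0.ne_top_of_isStarLocal 𝒜 hm
  haveI : Nontrivial R := by
    by_contra hnt
    rw [not_nontrivial_iff_subsingleton] at hnt
    exact hmne (Subsingleton.elim _ _)
  have hmirr : m.toIdeal = irrI 𝒜 := hmsp
  -- the inductive statement
  have key : ∀ t, t ≤ n → ∃ (g : ℕ → R) (dg : ℕ → ℤ), (∀ i, SetLike.IsHomogeneousElem 𝒜 (g i)) ∧
      (∀ i, i < t → g i ∈ 𝒜 (dg i)) ∧ (∀ i, i < t → dg i ∈ D) ∧
      (∀ i, i < t → ∀ r : R, g i * r ∈ Jid g i → r ∈ Jid g i) ∧
      ChainBound (Jid g t) (n - t) := by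
    intro t
    induction t with
    | zero =>
      intro _
      refine ⟨fun _ => 0, fun _ => 0, fun _ => ⟨0, zero_mem _⟩, fun i hi => absurd hi (by omega),
        fun i hi => absurd hi (by omega), fun i hi => absurd hi (by omega), ?_⟩
      rw [Jid_zero, Nat.sub_zero]
      exact chainBound_bot n (le_of_eq hn)
    | succ t ih =>
      intro ht
      obtain ⟨g, dg, hg, hdeg, hdD, hreg, hcb⟩ := ih (by omega)
      have hsat := saturated 𝒜 hpos h0 m hm hmsp n hn g hg dg t (by omega) hdeg
        (fun i hi => hD _ (hdD i hi)) hreg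
      -- the set of primes to avoid
      have hfinA : (associatedPrimes R (R ⧸ Jid g t)).Finite := associatedPrimes.finite R _
      have hfinM := Ideal.finite_minimalPrimes_of_isNoetherianRing R (Jid g t)
      let S : Finset (Ideal R) :=
        hfinA.toFinset ∪ (hfinM.toFinset.filter (fun p => ¬ m.toIdeal ≤ p))
      have hSprime : ∀ p ∈ S, p.IsPrime := by
        intro p hp
        rw [Finset.mem_union] at hp
        rcases hp with hp | hp
        · rw [Set.Finite.mem_toFinset] at hp
          exact hp.isPrime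
        · rw [Finset.mem_filter, Set.Finite.mem_toFinset] at hp
          exact hp.1.1.1
      have hSirr : ∀ p ∈ S, ¬ m.toIdeal ≤ p := by
        intro p hp
        rw [Finset.mem_union] at hp
        rcases hp with hp | hp
        · rw [Set.Finite.mem_toFinset] at hp
          intro hle
          have hp' := (isAssociatedPrime_iff (I := p) (M := R ⧸ Jid g t)).mp hp
          obtain ⟨hpp, y, hy⟩ := hp'
          obtain ⟨u, rfl⟩ := Ideal.Quotient.mk_surjective y
          have hu : u ∈ Jid g t := by
            refine hsat u 1 (fun r hr => ?_)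
            rw [pow_one] at hr
            have hrp : r ∈ p := hle hr
            rw [hy, Submodule.mem_colon_singleton, Submodule.mem_bot] at hrp
            have : Ideal.Quotient.mk (Jid g t) (r * u) = 0 := by
              rw [map_mul, ← hrp, Algebra.smul_def, Ideal.Quotient.algebraMap_eq]
            exact Ideal.Quotient.eq_zero_iff_mem.mp this
          apply hpp.ne_top
          rw [Ideal.eq_top_iff_one, hy, Submodule.mem_colon_singleton, Submodule.mem_bot,
            one_smul]
          exact Ideal.Quotient.eq_zero_iff_mem.mpr hu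
        · rw [Finset.mem_filter] at hp
          exact hp.2
      obtain ⟨d, hdD', x, hxd, hxS⟩ := havoid S hSprime hSirr
      -- regularity of x
      have hxreg : ∀ r : R, x * r ∈ Jid g t → r ∈ Jid g t := by
        intro r hr
        by_contra hrJ
        have hzd : x ∈ {r : R | ∃ y : R ⧸ Jid g t, y ≠ 0 ∧ r • y = 0} := by
          refine ⟨Ideal.Quotient.mk _ r, ?_, ?_⟩
          · intro h
            exact hrJ (Ideal.Quotient.eq_zero_iff_mem.mp h)
          · rw [Algebra.smul_def, Ideal.Quotient.algebraMap_eq, ← map_mul]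
            exact Ideal.Quotient.eq_zero_iff_mem.mpr hr
        rw [← biUnion_associatedPrimes_eq_zero_divisors R (R ⧸ Jid g t)] at hzd
        simp only [Set.mem_iUnion] at hzd
        obtain ⟨p, hp, hxp⟩ := hzd
        exact hxS p (by
          rw [Finset.mem_union]
          left
          rw [Set.Finite.mem_toFinset]
          exact hp) hxp
      -- the chain bound
      obtain ⟨c, hc⟩ : ∃ c, n - t = c + 1 := ⟨n - t - 1, by omega⟩
      have hc' : n - (t + 1) = c := by omega
      rw [hc] at hcb
      have hcb' : ChainBound (Jid g t ⊔ Ideal.span {x}) c := by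
        refine chainBound_sup_span' 𝒜 hpos h0 (Jid g t) c hcb x ?_
        intro p hp hirr
        refine hxS p ?_
        rw [Finset.mem_union]
        right
        rw [Finset.mem_filter, Set.Finite.mem_toFinset]
        refine ⟨hp, ?_⟩
        rw [hmirr]
        exact hirr
      -- the new sequence
      refine ⟨Function.update g t x, Function.update dg t d, ?_, ?_, ?_, ?_, ?_⟩
      · intro i
        by_cases hit : i = t
        · subst hit
          rw [Function.update_self]
          exact ⟨d, hxd⟩
        · rw [Function.update_of_ne hit]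
          exact hg i
      · intro i hi
        by_cases hit : i = t
        · subst hit
          rw [Function.update_self, Function.update_self]
          exact hxd
        · rw [Function.update_of_ne hit, Function.update_of_ne hit]
          exact hdeg i (by omega)
      · intro i hi
        by_cases hit : i = t
        · subst hit
          rw [Function.update_self]
          exact hdD'
        · rw [Function.update_of_ne hit]
          exact hdD i (by omega)
      · intro i hi r hr
        have hJ : Jid (Function.update g t x) i = Jid g i :=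
          Jid_congr _ _ i (fun l hl => Function.update_of_ne (by omega) _ _)
        rw [hJ] at hr ⊢
        by_cases hit : i = t
        · subst hit
          rw [Function.update_self] at hr
          exact hxreg r hr
        · rw [Function.update_of_ne hit] at hr
          exact hreg i (by omega) r hr
      · rw [hc', Jid_succ, Function.update_self]
        have hJ : Jid (Function.update g t x) t = Jid g t :=
          Jid_congr _ _ t (fun l hl => Function.update_of_ne (by omega) _ _)
        rw [hJ]
        exact hcb'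
  obtain ⟨g, dg, hg, hdeg, hdD, hreg, hcb⟩ := key n le_rfl
  refine ⟨g, dg, hg, hdeg, hdD, hreg, ?_⟩
  rw [Nat.sub_self] at hcb
  rw [hmirr]
  exact irrI_le_radical_of_chainBound_zero 𝒜 hpos h0 (Jid g n) (Jid_isHomogeneous 𝒜 g hg n) hcb

end Groth.Agent.H85.GrLCRS
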