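import Groth.Agent.H85.GradedFinite

/-!
# Standard graded algebras over a field

`R` a `ℤ`-graded `k`-algebra with `R_n = 0` for `n < 0`, `R_0 = k`, generated in degree one
(`Ideal.span (⋃ n > 0, R_n) = Ideal.span R_1`).
-/

set_option autoImplicit false

namespace Groth.Agent.H85.StdGraded

open DirectSum Groth.Agent.H85.GradedNN

variable {k : Type*} [Field k] {R : Type*} [CommRing R] [Algebra k R]
  (𝒜 : ℤ → Submodule k R) [GradedAlgebra 𝒜]

/-- the span of the products `R_1 · R_m` -/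
def prodSpan (m : ℤ) : Submodule k R :=
  Submodule.span k {z | ∃ c ∈ 𝒜 1, ∃ w ∈ 𝒜 m, z = c * w}

theorem prodSpan_le (m : ℤ) : prodSpan 𝒜 m ≤ 𝒜 (m + 1) := by
  apply Submodule.span_le.mpr
  rintro _ ⟨c, hc, w, hw, rfl⟩
  have := SetLike.mul_mem_graded hc hw
  rwa [add_comm] at this

/-- in a standard graded algebra, `R_{m+1} = R_1 · R_m` -/
theorem mem_prodSpan
    (hstd : Ideal.span (⋃ n ∈ Set.Ioi (0 : ℤ), (𝒜 n : Set R)) =
      Ideal.span ((𝒜 1 : Submodule k R) : Set R))
    {m : ℤ} (hm : 0 ≤ m) {a : R} (ha : a ∈ 𝒜 (m + 1)) : a ∈ prodSpan 𝒜 m := by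
  have h1 : a ∈ Ideal.span ((𝒜 1 : Submodule k R) : Set R) := by
    rw [← hstd]
    apply Ideal.subset_span
    refine Set.mem_biUnion (x := m + 1) ?_ ha
    rw [Set.mem_Ioi]
    omega
  have key : ∀ b ∈ Ideal.span ((𝒜 1 : Submodule k R) : Set R),
      (decompose 𝒜 b (m + 1) : R) ∈ prodSpan 𝒜 m := by
    intro b hb
    unfold Ideal.span at hb
    induction hb using Submodule.closure_induction with
    | zero => simp
    | add x y _ _ hx hy =>
      rw [decompose_add, DirectSum.add_apply, Submodule.coe_add]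
      exact Submodule.add_mem _ hx hy
    | smul_mem r' l hl =>
      rw [smul_eq_mul, coe_decompose_mul_add_of_right_mem 𝒜 hl, mul_comm]
      exact Submodule.subset_span ⟨l, hl, _, SetLike.coe_mem _, rfl⟩
  have := key a h1
  rwa [decompose_of_mem_same 𝒜 ha] at this

section Linear

variable (hpos : ∀ n : ℤ, n < 0 → 𝒜 n = ⊥) (h0 : 𝒜 0 = Submodule.span k {(1 : R)})
  (hstd : Ideal.span (⋃ n ∈ Set.Ioi (0 : ℤ), (𝒜 n : Set R)) =
      Ideal.span ((𝒜 1 : Submodule k R) : Set R))

include hstd in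
/-- if a homogeneous nonzerodivisor `x` of positive degree `d` spans `R_d`, then `R_1` is spanned
by a nonzerodivisor -/
theorem exists_linear_generator [Nontrivial R]
    {d : ℤ} (hd : 0 < d) {x : R} (hx : x ∈ 𝒜 d) (hreg : ∀ c : R, x * c = 0 → c = 0)
    (hspan : ∀ a ∈ 𝒜 d, ∃ l : k, a = l • x) :
    ∃ t ∈ 𝒜 1, (∀ c : R, t * c = 0 → c = 0) ∧ ∀ a ∈ 𝒜 1, ∃ l : k, a = l • t := by
  have hx0 : x ≠ 0 := by
    rintro rfl
    exact one_ne_zero (hreg 1 (zero_mul _))
  have hxm : x ∈ prodSpan 𝒜 (d - 1) := by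
    apply mem_prodSpan 𝒜 hstd (by omega)
    rwa [sub_add_cancel]
  obtain ⟨c, hc, w, hw, hcw⟩ : ∃ c ∈ 𝒜 1, ∃ w ∈ 𝒜 (d - 1), c * w ≠ 0 := by
    by_contra hcon
    push Not at hcon
    apply hx0
    have hle : prodSpan 𝒜 (d - 1) ≤ ⊥ := by
      apply Submodule.span_le.mpr
      rintro _ ⟨c, hc, w, hw, rfl⟩
      exact hcon c hc w hw
    exact (Submodule.mem_bot k).mp (hle hxm)
  have hcwd : c * w ∈ 𝒜 d := by
    have := SetLike.mul_mem_graded hc hw
    rwa [show (1 : ℤ) + (d - 1) = d by ring] at this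
  obtain ⟨l, hl⟩ := hspan _ hcwd
  have hl0 : l ≠ 0 := by
    rintro rfl
    rw [zero_smul] at hl
    exact hcw hl
  have hcreg : ∀ e : R, c * e = 0 → e = 0 := by
    intro e he
    apply hreg
    have h1 : (c * w) * e = 0 := by rw [mul_right_comm, he, zero_mul]
    rw [hl, smul_mul_assoc] at h1
    exact (smul_eq_zero.mp h1).resolve_left hl0
  have hwreg : ∀ e : R, w * e = 0 → e = 0 := by
    intro e he
    apply hreg
    have h1 : (c * w) * e = 0 := by rw [mul_assoc, he, mul_zero]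
    rw [hl, smul_mul_assoc] at h1
    exact (smul_eq_zero.mp h1).resolve_left hl0
  refine ⟨c, hc, hcreg, ?_⟩
  intro a ha
  have hawd : a * w ∈ 𝒜 d := by
    have := SetLike.mul_mem_graded ha hw
    rwa [show (1 : ℤ) + (d - 1) = d by ring] at this
  obtain ⟨μ, hμ⟩ := hspan _ hawd
  refine ⟨μ * l⁻¹, ?_⟩
  have h2 : w * (a - (μ * l⁻¹) • c) = 0 := by
    rw [mul_sub, mul_comm w a, hμ, mul_smul_comm, mul_comm w c, hl, smul_smul, mul_assoc,
      inv_mul_cancel₀ hl0, mul_one, sub_self]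
  exact sub_eq_zero.mp (hwreg _ h2)

include h0 hstd in
/-- if `R_1 = k t` then `R_n = k tⁿ` -/
theorem mem_span_pow {t : R} (ht : t ∈ 𝒜 1) (hgen : ∀ a ∈ 𝒜 1, ∃ l : k, a = l • t) :
    ∀ (n : ℕ) (a : R), a ∈ 𝒜 (n : ℤ) → ∃ l : k, a = l • t ^ n := by
  intro n
  induction n with
  | zero =>
    intro a ha
    rw [Nat.cast_zero, h0, Submodule.mem_span_singleton] at ha
    obtain ⟨l, rfl⟩ := ha
    exact ⟨l, by rw [pow_zero]⟩
  | succ n ih =>
    intro a ha
    have h1 : a ∈ prodSpan 𝒜 (n : ℤ) := by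
      apply mem_prodSpan 𝒜 hstd (by positivity)
      exact_mod_cast ha
    have hle : prodSpan 𝒜 (n : ℤ) ≤ Submodule.span k {t ^ (n + 1)} := by
      apply Submodule.span_le.mpr
      rintro _ ⟨c, hc, w, hw, rfl⟩
      obtain ⟨l₁, rfl⟩ := hgen c hc
      obtain ⟨l₂, rfl⟩ := ih w hw
      rw [SetLike.mem_coe, Submodule.mem_span_singleton]
      refine ⟨l₁ * l₂, ?_⟩
      rw [smul_mul_smul_comm, pow_succ, mul_comm t]
    have h2 := hle h1
    rw [Submodule.mem_span_singleton] at h2
    obtain ⟨l, rfl⟩ := h2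
    exact ⟨l, rfl⟩

theorem pow_ne_zero_of_regular [Nontrivial R] {t : R} (hreg : ∀ c : R, t * c = 0 → c = 0) (n : ℕ) :
    t ^ n ≠ 0 := by
  induction n with
  | zero => simp
  | succ n ih =>
    intro h
    rw [pow_succ, mul_comm] at h
    exact ih (hreg _ h)

include hpos h0 hstd in
/-- a standard graded algebra with `R_1 = k t`, `t` a nonzerodivisor, is the polynomial ring -/
theorem aeval_bijective [Nontrivial R] {t : R} (ht : t ∈ 𝒜 1)
    (hreg : ∀ c : R, t * c = 0 → c = 0) (hgen : ∀ a ∈ 𝒜 1, ∃ l : k, a = l • t) :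
    Function.Bijective (Polynomial.aeval t : Polynomial k →ₐ[k] R) := by
  classical
  have hpow : ∀ n : ℕ, t ^ n ∈ 𝒜 (n : ℤ) := by
    intro n
    have := SetLike.pow_mem_graded n ht
    simpa using this
  constructor
  · rw [injective_iff_map_eq_zero]
    intro p hp
    apply Polynomial.ext
    intro n
    rw [Polynomial.coeff_zero]
    have h1 : (decompose 𝒜 (Polynomial.aeval t p) (n : ℤ) : R) = p.coeff n • t ^ n := by
      rw [Polynomial.aeval_eq_sum_range, decompose_sum, DFinsupp.finsetSum_apply,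
        AddSubmonoidClass.coe_finsetSum]
      by_cases hn : n ∈ Finset.range (p.natDegree + 1)
      · rw [Finset.sum_eq_single n]
        · rw [decompose_of_mem_same 𝒜 (Submodule.smul_mem _ _ (hpow n))]
        · intro i _ hin
          rw [decompose_of_mem_ne 𝒜 (Submodule.smul_mem _ _ (hpow i))]
          exact_mod_cast hin
        · intro h; exact absurd hn h
      · have : p.coeff n = 0 := by
          apply Polynomial.coeff_eq_zero_of_natDegree_lt
          rw [Finset.mem_range] at hn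
          omega
        rw [this, zero_smul]
        refine Finset.sum_eq_zero fun i hi => ?_
        rw [decompose_of_mem_ne 𝒜 (Submodule.smul_mem _ _ (hpow i))]
        intro h
        have : i = n := by exact_mod_cast h
        exact hn (this ▸ hi)
    rw [hp, decompose_zero, DirectSum.zero_apply, ZeroMemClass.coe_zero] at h1
    exact (smul_eq_zero.mp h1.symm).resolve_right (pow_ne_zero_of_regular hreg n)
  · intro r
    induction r using DirectSum.Decomposition.inductionOn 𝒜 with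
    | zero => exact ⟨0, map_zero _⟩
    | @homogeneous n m =>
      by_cases hn : n < 0
      · have : (m : R) = 0 := eq_zero_of_mem_of_neg 𝒜 hpos hn m.2
        exact ⟨0, by rw [map_zero, this]⟩
      · have hm : (m : R) ∈ 𝒜 ((n.toNat : ℕ) : ℤ) := by
          rw [Int.toNat_of_nonneg (by omega)]
          exact m.2
        obtain ⟨l, hl⟩ := mem_span_pow 𝒜 h0 hstd ht hgen n.toNat _ hm
        refine ⟨Polynomial.C l * Polynomial.X ^ n.toNat, ?_⟩
        rw [map_mul, Polynomial.aeval_C, map_pow, Polynomial.aeval_X, hl, Algebra.smul_def]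
    | add a b ha hb =>
      obtain ⟨p, hp⟩ := ha
      obtain ⟨q, hq⟩ := hb
      exact ⟨p + q, by rw [map_add, hp, hq]⟩

end Linear

end Groth.Agent.H85.StdGraded
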