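import Groth.Agent.H85.Isoclinic2

set_option autoImplicit false
set_option linter.unusedSectionVars false

noncomputable section

open scoped Isocrystal Pointwise
open Filter Topology

universe u v v'

namespace Groth.Agent.H85

variable {p : ℕ} [Fact p.Prime] {k : Type u} [Field k] [CharP k p] [PerfectRing k p]

local notation "W" => WittVector p k
local notation "L" => FractionRing (WittVector p k)

variable {N : Type v} [AddCommGroup N] [Module (WittVector p k) N] [Module (FractionRing (WittVector p k)) N]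
  [IsScalarTower (WittVector p k) (FractionRing (WittVector p k)) N]

theorem isIsoclinic_restrict_iff {a : ℤ} (F : N →ₛₗ[Isoc.frob p k a] N) (P : Submodule L N)
    (hP : ∀ x ∈ P, F x ∈ P) (μ : ℚ) :
    Isoc.IsIsoclinic (F.restrict hP) μ ↔ IsoInt (p := p) (k := k) (⇑F) P μ := by
  have hG := IsSemi.of_semilinear F
  have hG' := IsSemi.of_semilinear (F.restrict hP)
  rw [isIsoclinic_iff, isoG_iff_isoInt_range P.subtype P.injective_subtype hG' hG (fun x => rfl),
    Submodule.range_subtype]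

/-- the stable subspaces on which `G` is isoclinic of slope `μ` -/
def StableIso (G : N → N) (μ : ℚ) : Set (Submodule L N) :=
  {P | (∀ x ∈ P, G x ∈ P) ∧ IsoInt (p := p) (k := k) G P μ}

theorem slopePart_eq {a : ℤ} (F : N →ₛₗ[Isoc.frob p k a] N) (μ : ℚ) :
    Isoc.slopePart F μ = sSup (StableIso (p := p) (k := k) (⇑F) μ) := by
  unfold Isoc.slopePart
  congr 1
  ext P
  constructor
  · rintro ⟨hP, h⟩
    exact ⟨hP, (isIsoclinic_restrict_iff F P hP μ).mp h⟩
  · rintro ⟨hP, h⟩
    exact ⟨hP, (isIsoclinic_restrict_iff F P hP μ).mpr h⟩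

theorem StableIso.sup {G : N → N} (hG : IsSemi (p := p) (k := k) G) {μ : ℚ} {P₁ P₂ : Submodule L N}
    (h₁ : P₁ ∈ StableIso (p := p) (k := k) G μ) (h₂ : P₂ ∈ StableIso (p := p) (k := k) G μ) :
    P₁ ⊔ P₂ ∈ StableIso (p := p) (k := k) G μ := by
  refine ⟨?_, h₁.2.sup hG h₂.2⟩
  intro x hx
  obtain ⟨a, ha, b, hb, rfl⟩ := Submodule.mem_sup.mp hx
  rw [hG.map_add]
  exact Submodule.add_mem_sup (h₁.1 a ha) (h₂.1 b hb)

theorem sSup_stableIso_mem [Module.Finite L N] {G : N → N} (hG : IsSemi (p := p) (k := k) G) (μ : ℚ) :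
    sSup (StableIso (p := p) (k := k) G μ) ∈ StableIso (p := p) (k := k) G μ := by
  have hne : (StableIso (p := p) (k := k) G μ).Nonempty :=
    ⟨⊥, fun x hx => by rw [(Submodule.mem_bot L).mp hx, hG.map_zero]; exact Submodule.zero_mem _,
      IsoInt.bot hG μ⟩
  have hwf : WellFounded ((· > ·) : Submodule L N → Submodule L N → Prop) := wellFounded_gt
  obtain ⟨P₀, hP₀, hmax⟩ := hwf.has_min _ hne
  have hle : ∀ P ∈ StableIso (p := p) (k := k) G μ, P ≤ P₀ := by
    intro P hP
    have hsup := StableIso.sup hG hP hP₀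
    have h1 : ¬ (P ⊔ P₀ > P₀) := hmax _ hsup
    have h2 : P₀ ≤ P ⊔ P₀ := le_sup_right
    have h3 : P ⊔ P₀ = P₀ := by
      by_contra hne'
      exact h1 (lt_of_le_of_ne h2 (Ne.symm hne'))
    rw [← h3]
    exact le_sup_left
  have : sSup (StableIso (p := p) (k := k) G μ) = P₀ :=
    le_antisymm (sSup_le hle) (le_sSup hP₀)
  rw [this]
  exact hP₀

theorem le_slopePart_of_mem {G : N → N} {μ : ℚ} {P : Submodule L N}
    (h : P ∈ StableIso (p := p) (k := k) G μ) : P ≤ sSup (StableIso (p := p) (k := k) G μ) :=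
  le_sSup h

end Groth.Agent.H85
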