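import Groth.Agent.H85.SlopePart

set_option autoImplicit false
set_option linter.unusedSectionVars false

noncomputable section

open scoped Isocrystal Pointwise
open Filter Topology Module

universe u v v'

namespace Groth.Agent.H85

variable {p : ℕ} [Fact p.Prime] {k : Type u} [Field k] [CharP k p] [PerfectRing k p]

local notation "W" => WittVector p k
local notation "L" => FractionRing (WittVector p k)

variable {N : Type v} [AddCommGroup N] [Module (WittVector p k) N] [Module (FractionRing (WittVector p k)) N]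
  [IsScalarTower (WittVector p k) (FractionRing (WittVector p k)) N]

variable {G : N → N}

theorem exists_le_pPow_of_le_span {M₁ M₂ : Submodule W N} (hM₁ : M₁.FG)
    (hle : (M₁ : Set N) ⊆ Submodule.span L (M₂ : Set N)) :
    ∃ e : ℕ, M₁ ≤ Isoc.pPow (-(e : ℤ)) M₂ := by
  classical
  obtain ⟨S, rfl⟩ := hM₁
  have hS : ∀ x ∈ S, ∃ n : ℕ, ((p : L) ^ n) • x ∈ M₂ := fun x hx =>
    exists_pow_smul_mem_of_mem_span (hle (Submodule.subset_span hx))
  choose! f hf using hS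
  refine ⟨S.sup f, ?_⟩
  rw [← pPow_le_iff]
  intro y hy
  obtain ⟨x, hx, rfl⟩ := (mem_pPow_iff_exists _).mp hy
  clear hy
  rw [zpow_natCast]
  induction hx using Submodule.span_induction with
  | mem z hz => exact pow_smul_mem_of_le (Finset.le_sup hz) (hf z hz)
  | zero => rw [smul_zero]; exact M₂.zero_mem
  | add a b _ _ ha hb => rw [smul_add]; exact M₂.add_mem ha hb
  | smul w a _ ha => rw [smul_comm]; exact M₂.smul_mem _ ha

/-- all slopes of `G` on `P` are `> μ`, witnessed by a finitely generated module -/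
def SlopeGt (G : N → N) (P : Submodule L N) (μ : ℚ) : Prop :=
  ∃ M' : Submodule W N, M'.FG ∧ P ≤ Submodule.span L (M' : Set N) ∧
    ∃ (R : ℤ) (S : ℕ), 0 < S ∧ μ < (R : ℚ) / S ∧ img (G^[S]) M' ≤ Isoc.pPow R M'

theorem SlopeGt.mono {P₁ P₂ : Submodule L N} {μ : ℚ} (h : SlopeGt (p := p) (k := k) G P₂ μ)
    (hle : P₁ ≤ P₂) : SlopeGt (p := p) (k := k) G P₁ μ := by
  obtain ⟨M', hfg, hsp, R, S, hS, hμ, himg⟩ := h
  exact ⟨M', hfg, hle.trans hsp, R, S, hS, hμ, himg⟩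

theorem SlopeGt.of_isoInt {P : Submodule L N} {μ ν : ℚ} (h : IsoInt (p := p) (k := k) G P ν)
    (hμν : μ < ν) : SlopeGt (p := p) (k := k) G P μ := by
  obtain ⟨M', hfg, hsp, r, s, hs, hrs, e⟩ := h
  exact ⟨M', hfg, hsp.ge, r, s, hs, hrs ▸ hμν, e.le⟩

theorem SlopeGt.bot (hG : IsSemi (p := p) (k := k) G) (μ : ℚ) :
    SlopeGt (p := p) (k := k) G ⊥ μ := by
  refine ⟨⊥, Submodule.fg_bot, bot_le, ⌊μ⌋ + 1, 1, Nat.one_pos, ?_, ?_⟩
  · push_cast
    rw [div_one]
    exact Int.lt_floor_add_one μ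
  · rw [img_bot (hG.iterate _)]
    exact bot_le

theorem SlopeGt.sup (hG : IsSemi (p := p) (k := k) G) {P₁ P₂ : Submodule L N} {μ : ℚ}
    (h₁ : SlopeGt (p := p) (k := k) G P₁ μ) (h₂ : SlopeGt (p := p) (k := k) G P₂ μ) :
    SlopeGt (p := p) (k := k) G (P₁ ⊔ P₂) μ := by
  obtain ⟨M₁, hfg₁, hsp₁, R₁, S₁, hS₁, hμ₁, himg₁⟩ := h₁
  obtain ⟨M₂, hfg₂, hsp₂, R₂, S₂, hS₂, hμ₂, himg₂⟩ := h₂
  have hS₁' : (0 : ℚ) < S₁ := by exact_mod_cast hS₁
  have hS₂' : (0 : ℚ) < S₂ := by exact_mod_cast hS₂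
  refine ⟨M₁ ⊔ M₂, hfg₁.sup hfg₂, ?_, min ((S₂ : ℤ) * R₁) ((S₁ : ℤ) * R₂), S₁ * S₂,
    Nat.mul_pos hS₁ hS₂, ?_, ?_⟩
  · refine sup_le (hsp₁.trans (Submodule.span_mono ?_)) (hsp₂.trans (Submodule.span_mono ?_))
    · exact fun x hx => Submodule.mem_sup_left hx
    · exact fun x hx => Submodule.mem_sup_right hx
  · rw [lt_div_iff₀ hS₁'] at hμ₁
    rw [lt_div_iff₀ hS₂'] at hμ₂
    rw [lt_div_iff₀ (by push_cast; positivity)]
    rcases le_total ((S₂ : ℤ) * R₁) ((S₁ : ℤ) * R₂) with hle | hle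
    · rw [min_eq_left hle]
      push_cast
      nlinarith
    · rw [min_eq_right hle]
      push_cast
      nlinarith
  · rw [img_sup (hG.iterate _)]
    have e₁ : img (G^[S₁ * S₂]) M₁ ≤ Isoc.pPow ((S₂ : ℤ) * R₁) M₁ := by
      rw [Function.iterate_mul]
      exact img_iterate_le (hG.iterate S₁) himg₁ S₂
    have e₂ : img (G^[S₁ * S₂]) M₂ ≤ Isoc.pPow ((S₁ : ℤ) * R₂) M₂ := by
      rw [Nat.mul_comm, Function.iterate_mul]
      exact img_iterate_le (hG.iterate S₂) himg₂ S₁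
    refine sup_le ?_ ?_
    · exact (e₁.trans (pPow_anti _ (min_le_left _ _))).trans (pPow_mono _ le_sup_left)
    · exact (e₂.trans (pPow_anti _ (min_le_right _ _))).trans (pPow_mono _ le_sup_right)

/-- an isoclinic subspace of slope `μ` on which all slopes are `> μ` vanishes -/
theorem eq_bot_of_isoInt_of_slopeGt (hG : IsSemi (p := p) (k := k) G) {T : Submodule L N} {μ : ℚ}
    (h₁ : IsoInt (p := p) (k := k) G T μ) (h₂ : SlopeGt (p := p) (k := k) G T μ) : T = ⊥ := by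
  obtain ⟨MT, hfgT, hspT, r, s, hs, hrs, eT⟩ := h₁
  obtain ⟨M', hfg', hsp', R, S, hS, hμ, himg'⟩ := h₂
  have hs' : (0 : ℚ) < s := by exact_mod_cast hs
  have hS' : (0 : ℚ) < S := by exact_mod_cast hS
  have hδ : (S : ℤ) * r + 1 ≤ (s : ℤ) * R := by
    rw [← hrs, div_lt_div_iff₀ hs' hS'] at hμ
    have : (r : ℚ) * S < R * s := hμ
    have h' : r * (S : ℤ) < R * s := by exact_mod_cast this
    nlinarith
  obtain ⟨e, he⟩ := exists_le_pPow_of_le_span hfgT (M₂ := M') (by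
    intro x hx
    apply hsp'
    rw [← hspT]
    exact Submodule.subset_span hx)
  -- the operator `A = G^[s * S]`
  have hA := hG.iterate (s * S)
  have eA : img (G^[s * S]) MT = Isoc.pPow ((S : ℤ) * r) MT := iso_common hG eT S
  have lA : img (G^[s * S]) M' ≤ Isoc.pPow ((s : ℤ) * R) M' := by
    rw [Nat.mul_comm, Function.iterate_mul]
    exact img_iterate_le (hG.iterate S) himg' s
  have hMT : MT = ⊥ := by
    apply eq_bot_of_forall_le_pPow hfg'
    intro m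
    set n := m + e with hn
    have h1 : img ((G^[s * S])^[n]) MT = Isoc.pPow ((n : ℤ) * ((S : ℤ) * r)) MT :=
      img_iterate_eq hA eA n
    have h2 : img ((G^[s * S])^[n]) M' ≤ Isoc.pPow ((n : ℤ) * ((s : ℤ) * R)) M' :=
      img_iterate_le hA lA n
    have h3 : img ((G^[s * S])^[n]) MT ≤ Isoc.pPow (-(e : ℤ) + (n : ℤ) * ((s : ℤ) * R)) M' := by
      refine (img_mono _ he).trans ?_
      rw [img_pPow (hA.iterate n), ← pPow_pPow]
      exact pPow_mono _ h2
    rw [h1, pPow_le_iff, pPow_pPow] at h3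
    refine h3.trans (pPow_anti _ ?_)
    have hn' : (n : ℤ) = m + e := by rw [hn]; push_cast; ring
    have hn0 : (0 : ℤ) ≤ n := Int.natCast_nonneg n
    nlinarith
  rw [← hspT, hMT]
  simp


/-- the slope parts of an isocrystal are independent -/
theorem slopePart_iSupIndep [Module.Finite L N] {a : ℤ} (F : N →ₛₗ[Isoc.frob p k a] N)
    (hinj : Function.Injective F) : iSupIndep (fun μ : ℚ => Isoc.slopePart F μ) := by
  classical
  have hG := IsSemi.of_semilinear F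
  rw [iSupIndep_iff_finsetSum_eq_zero_imp_eq_zero]
  intro s v hv hsum
  by_contra hcon
  push Not at hcon
  obtain ⟨μ₁, hμ₁s, hμ₁⟩ := hcon
  let s' := s.filter (fun μ => v μ ≠ 0)
  have hs' : s'.Nonempty := ⟨μ₁, by simp [s', hμ₁s, hμ₁]⟩
  set μ₀ := s'.min' hs' with hμ₀def
  have hμ₀ : μ₀ ∈ s' := Finset.min'_mem _ _
  have hvμ₀ : v μ₀ ≠ 0 := (Finset.mem_filter.mp hμ₀).2
  let t := s'.erase μ₀
  have hsum' : v μ₀ + ∑ μ ∈ t, v μ = 0 := by
    rw [Finset.add_sum_erase s' v hμ₀, Finset.sum_filter_ne_zero]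
    exact hsum
  have hmem : ∀ μ ∈ s, v μ ∈ sSup (StableIso (p := p) (k := k) (⇑F) μ) := fun μ hμ => by
    rw [← slopePart_eq]
    exact hv μ hμ
  have hts : ∀ μ ∈ t, μ ∈ s := fun μ hμ => (Finset.mem_filter.mp (Finset.mem_of_mem_erase hμ)).1
  have hgood : (∀ x ∈ t.sup (fun μ => sSup (StableIso (p := p) (k := k) (⇑F) μ)),
      F x ∈ t.sup (fun μ => sSup (StableIso (p := p) (k := k) (⇑F) μ))) ∧
      SlopeGt (p := p) (k := k) (⇑F) (t.sup (fun μ => sSup (StableIso (p := p) (k := k) (⇑F) μ))) μ₀ := by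
    apply Finset.sup_induction (p := fun P : Submodule L N => (∀ x ∈ P, F x ∈ P) ∧
      SlopeGt (p := p) (k := k) (⇑F) P μ₀)
    · refine ⟨fun x hx => ?_, SlopeGt.bot hG μ₀⟩
      rw [(Submodule.mem_bot L).mp hx, map_zero]
      exact Submodule.zero_mem _
    · rintro P₁ ⟨hst₁, hgt₁⟩ P₂ ⟨hst₂, hgt₂⟩
      refine ⟨fun x hx => ?_, hgt₁.sup hG hgt₂⟩
      obtain ⟨y, hy, z, hz, rfl⟩ := Submodule.mem_sup.mp hx
      rw [map_add]
      exact Submodule.add_mem_sup (hst₁ y hy) (hst₂ z hz)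
    · intro μ hμ
      have hlt : μ₀ < μ := Finset.min'_lt_of_mem_erase_min' s' hs' hμ
      have := sSup_stableIso_mem (p := p) (k := k) hG μ
      exact ⟨this.1, SlopeGt.of_isoInt this.2 hlt⟩
  have h0 := sSup_stableIso_mem (p := p) (k := k) hG μ₀
  set T : Submodule L N := sSup (StableIso (p := p) (k := k) (⇑F) μ₀) ⊓
    t.sup (fun μ => sSup (StableIso (p := p) (k := k) (⇑F) μ)) with hT
  have hTst : ∀ x ∈ T, F x ∈ T := fun x hx => ⟨h0.1 x hx.1, hgood.1 x hx.2⟩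
  have hTiso : IsoInt (p := p) (k := k) (⇑F) T μ₀ :=
    IsoInt.of_stable_le hG hinj h0.2 inf_le_left hTst
  have hTbot : T = ⊥ := eq_bot_of_isoInt_of_slopeGt hG hTiso (hgood.2.mono inf_le_right)
  apply hvμ₀
  have hvT : v μ₀ ∈ T := by
    refine ⟨hmem μ₀ (Finset.mem_filter.mp hμ₀).1, ?_⟩
    have : v μ₀ = -∑ μ ∈ t, v μ := eq_neg_of_add_eq_zero_left hsum'
    rw [this]
    apply Submodule.neg_mem
    apply Submodule.sum_mem
    intro μ hμ
    exact (Finset.le_sup (f := fun μ => sSup (StableIso (p := p) (k := k) (⇑F) μ)) hμ)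
      (hmem μ (hts μ hμ))
  rw [hTbot] at hvT
  exact (Submodule.mem_bot L).mp hvT

end Groth.Agent.H85
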