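import Groth.Agent.H85.IsoSlope

set_option autoImplicit false
set_option linter.unusedSectionVars false

noncomputable section

open scoped Isocrystal Pointwise
open Filter Topology Module

universe u v v'

namespace Groth.Agent.H85

variable {p : ℕ} [Fact p.Prime] {k : Type u} [Field k] [CharP k p] [PerfectRing k p]

local notation "W" => WittVector p k
local notation "L" => FractionRing (WittVector p k)

section general

variable {N : Type v} [AddCommGroup N] [Module (WittVector p k) N] [Module (FractionRing (WittVector p k)) N]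
  [IsScalarTower (WittVector p k) (FractionRing (WittVector p k)) N]

variable {h : ℕ}

theorem img_span {G : N → N} (hG : IsSemi (p := p) (k := k) G) (S : Set N) :
    img G (Submodule.span W S) = Submodule.span W (G '' S) := by
  obtain ⟨ρW, hρ⟩ := hG.map_W_smul
  apply le_antisymm
  · intro y hy
    obtain ⟨x, hx, rfl⟩ := (mem_img hG).mp hy
    clear hy
    induction hx using Submodule.span_induction with
    | mem z hz => exact Submodule.subset_span ⟨z, hz, rfl⟩
    | zero => rw [hG.map_zero]; exact Submodule.zero_mem _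
    | add a b _ _ ha hb => rw [hG.map_add]; exact Submodule.add_mem _ ha hb
    | smul w a _ ha => rw [hρ]; exact Submodule.smul_mem _ _ ha
  · rw [Submodule.span_le]
    rintro _ ⟨x, hx, rfl⟩
    exact apply_mem_img G (Submodule.subset_span hx)

theorem img_stdLat_eq_pPow {G : N → N} (hG : IsSemi (p := p) (k := k) G) (b : Basis (Fin h) L N)
    {d : ℤ} (hb : ∀ j, G (b j) = ((p : L) ^ d) • b j) :
    img G (stdLat (p := p) (k := k) b) = Isoc.pPow d (stdLat b) := by
  unfold stdLat
  rw [img_span hG, pPow_def, Submodule.smul_span]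
  congr 1
  ext y
  constructor
  · rintro ⟨_, ⟨j, rfl⟩, rfl⟩
    exact ⟨b j, ⟨j, rfl⟩, (hb j).symm⟩
  · rintro ⟨_, ⟨j, rfl⟩, rfl⟩
    exact ⟨b j, ⟨j, rfl⟩, hb j⟩

theorem detC_ne_zero_of_iterate {G : N → N} (hG : IsSemi (p := p) (k := k) G) (b : Basis (Fin h) L N)
    {s : ℕ} (hs : 0 < s) (hne : detC b (G^[s]) ≠ 0) : detC b G ≠ 0 := by
  obtain ⟨T, hT⟩ := hG.exists_semiWith
  intro h0
  apply hne
  obtain ⟨s', rfl⟩ : ∃ s', s = s' + 1 := ⟨s - 1, by omega⟩
  rw [Function.iterate_succ', detC_comp hT, h0, zero_mul]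

end general

section std

variable (a : ℤ) (d : ℤ) (h : ℕ)

theorem stdIsoc_single (j : Fin (h + 1)) :
    Isoc.stdIsoc (Isoc.frob p k a) d (h + 1) (Pi.single j 1) =
      (if (finRotate (h + 1) j).val = 0 then (p : L) ^ d else 1) • Pi.single (finRotate (h + 1) j) 1 := by
  ext i
  rw [Isoc.stdIsoc_apply, Pi.smul_apply, smul_eq_mul]
  by_cases hi : i = finRotate (h + 1) j
  · subst hi
    rw [Equiv.symm_apply_apply, Pi.single_eq_same, Pi.single_eq_same, map_one]
  · have : (finRotate (h + 1)).symm i ≠ j := by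
      intro h'
      apply hi
      rw [← h', Equiv.apply_symm_apply]
    rw [Pi.single_eq_of_ne this, Pi.single_eq_of_ne hi, map_zero, mul_zero, mul_zero]

theorem stdIsoc_single_of_lt (j : ℕ) (hj : j + 1 < h + 1) :
    Isoc.stdIsoc (Isoc.frob p k a) d (h + 1) (Pi.single (⟨j, by omega⟩ : Fin (h + 1)) 1) =
      Pi.single (⟨j + 1, hj⟩ : Fin (h + 1)) 1 := by
  rw [stdIsoc_single]
  have h1 : finRotate (h + 1) (⟨j, by omega⟩ : Fin (h + 1)) = ⟨j + 1, hj⟩ := by
    rw [finRotate_of_lt (by simpa using hj)]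
  rw [h1]
  simp

theorem stdIsoc_single_last :
    Isoc.stdIsoc (Isoc.frob p k a) d (h + 1) (Pi.single (Fin.last h) 1) =
      ((p : L) ^ d) • Pi.single (0 : Fin (h + 1)) 1 := by
  rw [stdIsoc_single, finRotate_last]
  simp

theorem stdIsoc_iterate_zero (n : ℕ) (hn : n < h + 1) :
    (Isoc.stdIsoc (Isoc.frob p k a) d (h + 1))^[n] (Pi.single (0 : Fin (h + 1)) 1) =
      Pi.single (⟨n, hn⟩ : Fin (h + 1)) 1 := by
  induction n with
  | zero => rfl
  | succ n ih =>
    rw [Function.iterate_succ_apply', ih (by omega)]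
    exact stdIsoc_single_of_lt a d h n hn

theorem stdIsoc_iterate_full_zero :
    (Isoc.stdIsoc (Isoc.frob p k a) d (h + 1))^[h + 1] (Pi.single (0 : Fin (h + 1)) 1) =
      ((p : L) ^ d) • Pi.single (0 : Fin (h + 1)) 1 := by
  rw [Function.iterate_succ_apply', stdIsoc_iterate_zero a d h h (by omega)]
  exact stdIsoc_single_last a d h

theorem stdIsoc_iterate_full (i : Fin (h + 1)) :
    (Isoc.stdIsoc (Isoc.frob p k a) d (h + 1))^[h + 1] (Pi.single i 1) =
      ((p : L) ^ d) • Pi.single i 1 := by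
  have hG := IsSemi.of_semilinear (Isoc.stdIsoc (Isoc.frob p k a) d (h + 1))
  have h1 := stdIsoc_iterate_zero (p := p) (k := k) a d h i.val i.isLt
  have h1' : Pi.single i (1 : L) =
      (Isoc.stdIsoc (Isoc.frob p k a) d (h + 1))^[i.val] (Pi.single (0 : Fin (h + 1)) 1) := by
    rw [h1]
  have hcomm : ∀ (f : (Fin (h + 1) → L) → (Fin (h + 1) → L)) (m n : ℕ) (x : Fin (h + 1) → L),
      f^[m] (f^[n] x) = f^[n] (f^[m] x) := fun f m n x => by
    rw [← Function.iterate_add_apply, ← Function.iterate_add_apply, Nat.add_comm m n]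
  conv_lhs => rw [h1', hcomm, stdIsoc_iterate_full_zero, (hG.iterate _).map_pow_smul]
  rw [← h1']

theorem stdIsoc_injective :
    Function.Injective (Isoc.stdIsoc (Isoc.frob p k a) d h) := by
  rw [← LinearMap.ker_eq_bot, LinearMap.ker_eq_bot']
  intro x hx
  ext i
  have h1 := congrFun hx (finRotate h i)
  rw [Isoc.stdIsoc_apply, Equiv.symm_apply_apply, Pi.zero_apply] at h1
  have hc : (if (finRotate h i).val = 0 then (p : L) ^ d else 1) ≠ 0 := by
    split_ifs
    · exact zpow_ne_zero _ pL_ne_zero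
    · exact one_ne_zero
  have h2 := (mul_eq_zero.mp h1).resolve_left hc
  exact (map_eq_zero _).mp h2

theorem stdIsoc_isoInt_top (hh : 0 < h) :
    IsoInt (p := p) (k := k) (⇑(Isoc.stdIsoc (Isoc.frob p k a) d h)) ⊤ ((d : ℚ) / h) := by
  obtain ⟨h', rfl⟩ : ∃ h', h = h' + 1 := ⟨h - 1, by omega⟩
  have hG := IsSemi.of_semilinear (Isoc.stdIsoc (Isoc.frob p k a) d (h' + 1))
  let b : Basis (Fin (h' + 1)) L (Fin (h' + 1) → L) := Pi.basisFun L (Fin (h' + 1))
  have hlat := stdLat_isLattice (p := p) (k := k) b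
  refine ⟨stdLat b, hlat.fg, hlat.span_eq_top, d, h' + 1, by omega, rfl, ?_⟩
  apply img_stdLat_eq_pPow (hG.iterate _)
  intro j
  rw [Pi.basisFun_apply]
  exact stdIsoc_iterate_full a d h' j

end std

end Groth.Agent.H85
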