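import Groth.Agent.H85.Fitting
import Groth.Agent.H85.Indep
import Groth.Agent.H85.StdIsoc

set_option autoImplicit false
set_option linter.unusedSectionVars false

noncomputable section

open scoped Isocrystal Pointwise
open Filter Topology Module

universe u v v'

namespace Groth.Agent.H85

variable {p : ℕ} [Fact p.Prime] {k : Type u} [Field k] [CharP k p] [PerfectRing k p]

local notation "W" => WittVector p k
local notation "L" => FractionRing (WittVector p k)

variable {N : Type v} [AddCommGroup N] [Module (WittVector p k) N] [Module (FractionRing (WittVector p k)) N]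
  [IsScalarTower (WittVector p k) (FractionRing (WittVector p k)) N]
variable {N' : Type v'} [AddCommGroup N'] [Module (WittVector p k) N'] [Module (FractionRing (WittVector p k)) N']
  [IsScalarTower (WittVector p k) (FractionRing (WittVector p k)) N']

variable {h : ℕ} {G H : N → N} {M : Submodule (WittVector p k) N}

theorem iterate_mem_pPow_of_le (hG : IsSemi (p := p) (k := k) G) (hGM : img G M ≤ M) {c : ℤ} {z : N}
    {n₀ n : ℕ} (hz : G^[n₀] z ∈ Isoc.pPow c M) (hn : n₀ ≤ n) : G^[n] z ∈ Isoc.pPow c M := by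
  obtain ⟨d, rfl⟩ := Nat.exists_eq_add_of_le hn
  rw [Nat.add_comm, Function.iterate_add_apply]
  have h1 : G^[d] (G^[n₀] z) ∈ img (G^[d]) (Isoc.pPow c M) := apply_mem_img _ hz
  rw [img_pPow (hG.iterate d)] at h1
  exact pPow_mono _ (img_iterate_le_self hG hGM d) h1

/-- the topologically nilpotent elements of a lattice -/
def nilPart (hG : IsSemi (p := p) (k := k) G) (M : Submodule W N) : Submodule W N where
  carrier := {z | z ∈ M ∧ ∀ c : ℕ, ∃ n₀ : ℕ, ∀ n, n₀ ≤ n → G^[n] z ∈ Isoc.pPow (c : ℤ) M}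
  add_mem' := by
    rintro a b ⟨haM, ha⟩ ⟨hbM, hb⟩
    refine ⟨M.add_mem haM hbM, fun c => ?_⟩
    obtain ⟨n₁, h₁⟩ := ha c
    obtain ⟨n₂, h₂⟩ := hb c
    refine ⟨max n₁ n₂, fun n hn => ?_⟩
    rw [(hG.iterate n).map_add]
    exact Submodule.add_mem _ (h₁ n ((le_max_left _ _).trans hn)) (h₂ n ((le_max_right _ _).trans hn))
  zero_mem' := by
    refine ⟨M.zero_mem, fun c => ⟨0, fun n _ => ?_⟩⟩
    rw [(hG.iterate n).map_zero]
    exact Submodule.zero_mem _
  smul_mem' := by
    rintro w z ⟨hzM, hz⟩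
    refine ⟨M.smul_mem _ hzM, fun c => ?_⟩
    obtain ⟨n₀, h₀⟩ := hz c
    refine ⟨n₀, fun n hn => ?_⟩
    obtain ⟨ρW, hρ⟩ := (hG.iterate n).map_W_smul
    rw [hρ]
    exact Submodule.smul_mem _ _ (h₀ n hn)

theorem mem_nilPart (hG : IsSemi (p := p) (k := k) G) {z : N} :
    z ∈ nilPart hG M ↔ z ∈ M ∧ ∀ c : ℕ, ∃ n₀ : ℕ, ∀ n, n₀ ≤ n → G^[n] z ∈ Isoc.pPow (c : ℤ) M :=
  Iff.rfl

/-- the Fitting decomposition in terms of spans -/
theorem span_unitPart_sup_span_nilPart [Module.Finite L N] (hh : Module.finrank L N = h)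
    (hG : IsSemi (p := p) (k := k) G) (hbij : Function.Bijective G) (hM : M.IsLattice L)
    (hGM : img G M ≤ M) :
    Submodule.span L (unitPart (p := p) (k := k) G M : Set N) ⊔
      Submodule.span L (nilPart hG M : Set N) = ⊤ := by
  obtain ⟨J, hJ⟩ := exists_fitting hh hG hbij hM hGM
  rw [eq_top_iff, ← hM.span_eq_top, Submodule.span_le]
  intro x hx
  obtain ⟨v, hv, hnil⟩ := hJ x hx
  have hx' : x = v + (x - v) := by abel
  rw [hx']
  refine Submodule.add_mem_sup (Submodule.subset_span hv) (Submodule.subset_span ?_)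
  refine ⟨Submodule.sub_mem _ hx (unitPart_le G M hv), fun c => ⟨J * c, fun n hn => ?_⟩⟩
  exact iterate_mem_pPow_of_le hG hGM (hnil c) hn

/-- if no iterate of `G` maps `M` into `pM`, the nilpotent part does not span -/
theorem span_nilPart_ne_top (hG : IsSemi (p := p) (k := k) G) (hM : M.IsLattice L)
    (hno : ∀ n : ℕ, 1 ≤ n → ¬ img (G^[n]) M ≤ Isoc.pPow 1 M) :
    Submodule.span L (nilPart hG M : Set N) ≠ ⊤ := by
  classical
  intro htop
  obtain ⟨S, hS⟩ := hM.fg
  have hex : ∀ x ∈ S, ∃ n₀ : ℕ, ∀ n, n₀ ≤ n → G^[n] x ∈ Isoc.pPow 1 M := by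
    intro x _
    have hx : x ∈ Submodule.span L (nilPart hG M : Set N) := by rw [htop]; trivial
    obtain ⟨m, hm⟩ := exists_pow_smul_mem_of_mem_span hx
    obtain ⟨n₀, hn₀⟩ := hm.2 (m + 1)
    refine ⟨n₀, fun n hn => ?_⟩
    have h1 := hn₀ n hn
    rw [← zpow_natCast, (hG.iterate n).map_pow_smul, mem_pPow, smul_smul, ← zpow_add₀ pL_ne_zero] at h1
    rw [mem_pPow]
    convert h1 using 3
    push_cast; ring
  choose! f hf using hex
  apply hno (S.sup f + 1) (by omega)
  have himg : img (G^[S.sup f + 1]) M = Submodule.span W ((G^[S.sup f + 1]) '' (S : Set N)) := by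
    rw [← img_span (hG.iterate _), hS]
  rw [himg, Submodule.span_le]
  rintro _ ⟨x, hx, rfl⟩
  exact hf x hx _ ((Finset.le_sup (f := f) hx).trans (Nat.le_succ _))

/-! ### stability under a commuting operator -/

theorem comm_iterate' (hcomm : ∀ x, H (G x) = G (H x)) (n : ℕ) (x : N) :
    H (G^[n] x) = G^[n] (H x) := by
  induction n generalizing x with
  | zero => rfl
  | succ n ih => rw [Function.iterate_succ_apply, Function.iterate_succ_apply, ih, hcomm]

theorem pow_smul_apply_mem_of_img_le {e : ℕ} (hHM : img H M ≤ Isoc.pPow (-(e : ℤ)) M) {m : N}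
    (hm : m ∈ M) : ((p : L) ^ (e : ℤ)) • H m ∈ M := by
  have := hHM (apply_mem_img H hm)
  rwa [mem_pPow, neg_neg] at this

theorem pow_smul_apply_mem_unitPart (hG : IsSemi (p := p) (k := k) G)
    (hcomm : ∀ x, H (G x) = G (H x)) {e : ℕ} (hHM : img H M ≤ Isoc.pPow (-(e : ℤ)) M) {z : N}
    (hz : z ∈ unitPart (p := p) (k := k) G M) :
    ((p : L) ^ (e : ℤ)) • H z ∈ unitPart (p := p) (k := k) G M := by
  rw [mem_unitPart] at hz ⊢
  intro j
  obtain ⟨m, hm, rfl⟩ := (mem_img (hG.iterate j)).mp (hz j)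
  rw [comm_iterate' hcomm, ← (hG.iterate j).map_pow_smul]
  exact apply_mem_img _ (pow_smul_apply_mem_of_img_le hHM hm)

theorem pow_smul_apply_mem_nilPart (hG : IsSemi (p := p) (k := k) G)
    (hH : IsSemi (p := p) (k := k) H)
    (hcomm : ∀ x, H (G x) = G (H x)) {e : ℕ} (hHM : img H M ≤ Isoc.pPow (-(e : ℤ)) M) {z : N}
    (hz : z ∈ nilPart hG M) : ((p : L) ^ (e : ℤ)) • H z ∈ nilPart hG M := by
  refine ⟨pow_smul_apply_mem_of_img_le hHM hz.1, fun c => ?_⟩
  obtain ⟨n₀, hn₀⟩ := hz.2 c
  refine ⟨n₀, fun n hn => ?_⟩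
  rw [(hG.iterate n).map_pow_smul, ← comm_iterate' hcomm]
  have h1 : H (G^[n] z) ∈ img H (Isoc.pPow (c : ℤ) M) := apply_mem_img H (hn₀ n hn)
  rw [img_pPow hH] at h1
  have h2 : H (G^[n] z) ∈ Isoc.pPow ((c : ℤ) + -(e : ℤ)) M := by
    rw [← pPow_pPow]
    exact pPow_mono _ hHM h1
  have h3 := smul_mem_pPow (r := (e : ℤ)) _ h2
  rw [pPow_pPow] at h3
  convert h3 using 2
  ring

/-- a semilinear map maps the `L`-span of a `W`-module `X` into itself as soon as it maps `X` into
`p^{-e} X` -/
theorem apply_mem_span_of_pow_smul_mem (hH : IsSemi (p := p) (k := k) H) {X : Submodule W N} {e : ℕ}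
    (hX : ∀ z ∈ X, ((p : L) ^ (e : ℤ)) • H z ∈ X) :
    ∀ x ∈ Submodule.span L (X : Set N), H x ∈ Submodule.span L (X : Set N) := by
  obtain ⟨T, hadd, hsmul⟩ := hH
  have hH : IsSemi (p := p) (k := k) H := ⟨T, hadd, hsmul⟩
  intro x hx
  induction hx using Submodule.span_induction with
  | mem z hz =>
    have h1 : H z = ((p : L) ^ (-(e : ℤ))) • (((p : L) ^ (e : ℤ)) • H z) := by
      rw [smul_smul, ← zpow_add₀ pL_ne_zero, neg_add_cancel, zpow_zero, one_smul]
    rw [h1]
    exact Submodule.smul_mem _ _ (Submodule.subset_span (hX z hz))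
  | zero => rw [hH.map_zero]; exact Submodule.zero_mem _
  | add a b _ _ ha hb => rw [hadd]; exact Submodule.add_mem _ ha hb
  | smul c a _ ha => rw [hsmul]; exact Submodule.smul_mem _ _ ha

/-! ### transport of stable isoclinic subspaces -/

theorem StableIso.map (φ : N' →ₗ[FractionRing (WittVector p k)] N)
    {G' : N' → N'} {G : N → N} (hG' : IsSemi (p := p) (k := k) G') (hG : IsSemi (p := p) (k := k) G)
    (hcomm : ∀ x, φ (G' x) = G (φ x)) {μ : ℚ} {Q : Submodule L N'}
    (hQ : Q ∈ StableIso (p := p) (k := k) G' μ) : Q.map φ ∈ StableIso (p := p) (k := k) G μ := by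
  obtain ⟨hst, M₁, hfg, hsp, r, s, hs, hrs, e⟩ := hQ
  refine ⟨?_, mapW φ M₁, mapW_fg φ hfg, ?_, r, s, hs, hrs, ?_⟩
  · rintro _ ⟨q, hq, rfl⟩
    rw [← hcomm]
    exact ⟨G' q, hst q hq, rfl⟩
  · rw [span_mapW, hsp]
  · rw [← mapW_img φ (hG'.iterate s) (hG.iterate s) (comm_iterate φ hcomm s), e, mapW_pPow]


/-! ### the slope parts span -/

theorem iSup_slopePart_eq_top (a : ℤ) : ∀ (h : ℕ) (N : Type v) [AddCommGroup N]
    [Module (WittVector p k) N] [Module (FractionRing (WittVector p k)) N]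
    [IsScalarTower (WittVector p k) (FractionRing (WittVector p k)) N]
    (F : N →ₛₗ[Isoc.frob p k a] N), Isoc.IsIsoc F →
    Module.finrank (FractionRing (WittVector p k)) N = h →
    ⨆ μ : ℚ, Isoc.slopePart F μ = ⊤ := by
  intro h
  induction h using Nat.strong_induction_on with
  | _ h ih =>
  intro N _ _ _ _ F hF hh
  have hfin := hF.finite
  have hG := IsSemi.of_semilinear F
  rcases subsingleton_or_nontrivial N with hsub | hnt
  · exact Subsingleton.elim _ _
  -- the first slope
  have hM₀ := stdLat_isLattice (p := p) (k := k) (Module.finBasis L N)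
  obtain ⟨o, ho, lam, hlam⟩ := exists_ord_tendsto hG hF.bijective.surjective hM₀
  have hs : HasSlope (p := p) (k := k) (⇑F) lam := ⟨_, hM₀, o, fun n _ => ho n, hlam⟩
  obtain ⟨r, s, M, hs0, hsh, hrs, hM, hord⟩ :=
    exists_rational_slope hh hG hF.bijective.surjective hs
  -- the operator `G' = p^{-r} F^s`
  obtain ⟨G', hG'def⟩ : ∃ G' : N → N, G' = twistIter p k (⇑F) (-r) s := ⟨_, rfl⟩
  have hG' : IsSemi (p := p) (k := k) G' := by
    rw [hG'def]; exact twistIter_isSemi hG (-r) s
  have hbij' : Function.Bijective G' := by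
    rw [hG'def]; exact twistIter_bijective hF.bijective (-r) s
  have himg' : ∀ X : Submodule W N, img G' X = Isoc.pPow (-r) (img ((⇑F)^[s]) X) := by
    intro X
    rw [hG'def, img_twistIter]
  have hGM' : img G' M ≤ M := by
    rw [himg', pPow_le_iff, neg_neg]
    exact hord.1
  have hs' : HasSlope (p := p) (k := k) G' 0 := by
    have := hs.twistIter hG (-r) s
    rw [← hG'def] at this
    convert this using 1
    have hs0' : (s : ℝ) ≠ 0 := by exact_mod_cast hs0.ne'
    rw [hrs]
    push_cast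
    field_simp
    ring
  have hno : ∀ n : ℕ, 1 ≤ n → ¬ img (G'^[n]) M ≤ Isoc.pPow 1 M := by
    intro n hn hle
    have hs'' := hs'.twistIter hG' 0 n
    have heq : twistIter p k G' 0 n = G'^[n] := by
      funext x
      simp [twistIter]
    rw [heq] at hs''
    have hzero : ((n : ℝ) * 0 + ((0 : ℤ) : ℝ)) = 0 := by simp
    rw [hzero] at hs''
    have hst : img (G'^[n]) M ≤ M := img_iterate_le_self hG' hGM' n
    have := ordG_zero_of_stable_of_slope_zero (hG'.iterate n) (hbij'.surjective.iterate n) hs'' hM hst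
    exact this.2 (by simpa using hle)
  -- Fitting decomposition
  have hdec := span_unitPart_sup_span_nilPart hh hG' hbij' hM hGM'
  have hne := span_nilPart_ne_top hG' hM hno
  have hcomm : ∀ x, F (G' x) = G' (F x) := by
    intro x
    rw [hG'def]
    simp only [twistIter]
    rw [hG.map_pow_smul, ← Function.iterate_succ_apply' (⇑F), ← Function.iterate_succ_apply (⇑F)]
  obtain ⟨e, he⟩ := exists_le_pPow (img_fg hG hM.fg) hM.span_eq_top
  have hNust : ∀ x ∈ Submodule.span L (unitPart (p := p) (k := k) G' M : Set N),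
      F x ∈ Submodule.span L (unitPart (p := p) (k := k) G' M : Set N) :=
    apply_mem_span_of_pow_smul_mem hG (fun z hz => pow_smul_apply_mem_unitPart hG' hcomm he hz)
  have hPst : ∀ x ∈ Submodule.span L (nilPart hG' M : Set N),
      F x ∈ Submodule.span L (nilPart hG' M : Set N) :=
    apply_mem_span_of_pow_smul_mem hG (fun z hz => pow_smul_apply_mem_nilPart hG' hG hcomm he hz)
  have hNuiso : IsoInt (p := p) (k := k) (⇑F)
      (Submodule.span L (unitPart (p := p) (k := k) G' M : Set N)) ((r : ℚ) / s) := by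
    refine ⟨unitPart G' M, hM.fg.of_le (unitPart_le G' M), rfl, r, s, hs0, rfl, ?_⟩
    have h1 := img_unitPart hG' hbij'.injective hGM'
    rw [himg'] at h1
    have h2 := congrArg (Isoc.pPow r) h1
    rwa [pPow_pPow, add_neg_cancel, pPow_zero] at h2
  have hNule : Submodule.span L (unitPart (p := p) (k := k) G' M : Set N) ≤
      ⨆ μ : ℚ, Isoc.slopePart F μ := by
    refine le_trans ?_ (le_iSup _ ((r : ℚ) / s))
    rw [slopePart_eq]
    exact le_sSup ⟨hNust, hNuiso⟩
  -- the induction hypothesis applies to the nilpotent part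
  have hPlt : Module.finrank L (Submodule.span L (nilPart hG' M : Set N)) < h := by
    rw [← hh]
    exact Submodule.finrank_lt hne
  have hFP : Isoc.IsIsoc (F.restrict hPst) := by
    refine ⟨inferInstance, ?_, ?_⟩
    · intro x y hxy
      apply Subtype.ext
      apply hF.bijective.injective
      exact congrArg Subtype.val hxy
    · intro y
      obtain ⟨x, hx⟩ := hF.bijective.surjective (y : N)
      have hxP : x ∈ Submodule.span L (nilPart hG' M : Set N) :=
        mem_of_apply_mem hG hF.bijective.injective _ hPst (hx ▸ y.2)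
      exact ⟨⟨x, hxP⟩, Subtype.ext hx⟩
  have ihP := ih _ hPlt (Submodule.span L (nilPart hG' M : Set N)) (F.restrict hPst) hFP rfl
  have hPle : Submodule.span L (nilPart hG' M : Set N) ≤ ⨆ μ : ℚ, Isoc.slopePart F μ := by
    have h1 : Submodule.span L (nilPart hG' M : Set N) =
        (⊤ : Submodule L (Submodule.span L (nilPart hG' M : Set N))).map
          (Submodule.span L (nilPart hG' M : Set N)).subtype := by
      simp
    rw [h1, ← ihP, Submodule.map_iSup]
    apply iSup_mono
    intro μ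
    rw [slopePart_eq, slopePart_eq]
    have hGP := IsSemi.of_semilinear (F.restrict hPst)
    exact le_sSup (StableIso.map _ hGP hG (fun x => rfl) (sSup_stableIso_mem hGP μ))
  rw [eq_top_iff, ← hdec]
  exact sup_le hNule hPle

end Groth.Agent.H85
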