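import Mathlib

/-!
# Artin–Schreier automorphism `t ↦ t·u`, `uⁿ(1+tⁿ) = 1`, acting on `k⟦t⟧` (basic congruences)

`σ = subst (X * u)`, `τ_a h = u^a · σ h`.  Main facts:
* `u^e ≡ 1 - (e/n) Xⁿ  (mod X^{n+1})` for every integer `e`;
* `σ h ≡ h (mod X^{n+1})`;
* if `X^j ∣ h` then `τ_a h - h ≡ -((a+j)/n) Xⁿ h (mod X^{j+n+1})`;
* a triangular independence lemma.
(helper for S13861–S13864)
-/

set_option autoImplicit false
set_option linter.unusedSectionVars false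

open PowerSeries

namespace Groth.Agent.H85.ASCover

variable {k : Type*} [Field k]

/-- The substitution `t ↦ t·u` as an algebra endomorphism. -/
noncomputable def sig (U : k⟦X⟧ˣ) : k⟦X⟧ →ₐ[k] k⟦X⟧ :=
  substAlgHom (HasSubst.X'.mul_left : HasSubst ((X : k⟦X⟧) * (U : k⟦X⟧)))

theorem hasSubst (U : k⟦X⟧ˣ) : HasSubst ((X : k⟦X⟧) * (U : k⟦X⟧)) := HasSubst.X'.mul_left

theorem sig_apply (U : k⟦X⟧ˣ) (h : k⟦X⟧) : sig U h = subst (X * (U : k⟦X⟧)) h := by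
  rw [sig, coe_substAlgHom]

theorem sig_X (U : k⟦X⟧ˣ) : sig U X = X * (U : k⟦X⟧) := by
  rw [sig_apply, subst_X (hasSubst U)]

/-- Integer powers of the unit `u`, as power series. -/
noncomputable def upow (U : k⟦X⟧ˣ) (a : ℤ) : k⟦X⟧ := ((U ^ a : k⟦X⟧ˣ) : k⟦X⟧)

theorem upow_zero (U : k⟦X⟧ˣ) : upow U 0 = 1 := by simp [upow]

theorem upow_add (U : k⟦X⟧ˣ) (a b : ℤ) : upow U (a + b) = upow U a * upow U b := by
  simp [upow, zpow_add]

theorem upow_natCast (U : k⟦X⟧ˣ) (j : ℕ) : upow U (j : ℤ) = (U : k⟦X⟧) ^ j := by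
  simp [upow]

theorem upow_one (U : k⟦X⟧ˣ) : upow U 1 = (U : k⟦X⟧) := by simp [upow]

theorem upow_neg_mul (U : k⟦X⟧ˣ) (a : ℤ) : upow U (-a) * upow U a = 1 := by
  rw [← upow_add, neg_add_cancel, upow_zero]

theorem upow_mul_natCast (U : k⟦X⟧ˣ) (a : ℤ) (j : ℕ) : upow U (a * j) = upow U a ^ j := by
  simp [upow, zpow_mul]

/-- The twisted action `τ_a h = u^a · h(t u)`. -/
noncomputable def tau (U : k⟦X⟧ˣ) (a : ℤ) : k⟦X⟧ →ₗ[k] k⟦X⟧ :=
  (LinearMap.mulLeft k (upow U a)).comp (sig U).toLinearMap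

theorem tau_apply (U : k⟦X⟧ˣ) (a : ℤ) (h : k⟦X⟧) : tau U a h = upow U a * sig U h := rfl

section Cong

variable {p : ℕ} [Fact p.Prime] [CharP k p] {n : ℕ}

/-- The constant `-1/n`. -/
noncomputable def r0 (k : Type*) [Field k] (n : ℕ) : k := -((n : k))⁻¹

omit [Fact p.Prime] in
theorem natCast_ne_zero (hpn : ¬ p ∣ n) : (n : k) ≠ 0 := by
  intro h
  exact hpn ((CharP.cast_eq_zero_iff k p n).mp h)

theorem r0_ne_zero (hpn : ¬ p ∣ n) : r0 k n ≠ 0 := by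
  rw [r0, neg_ne_zero]
  exact inv_ne_zero (natCast_ne_zero hpn)

theorem intCast_mul_r0_ne_zero (hpn : ¬ p ∣ n) {e : ℤ} (he : ¬ (p : ℤ) ∣ e) :
    (e : k) * r0 k n ≠ 0 := by
  apply mul_ne_zero _ (r0_ne_zero hpn)
  intro h
  exact he ((CharP.intCast_eq_zero_iff k p e).mp h)

variable (U : k⟦X⟧ˣ) (hu1 : constantCoeff (U : k⟦X⟧) = 1)
  (hun : (U : k⟦X⟧) ^ n * (1 + X ^ n) = 1)

include hu1 hun in
theorem exists_r (hpn : ¬ p ∣ n) :
    ∃ r : k⟦X⟧, (U : k⟦X⟧) = 1 + X ^ n * r ∧ constantCoeff r = r0 k n := by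
  set u : k⟦X⟧ := (U : k⟦X⟧) with hu
  set G : k⟦X⟧ := ∑ i ∈ Finset.range n, u ^ i with hG
  have hG0 : constantCoeff G = (n : k) := by
    rw [hG, map_sum]
    simp [hu1]
  have hGu : IsUnit G := by
    rw [isUnit_iff_constantCoeff, hG0]
    exact (natCast_ne_zero hpn).isUnit
  obtain ⟨Gu, hGu'⟩ := hGu
  have h1 : G * (u - 1) = u ^ n - 1 := geom_sum_mul u n
  have h2 : u ^ n - 1 = - (u ^ n * X ^ n) := by
    have : u ^ n + u ^ n * X ^ n = 1 := by rw [← hun]; ring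
    rw [← this]; ring
  refine ⟨-((Gu⁻¹ : k⟦X⟧ˣ) : k⟦X⟧) * u ^ n, ?_, ?_⟩
  · have h3 : u - 1 = ((Gu⁻¹ : k⟦X⟧ˣ) : k⟦X⟧) * (G * (u - 1)) := by
      rw [← mul_assoc, ← hGu', Units.inv_mul, one_mul]
    rw [h1, h2] at h3
    linear_combination h3
  · have h4 : constantCoeff (((Gu⁻¹ : k⟦X⟧ˣ) : k⟦X⟧)) * (n : k) = 1 := by
      rw [← hG0, ← map_mul, ← hGu', Units.inv_mul, map_one]
    rw [map_mul, map_neg, map_pow, hu1, one_pow, mul_one, r0, neg_inj]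
    exact eq_inv_of_mul_eq_one_left h4

omit [Fact p.Prime] [CharP k p] in
/-- Multiplicativity of congruences `≡ 1 + α Xⁿ (mod X^{n+1})`. -/
theorem cong_mul (hn : 0 < n) {A B : k⟦X⟧} {α β : k}
    (hA : (X : k⟦X⟧) ^ (n + 1) ∣ A - (1 + C α * X ^ n))
    (hB : (X : k⟦X⟧) ^ (n + 1) ∣ B - (1 + C β * X ^ n)) :
    (X : k⟦X⟧) ^ (n + 1) ∣ A * B - (1 + C (α + β) * X ^ n) := by
  have h2 : (X : k⟦X⟧) ^ (n + 1) ∣ (X ^ n * X ^ n : k⟦X⟧) := by
    rw [← pow_add]; exact pow_dvd_pow X (by omega)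
  have : A * B - (1 + C (α + β) * X ^ n) = (A - (1 + C α * X ^ n)) * B
      + (1 + C α * X ^ n) * (B - (1 + C β * X ^ n)) + C α * C β * (X ^ n * X ^ n) := by
    rw [map_add]; ring
  rw [this]
  exact dvd_add (dvd_add (Dvd.dvd.mul_right hA _) (Dvd.dvd.mul_left hB _))
    (Dvd.dvd.mul_left h2 _)

include hu1 hun in
theorem U_congr (hpn : ¬ p ∣ n) :
    (X : k⟦X⟧) ^ (n + 1) ∣ (U : k⟦X⟧) - (1 + C (r0 k n) * X ^ n) := by
  obtain ⟨r, hr, hr0⟩ := exists_r U hu1 hun hpn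
  have h1 : (X : k⟦X⟧) ∣ r - C (r0 k n) := by
    rw [X_dvd_iff, map_sub, hr0, constantCoeff_C, sub_self]
  obtain ⟨q, hq⟩ := h1
  refine ⟨q, ?_⟩
  rw [hr]
  linear_combination (X : k⟦X⟧) ^ n * hq

include hu1 hun in
theorem upow_congr (hn : 0 < n) (hpn : ¬ p ∣ n) (e : ℤ) :
    (X : k⟦X⟧) ^ (n + 1) ∣ upow U e - (1 + C ((e : k) * r0 k n) * X ^ n) := by
  have hU := U_congr U hu1 hun hpn
  have hUinv : (X : k⟦X⟧) ^ (n + 1) ∣ upow U (-1) - (1 + C (-(r0 k n)) * X ^ n) := by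
    have hB : (X : k⟦X⟧) ^ (n + 1) ∣
        (1 + C (-(r0 k n)) * X ^ n) - (1 + C (-(r0 k n)) * X ^ n) := by
      rw [sub_self]; exact dvd_zero _
    have h1 := cong_mul hn hU hB
    rw [add_neg_cancel, map_zero, zero_mul, add_zero] at h1
    have h2 : upow U (-1) * (U : k⟦X⟧) = 1 := by
      have := upow_neg_mul U 1
      rwa [upow_one] at this
    have : upow U (-1) - (1 + C (-(r0 k n)) * X ^ n)
        = -(upow U (-1)) * ((U : k⟦X⟧) * (1 + C (-(r0 k n)) * X ^ n) - 1) := by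
      linear_combination (1 + C (-(r0 k n)) * X ^ n) * h2
    rw [this]
    exact Dvd.dvd.mul_left h1 _
  induction e using Int.induction_on with
  | zero => simp [upow_zero]
  | succ i ih =>
    have h1 := cong_mul hn ih (by rw [upow_one]; exact hU : (X : k⟦X⟧) ^ (n + 1) ∣
      upow U 1 - (1 + C (r0 k n) * X ^ n))
    rw [← upow_add] at h1
    have e2 : (((i : ℤ) + 1 : ℤ) : k) * r0 k n = (((i : ℤ) : ℤ) : k) * r0 k n + r0 k n := by
      push_cast; ring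
    rw [e2]; exact h1
  | pred i ih =>
    have h1 := cong_mul hn ih hUinv
    rw [← upow_add] at h1
    have e1 : (-(i : ℤ) - 1) = -(i : ℤ) + -1 := by ring
    have e2 : ((-(i : ℤ) - 1 : ℤ) : k) * r0 k n = ((-(i : ℤ) : ℤ) : k) * r0 k n + -r0 k n := by
      push_cast; ring
    rw [e2, e1]; exact h1

include hu1 hun in
theorem sig_congr (hpn : ¬ p ∣ n) (h : k⟦X⟧) :
    (X : k⟦X⟧) ^ (n + 1) ∣ sig U h - h := by
  obtain ⟨r, hr, -⟩ := exists_r U hu1 hun hpn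
  have hXU : (X : k⟦X⟧) ^ (n + 1) ∣ (X * (U : k⟦X⟧) - X) := by
    refine ⟨r, ?_⟩
    rw [hr]; ring
  set h' : k⟦X⟧ := PowerSeries.mk fun i ↦ coeff (i + (n + 1)) h with hh'
  set P : Polynomial k := trunc (n + 1) h with hP
  have hh : h = X ^ (n + 1) * h' + (P : k⟦X⟧) := eq_X_pow_mul_shift_add_trunc (n + 1) h
  have h1 : sig U (P : k⟦X⟧) = Polynomial.aeval (X * (U : k⟦X⟧)) P := by
    rw [sig_apply, subst_coe (hasSubst U)]
  have h2 : (P : k⟦X⟧) = Polynomial.aeval (X : k⟦X⟧) P := by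
    conv_lhs => rw [← X_subst (P : k⟦X⟧)]
    rw [subst_coe HasSubst.X']
  have h3 : (X * (U : k⟦X⟧) - X) ∣ sig U (P : k⟦X⟧) - (P : k⟦X⟧) := by
    rw [h1]
    conv_rhs => rw [h2]
    rw [Polynomial.aeval_def, Polynomial.aeval_def, Polynomial.eval₂_eq_eval_map,
      Polynomial.eval₂_eq_eval_map]
    exact Polynomial.sub_dvd_eval_sub _ _ _
  have h4 : sig U h - h = X ^ (n + 1) * ((U : k⟦X⟧) ^ (n + 1) * sig U h' - h')
      + (sig U (P : k⟦X⟧) - (P : k⟦X⟧)) := by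
    conv_lhs => rw [hh]
    rw [map_add, map_mul, map_pow, sig_X]
    ring
  rw [h4]
  exact dvd_add (dvd_mul_right _ _) (hXU.trans h3)

include hu1 hun in
/-- The fundamental congruence for `τ_a - 1`. -/
theorem tau_sub_congr (hn : 0 < n) (hpn : ¬ p ∣ n) (a : ℤ) (j : ℕ) (h : k⟦X⟧)
    (hj : (X : k⟦X⟧) ^ j ∣ h) :
    (X : k⟦X⟧) ^ (j + n + 1) ∣
      (tau U a h - h) - C (((a + j : ℤ) : k) * r0 k n) * X ^ n * h := by
  obtain ⟨g, rfl⟩ := hj
  have h1 := upow_congr U hu1 hun hn hpn (a + j)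
  have h2 := sig_congr U hu1 hun hpn g
  set c : k⟦X⟧ := C (((a + j : ℤ) : k) * r0 k n) with hc
  have h3 : tau U a (X ^ j * g) = X ^ j * (upow U (a + j) * sig U g) := by
    rw [tau_apply, map_mul, map_pow, sig_X, upow_add, upow_natCast]
    ring
  have h4 : tau U a (X ^ j * g) - X ^ j * g - c * X ^ n * (X ^ j * g)
      = X ^ j * ((upow U (a + j) - (1 + c * X ^ n)) * sig U g
        + (1 + c * X ^ n) * (sig U g - g)) := by
    rw [h3]; ring
  rw [h4, show j + n + 1 = j + (n + 1) by ring, pow_add]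
  exact mul_dvd_mul_left _ (dvd_add (Dvd.dvd.mul_right h1 _) (Dvd.dvd.mul_left h2 _))

include hu1 hun in
theorem tau_sub_dvd (hn : 0 < n) (hpn : ¬ p ∣ n) (a : ℤ) (j : ℕ) (h : k⟦X⟧)
    (hj : (X : k⟦X⟧) ^ j ∣ h) : (X : k⟦X⟧) ^ (j + n) ∣ tau U a h - h := by
  have h1 := tau_sub_congr U hu1 hun hn hpn a j h hj
  have h2 : (X : k⟦X⟧) ^ (j + n) ∣ C (((a + j : ℤ) : k) * r0 k n) * X ^ n * h := by
    obtain ⟨g, rfl⟩ := hj
    refine ⟨C (((a + j : ℤ) : k) * r0 k n) * g, ?_⟩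
    rw [pow_add]; ring
  have h3 : (X : k⟦X⟧) ^ (j + n) ∣
      (tau U a h - h) - C (((a + j : ℤ) : k) * r0 k n) * X ^ n * h :=
    (pow_dvd_pow X (by omega)).trans h1
  have := dvd_add h3 h2
  rwa [sub_add_cancel] at this

include hu1 hun in
theorem coeff_tau_sub (hn : 0 < n) (hpn : ¬ p ∣ n) (a : ℤ) (j : ℕ) (h : k⟦X⟧)
    (hj : (X : k⟦X⟧) ^ j ∣ h) :
    coeff (j + n) (tau U a h - h) = ((a + j : ℤ) : k) * r0 k n * coeff j h := by
  have h1 := tau_sub_congr U hu1 hun hn hpn a j h hj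
  rw [X_pow_dvd_iff] at h1
  have h2 := h1 (j + n) (by omega)
  rw [map_sub, sub_eq_zero] at h2
  rw [h2, mul_assoc, coeff_C_mul, coeff_X_pow_mul]

include hu1 hun in
/-- The elements `c_m` with `X^m c_m = u^{a-m} - 1`: order and leading coefficient. -/
theorem c_spec (hn : 0 < n) (hpn : ¬ p ∣ n) (a : ℤ) (m : ℕ) (hmn : m ≤ n) (c : k⟦X⟧)
    (hc : X ^ m * c = upow U (a - m) - 1) :
    (X : k⟦X⟧) ^ (n - m) ∣ c ∧ coeff (n - m) c = ((a - m : ℤ) : k) * r0 k n := by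
  obtain ⟨q, hq⟩ := upow_congr U hu1 hun hn hpn (a - m)
  have h1 : c = C (((a - m : ℤ) : k) * r0 k n) * X ^ (n - m) + X ^ (n - m + 1) * q := by
    apply mul_left_cancel₀ (pow_ne_zero m (X_ne_zero (R := k)))
    rw [hc]
    have e1 : (X : k⟦X⟧) ^ n = X ^ m * X ^ (n - m) := by
      rw [← pow_add]; congr 1; omega
    have e2 : (X : k⟦X⟧) ^ (n + 1) = X ^ m * X ^ (n - m + 1) := by
      rw [← pow_add]; congr 1; omega
    rw [e2] at hq
    rw [e1] at hq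
    linear_combination hq
  constructor
  · rw [h1, pow_succ]
    exact dvd_add (dvd_mul_left _ _) ⟨X * q, by ring⟩
  · rw [h1, map_add, coeff_C_mul, coeff_X_pow_self, mul_one]
    have : coeff (n - m) ((X : k⟦X⟧) ^ (n - m + 1) * q) = 0 := by
      have hd : (X : k⟦X⟧) ^ (n - m + 1) ∣ X ^ (n - m + 1) * q := dvd_mul_right _ _
      rw [X_pow_dvd_iff] at hd
      exact hd _ (by omega)
    rw [this, add_zero]

omit [Fact p.Prime] [CharP k p] in
/-- Triangular independence modulo `Xⁿ`. -/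
theorem tri_indep (S : Finset ℕ) (hS : ∀ m ∈ S, 1 ≤ m ∧ m ≤ n) (c : ℕ → k⟦X⟧)
    (hc : ∀ m ∈ S, (X : k⟦X⟧) ^ (n - m) ∣ c m) (hc' : ∀ m ∈ S, coeff (n - m) (c m) ≠ 0)
    (lam : ℕ → k) (hsum : (X : k⟦X⟧) ^ n ∣ ∑ m ∈ S, lam m • c m) :
    ∀ m ∈ S, lam m = 0 := by
  have key : ∀ j : ℕ, ∀ m ∈ S, n - m = j → lam m = 0 := by
    intro j
    induction j using Nat.strong_induction_on with
    | _ j ih =>
      intro m hm hmj
      have hjn : j < n := by have := hS m hm; omega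
      have h0 : coeff j (∑ m ∈ S, lam m • c m) = 0 := (X_pow_dvd_iff.mp hsum) j hjn
      rw [map_sum, Finset.sum_eq_single m] at h0
      · rw [coeff_smul, smul_eq_mul, hmj.symm] at h0
        rcases mul_eq_zero.mp h0 with h | h
        · exact h
        · exact absurd h (hc' m hm)
      · intro m' hm' hne
        rw [coeff_smul, smul_eq_mul]
        rcases lt_trichotomy (n - m') j with h | h | h
        · rw [ih (n - m') h m' hm' rfl, zero_mul]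
        · exfalso
          have := hS m' hm'; have := hS m hm
          apply hne; omega
        · rw [(X_pow_dvd_iff.mp (hc m' hm')) j h, mul_zero]
      · intro h; exact absurd hm h
  intro m hm
  exact key (n - m) m hm rfl

end Cong

end Groth.Agent.H85.ASCover
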