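import Groth.Agent.H85.ASCover

/-!
# The iterates `U_l = σ^l(t)/t`, the norm unit `V = ∏_{l<p} U_l`, and vanishing of the classes
of `t^i` with `p ∣ i` (helper for S13863, S13861)
-/

set_option autoImplicit false
set_option linter.unusedSectionVars false

open PowerSeries

namespace Groth.Agent.H85.ASCover

variable {k : Type*} [Field k] {p : ℕ} [Fact p.Prime] [CharP k p] {n : ℕ}

omit [Fact p.Prime] in
/-- If `n` is invertible in `k`, `x` has constant coefficient `1` and `D ∣ xⁿ - 1` then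
`D ∣ x - 1`. -/
theorem dvd_sub_one_of_pow (hpn : ¬ p ∣ n) {x D : k⟦X⟧} (hx : constantCoeff x = 1)
    (hD : D ∣ x ^ n - 1) : D ∣ x - 1 := by
  set G : k⟦X⟧ := ∑ i ∈ Finset.range n, x ^ i with hG
  have hG0 : constantCoeff G = (n : k) := by
    rw [hG, map_sum]
    simp [hx]
  have hGu : IsUnit G := by
    rw [isUnit_iff_constantCoeff, hG0]
    exact (natCast_ne_zero hpn).isUnit
  have h1 : G * (x - 1) = x ^ n - 1 := geom_sum_mul x n
  rw [← h1] at hD
  exact (hGu.dvd_mul_left).mp hD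

omit [Fact p.Prime] in
theorem eq_one_of_pow_eq_one (hpn : ¬ p ∣ n) {x : k⟦X⟧} (hx : constantCoeff x = 1)
    (h : x ^ n = 1) : x = 1 := by
  have : (0 : k⟦X⟧) ∣ x - 1 := dvd_sub_one_of_pow hpn hx (by rw [h, sub_self])
  rw [zero_dvd_iff] at this
  exact sub_eq_zero.mp this

variable (U : k⟦X⟧ˣ)

/-- `U_l = σ^l(t)/t`: `U_0 = 1`, `U_{l+1} = u · σ(U_l)`. -/
noncomputable def Useq : ℕ → k⟦X⟧
  | 0 => 1
  | l + 1 => (U : k⟦X⟧) * sig U (Useq l)

theorem Useq_zero : Useq U 0 = 1 := rfl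

theorem Useq_succ (l : ℕ) : Useq U (l + 1) = (U : k⟦X⟧) * sig U (Useq U l) := rfl

variable (hu1 : constantCoeff (U : k⟦X⟧) = 1)
  (hun : (U : k⟦X⟧) ^ n * (1 + X ^ n) = 1)

include hu1 hun in
theorem constantCoeff_sig (hpn : ¬ p ∣ n) (h : k⟦X⟧) :
    constantCoeff (sig U h) = constantCoeff h := by
  have h1 : (X : k⟦X⟧) ∣ sig U h - h :=
    (dvd_pow_self X (Nat.succ_ne_zero n)).trans (sig_congr (p := p) U hu1 hun hpn h)
  rw [X_dvd_iff, map_sub, sub_eq_zero] at h1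
  exact h1

include hu1 hun in
theorem constantCoeff_Useq (hpn : ¬ p ∣ n) (l : ℕ) : constantCoeff (Useq U l) = 1 := by
  induction l with
  | zero => simp [Useq_zero]
  | succ l ih =>
    rw [Useq_succ, map_mul, hu1, constantCoeff_sig (p := p) U hu1 hun hpn, ih, mul_one]

include hun in
theorem Useq_pow (l : ℕ) : Useq U l ^ n * (1 + (l : k⟦X⟧) * X ^ n) = 1 := by
  induction l with
  | zero => simp [Useq_zero]
  | succ l ih =>
    have h1 : sig U (Useq U l ^ n * (1 + (l : k⟦X⟧) * X ^ n)) = 1 := by rw [ih, map_one]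
    rw [map_mul, map_pow, map_add, map_one, map_mul, map_natCast, map_pow, sig_X, mul_pow] at h1
    rw [Useq_succ, mul_pow]
    push_cast
    linear_combination h1 + (sig U (Useq U l)) ^ n * hun

include hu1 hun in
theorem Useq_p (hpn : ¬ p ∣ n) : Useq U p = 1 := by
  apply eq_one_of_pow_eq_one (p := p) hpn (constantCoeff_Useq (p := p) U hu1 hun hpn p)
  have h := Useq_pow U hun p
  have hp0 : ((p : ℕ) : k⟦X⟧) = 0 := by
    rw [← map_natCast (C (R := k)), CharP.cast_eq_zero, map_zero]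
  rwa [hp0, zero_mul, add_zero, mul_one] at h

include hu1 hun in
theorem Useq_congr (hpn : ¬ p ∣ n) (l : ℕ) : (X : k⟦X⟧) ^ n ∣ Useq U l - 1 := by
  apply dvd_sub_one_of_pow (p := p) hpn (constantCoeff_Useq (p := p) U hu1 hun hpn l)
  have h := Useq_pow U hun l
  refine ⟨-(Useq U l ^ n * (l : k⟦X⟧)), ?_⟩
  linear_combination h

/-- The norm unit `V = ∏_{l<p} U_l = N(t)/t^p`. -/
noncomputable def V (p : ℕ) : k⟦X⟧ := ∏ l ∈ Finset.range p, Useq U l

include hu1 hun in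
theorem constantCoeff_V (hpn : ¬ p ∣ n) : constantCoeff (V U p) = 1 := by
  rw [V, map_prod]
  exact Finset.prod_eq_one fun l _ => constantCoeff_Useq (p := p) U hu1 hun hpn l

include hu1 hun in
theorem V_congr (hpn : ¬ p ∣ n) : (X : k⟦X⟧) ^ n ∣ V U p - 1 := by
  rw [V]
  generalize p = q
  induction q with
  | zero => simp
  | succ q ih =>
    rw [Finset.prod_range_succ]
    have : (∏ l ∈ Finset.range q, Useq U l) * Useq U q - 1
        = ((∏ l ∈ Finset.range q, Useq U l) - 1) * Useq U q + (Useq U q - 1) := by ring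
    rw [this]
    exact dvd_add (Dvd.dvd.mul_right ih _) (Useq_congr (p := p) U hu1 hun hpn q)

include hu1 hun in
/-- `σ(V) · u^p = V`, i.e. `t^p V` is `σ`-invariant. -/
theorem sig_V (hpn : ¬ p ∣ n) : (U : k⟦X⟧) ^ p * sig U (V U p) = V U p := by
  have h1 : (U : k⟦X⟧) ^ p * sig U (V U p) = ∏ l ∈ Finset.range p, Useq U (l + 1) := by
    rw [V, map_prod]
    simp_rw [Useq_succ]
    rw [Finset.prod_mul_distrib, Finset.prod_const, Finset.card_range]
  have h2 := Finset.prod_range_succ' (fun l => Useq U l) p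
  have h3 := Finset.prod_range_succ (fun l => Useq U l) p
  rw [h3] at h2
  simp only [Useq_zero, mul_one, Useq_p (p := p) U hu1 hun hpn] at h2
  rw [h1, V, h2]

omit [Fact p.Prime] [CharP k p] in
theorem zpow_congr (W : k⟦X⟧ˣ) {D : k⟦X⟧} (hW : D ∣ (W : k⟦X⟧) - 1) (j : ℤ) :
    D ∣ ((W ^ j : k⟦X⟧ˣ) : k⟦X⟧) - 1 := by
  have hnat : ∀ i : ℕ, D ∣ ((W ^ i : k⟦X⟧ˣ) : k⟦X⟧) - 1 := by
    intro i
    induction i with
    | zero => simp
    | succ i ih =>
      have : ((W ^ (i + 1) : k⟦X⟧ˣ) : k⟦X⟧) - 1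
          = (((W ^ i : k⟦X⟧ˣ) : k⟦X⟧) - 1) * (W : k⟦X⟧) + ((W : k⟦X⟧) - 1) := by
        rw [pow_succ, Units.val_mul]; ring
      rw [this]
      exact dvd_add (Dvd.dvd.mul_right ih _) hW
  induction j using Int.induction_on with
  | zero => simp
  | succ i _ =>
    have := hnat (i + 1)
    rwa [← zpow_natCast, Nat.cast_add, Nat.cast_one] at this
  | pred i _ =>
    have h1 := hnat (i + 1)
    have h2 : ((W ^ (-(i : ℤ) - 1) : k⟦X⟧ˣ) : k⟦X⟧) - 1
        = -((W ^ (-(i : ℤ) - 1) : k⟦X⟧ˣ) : k⟦X⟧) * (((W ^ (i + 1) : k⟦X⟧ˣ) : k⟦X⟧) - 1) := by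
      have h3 : ((W ^ (-(i : ℤ) - 1) : k⟦X⟧ˣ) : k⟦X⟧) * ((W ^ (i + 1) : k⟦X⟧ˣ) : k⟦X⟧) = 1 := by
        rw [← Units.val_mul, ← zpow_natCast, ← zpow_add]
        have : (-(i : ℤ) - 1 + ((i + 1 : ℕ) : ℤ)) = 0 := by push_cast; ring
        rw [this, zpow_zero, Units.val_one]
      linear_combination h3
    rw [h2]
    exact Dvd.dvd.mul_left h1 _

include hu1 hun in
/-- The class of `t^i`, `i = a - m` with `p ∣ i`, is a coboundary. -/
theorem exists_coboundary (hpn : ¬ p ∣ n) (a : ℤ) (m : ℕ) (hmn : m ≤ n)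
    (hdvd : (p : ℤ) ∣ a - m) (c : k⟦X⟧) (hc : X ^ m * c = upow U (a - m) - 1) :
    ∃ h : k⟦X⟧, tau U a h - h = c := by
  obtain ⟨j, hj⟩ := hdvd
  have hVu : IsUnit (V U p) := by
    rw [isUnit_iff_constantCoeff, constantCoeff_V (p := p) U hu1 hun hpn]
    exact isUnit_one
  obtain ⟨Vu, hVu'⟩ := hVu
  set Vj : k⟦X⟧ := ((Vu ^ j : k⟦X⟧ˣ) : k⟦X⟧) with hVj
  have h1 : (X : k⟦X⟧) ^ n ∣ Vj - 1 :=
    zpow_congr Vu (by rw [hVu']; exact V_congr (p := p) U hu1 hun hpn) j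
  have h2 : (X : k⟦X⟧) ^ m ∣ 1 - Vj := by
    have := (pow_dvd_pow (X : k⟦X⟧) hmn).trans h1
    rwa [← dvd_neg, neg_sub] at this
  obtain ⟨h, hh⟩ := h2
  -- the invariance relation
  have h3 : U ^ p * Units.map (sig U : k⟦X⟧ →* k⟦X⟧) Vu = Vu := by
    apply Units.ext
    rw [Units.val_mul, Units.val_pow_eq_pow_val, Units.coe_map, hVu']
    exact sig_V (p := p) U hu1 hun hpn
  have h4 : upow U (p * j) * sig U Vj = Vj := by
    have h5 : U ^ ((p : ℤ) * j) * Units.map (sig U : k⟦X⟧ →* k⟦X⟧) (Vu ^ j) = Vu ^ j := by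
      rw [map_zpow, zpow_mul, zpow_natCast, ← mul_zpow, h3]
    have h6 := congrArg (fun w : k⟦X⟧ˣ => (w : k⟦X⟧)) h5
    simp only [Units.val_mul, Units.coe_map, MonoidHom.coe_coe] at h6
    exact h6
  refine ⟨h, ?_⟩
  apply mul_left_cancel₀ (pow_ne_zero m (X_ne_zero (R := k)))
  rw [hc]
  have h7 : upow U a = upow U (a - m) * (U : k⟦X⟧) ^ m := by
    rw [← upow_natCast, ← upow_add]; congr 1; ring
  have h8 : sig U (X ^ m * h) = (X * (U : k⟦X⟧)) ^ m * sig U h := by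
    rw [map_mul, map_pow, sig_X]
  rw [← hh, map_sub, map_one] at h8
  rw [hj] at h7 ⊢
  rw [tau_apply, h7]
  linear_combination (-(upow U (p * j))) * h8 - h4 + hh

end Groth.Agent.H85.ASCover
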