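import Groth.Agent.H85.ASCover2

/-!
# Structure of the kernel of the norm for the twisted action `τ_a` on `k⟦t⟧`
(helper for S13861, S13862)

* `tau_iterate_p`: `τ_b^p = 1`;
* `sum_pow_eq_sub_one_pow`: in characteristic `p`, `∑_{l<p} T^l = (T-1)^{p-1}`;
* `key`: a nonzero element of `ker N` has order `j` with `p ∤ a + j - n`;
* `c_mem_Z`: the `c_m` lie in `ker N`;
* `exists_preimage`: `ker N ∩ Xⁿ k⟦X⟧ ⊆ (τ_a - 1) k⟦X⟧`;
* `Z_struct`: `ker N = span {c_m} + (τ_a - 1) k⟦X⟧`.
-/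

set_option autoImplicit false
set_option linter.unusedSectionVars false

open PowerSeries

namespace Groth.Agent.H85.ASCover

variable {k : Type*} [Field k] {p : ℕ} [Fact p.Prime] [CharP k p] {n : ℕ}

/-- In characteristic `p`, `∑_{l<p} T^l = (T-1)^{p-1}`. -/
theorem sum_pow_eq_sub_one_pow {M : Type*} [AddCommGroup M] [Module k M] (T : Module.End k M) :
    ∑ l ∈ Finset.range p, T ^ l = (T - 1) ^ (p - 1) := by
  have hpoly : (∑ l ∈ Finset.range p, (Polynomial.X : Polynomial k) ^ l)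
      = (Polynomial.X - 1) ^ (p - 1) := by
    have h1 : (Polynomial.X - 1 : Polynomial k) * ∑ l ∈ Finset.range p, Polynomial.X ^ l
        = Polynomial.X ^ p - 1 := mul_geom_sum _ _
    have h2 : (Polynomial.X - 1 : Polynomial k) ^ p = Polynomial.X ^ p - 1 := by
      rw [sub_pow_char, one_pow]
    have hp : p = (p - 1) + 1 := (Nat.succ_pred_eq_of_pos (Fact.out : p.Prime).pos).symm
    have h3 : (Polynomial.X - 1 : Polynomial k) ≠ 0 := by
      have := Polynomial.X_sub_C_ne_zero (1 : k)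
      rwa [map_one] at this
    apply mul_left_cancel₀ h3
    rw [h1, ← h2]
    conv_lhs => rw [hp, pow_succ']
  have := congrArg (Polynomial.aeval T) hpoly
  simpa using this

variable (U : k⟦X⟧ˣ)

theorem sig_iterate (l : ℕ) (h : k⟦X⟧) :
    (sig U)^[l] h = subst (X * Useq U l) h := by
  induction l with
  | zero => rw [Function.iterate_zero, id, Useq_zero, mul_one, X_subst]
  | succ l ih =>
    rw [Function.iterate_succ_apply', ih, sig_apply,
      subst_comp_subst_apply (HasSubst.X'.mul_left) (hasSubst U), ← sig_apply, map_mul, sig_X,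
      Useq_succ, mul_assoc]

/-- `Y_l(b) = ∏_{i<l} σ^i(u^b)`, defined recursively. -/
noncomputable def Y (b : ℤ) : ℕ → k⟦X⟧
  | 0 => 1
  | l + 1 => upow U b * sig U (Y b l)

theorem Y_zero' (b : ℤ) : Y U b 0 = 1 := rfl

theorem Y_succ (b : ℤ) (l : ℕ) : Y U b (l + 1) = upow U b * sig U (Y U b l) := rfl

theorem Y_add (b b' : ℤ) (l : ℕ) : Y U (b + b') l = Y U b l * Y U b' l := by
  induction l with
  | zero => simp [Y_zero']
  | succ l ih => rw [Y_succ, Y_succ, Y_succ, ih, upow_add, map_mul]; ring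

theorem Y_one (l : ℕ) : Y U 1 l = Useq U l := by
  induction l with
  | zero => rfl
  | succ l ih => rw [Y_succ, ih, upow_one, Useq_succ]

theorem Y_zero_left (l : ℕ) : Y U 0 l = 1 := by
  induction l with
  | zero => rfl
  | succ l ih => rw [Y_succ, ih, upow_zero, map_one, mul_one]

theorem tau_iterate (b : ℤ) (l : ℕ) (h : k⟦X⟧) :
    (tau U b)^[l] h = Y U b l * (sig U)^[l] h := by
  induction l with
  | zero => simp [Y_zero']
  | succ l ih =>
    rw [Function.iterate_succ_apply', Function.iterate_succ_apply', ih, tau_apply, map_mul, Y_succ]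
    ring

variable (hu1 : constantCoeff (U : k⟦X⟧) = 1)
  (hun : (U : k⟦X⟧) ^ n * (1 + X ^ n) = 1)

include hu1 hun in
theorem Y_p (hpn : ¬ p ∣ n) (b : ℤ) : Y U b p = 1 := by
  have h1 : Y U 1 p = 1 := by rw [Y_one, Useq_p (p := p) U hu1 hun hpn]
  induction b using Int.induction_on with
  | zero => exact Y_zero_left U p
  | succ i ih => rw [Y_add, ih, h1, mul_one]
  | pred i ih =>
    have : Y U (-(i : ℤ) - 1 + 1) p = Y U (-(i : ℤ) - 1) p * Y U 1 p := Y_add U _ _ p
    rw [h1, mul_one, sub_add_cancel, ih] at this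
    exact this.symm

include hu1 hun in
theorem tau_iterate_p (hpn : ¬ p ∣ n) (b : ℤ) (h : k⟦X⟧) : (tau U b)^[p] h = h := by
  rw [tau_iterate, Y_p (p := p) U hu1 hun hpn, one_mul, sig_iterate,
    Useq_p (p := p) U hu1 hun hpn, mul_one, X_subst]

include hu1 hun in
theorem tau_pow_p (hpn : ¬ p ∣ n) (b : ℤ) : (tau U b : Module.End k k⟦X⟧) ^ p = 1 := by
  ext1 h
  rw [Module.End.pow_apply, tau_iterate_p (p := p) U hu1 hun hpn]
  rfl

/-- The norm operator `N = ∑_{l<p} τ_a^l`. -/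
noncomputable def Nop (p : ℕ) (a : ℤ) : Module.End k k⟦X⟧ :=
  ∑ l ∈ Finset.range p, (tau U a : Module.End k k⟦X⟧) ^ l

theorem Nop_eq (a : ℤ) : Nop U p a = (tau U a - 1 : Module.End k k⟦X⟧) ^ (p - 1) :=
  sum_pow_eq_sub_one_pow (p := p) _

theorem Nop_apply (q : ℕ) (a : ℤ) (h : k⟦X⟧) :
    Nop U q a h = ∑ l ∈ Finset.range q, (tau U a)^[l] h := by
  rw [Nop, LinearMap.sum_apply]
  refine Finset.sum_congr rfl fun l _ => ?_
  rw [Module.End.pow_apply]

include hu1 hun in
theorem Nop_delta (hpn : ¬ p ∣ n) (a : ℤ) (h : k⟦X⟧) : Nop U p a (tau U a h - h) = 0 := by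
  rw [Nop_apply]
  have h1 : ∀ l : ℕ, (tau U a)^[l] (tau U a h - h) = (tau U a)^[l + 1] h - (tau U a)^[l] h := by
    intro l
    rw [Function.iterate_succ_apply]
    exact iterate_map_sub (tau U a) l _ _
  simp_rw [h1]
  rw [Finset.sum_range_sub (fun l => (tau U a)^[l] h), tau_iterate_p (p := p) U hu1 hun hpn]
  simp

include hu1 hun in
/-- KEY: a nonzero element of `ker N` of order `j` satisfies `p ∤ a + j - n`. -/
theorem key (hn : 0 < n) (hpn : ¬ p ∣ n) (a : ℤ) (f : k⟦X⟧) (j : ℕ)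
    (hj : (X : k⟦X⟧) ^ j ∣ f) (hcoef : coeff j f ≠ 0) (hZ : Nop U p a f = 0) :
    ¬ (p : ℤ) ∣ a + j - n := by
  intro hdiv
  have hp := (Fact.out : p.Prime)
  set D : Module.End k k⟦X⟧ := tau U a - 1 with hD
  have hDx : ∀ x : k⟦X⟧, D x = tau U a x - x := fun x => by
    rw [hD, LinearMap.sub_apply, Module.End.one_apply]
  have claim : ∀ l : ℕ, l ≤ p - 1 →
      (X : k⟦X⟧) ^ (j + l * n) ∣ (D ^ l) f ∧ coeff (j + l * n) ((D ^ l) f) ≠ 0 := by
    intro l
    induction l with
    | zero => intro _; simpa using ⟨hj, hcoef⟩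
    | succ l ih =>
      intro hl
      obtain ⟨h1, h2⟩ := ih (by omega)
      have e : j + (l + 1) * n = j + l * n + n := by ring
      rw [pow_succ', Module.End.mul_apply, hDx, e]
      refine ⟨tau_sub_dvd (p := p) U hu1 hun hn hpn a _ _ h1, ?_⟩
      rw [coeff_tau_sub (p := p) U hu1 hun hn hpn a _ _ h1]
      apply mul_ne_zero _ h2
      apply intCast_mul_r0_ne_zero hpn
      intro hd
      have h3 : (p : ℤ) ∣ ((l + 1) * n : ℕ) := by
        have : (a + ((j + l * n : ℕ) : ℤ)) = (a + j - n) + (((l + 1) * n : ℕ) : ℤ) := by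
          push_cast; ring
        rw [this] at hd
        exact (Int.dvd_add_right hdiv).mp hd
      rw [Int.natCast_dvd_natCast] at h3
      rcases hp.dvd_mul.mp h3 with h4 | h4
      · have := Nat.le_of_dvd (by omega) h4
        omega
      · exact hpn h4
  have h5 := (claim (p - 1) le_rfl).2
  rw [← Nop_eq, hZ] at h5
  exact h5 (map_zero _)

theorem tau_intertwine (a : ℤ) (m : ℕ) (h : k⟦X⟧) :
    X ^ m * tau U a h = tau U (a - m) (X ^ m * h) := by
  have h7 : upow U a = upow U (a - m) * (U : k⟦X⟧) ^ m := by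
    rw [← upow_natCast, ← upow_add]; congr 1; ring
  rw [tau_apply, tau_apply, map_mul, map_pow, sig_X, h7]
  ring

theorem tau_iterate_intertwine (a : ℤ) (m l : ℕ) (h : k⟦X⟧) :
    X ^ m * (tau U a)^[l] h = (tau U (a - m))^[l] (X ^ m * h) := by
  induction l with
  | zero => rfl
  | succ l ih =>
    rw [Function.iterate_succ_apply', Function.iterate_succ_apply', tau_intertwine, ih]

include hu1 hun in
/-- The `c_m` lie in the kernel of the norm. -/
theorem c_mem_Z (hpn : ¬ p ∣ n) (a : ℤ) (m : ℕ) (c : k⟦X⟧)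
    (hc : X ^ m * c = upow U (a - m) - 1) : Nop U p a c = 0 := by
  have h1 : X ^ m * Nop U p a c = Nop U p (a - m) (X ^ m * c) := by
    rw [Nop_apply, Nop_apply, Finset.mul_sum]
    exact Finset.sum_congr rfl fun l _ => tau_iterate_intertwine U a m l c
  have h2 : X ^ m * c = tau U (a - m) 1 - 1 := by
    rw [hc, tau_apply, map_one, mul_one]
  rw [h2, Nop_delta (p := p) U hu1 hun hpn] at h1
  rcases mul_eq_zero.mp h1 with h | h
  · exact absurd h (pow_ne_zero m (X_ne_zero (R := k)))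
  · exact h

/-- `δ = τ_a - 1`. -/
noncomputable def del (a : ℤ) : k⟦X⟧ →ₗ[k] k⟦X⟧ := tau U a - LinearMap.id

theorem del_apply (a : ℤ) (h : k⟦X⟧) : del U a h = tau U a h - h := rfl

include hu1 hun in
theorem step (hn : 0 < n) (hpn : ¬ p ∣ n) (a : ℤ) (f : k⟦X⟧) (hf : Nop U p a f = 0) (L : ℕ)
    (w : k⟦X⟧) :
    ∃ lam : k, (X : k⟦X⟧) ^ (L + n) ∣ f - del U a w →
      (X : k⟦X⟧) ^ (L + n + 1) ∣ f - del U a (w + C lam * X ^ L) := by
  by_cases hyp : (X : k⟦X⟧) ^ (L + n) ∣ f - del U a w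
  swap
  · exact ⟨0, fun h => absurd h hyp⟩
  set f' : k⟦X⟧ := f - del U a w with hf'
  have hf'Z : Nop U p a f' = 0 := by
    rw [hf', map_sub, hf, del_apply, Nop_delta (p := p) U hu1 hun hpn, sub_zero]
  by_cases hc : coeff (L + n) f' = 0
  · refine ⟨0, fun _ => ?_⟩
    rw [map_zero, zero_mul, add_zero, X_pow_dvd_iff]
    intro i hi
    rcases Nat.lt_succ_iff_lt_or_eq.mp hi with h | h
    · exact (X_pow_dvd_iff.mp hyp) i h
    · rw [h]; exact hc
  · have hk := key (p := p) U hu1 hun hn hpn a f' (L + n) hyp hc hf'Z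
    have hk' : ¬ (p : ℤ) ∣ a + L := by
      intro h; apply hk
      have : a + ((L + n : ℕ) : ℤ) - n = a + L := by push_cast; ring
      rwa [this]
    have hd : ((a + L : ℤ) : k) * r0 k n ≠ 0 := intCast_mul_r0_ne_zero hpn hk'
    refine ⟨coeff (L + n) f' / (((a + L : ℤ) : k) * r0 k n), fun _ => ?_⟩
    set lam : k := coeff (L + n) f' / (((a + L : ℤ) : k) * r0 k n) with hlam
    set g : k⟦X⟧ := C lam * X ^ L with hg
    have hgL : (X : k⟦X⟧) ^ L ∣ g := dvd_mul_left _ _
    have h1 : f - del U a (w + g) = f' - del U a g := by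
      rw [map_add, hf']; ring
    have h2 : (X : k⟦X⟧) ^ (L + n) ∣ del U a g :=
      tau_sub_dvd (p := p) U hu1 hun hn hpn a L g hgL
    have h3 : coeff (L + n) (del U a g) = coeff (L + n) f' := by
      rw [del_apply, coeff_tau_sub (p := p) U hu1 hun hn hpn a L g hgL, hg, coeff_C_mul,
        coeff_X_pow_self, mul_one, hlam, mul_div_cancel₀ _ hd]
    rw [h1, X_pow_dvd_iff]
    intro i hi
    rw [map_sub]
    rcases Nat.lt_succ_iff_lt_or_eq.mp hi with h | h
    · rw [(X_pow_dvd_iff.mp hyp) i h, (X_pow_dvd_iff.mp h2) i h, sub_zero]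
    · rw [h, h3, sub_self]

include hu1 hun in
/-- `ker N ∩ Xⁿ k⟦X⟧ ⊆ (τ_a - 1) k⟦X⟧`. -/
theorem exists_preimage (hn : 0 < n) (hpn : ¬ p ∣ n) (a : ℤ) (f : k⟦X⟧)
    (hf : Nop U p a f = 0) (hXn : (X : k⟦X⟧) ^ n ∣ f) : ∃ w : k⟦X⟧, tau U a w - w = f := by
  classical
  choose lamf hlamf using step (p := p) U hu1 hun hn hpn a f hf
  obtain ⟨W, W0, Wsucc⟩ : ∃ W : ℕ → k⟦X⟧, W 0 = 0 ∧
      ∀ L, W (L + 1) = W L + C (lamf L (W L)) * X ^ L :=
    ⟨fun L => Nat.rec 0 (fun L w => w + C (lamf L w) * X ^ L) L, rfl, fun L => rfl⟩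
  have inv : ∀ L, (X : k⟦X⟧) ^ (L + n) ∣ f - del U a (W L) := by
    intro L
    induction L with
    | zero => rw [W0, map_zero, sub_zero, zero_add]; exact hXn
    | succ L ih =>
      rw [Wsucc, show L + 1 + n = L + n + 1 by ring]
      exact hlamf L (W L) ih
  set lam : ℕ → k := fun L => lamf L (W L) with hlam
  have coeffW : ∀ L i, coeff i (W L) = if i < L then lam i else 0 := by
    intro L
    induction L with
    | zero => intro i; simp [W0]
    | succ L ih =>
      intro i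
      rw [Wsucc, map_add, ih, coeff_C_mul, coeff_X_pow]
      by_cases h1 : i < L
      · rw [if_pos h1, if_neg (by omega), if_pos (by omega)]; simp
      · by_cases h2 : i = L
        · rw [if_neg h1, if_pos h2, if_pos (by omega), h2]; simp [hlam]
        · rw [if_neg h1, if_neg h2, if_neg (by omega)]; simp
  refine ⟨PowerSeries.mk lam, ?_⟩
  rw [← del_apply, eq_comm, ← sub_eq_zero]
  ext i
  rw [map_zero]
  have h1 : (X : k⟦X⟧) ^ (i + 1) ∣ PowerSeries.mk lam - W (i + 1) := by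
    rw [X_pow_dvd_iff]
    intro m hm
    rw [map_sub, coeff_mk, coeffW, if_pos hm, sub_self]
  have h2 : (X : k⟦X⟧) ^ (i + 1 + n) ∣ del U a (PowerSeries.mk lam - W (i + 1)) :=
    tau_sub_dvd (p := p) U hu1 hun hn hpn a (i + 1) _ h1
  have h3 : f - del U a (PowerSeries.mk lam)
      = (f - del U a (W (i + 1))) - del U a (PowerSeries.mk lam - W (i + 1)) := by
    rw [map_sub]; ring
  rw [h3]
  exact (X_pow_dvd_iff.mp (dvd_sub (inv (i + 1)) h2)) i (by omega)

end Groth.Agent.H85.ASCover
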