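import Mathlib

/-!
# 1-cocycles of a finite cyclic group

For a finite group `G` generated by `g` and `A : Rep k G` with `T = ρ(g)`:
a 1-cocycle `f` is determined by `f g`, the possible values are exactly the `x` with
`∑_{l < |G|} T^l x = 0`, and `f` is a coboundary iff `f g ∈ (T - 1) A`.
Consequence: `H¹(G, A) ≃ range Ψ` for every linear `Ψ` on cocycles whose kernel is the coboundaries.
-/

set_option autoImplicit false
set_option linter.unusedSectionVars false

open groupCohomology

namespace Groth.Agent.H85.CycCocycle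

universe u

variable {k G : Type u} [CommRing k] [Group G] (A : Rep.{u} k G) (g : G)

/-- Partial norm sums `S_i x = ∑_{l<i} T^l x`. -/
noncomputable def S (i : ℕ) (x : A) : A := ∑ l ∈ Finset.range i, ((A.ρ g) ^ l) x

theorem S_zero (x : A) : S A g 0 x = 0 := by simp [S]

theorem S_one (x : A) : S A g 1 x = x := by simp [S]

theorem S_succ (i : ℕ) (x : A) : S A g (i + 1) x = A.ρ g (S A g i x) + x := by
  rw [S, Finset.sum_range_succ', S, map_sum]
  simp [pow_succ']

theorem S_add (i j : ℕ) (x : A) : S A g (i + j) x = S A g i x + ((A.ρ g) ^ i) (S A g j x) := by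
  rw [S, Finset.sum_range_add, S, S, map_sum]
  congr 1
  refine Finset.sum_congr rfl fun l _ => ?_
  rw [pow_add, Module.End.mul_apply]

theorem S_map_zero (i : ℕ) : S A g i 0 = 0 := by simp [S]

theorem cocycle_pow (f : cocycles₁ A) (i : ℕ) : f (g ^ i) = S A g i (f g) := by
  induction i with
  | zero => rw [pow_zero, cocycles₁_map_one, S_zero]
  | succ i ih =>
    rw [pow_succ', (mem_cocycles₁_iff f).1 f.2 g (g ^ i), ih, S_succ]

variable [Finite G] (hg : ∀ x, x ∈ Subgroup.zpowers g)

include hg in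
theorem exists_pow (y : G) : ∃ i : ℕ, g ^ i = y := by
  have := hg y
  rw [← mem_powers_iff_mem_zpowers] at this
  exact this

include hg in
theorem cocycle_ext {f f' : cocycles₁ A} (h : f g = f' g) : f = f' := by
  apply cocycles₁_ext
  intro y
  obtain ⟨i, rfl⟩ := exists_pow g hg y
  rw [cocycle_pow, cocycle_pow, h]

theorem cocycle_norm (f : cocycles₁ A) : S A g (Nat.card G) (f g) = 0 := by
  rw [← cocycle_pow, pow_card_eq_one', cocycles₁_map_one]

theorem rho_pow_card : (A.ρ g) ^ (Nat.card G) = 1 := by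
  rw [← map_pow, pow_card_eq_one', map_one]

theorem S_mul_card (x : A) (hx : S A g (Nat.card G) x = 0) (t : ℕ) :
    S A g (Nat.card G * t) x = 0 := by
  induction t with
  | zero => simp [S_zero]
  | succ t ih => rw [Nat.mul_succ, S_add, ih, hx, map_zero, add_zero]

theorem S_add_mul_card (x : A) (hx : S A g (Nat.card G) x = 0) (i t : ℕ) :
    S A g (i + Nat.card G * t) x = S A g i x := by
  rw [S_add, S_mul_card A g x hx, map_zero, add_zero]

theorem S_congr (x : A) (hx : S A g (Nat.card G) x = 0) {i j : ℕ}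
    (h : i ≡ j [MOD Nat.card G]) : S A g i x = S A g j x := by
  rcases le_total i j with hij | hij
  · obtain ⟨t, ht⟩ := (Nat.modEq_iff_dvd' hij).mp h
    have : j = i + Nat.card G * t := by omega
    rw [this, S_add_mul_card A g x hx]
  · obtain ⟨t, ht⟩ := (Nat.modEq_iff_dvd' hij).mp h.symm
    have : i = j + Nat.card G * t := by omega
    rw [this, S_add_mul_card A g x hx]

include hg in
theorem exists_cocycle (x : A) (hx : S A g (Nat.card G) x = 0) :
    ∃ f : cocycles₁ A, f g = x := by
  classical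
  have hord : orderOf g = Nat.card G := orderOf_eq_card_of_forall_mem_zpowers hg
  choose idx hidx using exists_pow g hg
  have hf : (fun y => S A g (idx y) x) ∈ cocycles₁ A := by
    rw [mem_cocycles₁_iff]
    intro y y'
    have h1 : idx (y * y') ≡ idx y + idx y' [MOD Nat.card G] := by
      rw [← hord, ← pow_eq_pow_iff_modEq, hidx, pow_add, hidx, hidx]
    show S A g (idx (y * y')) x = A.ρ y (S A g (idx y') x) + S A g (idx y) x
    rw [S_congr A g x hx h1, S_add, add_comm]
    congr 1
    conv_rhs => rw [← hidx y, map_pow]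
  refine ⟨⟨_, hf⟩, ?_⟩
  show S A g (idx g) x = x
  have h2 : idx g ≡ 1 [MOD Nat.card G] := by
    rw [← hord, ← pow_eq_pow_iff_modEq, hidx, pow_one]
  rw [S_congr A g x hx h2, S_one]

include hg in
theorem mem_coboundaries_iff (f : cocycles₁ A) :
    ⇑f ∈ coboundaries₁ A ↔ ∃ y : A, A.ρ g y - y = f g := by
  constructor
  · rintro ⟨y, hy⟩
    refine ⟨y, ?_⟩
    have := congrFun hy g
    rw [← this]
    rfl
  · rintro ⟨y, hy⟩
    have h1 : (⟨_, d₀₁_apply_mem_cocycles₁ y⟩ : cocycles₁ A) = f := by
      apply cocycle_ext A g hg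
      show (d₀₁ A y : G → A) g = f g
      rw [← hy]; rfl
    refine ⟨y, ?_⟩
    exact congrArg (fun f : cocycles₁ A => (f : G → A)) h1

theorem H1π_surjective : Function.Surjective (H1π A).hom := by
  intro x
  induction x using H1_induction_on with
  | _ f => exact ⟨f, rfl⟩

/-- If `Ψ` is a linear map on cocycles whose kernel is the coboundaries, `H¹ ≃ range Ψ`. -/
noncomputable def H1Equiv {W : Type*} [AddCommGroup W] [Module k W]
    (Ψ : cocycles₁ A →ₗ[k] W) (hker : ∀ f : cocycles₁ A, Ψ f = 0 ↔ ⇑f ∈ coboundaries₁ A) :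
    H1 A ≃ₗ[k] LinearMap.range Ψ :=
  ((H1π A).hom.quotKerEquivOfSurjective (H1π_surjective A)).symm ≪≫ₗ
    (Submodule.quotEquivOfEq _ _ (by
      ext f
      rw [LinearMap.mem_ker, LinearMap.mem_ker, hker, ← H1π_eq_zero_iff])) ≪≫ₗ Ψ.quotKerEquivRange

theorem H1Equiv_H1π {W : Type*} [AddCommGroup W] [Module k W]
    (Ψ : cocycles₁ A →ₗ[k] W) (hker : ∀ f : cocycles₁ A, Ψ f = 0 ↔ ⇑f ∈ coboundaries₁ A)
    (f : cocycles₁ A) : ((H1Equiv A Ψ hker) ((H1π A).hom f) : W) = Ψ f := by
  have h1 : ((H1π A).hom.quotKerEquivOfSurjective (H1π_surjective A)).symm ((H1π A).hom f)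
      = Submodule.Quotient.mk f := by
    rw [LinearEquiv.symm_apply_eq]
    rfl
  simp only [H1Equiv, LinearEquiv.trans_apply]
  erw [h1]
  rfl

end Groth.Agent.H85.CycCocycle
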