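import Groth.Agent.H85.ASCover3
import Groth.Agent.H85.CycCocycle

/-!
# `H¹(ℤ/p, t^a k⟦t⟧)` for the Artin–Schreier automorphism: an explicit coordinate system
(helper for S13861, S13862)
-/

set_option autoImplicit false
set_option linter.unusedSectionVars false

open PowerSeries groupCohomology

namespace Groth.Agent.H85.ASCover

/-- The index set `{m ∈ [1,n] : p ∤ a - m}`. -/
def Mset (p n : ℕ) (a : ℤ) : Finset ℕ :=
  (Finset.Icc 1 n).filter (fun m : ℕ => ¬ (p : ℤ) ∣ a - (m : ℤ))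

theorem mem_Mset {p n : ℕ} {a : ℤ} {m : ℕ} :
    m ∈ Mset p n a ↔ (1 ≤ m ∧ m ≤ n) ∧ ¬ (p : ℤ) ∣ a - (m : ℤ) := by
  rw [Mset, Finset.mem_filter, Finset.mem_Icc]

theorem sub_one_ediv (b : ℤ) (p : ℕ) (hp : 0 < p) :
    (b - 1) / (p : ℤ) = b / (p : ℤ) - if (p : ℤ) ∣ b then 1 else 0 := by
  have hp' : (0 : ℤ) < p := by exact_mod_cast hp
  have h1 := Int.emod_add_mul_ediv b p
  have h2 := Int.emod_nonneg b hp'.ne'
  have h3 := Int.emod_lt_of_pos b hp'
  split_ifs with hd
  · have hr : b % (p : ℤ) = 0 := Int.emod_eq_zero_of_dvd hd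
    have := (Int.ediv_emod_unique (a := b - 1) (q := b / p - 1) (r := p - 1) hp').mpr
      ⟨by rw [hr] at h1; linarith [mul_sub (p : ℤ) (b / p) 1], by omega, by omega⟩
    exact this.1
  · have hr : b % (p : ℤ) ≠ 0 := fun h => hd (Int.dvd_of_emod_eq_zero h)
    have := (Int.ediv_emod_unique (a := b - 1) (q := b / p) (r := b % p - 1) hp').mpr
      ⟨by linarith, by omega, by omega⟩
    rw [this.1, sub_zero]

theorem card_Mset (p : ℕ) (hp : 0 < p) (a : ℤ) (n : ℕ) :
    ((Mset p n a).card : ℤ) = n - (a - 1) / (p : ℤ) + (a - 1 - n) / (p : ℤ) := by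
  induction n with
  | zero => simp [Mset]
  | succ n ih =>
    have h1 : Mset p (n + 1) a = if ¬ (p : ℤ) ∣ a - ((n + 1 : ℕ) : ℤ)
        then insert (n + 1) (Mset p n a) else Mset p n a := by
      rw [Mset, Mset, ← Finset.insert_Icc_right_eq_Icc_add_one (by omega), Finset.filter_insert]
    have hnot : (n + 1) ∉ Mset p n a := by
      rw [Mset, Finset.mem_filter, Finset.mem_Icc]; omega
    have h2 := sub_one_ediv (a - 1 - n) p hp
    have e : a - 1 - ((n + 1 : ℕ) : ℤ) = a - 1 - n - 1 := by push_cast; ring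
    have e' : a - ((n + 1 : ℕ) : ℤ) = a - 1 - n := by push_cast; ring
    rw [h1, e, h2]
    rw [e']
    split_ifs with hd
    · rw [ih]; push_cast; ring
    · rw [Finset.card_insert_of_notMem hnot]
      push_cast
      rw [ih]; ring

section RepPart

universe u

variable {k : Type u} [Field k] {p : ℕ} [Fact p.Prime] [CharP k p] {n : ℕ}
  (U : k⟦X⟧ˣ) (hu1 : constantCoeff (U : k⟦X⟧) = 1)
  (hun : (U : k⟦X⟧) ^ n * (1 + X ^ n) = 1)
  {G : Type u} [Group G] [Finite G] (g : G) (hG : Nat.card G = p)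
  (hg : ∀ x, x ∈ Subgroup.zpowers g) (a : ℤ)
  (ρ : Representation k G k⟦X⟧) (hρ : ∀ h, ρ g h = tau U a h)

include hρ hG in
theorem S_eq_Nop (x : k⟦X⟧) :
    CycCocycle.S (Rep.of ρ) g (Nat.card G) x = Nop U p a x := by
  have h1 : (Rep.of ρ).ρ g = tau U a := LinearMap.ext hρ
  rw [CycCocycle.S, h1, hG, Nop, LinearMap.sum_apply]

/-- Coefficient extraction at the positions `n - m`, `m ∈ Mset`. -/
noncomputable def Psi : cocycles₁ (Rep.of ρ) →ₗ[k] (↥(Mset p n a) → k) :=
  LinearMap.pi fun m =>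
    (coeff (R := k) (n - m.1)) ∘ₗ (LinearMap.proj g : (G → k⟦X⟧) →ₗ[k] k⟦X⟧) ∘ₗ
      (cocycles₁ (Rep.of ρ)).subtype

theorem Psi_apply (f : cocycles₁ (Rep.of ρ)) (m : ↥(Mset p n a)) :
    Psi (p := p) (n := n) g a ρ f m = coeff (n - m.1) (f g : k⟦X⟧) := rfl

include hu1 hun hG hg hρ in
theorem Psi_ker (hn : 0 < n) (hpn : ¬ p ∣ n) (f : cocycles₁ (Rep.of ρ)) :
    Psi (p := p) (n := n) g a ρ f = 0 ↔ ⇑f ∈ coboundaries₁ (Rep.of ρ) := by
  rw [CycCocycle.mem_coboundaries_iff (Rep.of ρ) g hg]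
  constructor
  · intro h0
    set x : k⟦X⟧ := (f g : k⟦X⟧) with hx
    have hxZ : Nop U p a x = 0 := by
      rw [← S_eq_Nop U g hG a ρ hρ]
      exact CycCocycle.cocycle_norm (Rep.of ρ) g f
    have hXn : (X : k⟦X⟧) ^ n ∣ x := by
      rw [X_pow_dvd_iff]
      by_contra hcon
      push Not at hcon
      classical
      have hex : ∃ j, j < n ∧ coeff j x ≠ 0 := hcon
      set j := Nat.find hex with hj
      obtain ⟨hjn, hjc⟩ := Nat.find_spec hex
      have hjX : (X : k⟦X⟧) ^ j ∣ x := by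
        rw [X_pow_dvd_iff]
        intro i hi
        by_contra hne
        exact Nat.find_min hex hi ⟨by omega, hne⟩
      have hk := key (p := p) U hu1 hun hn hpn a x j hjX hjc hxZ
      have hm : n - j ∈ Mset p n a := by
        rw [Mset, Finset.mem_filter, Finset.mem_Icc]
        refine ⟨⟨by omega, by omega⟩, ?_⟩
        have : a - ((n - j : ℕ) : ℤ) = a + j - n := by
          rw [Nat.cast_sub hjn.le]; ring
        rwa [this]
      have h1 := congrFun h0 ⟨n - j, hm⟩
      rw [Psi_apply] at h1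
      have : n - (n - j) = j := by omega
      simp only [this] at h1
      exact hjc h1
    obtain ⟨w, hw⟩ := exists_preimage (p := p) U hu1 hun hn hpn a x hxZ hXn
    refine ⟨w, ?_⟩
    rw [← hw]
    show ρ g w - w = _
    rw [hρ]
  · rintro ⟨y, hy⟩
    ext m
    rw [Psi_apply]
    have hm := mem_Mset.mp m.2
    have h1 : (f g : k⟦X⟧) = tau U a y - y := by
      rw [← hy]
      show ρ g y - y = _
      rw [hρ]
    rw [h1]
    have h2 := tau_sub_dvd (p := p) U hu1 hun hn hpn a 0 y (by simp)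
    rw [zero_add] at h2
    exact (X_pow_dvd_iff.mp h2) _ (by omega)

include hu1 hun hG hg hρ in
theorem Psi_surjective (hn : 0 < n) (hpn : ¬ p ∣ n) :
    Function.Surjective (Psi (p := p) (n := n) g a ρ) := by
  classical
  -- the elements c_m
  have hcex : ∀ m : ℕ, ∃ c : k⟦X⟧, m ≤ n → X ^ m * c = upow U (a - m) - 1 := by
    intro m
    by_cases hmn : m ≤ n
    · obtain ⟨q, hq⟩ := upow_congr (p := p) U hu1 hun hn hpn (a - m)
      refine ⟨C (((a - m : ℤ) : k) * r0 k n) * X ^ (n - m) + X ^ (n - m + 1) * q, fun _ => ?_⟩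
      have e1 : (X : k⟦X⟧) ^ n = X ^ m * X ^ (n - m) := by
        rw [← pow_add]; congr 1; omega
      have e2 : (X : k⟦X⟧) ^ (n + 1) = X ^ m * X ^ (n - m + 1) := by
        rw [← pow_add]; congr 1; omega
      rw [e2] at hq
      rw [e1] at hq
      linear_combination (-1 : k⟦X⟧) * hq
    · exact ⟨0, fun h => absurd h hmn⟩
  choose c hc using hcex
  have hcZ : ∀ m, m ≤ n → CycCocycle.S (Rep.of ρ) g (Nat.card G) (c m) = 0 := by
    intro m hm
    rw [S_eq_Nop U g hG a ρ hρ]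
    exact c_mem_Z (p := p) U hu1 hun hpn a m (c m) (hc m hm)
  have hfex : ∀ m : ↥(Mset p n a), ∃ f : cocycles₁ (Rep.of ρ), (f g : k⟦X⟧) = c m.1 := by
    intro m
    have hm := mem_Mset.mp m.2
    exact CycCocycle.exists_cocycle (Rep.of ρ) g hg (c m.1) (hcZ m.1 hm.1.2)
  choose F hF using hfex
  have hli : LinearIndependent k (fun m : ↥(Mset p n a) => Psi (p := p) (n := n) g a ρ (F m)) := by
    rw [Fintype.linearIndependent_iff]
    intro lam hlam
    have h1 : Psi (p := p) (n := n) g a ρ (∑ m, lam m • F m) = 0 := by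
      rw [map_sum]
      simp_rw [map_smul]
      exact hlam
    rw [Psi_ker U hu1 hun g hG hg a ρ hρ hn hpn,
      CycCocycle.mem_coboundaries_iff (Rep.of ρ) g hg] at h1
    obtain ⟨y, hy⟩ := h1
    have h2 : ((∑ m, lam m • F m : cocycles₁ (Rep.of ρ)) g : k⟦X⟧)
        = ∑ m : ↥(Mset p n a), lam m • c m.1 := by
      have : ((∑ m, lam m • F m : cocycles₁ (Rep.of ρ)) : G → k⟦X⟧)
          = ∑ m, lam m • (F m : G → k⟦X⟧) := by
        rw [← cocycles₁.val_eq_coe, Submodule.coe_sum]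
        rfl
      have h3 := congrFun this g
      rw [Finset.sum_apply] at h3
      rw [h3]
      refine Finset.sum_congr rfl fun m _ => ?_
      rw [Pi.smul_apply, hF]
    have h4 : (X : k⟦X⟧) ^ n ∣ ∑ m : ↥(Mset p n a), lam m • c m.1 := by
      rw [← h2, ← hy]
      have h5 := tau_sub_dvd (p := p) U hu1 hun hn hpn a 0 y (by simp)
      rw [zero_add] at h5
      show (X : k⟦X⟧) ^ n ∣ ρ g y - y
      rw [hρ]; exact h5
    -- convert to a sum over the finset
    set lam' : ℕ → k := fun m => if hm : m ∈ Mset p n a then lam ⟨m, hm⟩ else 0 with hlam'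
    have h6 : ∑ m : ↥(Mset p n a), lam m • c m.1 = ∑ m ∈ Mset p n a, lam' m • c m := by
      rw [← Finset.sum_coe_sort (Mset p n a) (fun m => lam' m • c m)]
      refine Finset.sum_congr rfl fun m _ => ?_
      rw [hlam']
      simp only [m.2, dite_true]
    rw [h6] at h4
    have h7 := tri_indep (n := n) (Mset p n a) (fun m hm => by
        rw [Mset, Finset.mem_filter, Finset.mem_Icc] at hm; exact hm.1) c
      (fun m hm => by
        rw [Mset, Finset.mem_filter, Finset.mem_Icc] at hm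
        exact (c_spec (p := p) U hu1 hun hn hpn a m hm.1.2 (c m) (hc m hm.1.2)).1)
      (fun m hm => by
        rw [Mset, Finset.mem_filter, Finset.mem_Icc] at hm
        rw [(c_spec (p := p) U hu1 hun hn hpn a m hm.1.2 (c m) (hc m hm.1.2)).2]
        exact intCast_mul_r0_ne_zero hpn hm.2) lam' h4
    intro m
    have := h7 m.1 m.2
    rw [hlam'] at this
    simpa [m.2] using this
  have hspan := hli.span_eq_top_of_card_eq_finrank' (by
    rw [Module.finrank_fintype_fun_eq_card])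
  rw [← LinearMap.range_eq_top, eq_top_iff, ← hspan, Submodule.span_le]
  rintro _ ⟨m, rfl⟩
  exact ⟨F m, rfl⟩

/-- `H¹(G, (k⟦t⟧, τ_a)) ≃ k^{Mset}`. -/
noncomputable def H1EquivFun (hn : 0 < n) (hpn : ¬ p ∣ n) :
    H1 (Rep.of ρ) ≃ₗ[k] (↥(Mset p n a) → k) :=
  (CycCocycle.H1Equiv (Rep.of ρ) (Psi (p := p) (n := n) g a ρ)
    (Psi_ker U hu1 hun g hG hg a ρ hρ hn hpn)) ≪≫ₗ
  (LinearEquiv.ofTop _ (LinearMap.range_eq_top.mpr
    (Psi_surjective U hu1 hun g hG hg a ρ hρ hn hpn)))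

theorem H1EquivFun_H1π (hn : 0 < n) (hpn : ¬ p ∣ n) (f : cocycles₁ (Rep.of ρ)) :
    H1EquivFun U hu1 hun g hG hg a ρ hρ hn hpn ((H1π (Rep.of ρ)).hom f)
      = Psi (p := p) (n := n) g a ρ f := by
  rw [H1EquivFun, LinearEquiv.trans_apply, LinearEquiv.ofTop_apply, CycCocycle.H1Equiv_H1π]

include hu1 hun hG hg hρ in
theorem finrank_H1 (hn : 0 < n) (hpn : ¬ p ∣ n) :
    Module.Finite k (H1 (Rep.of ρ)) ∧
      Module.finrank k (H1 (Rep.of ρ)) = (Mset p n a).card := by
  have e := H1EquivFun U hu1 hun g hG hg a ρ hρ hn hpn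
  refine ⟨Module.Finite.equiv e.symm, ?_⟩
  rw [e.finrank_eq, Module.finrank_fintype_fun_eq_card, Fintype.card_coe]

end RepPart

end Groth.Agent.H85.ASCover
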