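import Groth.Agent.H85.ASCover4

/-!
# The image of `d/dt : H¹(G, 𝒪) → H¹(G, Ω)` at a wildly ramified point (helper for S13862)
-/

set_option autoImplicit false
set_option linter.unusedSectionVars false

open PowerSeries groupCohomology

namespace Groth.Agent.H85.ASCover

variable {k : Type*} [Field k] {p : ℕ} [Fact p.Prime] [CharP k p] {n : ℕ}

omit [Fact p.Prime] [CharP k p] in
/-- Triangular independence, weak form: only the coefficients at the positions `n - m`, `m ∈ S`,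
of the combination are assumed to vanish. -/
theorem tri_indep' (S : Finset ℕ) (hS : ∀ m ∈ S, m ≤ n) (c : ℕ → k⟦X⟧)
    (hc : ∀ m ∈ S, (X : k⟦X⟧) ^ (n - m) ∣ c m) (hc' : ∀ m ∈ S, coeff (n - m) (c m) ≠ 0)
    (lam : ℕ → k) (hsum : ∀ m ∈ S, coeff (n - m) (∑ m ∈ S, lam m • c m) = 0) :
    ∀ m ∈ S, lam m = 0 := by
  have key : ∀ j : ℕ, ∀ m ∈ S, n - m = j → lam m = 0 := by
    intro j
    induction j using Nat.strong_induction_on with
    | _ j ih =>
      intro m hm hmj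
      have h0 : coeff j (∑ m ∈ S, lam m • c m) = 0 := by rw [← hmj]; exact hsum m hm
      rw [map_sum, Finset.sum_eq_single m] at h0
      · rw [coeff_smul, smul_eq_mul, hmj.symm] at h0
        rcases mul_eq_zero.mp h0 with h | h
        · exact h
        · exact absurd h (hc' m hm)
      · intro m' hm' hne
        rw [coeff_smul, smul_eq_mul]
        rcases lt_trichotomy (n - m') j with h | h | h
        · rw [ih (n - m') h m' hm' rfl, zero_mul]
        · exfalso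
          have := hS m' hm'; have := hS m hm
          apply hne; omega
        · rw [(X_pow_dvd_iff.mp (hc m' hm')) j h, mul_zero]
      · intro h; exact absurd hm h
  intro m hm
  exact key (n - m) m hm rfl

variable (U : k⟦X⟧ˣ) (hu1 : constantCoeff (U : k⟦X⟧) = 1)
  (hun : (U : k⟦X⟧) ^ n * (1 + X ^ n) = 1)

include hu1 hun in
/-- Existence of the elements `c_m`. -/
theorem exists_c (hn : 0 < n) (hpn : ¬ p ∣ n) (a : ℤ) :
    ∃ c : ℕ → k⟦X⟧, ∀ m, m ≤ n → X ^ m * c m = upow U (a - m) - 1 := by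
  have hcex : ∀ m : ℕ, ∃ c : k⟦X⟧, m ≤ n → X ^ m * c = upow U (a - m) - 1 := by
    intro m
    by_cases hmn : m ≤ n
    · obtain ⟨q, hq⟩ := upow_congr (p := p) U hu1 hun hn hpn (a - m)
      refine ⟨C (((a - m : ℤ) : k) * r0 k n) * X ^ (n - m) + X ^ (n - m + 1) * q, fun _ => ?_⟩
      have e1 : (X : k⟦X⟧) ^ n = X ^ m * X ^ (n - m) := by
        rw [← pow_add]; congr 1; omega
      have e2 : (X : k⟦X⟧) ^ (n + 1) = X ^ m * X ^ (n - m + 1) := by
        rw [← pow_add]; congr 1; omega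
      rw [e2] at hq
      rw [e1] at hq
      linear_combination (-1 : k⟦X⟧) * hq
    · exact ⟨0, fun h => absurd h hmn⟩
  choose c hc using hcex
  exact ⟨c, hc⟩

include hu1 hun in
/-- `ker N = span {c_m : m ∈ Mset} + (τ_a - 1) k⟦X⟧`. -/
theorem Z_struct (hn : 0 < n) (hpn : ¬ p ∣ n) (a : ℤ) (c : ℕ → k⟦X⟧)
    (hc : ∀ m, m ≤ n → X ^ m * c m = upow U (a - m) - 1)
    (f : k⟦X⟧) (hf : Nop U p a f = 0) :
    f ∈ Submodule.span k (c '' (Mset p n a : Set ℕ)) ⊔ LinearMap.range (del U a) := by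
  have main : ∀ d : ℕ, d ≤ n → ∀ f : k⟦X⟧, Nop U p a f = 0 → (X : k⟦X⟧) ^ (n - d) ∣ f →
      f ∈ Submodule.span k (c '' (Mset p n a : Set ℕ)) ⊔ LinearMap.range (del U a) := by
    intro d
    induction d with
    | zero =>
      intro _ f hf hX
      obtain ⟨w, hw⟩ := exists_preimage (p := p) U hu1 hun hn hpn a f hf hX
      exact Submodule.mem_sup_right ⟨w, hw⟩
    | succ d ih =>
      intro hd f hf hX
      set j := n - (d + 1) with hj
      by_cases hcj : coeff j f = 0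
      · apply ih (by omega) f hf
        rw [X_pow_dvd_iff]
        intro i hi
        rcases Nat.lt_succ_iff_lt_or_eq.mp (show i < j + 1 by omega) with h | h
        · exact (X_pow_dvd_iff.mp hX) i h
        · rw [h]; exact hcj
      · have hk := key (p := p) U hu1 hun hn hpn a f j hX hcj hf
        have hm : d + 1 ∈ Mset p n a := by
          rw [mem_Mset]
          refine ⟨⟨by omega, hd⟩, ?_⟩
          have : a - ((d + 1 : ℕ) : ℤ) = a + j - n := by
            rw [hj, Nat.cast_sub hd]; ring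
          rwa [this]
        obtain ⟨hc1, hc2⟩ := c_spec (p := p) U hu1 hun hn hpn a (d + 1) hd (c (d + 1))
          (hc (d + 1) hd)
        have hc3 : coeff j (c (d + 1)) ≠ 0 := by
          rw [hj, hc2]
          exact intCast_mul_r0_ne_zero hpn (mem_Mset.mp hm).2
        set t : k := coeff j f / coeff j (c (d + 1)) with ht
        have h1 : f - t • c (d + 1) ∈
            Submodule.span k (c '' (Mset p n a : Set ℕ)) ⊔ LinearMap.range (del U a) := by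
          apply ih (by omega)
          · rw [map_sub, map_smul, hf, c_mem_Z (p := p) U hu1 hun hpn a (d + 1) (c (d + 1))
              (hc (d + 1) hd), smul_zero, sub_zero]
          · rw [X_pow_dvd_iff]
            intro i hi
            rw [map_sub, coeff_smul, smul_eq_mul]
            rcases Nat.lt_succ_iff_lt_or_eq.mp (show i < j + 1 by omega) with h | h
            · rw [(X_pow_dvd_iff.mp hX) i h, (X_pow_dvd_iff.mp hc1) i (by omega), mul_zero,
                sub_zero]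
            · rw [h, ht, div_mul_cancel₀ _ hc3, sub_self]
        have h2 : t • c (d + 1) ∈
            Submodule.span k (c '' (Mset p n a : Set ℕ)) ⊔ LinearMap.range (del U a) :=
          Submodule.mem_sup_left (Submodule.smul_mem _ _
            (Submodule.subset_span ⟨d + 1, hm, rfl⟩))
        have := Submodule.add_mem _ h1 h2
        rwa [sub_add_cancel] at this
  exact main n le_rfl f hf (by simp)

section Deriv

variable (hD : ∀ h : k⟦X⟧, d⁄dX k (sig U h) = (U : k⟦X⟧) ^ (n + 1) * sig U (d⁄dX k h))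

include hD in
theorem deriv_Xu : d⁄dX k (X * (U : k⟦X⟧)) = (U : k⟦X⟧) ^ (n + 1) := by
  have := hD X
  rwa [sig_X, derivative_X, map_one, mul_one] at this

include hD in
theorem X_mul_deriv_u : X * d⁄dX k (U : k⟦X⟧) = (U : k⟦X⟧) ^ (n + 1) - (U : k⟦X⟧) := by
  have h1 := deriv_Xu U hD
  rw [Derivation.leibniz, derivative_X, smul_eq_mul, smul_eq_mul, mul_one] at h1
  linear_combination h1

include hD in
/-- `d/dt c_m = -m c'_{m+1}` where `c_m` belongs to `a = 0` and `c'_{m+1}` to `a = n+1`. -/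
theorem deriv_c (m : ℕ) (hm1 : 1 ≤ m) (hmn : m ≤ n) (c c' : k⟦X⟧)
    (hc : X ^ m * c = upow U ((0 : ℤ) - m) - 1)
    (hc' : X ^ (m + 1) * c' = upow U (((n + 1 : ℕ) : ℤ) - ((m + 1 : ℕ) : ℤ)) - 1) :
    d⁄dX k c = -((m : k⟦X⟧) * c') := by
  set u : k⟦X⟧ := (U : k⟦X⟧) with hu
  obtain ⟨m', rfl⟩ : ∃ m', m = m' + 1 := ⟨m - 1, by omega⟩
  have h1 : u ^ (m' + 1) * upow U ((0 : ℤ) - ((m' + 1 : ℕ) : ℤ)) = 1 := by
    rw [hu, ← upow_natCast, ← upow_add]
    have : (((m' + 1 : ℕ) : ℤ) + ((0 : ℤ) - ((m' + 1 : ℕ) : ℤ))) = 0 := by ring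
    rw [this, upow_zero]
  have h2 : (X * u) ^ (m' + 1) * c = 1 - u ^ (m' + 1) := by
    rw [mul_pow]
    linear_combination u ^ (m' + 1) * hc + h1
  have h1' : u ^ (m' + 1 + 1) * upow U (((n + 1 : ℕ) : ℤ) - ((m' + 1 + 1 : ℕ) : ℤ))
      = u ^ (n + 1) := by
    rw [hu, ← upow_natCast, ← upow_add, ← upow_natCast]
    congr 1; ring
  have h3 : (X * u) ^ (m' + 1 + 1) * c' = u ^ (n + 1) - u ^ (m' + 1 + 1) := by
    rw [mul_pow]
    linear_combination u ^ (m' + 1 + 1) * hc' + h1'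
  have hE1 := X_mul_deriv_u U hD
  have hE0 := deriv_Xu U hD
  have hE2 := congrArg (d⁄dX k) h2
  rw [Derivation.leibniz, Derivation.leibniz_pow, map_sub, Derivation.leibniz_pow, hE0] at hE2
  simp only [Nat.add_sub_cancel, smul_eq_mul, nsmul_eq_mul, Derivation.map_one_eq_zero,
    zero_sub] at hE2
  have hne : (X * u) ^ (m' + 1 + 1) ≠ 0 :=
    pow_ne_zero _ (mul_ne_zero (X_ne_zero (R := k)) (by rw [hu]; exact U.ne_zero))
  have hfin : (X * u) ^ (m' + 1 + 1) * (d⁄dX k c + ((m' + 1 : ℕ) : k⟦X⟧) * c') = 0 := by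
    push_cast at hE2 ⊢
    linear_combination (X * u) * hE2 - ((m' : k⟦X⟧) + 1) * u ^ (m' + 1) * hE1
      - ((m' : k⟦X⟧) + 1) * u ^ (n + 1) * h2 + ((m' : k⟦X⟧) + 1) * h3
  rcases mul_eq_zero.mp hfin with h | h
  · exact absurd h hne
  · exact eq_neg_of_add_eq_zero_left h

end Deriv

/-- Coefficient extraction at the positions `n - m`, `m ∈ S`. -/
noncomputable def Ecoef (n : ℕ) (S : Finset ℕ) : k⟦X⟧ →ₗ[k] (↥S → k) :=
  LinearMap.pi fun m => coeff (R := k) (n - m.1)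

omit [Fact p.Prime] [CharP k p] in
theorem Ecoef_apply (S : Finset ℕ) (x : k⟦X⟧) (m : ↥S) : Ecoef n S x m = coeff (n - m.1) x := rfl

omit [Fact p.Prime] [CharP k p] in
theorem Ecoef_eq_zero_of_dvd (S : Finset ℕ) (hS : ∀ m ∈ S, 1 ≤ m) (hn : 0 < n) (x : k⟦X⟧)
    (hx : (X : k⟦X⟧) ^ n ∣ x) : Ecoef n S x = 0 := by
  ext m
  rw [Ecoef_apply]
  have := hS m.1 m.2
  exact (X_pow_dvd_iff.mp hx) _ (by omega)

/-- The index set for the image of `d/dt` on `H¹`. -/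
def Jset (p n : ℕ) : Finset ℕ :=
  (Mset p n ((n + 1 : ℕ) : ℤ)).filter (fun m' => 2 ≤ m' ∧ m' - 1 ∈ Mset p n 0)

end Groth.Agent.H85.ASCover

namespace Groth.Agent.H85.ASCover

section RepPart2

universe u

variable {k : Type u} [Field k] {p : ℕ} [Fact p.Prime] [CharP k p] {n : ℕ}
  (U : k⟦X⟧ˣ) (hu1 : constantCoeff (U : k⟦X⟧) = 1)
  (hun : (U : k⟦X⟧) ^ n * (1 + X ^ n) = 1)
  {G : Type u} [Group G] [Finite G] (g : G) (hG : Nat.card G = p)
  (hg : ∀ x, x ∈ Subgroup.zpowers g)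
  (ρ₀ ρ₁ : Representation k G k⟦X⟧) (hρ₀ : ∀ h, ρ₀ g h = tau U 0 h)
  (hρ₁ : ∀ h, ρ₁ g h = tau U ((n + 1 : ℕ) : ℤ) h)
  (φ : Rep.of ρ₀ ⟶ Rep.of ρ₁) (hφ : ∀ h : k⟦X⟧, φ.hom h = d⁄dX k h)

include hρ₀ hρ₁ hφ in
theorem hD_of_hom (h : k⟦X⟧) :
    d⁄dX k (sig U h) = (U : k⟦X⟧) ^ (n + 1) * sig U (d⁄dX k h) := by
  have h1 := Rep.hom_comm_apply φ g h
  have h2 : (Rep.of ρ₀).ρ g h = sig U h := by
    show ρ₀ g h = _
    rw [hρ₀, tau_apply, upow_zero, one_mul]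
  have h3 : (Rep.of ρ₁).ρ g (φ.hom h) = (U : k⟦X⟧) ^ (n + 1) * sig U (d⁄dX k h) := by
    show ρ₁ g (φ.hom h) = _
    rw [hρ₁, tau_apply, upow_natCast, hφ]
  rw [h2, h3, hφ] at h1
  exact h1

/-- The composite `Z¹(G, 𝒪) → Z¹(G, Ω) → k^{M'}`. -/
noncomputable def Lam : cocycles₁ (Rep.of ρ₀) →ₗ[k] (↥(Mset p n ((n + 1 : ℕ) : ℤ)) → k) :=
  (Psi (p := p) (n := n) g ((n + 1 : ℕ) : ℤ) ρ₁) ∘ₗ (mapCocycles₁ (MonoidHom.id G) φ).hom

include hφ in
theorem Lam_apply (f : cocycles₁ (Rep.of ρ₀)) :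
    Lam (p := p) (n := n) g ρ₀ ρ₁ φ f
      = Ecoef n (Mset p n ((n + 1 : ℕ) : ℤ)) (d⁄dX k (f g : k⟦X⟧)) := by
  ext m
  rw [Ecoef_apply, ← hφ]
  rfl

include hu1 hun hG hg hρ₀ hρ₁ hφ in
theorem map_range_eq (hn : 0 < n) (hpn : ¬ p ∣ n) :
    Submodule.map
      (H1EquivFun U hu1 hun g hG hg ((n + 1 : ℕ) : ℤ) ρ₁ hρ₁ hn hpn).toLinearMap
      (LinearMap.range ((functor k G 1).map φ).hom)
      = LinearMap.range (Lam (p := p) (n := n) g ρ₀ ρ₁ φ) := by
  have hcomp : ∀ f : cocycles₁ (Rep.of ρ₀),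
      H1EquivFun U hu1 hun g hG hg ((n + 1 : ℕ) : ℤ) ρ₁ hρ₁ hn hpn
        (((functor k G 1).map φ).hom ((H1π (Rep.of ρ₀)).hom f))
      = Lam (p := p) (n := n) g ρ₀ ρ₁ φ f := by
    intro f
    have h1 := H1π_comp_map_apply (MonoidHom.id G) φ f
    rw [functor_map]
    erw [h1]
    rw [H1EquivFun_H1π]
    rfl
  apply le_antisymm
  · rintro _ ⟨_, ⟨x, rfl⟩, rfl⟩
    obtain ⟨f, rfl⟩ := CycCocycle.H1π_surjective (Rep.of ρ₀) x
    exact ⟨f, (hcomp f).symm⟩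
  · rintro _ ⟨f, rfl⟩
    exact ⟨_, ⟨_, rfl⟩, hcomp f⟩

theorem mem_Jset {m' : ℕ} : m' ∈ Jset p n ↔
    m' ∈ Mset p n ((n + 1 : ℕ) : ℤ) ∧ 2 ≤ m' ∧ m' - 1 ∈ Mset p n 0 := by
  rw [Jset, Finset.mem_filter]

include hu1 hun hG hg hρ₀ hρ₁ hφ in
theorem range_Lam (hn : 0 < n) (hpn : ¬ p ∣ n) :
    ∃ c' : ℕ → k⟦X⟧, (∀ m, m ≤ n → X ^ m * c' m = upow U (((n + 1 : ℕ) : ℤ) - m) - 1) ∧
      LinearMap.range (Lam (p := p) (n := n) g ρ₀ ρ₁ φ)
        = Submodule.span k (Set.range fun m' : ↥(Jset p n) =>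
            Ecoef n (Mset p n ((n + 1 : ℕ) : ℤ)) (c' m'.1)) := by
  classical
  obtain ⟨c, hc⟩ := exists_c (p := p) U hu1 hun hn hpn 0
  obtain ⟨c', hc'⟩ := exists_c (p := p) U hu1 hun hn hpn ((n + 1 : ℕ) : ℤ)
  refine ⟨c', hc', ?_⟩
  have hD := hD_of_hom U g ρ₀ ρ₁ hρ₀ hρ₁ φ hφ
  set M' := Mset p n ((n + 1 : ℕ) : ℤ) with hM'
  have hM'1 : ∀ m ∈ M', 1 ≤ m := fun m hm => (mem_Mset.mp hm).1.1
  set Sp := Submodule.span k (Set.range fun m' : ↥(Jset p n) => Ecoef n M' (c' m'.1)) with hSp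
  -- derivative of c m
  have hder : ∀ m, m ∈ Mset p n 0 → Ecoef n M' (d⁄dX k (c m)) ∈ Sp ∧
      (m + 1 ∈ Jset p n → Ecoef n M' (d⁄dX k (c m)) = (-(m : k)) • Ecoef n M' (c' (m + 1))) := by
    intro m hm
    obtain ⟨⟨hm1, hmn⟩, hmp⟩ := mem_Mset.mp hm
    rcases Nat.lt_or_ge m n with hlt | hge
    · -- m + 1 ≤ n
      have hd := deriv_c U hD m hm1 hmn (c m) (c' (m + 1)) (hc m hmn) (hc' (m + 1) hlt)
      have hE : Ecoef n M' (d⁄dX k (c m)) = (-(m : k)) • Ecoef n M' (c' (m + 1)) := by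
        rw [hd, ← map_smul]
        congr 1
        rw [neg_smul, ← map_natCast (C (R := k))]
        simp [smul_eq_C_mul]
      refine ⟨?_, fun _ => hE⟩
      by_cases hJ : m + 1 ∈ Jset p n
      · rw [hE]
        exact Submodule.smul_mem _ _ (Submodule.subset_span ⟨⟨m + 1, hJ⟩, rfl⟩)
      · -- then c'(m+1) is a coboundary
        have hnot : ¬ (m + 1 ∈ M') := by
          intro h
          apply hJ
          rw [mem_Jset]
          exact ⟨h, by omega, by simpa using hm⟩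
        have hdiv : (p : ℤ) ∣ ((n + 1 : ℕ) : ℤ) - ((m + 1 : ℕ) : ℤ) := by
          by_contra hcon
          exact hnot (mem_Mset.mpr ⟨⟨by omega, hlt⟩, hcon⟩)
        obtain ⟨h, hh⟩ := exists_coboundary (p := p) U hu1 hun hpn ((n + 1 : ℕ) : ℤ) (m + 1) hlt
          hdiv (c' (m + 1)) (hc' (m + 1) hlt)
        have hz : Ecoef n M' (c' (m + 1)) = 0 := by
          apply Ecoef_eq_zero_of_dvd M' hM'1 hn
          rw [← hh]
          have := tau_sub_dvd (p := p) U hu1 hun hn hpn ((n + 1 : ℕ) : ℤ) 0 h (by simp)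
          rwa [zero_add] at this
        rw [hE, hz, smul_zero]
        exact Submodule.zero_mem _
    · -- m = n
      have hmn' : m = n := le_antisymm hmn hge
      have hd := deriv_c U hD m hm1 hmn (c m) 0 (hc m hmn) (by
        rw [hmn', sub_self, upow_zero, sub_self, mul_zero])
      rw [mul_zero, neg_zero] at hd
      rw [hd, map_zero]
      refine ⟨Submodule.zero_mem _, fun hJ => ?_⟩
      exfalso
      have := (mem_Mset.mp (mem_Jset.mp hJ).1).1.2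
      omega
  apply le_antisymm
  · rintro _ ⟨f, rfl⟩
    rw [Lam_apply g ρ₀ ρ₁ φ hφ]
    have hxZ : Nop U p 0 (f g : k⟦X⟧) = 0 := by
      rw [← S_eq_Nop U g hG 0 ρ₀ hρ₀]
      exact CycCocycle.cocycle_norm (Rep.of ρ₀) g f
    have hmem := Z_struct (p := p) U hu1 hun hn hpn 0 c hc (f g : k⟦X⟧) hxZ
    have hle : Submodule.span k (c '' (Mset p n 0 : Set ℕ)) ⊔ LinearMap.range (del U 0)
        ≤ Submodule.comap ((Ecoef n M') ∘ₗ (d⁄dX k : k⟦X⟧ →ₗ[k] k⟦X⟧)) Sp := by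
      apply sup_le
      · rw [Submodule.span_le]
        rintro _ ⟨m, hm, rfl⟩
        exact (hder m hm).1
      · rintro _ ⟨w, rfl⟩
        show Ecoef n M' (d⁄dX k (del U 0 w)) ∈ Sp
        have h1 : d⁄dX k (del U 0 w) = del U ((n + 1 : ℕ) : ℤ) (d⁄dX k w) := by
          rw [del_apply, del_apply, tau_apply, tau_apply, upow_zero, one_mul, map_sub, hD,
            upow_natCast]
        rw [h1, Ecoef_eq_zero_of_dvd M' hM'1 hn]
        · exact Submodule.zero_mem _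
        · have := tau_sub_dvd (p := p) U hu1 hun hn hpn ((n + 1 : ℕ) : ℤ) 0 (d⁄dX k w) (by simp)
          rwa [zero_add] at this
    exact hle hmem
  · rw [hSp, Submodule.span_le]
    rintro _ ⟨m', rfl⟩
    obtain ⟨hm'1, hm'2, hm'3⟩ := mem_Jset.mp m'.2
    set m := m'.1 - 1 with hm
    have hmm : m + 1 = m'.1 := by omega
    obtain ⟨⟨hm1, hmn⟩, hmp⟩ := mem_Mset.mp hm'3
    have hcZ : CycCocycle.S (Rep.of ρ₀) g (Nat.card G) (c m) = 0 := by
      rw [S_eq_Nop U g hG 0 ρ₀ hρ₀]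
      exact c_mem_Z (p := p) U hu1 hun hpn 0 m (c m) (hc m hmn)
    obtain ⟨F, hF⟩ := CycCocycle.exists_cocycle (Rep.of ρ₀) g hg (c m) hcZ
    have h1 : Lam (p := p) (n := n) g ρ₀ ρ₁ φ F = (-(m : k)) • Ecoef n M' (c' m'.1) := by
      rw [Lam_apply g ρ₀ ρ₁ φ hφ]
      have : (F g : k⟦X⟧) = c m := hF
      rw [this, (hder m hm'3).2 (by rw [hmm]; exact m'.2), hmm]
    have hmk : (-(m : k)) ≠ 0 := by
      rw [neg_ne_zero]
      intro h0
      apply hmp
      have : (p : ℤ) ∣ (m : ℤ) := by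
        rw [Int.natCast_dvd_natCast]
        exact (CharP.cast_eq_zero_iff k p m).mp h0
      simpa using this
    have h2 : Ecoef n M' (c' m'.1) = (-(m : k))⁻¹ • Lam (p := p) (n := n) g ρ₀ ρ₁ φ F := by
      rw [h1, smul_smul, inv_mul_cancel₀ hmk, one_smul]
    show Ecoef n M' (c' m'.1) ∈ LinearMap.range (Lam (p := p) (n := n) g ρ₀ ρ₁ φ)
    rw [h2]
    exact Submodule.smul_mem _ _ ⟨F, rfl⟩

include hu1 hun in
theorem linInd_v (hn : 0 < n) (hpn : ¬ p ∣ n) (c' : ℕ → k⟦X⟧)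
    (hc' : ∀ m, m ≤ n → X ^ m * c' m = upow U (((n + 1 : ℕ) : ℤ) - m) - 1) :
    LinearIndependent k (fun m' : ↥(Jset p n) =>
      Ecoef n (Mset p n ((n + 1 : ℕ) : ℤ)) (c' m'.1)) := by
  classical
  rw [Fintype.linearIndependent_iff]
  intro lam hlam
  set lam' : ℕ → k := fun m => if hm : m ∈ Jset p n then lam ⟨m, hm⟩ else 0 with hlam'
  have h6 : ∑ m : ↥(Jset p n), lam m • c' m.1 = ∑ m ∈ Jset p n, lam' m • c' m := by
    rw [← Finset.sum_coe_sort (Jset p n) (fun m => lam' m • c' m)]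
    refine Finset.sum_congr rfl fun m _ => ?_
    rw [hlam']
    simp only [m.2, dite_true]
  have h1 : Ecoef n (Mset p n ((n + 1 : ℕ) : ℤ)) (∑ m ∈ Jset p n, lam' m • c' m) = 0 := by
    rw [← h6, map_sum]
    simp_rw [map_smul]
    exact hlam
  have hsub : ∀ m ∈ Jset p n, m ∈ Mset p n ((n + 1 : ℕ) : ℤ) := fun m hm => (mem_Jset.mp hm).1
  have h7 := tri_indep' (n := n) (Jset p n) (fun m hm => (mem_Mset.mp (hsub m hm)).1.2) c'
    (fun m hm => by
      have h := mem_Mset.mp (hsub m hm)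
      exact (c_spec (p := p) U hu1 hun hn hpn _ m h.1.2 (c' m) (hc' m h.1.2)).1)
    (fun m hm => by
      have h := mem_Mset.mp (hsub m hm)
      rw [(c_spec (p := p) U hu1 hun hn hpn _ m h.1.2 (c' m) (hc' m h.1.2)).2]
      exact intCast_mul_r0_ne_zero hpn h.2) lam'
    (fun m hm => by
      have := congrFun h1 ⟨m, hsub m hm⟩
      rwa [Ecoef_apply] at this)
  intro m
  have := h7 m.1 m.2
  rw [hlam'] at this
  simpa [m.2] using this

include hu1 hun hG hg hρ₀ hρ₁ hφ in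
theorem finrank_range (hn : 0 < n) (hpn : ¬ p ∣ n) :
    Module.Finite k (LinearMap.range ((functor k G 1).map φ).hom) ∧
      Module.finrank k (LinearMap.range ((functor k G 1).map φ).hom) = (Jset p n).card := by
  have : Module.Finite k (H1 (Rep.of ρ₁)) :=
    (finrank_H1 (p := p) U hu1 hun g hG hg ((n + 1 : ℕ) : ℤ) ρ₁ hρ₁ hn hpn).1
  have : Module.Finite k ((functor k G 1).obj (Rep.of ρ₁)) := this
  refine ⟨inferInstance, ?_⟩
  obtain ⟨c', hc', hrange⟩ := range_Lam U hu1 hun g hG hg ρ₀ ρ₁ hρ₀ hρ₁ φ hφ hn hpn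
  have h1 := LinearEquiv.finrank_map_eq
    (H1EquivFun U hu1 hun g hG hg ((n + 1 : ℕ) : ℤ) ρ₁ hρ₁ hn hpn)
    (LinearMap.range ((functor k G 1).map φ).hom)
  rw [map_range_eq U hu1 hun g hG hg ρ₀ ρ₁ hρ₀ hρ₁ φ hφ hn hpn, hrange,
    finrank_span_eq_card (linInd_v (p := p) U hu1 hun hn hpn c' hc'), Fintype.card_coe] at h1
  exact h1.symm

end RepPart2

end Groth.Agent.H85.ASCover

namespace Groth.Agent.H85.ASCover

theorem Jset_eq_image (p n : ℕ) (hn : 0 < n) :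
    Jset p n = (Mset p (n - 1) 0 ∩ Mset p (n - 1) (n : ℤ)).image (· + 1) := by
  ext m'
  rw [Jset, Finset.mem_filter, Finset.mem_image]
  simp only [mem_Mset, Finset.mem_inter]
  constructor
  · rintro ⟨⟨⟨h1, h2⟩, h3⟩, h4, ⟨h5, h6⟩, h7⟩
    refine ⟨m' - 1, ⟨⟨⟨h5, by omega⟩, h7⟩, ⟨⟨h5, by omega⟩, ?_⟩⟩, by omega⟩
    have : (n : ℤ) - ((m' - 1 : ℕ) : ℤ) = ((n + 1 : ℕ) : ℤ) - (m' : ℤ) := by
      rw [Nat.cast_sub (by omega)]; push_cast; ring
    rwa [this]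
  · rintro ⟨m, ⟨⟨⟨h1, h2⟩, h3⟩, ⟨_, h4⟩⟩, rfl⟩
    have e : m + 1 - 1 = m := by omega
    refine ⟨⟨⟨by omega, by omega⟩, ?_⟩, by omega, ⟨by omega, by omega⟩, by rw [e]; exact h3⟩
    have : ((n + 1 : ℕ) : ℤ) - ((m + 1 : ℕ) : ℤ) = (n : ℤ) - (m : ℤ) := by push_cast; ring
    rwa [this]

theorem card_Jset (p n : ℕ) (hp : p.Prime) (hn : 0 < n) (hpn : ¬ p ∣ n) :
    ((Jset p n).card : ℤ) = ((n + 1) * (p - 1) : ℤ) / p - 1 - (n - 1 : ℤ) / p := by
  have hp' : (0 : ℤ) < p := by exact_mod_cast hp.pos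
  have hp2 : (2 : ℤ) ≤ p := by exact_mod_cast hp.two_le
  rw [Jset_eq_image p n hn, Finset.card_image_of_injective _ (add_left_injective 1)]
  set N := n - 1 with hN
  have hNn : (N : ℤ) = (n : ℤ) - 1 := by rw [hN, Nat.cast_sub hn]; simp
  set Xs := Mset p N 0 with hXs
  set Ys := Mset p N (n : ℤ) with hYs
  have hunion : Xs ∪ Ys = Finset.Icc 1 N := by
    ext m
    rw [Finset.mem_union, hXs, hYs, mem_Mset, mem_Mset, Finset.mem_Icc]
    constructor
    · rintro (h | h) <;> exact h.1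
    · intro h
      by_cases h1 : (p : ℤ) ∣ 0 - (m : ℤ)
      · right
        refine ⟨h, fun h2 => hpn ?_⟩
        have : (p : ℤ) ∣ (n : ℤ) := by
          have := dvd_sub h2 h1
          simpa using this
        exact_mod_cast this
      · exact Or.inl ⟨h, h1⟩
  have hcard := Finset.card_union_add_card_inter Xs Ys
  rw [hunion, Nat.card_Icc] at hcard
  have hX := card_Mset p hp.pos 0 N
  have hY := card_Mset p hp.pos (n : ℤ) N
  rw [← hXs] at hX
  rw [← hYs] at hY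
  -- the integer quotient data
  set Q : ℤ := ((n : ℤ) - 1) / p with hQ
  set S : ℤ := ((n : ℤ) - 1) % p with hS
  have h1 : S + p * Q = (n : ℤ) - 1 := Int.emod_add_mul_ediv _ _
  have h2 : 0 ≤ S := Int.emod_nonneg _ hp'.ne'
  have h3 : S < p := Int.emod_lt_of_pos _ hp'
  have h4 : S ≠ p - 1 := by
    intro h
    apply hpn
    have : (p : ℤ) ∣ (n : ℤ) := ⟨Q + 1, by rw [h] at h1; linarith⟩
    exact_mod_cast this
  have e1 : ((0 : ℤ) - 1) / (p : ℤ) = -1 :=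
    ((Int.ediv_emod_unique (a := (0 : ℤ) - 1) (q := -1) (r := p - 1) hp').mpr
      ⟨by ring, by omega, by omega⟩).1
  have e2 : ((0 : ℤ) - 1 - N) / (p : ℤ) = -Q - 1 :=
    ((Int.ediv_emod_unique (a := (0 : ℤ) - 1 - N) (q := -Q - 1) (r := p - S - 1) hp').mpr
      ⟨by rw [hNn]; linarith [mul_add (p : ℤ) (-Q) (-1)], by omega, by omega⟩).1
  have e3 : ((n : ℤ) - 1 - N) / (p : ℤ) = 0 := by
    rw [hNn, sub_self, Int.zero_ediv]
  have e4 : ((n : ℤ) + 1) * ((p : ℤ) - 1) / (p : ℤ) = n - Q :=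
    ((Int.ediv_emod_unique (a := ((n : ℤ) + 1) * ((p : ℤ) - 1)) (q := n - Q) (r := p - S - 2)
      hp').mpr ⟨by
        have hn' : (n : ℤ) = S + p * Q + 1 := by linarith
        rw [hn']; ring, by omega, by omega⟩).1
  rw [e1, e2] at hX
  rw [e3] at hY
  rw [e4]
  have hc : ((Finset.card (Finset.Icc 1 N) : ℕ) : ℤ) = N := by simp
  have hcard' : ((N + 1 - 1 : ℕ) : ℤ) + ((Xs ∩ Ys).card : ℤ) = (Xs.card : ℤ) + Ys.card := by
    exact_mod_cast hcard
  rw [hX, hY] at hcard'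
  have : ((N + 1 - 1 : ℕ) : ℤ) = N := by simp
  rw [this] at hcard'
  linarith

end Groth.Agent.H85.ASCover
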