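import Groth.Agent.H85.MumfordCxT

/-!
# Mumford's complex, functorial form: `CohIII.TFun L p ≅ CohIII.TFun C p`
-/

set_option autoImplicit false

namespace Groth.Agent.H85.MumfordCx

open CategoryTheory CategoryTheory.Limits MonoidalCategory

universe u

section

variable {A : Type u} [CommRing A] {ι : Type} {c : ComplexShape ι}

/-- The natural transformation `H_p(L ⊗ -) ⟶ H_p(C ⊗ -)` induced by a morphism of complexes. -/
noncomputable def TFunMap {L C : HomologicalComplex (ModuleCat.{u} A) c} (φ : L ⟶ C) (p : ι) :
    CohIII.TFun L p ⟶ CohIII.TFun C p where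
  app M := HomologicalComplex.homologyMap (((tensorRight M).mapHomologicalComplex c).map φ) p
  naturality M N g := by
    show HomologicalComplex.homologyMap (CohIII.tensorMap L g) p ≫
        HomologicalComplex.homologyMap (((tensorRight N).mapHomologicalComplex c).map φ) p =
      HomologicalComplex.homologyMap (((tensorRight M).mapHomologicalComplex c).map φ) p ≫
        HomologicalComplex.homologyMap (CohIII.tensorMap C g) p
    rw [← HomologicalComplex.homologyMap_comp, ← HomologicalComplex.homologyMap_comp]
    congr 1
    ext i : 1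
    simp only [HomologicalComplex.comp_f]
    exact (whisker_exchange (φ.f i) g)

theorem TFunMap_app {L C : HomologicalComplex (ModuleCat.{u} A) c} (φ : L ⟶ C) (p : ι)
    (M : ModuleCat.{u} A) :
    (TFunMap φ p).app M =
      HomologicalComplex.homologyMap (((tensorRight M).mapHomologicalComplex c).map φ) p := rfl

end

/-- Mumford's complex, functorial form: for a bounded above complex `C` of flat modules over a
Noetherian ring `A` with finite cohomology there are a bounded above complex `L` of finite free
modules and `φ : L ⟶ C` inducing isomorphisms of functors `H^p(L ⊗ -) ≅ H^p(C ⊗ -)` for all `p`. -/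
theorem exists_TFun_iso (A : Type u) [CommRing A] [IsNoetherianRing A]
    (C : CochainComplex (ModuleCat.{u} A) ℤ) (hflat : ∀ i, Module.Flat A (C.X i)) (b : ℤ)
    (hb : ∀ i, b < i → IsZero (C.X i)) (hfin : ∀ i, Module.Finite A (C.homology i)) :
    ∃ (L : CochainComplex (ModuleCat.{u} A) ℤ) (φ : L ⟶ C),
      (∀ i, Module.Finite A (L.X i) ∧ Module.Free A (L.X i)) ∧ (∀ i, b < i → IsZero (L.X i)) ∧
        QuasiIso φ ∧ ∀ p : ℤ, IsIso (TFunMap φ p) := by
  obtain ⟨L, φ, h1, h2, h3, h4⟩ := exists_T_iso A C hflat b hb hfin
  refine ⟨L, φ, h1, h2, h3, fun p => ?_⟩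
  have : ∀ M, IsIso ((TFunMap φ p).app M) := fun M => (h4 M p).1
  exact NatIso.isIso_of_isIso_app _

end Groth.Agent.H85.MumfordCx
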