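import Groth.Prelude.Def_W4c4cptpiccptjacBI
import Mathlib

/-!
# Multidegrees on dual graphs: existence of Basic-Inequality representatives

Helper lemmas for S17173 (and S17174).
-/

set_option autoImplicit false
set_option linter.unusedSectionVars false
universe u

open LabGraph

namespace Groth.Agent.H85.BIGraph

variable {V E : Type u} [Fintype V] [Fintype E] [DecidableEq V] [DecidableEq E]
variable (ends : E → V × V) (w : V → ℕ)

theorem sum_endCount : ∑ v : V, (endCount ends Finset.univ v : ℤ) = 2 * (Fintype.card E : ℤ) := by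
  simp only [endCount]
  push_cast
  rw [Finset.sum_comm]
  simp [Finset.sum_add_distrib, Finset.card_univ]
  ring

theorem canDeg_univ : canDeg ends w Finset.univ = 2 * genus ends w - 2 := by
  simp only [canDeg, genus]
  rw [Finset.sum_add_distrib, Finset.sum_sub_distrib, sum_endCount, ← Finset.mul_sum]
  simp [Finset.card_univ]
  ring

theorem cut_eq_sum (Y : Finset V) : (cut ends Y : ℤ) =
    ∑ e : E, (if ((ends e).1 ∈ Y ∧ (ends e).2 ∉ Y) ∨ ((ends e).1 ∉ Y ∧ (ends e).2 ∈ Y)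
      then (1 : ℤ) else 0) := by
  simp only [cut]
  rw [Finset.card_filter]
  push_cast
  rfl

theorem sum_twist (φ : V → ℤ) (Y : Finset V) : ∑ v ∈ Y, twist ends φ v =
    ∑ e : E, ((if (ends e).1 ∈ Y then φ (ends e).2 - φ (ends e).1 else 0) +
      (if (ends e).2 ∈ Y then φ (ends e).1 - φ (ends e).2 else 0)) := by
  simp only [twist]
  rw [Finset.sum_comm]
  apply Finset.sum_congr rfl
  intro e _
  rw [Finset.sum_add_distrib]
  congr 1
  · rw [Finset.sum_ite_eq]
  · rw [Finset.sum_ite_eq]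

theorem sum_twist_univ (φ : V → ℤ) : ∑ v : V, twist ends φ v = 0 := by
  rw [sum_twist ends φ Finset.univ]
  apply Finset.sum_eq_zero
  intro e _
  simp

theorem cut_compl (Y : Finset V) : cut ends Yᶜ = cut ends Y := by
  simp only [cut]
  congr 1
  ext e
  simp only [Finset.mem_filter, Finset.mem_univ, true_and, Finset.mem_compl, not_not]
  tauto

/-! ### Flow representations -/

/-- `ξ` is the boundary of an integer flow, expressed through the pairing with vertex labellings. -/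
def HasFlow (ξ : V → ℤ) : Prop :=
  ∃ γ : E → ℤ, ∀ φ : V → ℤ, ∑ v, ξ v * φ v = ∑ e, γ e * (φ (ends e).2 - φ (ends e).1)

theorem hasFlow_zero : HasFlow ends (fun _ => (0 : ℤ)) :=
  ⟨fun _ => 0, fun φ => by simp⟩

theorem hasFlow_add {ξ η : V → ℤ} (h1 : HasFlow ends ξ) (h2 : HasFlow ends η) :
    HasFlow ends (fun v => ξ v + η v) := by
  obtain ⟨γ, hγ⟩ := h1
  obtain ⟨δ, hδ⟩ := h2
  refine ⟨fun e => γ e + δ e, fun φ => ?_⟩
  simp only [add_mul, Finset.sum_add_distrib, hγ φ, hδ φ]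

theorem hasFlow_smul (c : ℤ) {ξ : V → ℤ} (h1 : HasFlow ends ξ) :
    HasFlow ends (fun v => c * ξ v) := by
  obtain ⟨γ, hγ⟩ := h1
  refine ⟨fun e => c * γ e, fun φ => ?_⟩
  simp only [mul_assoc, ← Finset.mul_sum, hγ φ]

theorem hasFlow_sum {ι : Type*} (s : Finset ι) (c : ι → ℤ) (f : ι → V → ℤ)
    (h : ∀ i ∈ s, HasFlow ends (f i)) : HasFlow ends (fun v => ∑ i ∈ s, c i * f i v) := by
  classical
  induction s using Finset.induction_on with
  | empty => simpa using hasFlow_zero ends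
  | insert a s ha ih =>
    have h1 := hasFlow_smul ends (c a) (h a (Finset.mem_insert_self a s))
    have h2 := ih (fun i hi => h i (Finset.mem_insert_of_mem hi))
    have := hasFlow_add ends h1 h2
    refine (congrArg (HasFlow ends) ?_).mp this
    funext v
    rw [Finset.sum_insert ha]

theorem hasFlow_of_adj {v u : V} (h : Adj ends v u) :
    HasFlow ends (fun x => (if x = u then 1 else 0) - (if x = v then 1 else 0)) := by
  obtain ⟨e, he | he⟩ := h
  · refine ⟨fun e' => if e' = e then 1 else 0, fun φ => ?_⟩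
    simp [sub_mul, Finset.sum_sub_distrib, he]
  · refine ⟨fun e' => if e' = e then -1 else 0, fun φ => ?_⟩
    simp [sub_mul, Finset.sum_sub_distrib, he]

theorem hasFlow_of_reflTransGen {v u : V} (h : Relation.ReflTransGen (Adj ends) v u) :
    HasFlow ends (fun x => (if x = u then 1 else 0) - (if x = v then 1 else 0)) := by
  induction h with
  | refl => simpa using hasFlow_zero ends
  | tail _ hbc ih =>
    have := hasFlow_add ends ih (hasFlow_of_adj ends hbc)
    refine (congrArg (HasFlow ends) ?_).mp this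
    funext x
    ring

theorem hasFlow_of_sum_eq_zero (hc : Connected ends) (ξ : V → ℤ) (h : ∑ v, ξ v = 0) :
    HasFlow ends ξ := by
  obtain ⟨⟨v0⟩, hconn⟩ := hc
  have := hasFlow_sum ends Finset.univ ξ
    (fun v x => (if x = v then (1 : ℤ) else 0) - (if x = v0 then 1 else 0))
    (fun v _ => hasFlow_of_reflTransGen ends (hconn v0 v))
  refine (congrArg (HasFlow ends) ?_).mp this
  funext x
  simp only [mul_sub, Finset.sum_sub_distrib, mul_ite, mul_one, mul_zero]
  rw [Finset.sum_ite_eq Finset.univ x ξ]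
  simp only [Finset.mem_univ, if_true]
  by_cases hx : x = v0
  · simp [hx, h]
  · simp [hx]


/-! ### The energy and its minimiser -/

/-- Twice the energy `K/2 · Σ_e (Δ_e φ)² - Σ_v ξ_v φ_v`. -/
def energy (K : ℤ) (ξ : V → ℤ) (φ : V → ℤ) : ℤ :=
  K * ∑ e : E, (φ (ends e).2 - φ (ends e).1) ^ 2 - 2 * ∑ v, ξ v * φ v

theorem energy_lower_bound (K : ℤ) (hK : 1 ≤ K) (ξ : V → ℤ) (γ : E → ℤ)
    (hγ : ∀ φ : V → ℤ, ∑ v, ξ v * φ v = ∑ e, γ e * (φ (ends e).2 - φ (ends e).1)) (φ : V → ℤ) :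
    -(∑ e, γ e ^ 2) ≤ energy ends K ξ φ := by
  unfold energy
  rw [hγ φ, Finset.mul_sum, Finset.mul_sum, ← Finset.sum_sub_distrib, ← Finset.sum_neg_distrib]
  apply Finset.sum_le_sum
  intro e _
  nlinarith [sq_nonneg (φ (ends e).2 - φ (ends e).1 - γ e), sq_nonneg (φ (ends e).2 - φ (ends e).1)]

theorem exists_energy_min (hc : Connected ends) (K : ℤ) (hK : 1 ≤ K) (ξ : V → ℤ)
    (h : ∑ v, ξ v = 0) : ∃ φ₀ : V → ℤ, ∀ φ : V → ℤ, energy ends K ξ φ₀ ≤ energy ends K ξ φ := by
  obtain ⟨γ, hγ⟩ := hasFlow_of_sum_eq_zero ends hc ξ h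
  have hb : ∃ b : ℤ, ∀ z : ℤ, (∃ φ : V → ℤ, energy ends K ξ φ = z) → b ≤ z :=
    ⟨-(∑ e, γ e ^ 2), fun z ⟨φ, hφ⟩ => hφ ▸ energy_lower_bound ends K hK ξ γ hγ φ⟩
  obtain ⟨lb, ⟨φ₀, hφ₀⟩, hlb⟩ := Int.exists_least_of_bdd hb ⟨_, fun _ => 0, rfl⟩
  exact ⟨φ₀, fun φ => hφ₀ ▸ hlb _ ⟨φ, rfl⟩⟩

theorem energy_add_indicator (K : ℤ) (ξ : V → ℤ) (φ : V → ℤ) (Y : Finset V) :
    energy ends K ξ (fun v => φ v + if v ∈ Y then 1 else 0) =
      energy ends K ξ φ - 2 * K * (∑ v ∈ Y, twist ends φ v) + K * (cut ends Y : ℤ)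
        - 2 * ∑ v ∈ Y, ξ v := by
  unfold energy
  rw [sum_twist, cut_eq_sum]
  have h1 : ∑ v, ξ v * (φ v + if v ∈ Y then 1 else 0) = ∑ v, ξ v * φ v + ∑ v ∈ Y, ξ v := by
    simp only [mul_add, Finset.sum_add_distrib, mul_ite, mul_one, mul_zero]
    congr 1
    rw [Finset.sum_ite_mem Finset.univ Y ξ, Finset.univ_inter]
  rw [h1]
  have h2 : ∑ e : E, ((φ (ends e).2 + if (ends e).2 ∈ Y then (1:ℤ) else 0) -
        (φ (ends e).1 + if (ends e).1 ∈ Y then 1 else 0)) ^ 2 =
      ∑ e : E, (φ (ends e).2 - φ (ends e).1) ^ 2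
        - 2 * ∑ e : E, ((if (ends e).1 ∈ Y then φ (ends e).2 - φ (ends e).1 else 0) +
            (if (ends e).2 ∈ Y then φ (ends e).1 - φ (ends e).2 else 0))
        + ∑ e : E, (if ((ends e).1 ∈ Y ∧ (ends e).2 ∉ Y) ∨ ((ends e).1 ∉ Y ∧ (ends e).2 ∈ Y)
            then (1 : ℤ) else 0) := by
    rw [Finset.mul_sum, ← Finset.sum_sub_distrib, ← Finset.sum_add_distrib]
    apply Finset.sum_congr rfl
    intro e _
    by_cases h1 : (ends e).1 ∈ Y <;> by_cases h2 : (ends e).2 ∈ Y <;> simp [h1, h2] <;> ring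
  rw [h2]
  ring

/-- **Existence of a Basic-Inequality representative** in every twist class (connected graph,
positive canonical degree). -/
theorem exists_BI (hc : Connected ends) (hK : 1 ≤ canDeg ends w Finset.univ) (d : V → ℤ) :
    ∃ d' : V → ℤ, TwistEquiv ends d' d ∧ SatisfiesBI ends w d' := by
  set K := canDeg ends w Finset.univ with hKdef
  set D := ∑ v : V, d v with hD
  let ξ : V → ℤ := fun v => K * d v - D * (2 * (w v : ℤ) - 2 + (endCount ends Finset.univ v : ℤ))
  have hx : ∀ Y : Finset V, K * (∑ v ∈ Y, d v) - D * canDeg ends w Y = ∑ v ∈ Y, ξ v := by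
    intro Y
    simp only [ξ, canDeg, Finset.sum_sub_distrib, Finset.mul_sum]
  have hξ0 : ∑ v, ξ v = 0 := by
    rw [← hx Finset.univ, ← hKdef, ← hD]
    ring
  obtain ⟨φ₀, hmin⟩ := exists_energy_min ends hc K hK ξ hξ0
  refine ⟨fun v => d v + twist ends φ₀ v, ⟨φ₀, fun v => by ring⟩, ?_⟩
  -- one-sided inequality for every `Y`
  have hone : ∀ Y : Finset V,
      2 * (∑ v ∈ Y, ξ v + K * ∑ v ∈ Y, twist ends φ₀ v) ≤ (cut ends Y : ℤ) * K := by
    intro Y
    have h1 := hmin (fun v => φ₀ v + if v ∈ Y then 1 else 0)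
    rw [energy_add_indicator] at h1
    linarith
  have hD' : ∑ v : V, (d v + twist ends φ₀ v) = D := by
    rw [Finset.sum_add_distrib, sum_twist_univ, add_zero]
  intro Y
  rw [hD']
  have hnew : ∀ Y : Finset V, K * (∑ v ∈ Y, (d v + twist ends φ₀ v)) - D * canDeg ends w Y =
      (∑ v ∈ Y, ξ v) + K * ∑ v ∈ Y, twist ends φ₀ v := by
    intro Y
    rw [Finset.sum_add_distrib, mul_add, ← hx]
    ring
  rw [hnew Y]
  have hc1 := hone Y
  have hc2 := hone Yᶜ
  rw [cut_compl] at hc2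
  have e1 : ∑ v ∈ Yᶜ, ξ v = -∑ v ∈ Y, ξ v := by
    have := Finset.sum_add_sum_compl Y ξ
    linarith
  have e2 : ∑ v ∈ Yᶜ, twist ends φ₀ v = -∑ v ∈ Y, twist ends φ₀ v := by
    have := Finset.sum_add_sum_compl Y (twist ends φ₀)
    rw [sum_twist_univ] at this
    linarith
  rw [e1, e2] at hc2
  rw [← hKdef]
  rcases abs_cases (∑ v ∈ Y, ξ v + K * ∑ v ∈ Y, twist ends φ₀ v) with ⟨h, _⟩ | ⟨h, _⟩ <;>
    rw [h] <;> linarith


/-! ### Normal form of the twist between two Basic-Inequality multidegrees -/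

/-- Two BI multidegrees differing by `twist φ`: the twist summed over any `Y` is at most `cut Y`. -/
theorem abs_sum_twist_le_cut (hK : 1 ≤ canDeg ends w Finset.univ) (d d' : V → ℤ)
    (hBI : SatisfiesBI ends w d) (hBI' : SatisfiesBI ends w d') (φ : V → ℤ)
    (hφ : ∀ v, d v - d' v = twist ends φ v) (Y : Finset V) :
    |∑ v ∈ Y, twist ends φ v| ≤ (cut ends Y : ℤ) := by
  set K := canDeg ends w Finset.univ with hKdef
  have htot : ∑ v, d v = ∑ v, d' v := by
    have h1 : ∑ v, (d v - d' v) = 0 := by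
      rw [Finset.sum_congr rfl (fun v _ => hφ v), sum_twist_univ]
    rw [Finset.sum_sub_distrib] at h1
    linarith
  have h1 := hBI Y
  have h2 := hBI' Y
  rw [← htot] at h2
  rw [← hKdef] at h1 h2
  have hT : ∑ v ∈ Y, twist ends φ v = ∑ v ∈ Y, d v - ∑ v ∈ Y, d' v := by
    rw [← Finset.sum_sub_distrib]
    exact Finset.sum_congr rfl (fun v _ => (hφ v).symm)
  set A := K * ∑ v ∈ Y, d v - (∑ v, d v) * canDeg ends w Y with hA
  set B := K * ∑ v ∈ Y, d' v - (∑ v, d v) * canDeg ends w Y with hB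
  have hAB : K * ∑ v ∈ Y, twist ends φ v = A - B := by rw [hT, hA, hB]; ring
  have h3 : K * |∑ v ∈ Y, twist ends φ v| ≤ K * (cut ends Y : ℤ) := by
    have hK0 : (0 : ℤ) ≤ K := by linarith
    calc K * |∑ v ∈ Y, twist ends φ v| = |K * ∑ v ∈ Y, twist ends φ v| := by
          rw [abs_mul, abs_of_nonneg hK0]
      _ = |A - B| := by rw [hAB]
      _ ≤ |A| + |B| := abs_sub A B
      _ ≤ K * (cut ends Y : ℤ) := by linarith
  exact le_of_mul_le_mul_left h3 (by linarith)

/-- Across every edge the labelling changes by at most one. -/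
theorem edge_bound (hK : 1 ≤ canDeg ends w Finset.univ) (d d' : V → ℤ)
    (hBI : SatisfiesBI ends w d) (hBI' : SatisfiesBI ends w d') (φ : V → ℤ)
    (hφ : ∀ v, d v - d' v = twist ends φ v) (x y : V) (e0 : E)
    (he : ends e0 = (x, y) ∨ ends e0 = (y, x)) : φ y - φ x ≤ 1 := by
  by_contra hlt
  rw [not_le] at hlt
  set Y : Finset V := Finset.univ.filter (fun v => φ y ≤ φ v) with hY
  have hmem : ∀ v, v ∈ Y ↔ φ y ≤ φ v := by intro v; simp [hY]
  have hb := abs_sum_twist_le_cut ends w hK d d' hBI hBI' φ hφ Y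
  rw [sum_twist, cut_eq_sum] at hb
  have hb' := (abs_le.mp hb).1
  -- termwise
  have hterm : ∀ e : E, 0 ≤
      -((if (ends e).1 ∈ Y then φ (ends e).2 - φ (ends e).1 else 0) +
        (if (ends e).2 ∈ Y then φ (ends e).1 - φ (ends e).2 else 0)) -
      (if ((ends e).1 ∈ Y ∧ (ends e).2 ∉ Y) ∨ ((ends e).1 ∉ Y ∧ (ends e).2 ∈ Y)
        then (1 : ℤ) else 0) := by
    intro e
    by_cases h1 : (ends e).1 ∈ Y <;> by_cases h2 : (ends e).2 ∈ Y
    · simp [h1, h2]
    · have a1 := (hmem _).mp h1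
      have a2 : φ (ends e).2 < φ y := not_le.mp (fun h => h2 ((hmem _).mpr h))
      simp only [h1, h2, if_true, if_false, not_false_eq_true, and_self, true_or, add_zero]
      omega
    · have a2 := (hmem _).mp h2
      have a1 : φ (ends e).1 < φ y := not_le.mp (fun h => h1 ((hmem _).mpr h))
      simp only [h1, h2, if_true, if_false, not_false_eq_true, and_self, or_true, zero_add]
      omega
    · simp [h1, h2]
  have hsingle := Finset.single_le_sum (f := fun e : E =>
      -((if (ends e).1 ∈ Y then φ (ends e).2 - φ (ends e).1 else 0) +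
        (if (ends e).2 ∈ Y then φ (ends e).1 - φ (ends e).2 else 0)) -
      (if ((ends e).1 ∈ Y ∧ (ends e).2 ∉ Y) ∨ ((ends e).1 ∉ Y ∧ (ends e).2 ∈ Y)
        then (1 : ℤ) else 0)) (fun e _ => hterm e) (Finset.mem_univ e0)
  rw [Finset.sum_sub_distrib, Finset.sum_neg_distrib] at hsingle
  have hy : y ∈ Y := (hmem y).mpr le_rfl
  have hx : x ∉ Y := fun h => by have := (hmem x).mp h; omega
  have h0 : (0 : ℤ) < -((if (ends e0).1 ∈ Y then φ (ends e0).2 - φ (ends e0).1 else 0) +
        (if (ends e0).2 ∈ Y then φ (ends e0).1 - φ (ends e0).2 else 0)) -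
      (if ((ends e0).1 ∈ Y ∧ (ends e0).2 ∉ Y) ∨ ((ends e0).1 ∉ Y ∧ (ends e0).2 ∈ Y)
        then (1 : ℤ) else 0) := by
    rcases he with he | he <;> simp [he, hx, hy] <;> omega
  linarith


theorem exists_levels (hc : Connected ends) (hK : 1 ≤ canDeg ends w Finset.univ) (d d' : V → ℤ)
    (hBI : SatisfiesBI ends w d) (hBI' : SatisfiesBI ends w d') (heq : TwistEquiv ends d d') :
    ∃ (q : ℕ) (h : V → ℕ), (∀ v : V, h v ≤ q) ∧ (∀ i : ℕ, i ≤ q → ∃ v : V, h v = i) ∧
      (∀ v : V, d v - d' v = twist ends (fun u => (h u : ℤ)) v) ∧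
      (∀ i j : ℕ, i ≤ q → j ≤ q → i ≠ j →
        ((∃ e : E, (h (ends e).1 = i ∧ h (ends e).2 = j) ∨ (h (ends e).1 = j ∧ h (ends e).2 = i)) ↔
          (i + 1 = j ∨ j + 1 = i))) := by
  obtain ⟨φ, hφ⟩ := heq
  obtain ⟨⟨v0⟩, hconn⟩ := hc
  obtain ⟨vmin, -, hvmin⟩ := Finset.exists_min_image Finset.univ φ ⟨v0, Finset.mem_univ _⟩
  obtain ⟨vmax, -, hvmax⟩ := Finset.exists_max_image Finset.univ φ ⟨v0, Finset.mem_univ _⟩
  set m := φ vmin with hm
  let h : V → ℕ := fun v => (φ v - m).toNat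
  have hh : ∀ v, (h v : ℤ) = φ v - m := fun v =>
    Int.toNat_of_nonneg (sub_nonneg.mpr (hvmin v (Finset.mem_univ _)))
  have hedge : ∀ x y (e : E), (ends e = (x, y) ∨ ends e = (y, x)) → h y ≤ h x + 1 := by
    intro x y e he
    have h1 := edge_bound ends w hK d d' hBI hBI' φ hφ x y e he
    have h2 := hh x
    have h3 := hh y
    omega
  have hadj : ∀ x y, Adj ends x y → h y ≤ h x + 1 := by
    rintro x y ⟨e, he⟩
    exact hedge x y e he
  have hmin0 : h vmin = 0 := by
    have := hh vmin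
    rw [hm, sub_self] at this
    exact_mod_cast this
  have hmax : ∀ v, h v ≤ h vmax := by
    intro v
    have h1 := hh v
    have h2 := hh vmax
    have h3 := hvmax v (Finset.mem_univ _)
    omega
  -- intermediate value along chains
  have hivt : ∀ u v, Relation.ReflTransGen (Adj ends) u v → ∀ i, h u ≤ i → i ≤ h v →
      ∃ x, h x = i := by
    intro u v huv
    induction huv with
    | refl => intro i h1 h2; exact ⟨u, le_antisymm h1 h2⟩
    | @tail b c _ hbc ih =>
      intro i h1 h2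
      by_cases hib : i ≤ h b
      · exact ih i h1 hib
      · have := hadj b c hbc
        exact ⟨c, by omega⟩
  -- a crossing edge along chains
  have hcross : ∀ i u v, Relation.ReflTransGen (Adj ends) u v → h u ≤ i → i + 1 ≤ h v →
      ∃ e : E, (h (ends e).1 = i ∧ h (ends e).2 = i + 1) ∨
        (h (ends e).1 = i + 1 ∧ h (ends e).2 = i) := by
    intro i u v huv
    induction huv with
    | refl => intro h1 h2; omega
    | @tail b c _ hbc ih =>
      intro h1 h2
      by_cases hib : i + 1 ≤ h b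
      · exact ih h1 hib
      · have h3 := hadj b c hbc
        have hb : h b = i := by omega
        have hc' : h c = i + 1 := by omega
        obtain ⟨e, he | he⟩ := hbc
        · exact ⟨e, Or.inl (by rw [he]; exact ⟨hb, hc'⟩)⟩
        · exact ⟨e, Or.inr (by rw [he]; exact ⟨hc', hb⟩)⟩
  refine ⟨h vmax, h, hmax, ?_, ?_, ?_⟩
  · intro i hi
    exact hivt vmin vmax (hconn vmin vmax) i (by omega) hi
  · intro v
    rw [hφ v]
    unfold twist
    apply Finset.sum_congr rfl
    intro e _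
    simp only [hh]
    congr 1 <;> split_ifs <;> ring
  · intro i j hi hj hij
    constructor
    · rintro ⟨e, ⟨h1, h2⟩ | ⟨h1, h2⟩⟩
      · have a1 := hedge (ends e).1 (ends e).2 e (Or.inl rfl)
        have a2 := hedge (ends e).2 (ends e).1 e (Or.inr rfl)
        omega
      · have a1 := hedge (ends e).1 (ends e).2 e (Or.inl rfl)
        have a2 := hedge (ends e).2 (ends e).1 e (Or.inr rfl)
        omega
    · rintro (rfl | rfl)
      · obtain ⟨e, he⟩ := hcross i vmin vmax (hconn vmin vmax) (by omega) hj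
        exact ⟨e, he⟩
      · obtain ⟨e, he⟩ := hcross j vmin vmax (hconn vmin vmax) (by omega) hi
        exact ⟨e, he.symm⟩

end Groth.Agent.H85.BIGraph
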