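import Mathlib

/-!
# Binary forms over an algebraically closed field: common factors and common zeros

Helper lemmas for S17077 and S17078.
-/

set_option autoImplicit false

open MvPolynomial

namespace Groth.Agent.H85.BinaryForms

variable {k : Type*} [Field k]

/-- Scaling a point scales the value of a homogeneous polynomial. -/
theorem aeval_mul_of_isHomogeneous {σ : Type*} [Fintype σ] {S : Type*} [CommRing S] [Algebra k S]
    {φ : MvPolynomial σ k} {n : ℕ} (hφ : φ.IsHomogeneous n) (t : S) (g : σ → S) :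
    aeval (fun i => t * g i) φ = t ^ n * aeval g φ := by
  rw [aeval_def, aeval_def, eval₂_eq', eval₂_eq', Finset.mul_sum]
  apply Finset.sum_congr rfl
  intro d hd
  have hdeg : ∑ i, d i = n := by
    rw [hφ.degree_eq_sum_deg_support hd]
    exact (Finset.sum_subset (Finset.subset_univ _) (fun i _ hi => by simpa using hi)).symm
  simp only [mul_pow, Finset.prod_mul_distrib, Finset.prod_pow_eq_pow_sum, hdeg]
  ring

theorem eval_smul_of_isHomogeneous {σ : Type*} [Fintype σ]
    {φ : MvPolynomial σ k} {n : ℕ} (hφ : φ.IsHomogeneous n) (t : k) (g : σ → k) :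
    eval (fun i => t * g i) φ = t ^ n * eval g φ := by
  have := aeval_mul_of_isHomogeneous (S := k) hφ t g
  simpa [aeval_eq_eval] using this

/-- A non-unit polynomial in two variables over an algebraically closed field has a zero other
than the origin. -/
theorem exists_zero_of_not_isUnit [IsAlgClosed k] (H : MvPolynomial (Fin 2) k) (hH : ¬ IsUnit H) :
    ∃ a : Fin 2 → k, a ≠ 0 ∧ eval a H = 0 := by
  by_contra hcon
  push Not at hcon
  have key : ∀ j : Fin 2, ∃ n, H ∣ (X j : MvPolynomial (Fin 2) k) ^ n := by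
    intro j
    have hmem : (X j : MvPolynomial (Fin 2) k) ∈
        vanishingIdeal k (zeroLocus k (Ideal.span {H})) := by
      intro x hx
      have hx0 : x = 0 := by
        by_contra hne
        apply hcon x hne
        have := hx H (Ideal.subset_span rfl)
        simpa [aeval_eq_eval] using this
      simp [hx0]
    rw [vanishingIdeal_zeroLocus_eq_radical] at hmem
    obtain ⟨n, hn⟩ := hmem
    exact ⟨n, Ideal.mem_span_singleton.mp hn⟩
  obtain ⟨n0, h0⟩ := key 0
  obtain ⟨n1, h1⟩ := key 1
  obtain ⟨i0, -, hi0⟩ := (dvd_prime_pow (X_prime (R := k) (i := (0 : Fin 2))) n0).mp h0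
  obtain ⟨i1, -, hi1⟩ := (dvd_prime_pow (X_prime (R := k) (i := (1 : Fin 2))) n1).mp h1
  rcases Nat.eq_zero_or_pos i0 with rfl | hpos
  · rw [pow_zero] at hi0
    exact hH (associated_one_iff_isUnit.mp hi0)
  · have h3 : (X 0 : MvPolynomial (Fin 2) k) ∣ X 0 ^ i0 := dvd_pow_self _ hpos.ne'
    have h4 : (X 0 : MvPolynomial (Fin 2) k) ∣ X 1 ^ i1 := (h3.trans hi0.symm.dvd).trans hi1.dvd
    have h5 := (X_prime (R := k) (i := (0 : Fin 2))).dvd_of_dvd_pow h4
    rw [X_dvd_X] at h5
    exact absurd h5 (by decide)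

/-- A binary form vanishing at `a ≠ 0` is divisible by the linear form `a₁ u - a₀ v`. -/
theorem linear_dvd_of_eval_eq_zero (a : Fin 2 → k) (ha : a ≠ 0) {F : MvPolynomial (Fin 2) k}
    {d : ℕ} (hF : F.IsHomogeneous d) (h0 : eval a F = 0) :
    (C (a 1) * X 0 - C (a 0) * X 1 : MvPolynomial (Fin 2) k) ∣ F := by
  set H : MvPolynomial (Fin 2) k := C (a 1) * X 0 - C (a 0) * X 1 with hH
  obtain ⟨j, hj⟩ : ∃ j, a j ≠ 0 := by
    by_contra hcon
    push Not at hcon
    exact ha (funext hcon)
  let y : Fin 2 → MvPolynomial (Fin 2) k := fun i => X j * C (a j)⁻¹ * C (a i)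
  have hy : ∀ i, (X i : MvPolynomial (Fin 2) k) - y i ∈ Ideal.span {H} := by
    intro i
    rw [Ideal.mem_span_singleton]
    have hCj : (C (a j) * C (a j)⁻¹ : MvPolynomial (Fin 2) k) = 1 := by
      rw [← C_mul, mul_inv_cancel₀ hj, C_1]
    have h2 : ∀ i : Fin 2, i = 0 ∨ i = 1 := by decide
    rcases h2 i with rfl | rfl <;> rcases h2 j with rfl | rfl
    · refine ⟨0, ?_⟩
      simp only [y, mul_zero]
      linear_combination (-(X 0 : MvPolynomial (Fin 2) k)) * hCj
    · refine ⟨C (a 1)⁻¹, ?_⟩
      simp only [y, hH]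
      linear_combination (-(X 0 : MvPolynomial (Fin 2) k)) * hCj
    · refine ⟨-C (a 0)⁻¹, ?_⟩
      simp only [y, hH]
      linear_combination (-(X 1 : MvPolynomial (Fin 2) k)) * hCj
    · refine ⟨0, ?_⟩
      simp only [y, mul_zero]
      linear_combination (-(X 1 : MvPolynomial (Fin 2) k)) * hCj
  have hmk : Ideal.Quotient.mkₐ k (Ideal.span {H}) F =
      Ideal.Quotient.mkₐ k (Ideal.span {H}) (aeval y F) := by
    conv_lhs => rw [← aeval_X_left_apply F]
    rw [comp_aeval_apply, comp_aeval_apply]
    have hfun : (fun i => Ideal.Quotient.mkₐ k (Ideal.span {H}) (X i)) =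
        fun i => Ideal.Quotient.mkₐ k (Ideal.span {H}) (y i) :=
      funext fun i => Ideal.Quotient.eq.mpr (hy i)
    rw [hfun]
  have hval : aeval y F = 0 := by
    have h1 : y = fun i => (X j * C (a j)⁻¹) * (fun i => (C (a i) : MvPolynomial (Fin 2) k)) i := rfl
    rw [h1, aeval_mul_of_isHomogeneous hF]
    have h2 : (fun i => (C (a i) : MvPolynomial (Fin 2) k)) =
        (algebraMap k (MvPolynomial (Fin 2) k)) ∘ a := rfl
    rw [h2, aeval_algebraMap_apply, aeval_eq_eval, h0, map_zero, mul_zero]
  rw [hval, map_zero] at hmk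
  exact Ideal.mem_span_singleton.mp (Ideal.Quotient.eq_zero_iff_mem.mp hmk)


theorem common_factor_iff_common_zero [IsAlgClosed k] {n : ℕ}
    (F : Fin n → MvPolynomial (Fin 2) k) (d : Fin n → ℕ) (hF : ∀ i, (F i).IsHomogeneous (d i)) :
    (∃ H : MvPolynomial (Fin 2) k, ¬ IsUnit H ∧ ∀ i, H ∣ F i) ↔
      ∃ a : Fin 2 → k, a ≠ 0 ∧ ∀ i, MvPolynomial.eval a (F i) = 0 := by
  constructor
  · rintro ⟨H, hH, hdvd⟩
    obtain ⟨a, ha, h0⟩ := exists_zero_of_not_isUnit H hH
    refine ⟨a, ha, fun i => ?_⟩
    obtain ⟨G, hG⟩ := hdvd i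
    rw [hG, map_mul, h0, zero_mul]
  · rintro ⟨a, ha, h0⟩
    refine ⟨C (a 1) * X 0 - C (a 0) * X 1, ?_,
      fun i => linear_dvd_of_eval_eq_zero a ha (hF i) (h0 i)⟩
    intro hu
    have h1 := hu.map (eval a)
    have h2 : eval a (C (a 1) * X 0 - C (a 0) * X 1 : MvPolynomial (Fin 2) k) = 0 := by
      simp only [map_sub, map_mul, eval_C, eval_X]
      ring
    rw [h2] at h1
    exact not_isUnit_zero h1


theorem homogeneousComponent_mul_of_isHomogeneous {σ : Type*} {F G : MvPolynomial σ k} {d m : ℕ}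
    (hF : F.IsHomogeneous d) (hdm : d ≤ m) :
    homogeneousComponent m (F * G) = F * homogeneousComponent (m - d) G := by
  conv_lhs => rw [← sum_homogeneousComponent G, Finset.mul_sum, map_sum]
  have hj : ∀ j, homogeneousComponent m (F * homogeneousComponent j G) =
      if m = d + j then F * homogeneousComponent j G else 0 :=
    fun j => homogeneousComponent_of_mem (hF.mul (homogeneousComponent_isHomogeneous j G))
  simp_rw [hj]
  by_cases h : m - d ∈ Finset.range (G.totalDegree + 1)
  · rw [Finset.sum_eq_single_of_mem (m - d) h]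
    · rw [if_pos (by omega)]
    · intro j _ hjne
      rw [if_neg (by omega)]
  · rw [Finset.sum_eq_zero, homogeneousComponent_eq_zero _ _ (by
      rw [Finset.mem_range] at h; omega), mul_zero]
    intro j hjmem
    rw [if_neg]
    intro hm
    apply h
    have : m - d = j := by omega
    rw [this]
    exact hjmem

theorem no_common_factor_iff [IsAlgClosed k] {n : ℕ}
    (F : Fin n → MvPolynomial (Fin 2) k) (d : ℕ) (hF : ∀ i, (F i).IsHomogeneous d) :
    (¬ ∃ H : MvPolynomial (Fin 2) k, ¬ IsUnit H ∧ ∀ i, H ∣ F i) ↔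
      ∃ m : ℕ, d ≤ m ∧ ∀ P : MvPolynomial (Fin 2) k, P.IsHomogeneous m →
        ∃ G : Fin n → MvPolynomial (Fin 2) k, (∀ i, (G i).IsHomogeneous (m - d)) ∧
          P = ∑ i, F i * G i := by
  rw [common_factor_iff_common_zero F (fun _ => d) hF]
  constructor
  · intro hno
    push Not at hno
    -- powers of the variables lie in the ideal
    have key : ∀ j : Fin 2, ∃ N, (X j : MvPolynomial (Fin 2) k) ^ N ∈ Ideal.span (Set.range F) := by
      intro j
      have hmem : (X j : MvPolynomial (Fin 2) k) ∈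
          vanishingIdeal k (zeroLocus k (Ideal.span (Set.range F))) := by
        intro x hx
        have hx0 : x = 0 := by
          by_contra hne
          obtain ⟨i, hi⟩ := hno x hne
          apply hi
          have := hx (F i) (Ideal.subset_span ⟨i, rfl⟩)
          simpa [aeval_eq_eval] using this
        simp [hx0]
      rw [vanishingIdeal_zeroLocus_eq_radical] at hmem
      exact hmem
    obtain ⟨N0, h0⟩ := key 0
    obtain ⟨N1, h1⟩ := key 1
    refine ⟨d + N0 + N1, by omega, fun P hP => ?_⟩
    have hPI : P ∈ Ideal.span (Set.range F) := by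
      rw [P.as_sum]
      refine Ideal.sum_mem _ (fun s hs => ?_)
      have hdeg : s 0 + s 1 = d + N0 + N1 := by
        have := hP.degree_eq_sum_deg_support hs
        rw [this]
        have h2 : ∑ i ∈ s.support, s i = ∑ i, s i :=
          Finset.sum_subset (Finset.subset_univ _) (fun i _ hi => by simpa using hi)
        rw [h2, Fin.sum_univ_two]
      have hmon : monomial s (coeff s P) = C (coeff s P) * (X 0 ^ s 0 * X 1 ^ s 1) := by
        rw [monomial_eq]
        congr 1
        rw [Finsupp.prod_fintype _ _ (fun i => pow_zero _), Fin.prod_univ_two]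
      rw [hmon]
      apply Ideal.mul_mem_left
      by_cases hs0 : N0 ≤ s 0
      · have : (X 0 : MvPolynomial (Fin 2) k) ^ s 0 = X 0 ^ (s 0 - N0) * X 0 ^ N0 := by
          rw [← pow_add]; congr 1; omega
        rw [this]
        exact Ideal.mul_mem_right _ _ (Ideal.mul_mem_left _ _ h0)
      · have hs1 : N1 ≤ s 1 := by omega
        have : (X 1 : MvPolynomial (Fin 2) k) ^ s 1 = X 1 ^ (s 1 - N1) * X 1 ^ N1 := by
          rw [← pow_add]; congr 1; omega
        rw [this]
        exact Ideal.mul_mem_left _ _ (Ideal.mul_mem_left _ _ h1)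
    obtain ⟨G', hG'⟩ := (Ideal.mem_span_range_iff_exists_fun).mp hPI
    refine ⟨fun i => homogeneousComponent (d + N0 + N1 - d) (G' i),
      fun i => homogeneousComponent_isHomogeneous _ _, ?_⟩
    conv_lhs => rw [← homogeneousComponent_eq_self hP, ← hG', map_sum]
    apply Finset.sum_congr rfl
    intro i _
    rw [mul_comm, homogeneousComponent_mul_of_isHomogeneous (hF i) (by omega)]
  · rintro ⟨m, hdm, hm⟩ ⟨a, ha, h0⟩
    obtain ⟨j, hj⟩ : ∃ j, a j ≠ 0 := by
      by_contra hcon
      push Not at hcon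
      exact ha (funext hcon)
    obtain ⟨G, -, hG⟩ := hm (X j ^ m) (isHomogeneous_X_pow j m)
    have h1 := congrArg (eval a) hG
    rw [map_sum] at h1
    simp only [map_mul, map_pow, eval_X, h0, zero_mul, Finset.sum_const_zero] at h1
    exact hj (pow_eq_zero_iff (n := m) (by
      intro hm0
      subst hm0
      simp at h1) |>.mp h1)

end Groth.Agent.H85.BinaryForms
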