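import Mathlib

set_option autoImplicit false
set_option linter.unusedSectionVars false

noncomputable section

namespace Groth.Agent.H85

open Matrix

variable {R : Type*} [CommRing R] {o : Type*} [Fintype o] [LinearOrder o]
  {m' : o → Type*} [∀ i, Fintype (m' i)] [∀ i, DecidableEq (m' i)]

/-- the fibre of `Sigma.fst` over `a` -/
def sigmaFiberEquiv (a : o) : {x : Σ i, m' i // x.1 = a} ≃ m' a where
  toFun x := x.2 ▸ x.1.2
  invFun y := ⟨⟨a, y⟩, rfl⟩
  left_inv := by
    rintro ⟨⟨i, y⟩, h⟩
    cases h
    rfl
  right_inv y := rfl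

theorem toSquareBlock_blockDiagonal' (d : ∀ i, Matrix (m' i) (m' i) R) (a : o) :
    (blockDiagonal' d).toSquareBlock Sigma.fst a =
      Matrix.reindex (sigmaFiberEquiv a).symm (sigmaFiberEquiv a).symm (d a) := by
  ext ⟨⟨i, x⟩, hi⟩ ⟨⟨j, y⟩, hj⟩
  cases hi
  cases hj
  simp [toSquareBlock_def, sigmaFiberEquiv, blockDiagonal'_apply]

theorem det_blockDiagonal' (d : ∀ i, Matrix (m' i) (m' i) R) :
    (blockDiagonal' d).det = ∏ i, (d i).det := by
  rw [(blockTriangular_blockDiagonal' d).det_fintype]
  apply Finset.prod_congr rfl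
  intro a _
  rw [toSquareBlock_blockDiagonal', Matrix.det_reindex_self]

theorem charpoly_blockDiagonal' (d : ∀ i, Matrix (m' i) (m' i) R) :
    (blockDiagonal' d).charpoly = ∏ i, (d i).charpoly := by
  rw [(blockTriangular_blockDiagonal' d).charpoly]
  have h1 : ∀ a : o, ((blockDiagonal' d).toSquareBlock Sigma.fst a).charpoly = (d a).charpoly := by
    intro a
    rw [toSquareBlock_blockDiagonal', Matrix.charpoly_reindex]
  rw [Finset.prod_congr rfl (fun a _ => h1 a)]
  apply Finset.prod_subset (Finset.subset_univ _)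
  intro a _ ha
  have : IsEmpty (m' a) := by
    constructor
    intro y
    apply ha
    exact Finset.mem_image.mpr ⟨⟨a, y⟩, Finset.mem_univ _, rfl⟩
  exact Matrix.charpoly_isEmpty


/-- version with an arbitrary decidability instance -/
theorem det_blockDiagonal'_of_decEq [inst : DecidableEq o] (d : ∀ i, Matrix (m' i) (m' i) R) :
    (@blockDiagonal' o m' m' R inst _ d).det = ∏ i, (d i).det := by
  have : inst = (fun a b => LinearOrder.toDecidableEq a b) := Subsingleton.elim _ _
  subst this
  exact det_blockDiagonal' d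

/-- version with an arbitrary decidability instance -/
theorem charpoly_blockDiagonal'_of_decEq [inst : DecidableEq o] (d : ∀ i, Matrix (m' i) (m' i) R) :
    (@blockDiagonal' o m' m' R inst _ d).charpoly = ∏ i, (d i).charpoly := by
  have : inst = (fun a b => LinearOrder.toDecidableEq a b) := Subsingleton.elim _ _
  subst this
  exact charpoly_blockDiagonal' d

end Groth.Agent.H85
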