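import Mathlib

/-!
# Point counts mod `p` via a coefficient of `f ^ (q - 1)` (helper for S13065)
-/

set_option autoImplicit false

open MvPolynomial Finset FiniteField

namespace Groth.Agent.H85.CWCoeff

variable {K : Type*} [Field K] [Fintype K]

local notation "q" => Fintype.card K

theorem sum_pow_eq (e : ℕ) :
    ∑ a : K, a ^ e = if e ≠ 0 ∧ (q - 1) ∣ e then -1 else 0 := by
  classical
  by_cases he : e = 0
  · simp [he]
  · have : ∑ x : K, x ^ e = ∑ x : Kˣ, (x : K) ^ e := by
      let φ : Kˣ ↪ K := ⟨fun x ↦ x, Units.val_injective⟩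
      have hφ : univ.map φ = univ \ {0} := by
        ext x
        simpa only [mem_map, mem_univ, Function.Embedding.coeFn_mk, true_and, mem_sdiff,
          mem_singleton, φ] using! isUnit_iff_ne_zero
      calc
        ∑ x : K, x ^ e = ∑ x ∈ univ \ {(0 : K)}, x ^ e := by
          rw [← sum_sdiff ({0} : Finset K).subset_univ, sum_singleton, zero_pow he, add_zero]
        _ = ∑ x : Kˣ, (x : K) ^ e := by simp [φ, ← hφ, univ.sum_map φ]
    rw [this, sum_pow_units K e]
    simp [he]

variable {σ : Type*} [Fintype σ] [DecidableEq σ]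

theorem sum_monomial_eval (d : σ →₀ ℕ) :
    ∑ x : σ → K, ∏ i, x i ^ d i = ∏ i, ∑ a : K, a ^ d i := by
  rw [Finset.prod_univ_sum, Fintype.piFinset_univ]

/-- The all-`(q-1)` exponent. -/
noncomputable def d0 : σ →₀ ℕ := Finsupp.equivFunOnFinite.symm fun _ => q - 1

omit [DecidableEq σ] [Field K] in
theorem d0_apply (i : σ) : (d0 (K := K) : σ →₀ ℕ) i = q - 1 := rfl

omit [DecidableEq σ] in
theorem prod_sum_pow_of_ne (d : σ →₀ ℕ)
    (hd : d.degree = Fintype.card σ * (q - 1)) (hne : d ≠ d0 (K := K)) :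
    ∏ i, ∑ a : K, a ^ d i = 0 := by
  by_contra hprod
  apply hne
  have hall : ∀ i, d i ≠ 0 ∧ (q - 1) ∣ d i := by
    intro i
    by_contra hi
    apply hprod
    apply Finset.prod_eq_zero (mem_univ i)
    rw [sum_pow_eq, if_neg hi]
  have hge : ∀ i, q - 1 ≤ d i := fun i =>
    Nat.le_of_dvd (Nat.pos_of_ne_zero (hall i).1) (hall i).2
  rw [Finsupp.degree_eq_sum] at hd
  have hsum : ∑ i : σ, (q - 1) = ∑ i, d i := by
    rw [hd, sum_const, card_univ, smul_eq_mul]
  have := (Finset.sum_eq_sum_iff_of_le (fun i _ => hge i)).mp hsum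
  ext i
  rw [d0_apply]
  exact (this i (mem_univ i)).symm

omit [DecidableEq σ] in
theorem prod_sum_pow_d0 (hq : 0 < q - 1) :
    ∏ i : σ, ∑ a : K, a ^ (d0 (K := K) : σ →₀ ℕ) i = (-1) ^ Fintype.card σ := by
  have : ∀ i : σ, ∑ a : K, a ^ (d0 (K := K) : σ →₀ ℕ) i = -1 := by
    intro i
    rw [sum_pow_eq, d0_apply, if_pos ⟨hq.ne', dvd_rfl⟩]
  rw [Finset.prod_congr rfl (fun i _ => this i), prod_const, card_univ]

theorem sum_eval_homogeneous (g : MvPolynomial σ K)
    (hg : g.IsHomogeneous (Fintype.card σ * (q - 1))) :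
    ∑ x, eval x g = coeff (d0 (K := K)) g * (-1) ^ Fintype.card σ := by
  classical
  have hq : 0 < q - 1 := by
    rw [← Fintype.card_units, Fintype.card_pos_iff]; exact ⟨1⟩
  calc
    ∑ x, eval x g = ∑ x : σ → K, ∑ d ∈ g.support, g.coeff d * ∏ i, x i ^ d i := by
      simp only [eval_eq']
    _ = ∑ d ∈ g.support, ∑ x : σ → K, g.coeff d * ∏ i, x i ^ d i := sum_comm
    _ = ∑ d ∈ g.support, g.coeff d * ∏ i, ∑ a : K, a ^ d i := by
      refine sum_congr rfl fun d _ => ?_
      rw [← mul_sum, sum_monomial_eval]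
    _ = coeff (d0 (K := K)) g * (-1) ^ Fintype.card σ := by
      by_cases h0 : d0 (K := K) ∈ g.support
      · rw [Finset.sum_eq_single_of_mem _ h0, prod_sum_pow_d0 hq]
        intro d hd hne
        rw [prod_sum_pow_of_ne d ?_ hne, mul_zero]
        rw [Finsupp.degree_eq_weight_one]
        exact hg (mem_support_iff.mp hd)
      · rw [notMem_support_iff.mp h0, zero_mul]
        apply Finset.sum_eq_zero
        intro d hd
        have hne : d ≠ d0 (K := K) := fun h => h0 (h ▸ hd)
        rw [prod_sum_pow_of_ne d ?_ hne, mul_zero]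
        rw [Finsupp.degree_eq_weight_one]
        exact hg (mem_support_iff.mp hd)

theorem card_zeros_cast (f : MvPolynomial σ K) (hf : f.IsHomogeneous (Fintype.card σ))
    [DecidableEq K] (hσ : Nonempty σ) :
    (Fintype.card {x : σ → K // eval x f = 0} : K) =
      - (coeff (d0 (K := K)) (f ^ (q - 1)) * (-1) ^ Fintype.card σ) := by
  have hq : 0 < q - 1 := by
    rw [← Fintype.card_units, Fintype.card_pos_iff]; exact ⟨1⟩
  have hg : (f ^ (q - 1)).IsHomogeneous (Fintype.card σ * (q - 1)) := hf.pow _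
  have key : ∀ x : σ → K, (if eval x f = 0 then (1 : K) else 0) = 1 - eval x (f ^ (q - 1)) := by
    intro x
    rw [map_pow]
    split_ifs with hx
    · rw [hx, zero_pow hq.ne', sub_zero]
    · rw [pow_card_sub_one_eq_one _ hx, sub_self]
  have hcard : (Fintype.card {x : σ → K // eval x f = 0} : K) =
      ∑ x : σ → K, if eval x f = 0 then (1 : K) else 0 := by
    rw [Fintype.card_subtype, Finset.card_eq_sum_ones, Nat.cast_sum, Finset.sum_filter]
    simp
  rw [hcard, Finset.sum_congr rfl (fun x _ => key x), Finset.sum_sub_distrib,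
    sum_eval_homogeneous _ hg]
  have : ∑ _x : σ → K, (1 : K) = 0 := by
    rw [sum_const, card_univ, Fintype.card_fun, nsmul_one, Nat.cast_pow, cast_card_eq_zero,
      zero_pow Fintype.card_ne_zero]
  rw [this, zero_sub]

end Groth.Agent.H85.CWCoeff
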