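import Mathlib

/-!
# The coefficient of `(x₀⋯xₙ)^(q-1)` in `f^(q-1)` vs. that of `(x₀⋯xₙ)^(p-1)` in `f^(p-1)`
(helper for S13066)
-/

set_option autoImplicit false

open MvPolynomial Finset

namespace Groth.Agent.H85.CWCoeff2

variable {K : Type*} [Field K] (p : ℕ) [hp : Fact p.Prime] [CharP K p]
variable {σ : Type*} [Fintype σ]

/-- The constant exponent vector. -/
noncomputable def dd (m : ℕ) : σ →₀ ℕ := Finsupp.equivFunOnFinite.symm fun _ => m

theorem dd_apply (m : ℕ) (i : σ) : (dd m : σ →₀ ℕ) i = m := rfl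

theorem dd_zero : (dd 0 : σ →₀ ℕ) = 0 := by
  ext i; rfl

theorem pow_succ_sub_one (r : ℕ) : p ^ (r + 1) - 1 = (p - 1) + p * (p ^ r - 1) := by
  have h1 : 1 ≤ p := hp.out.one_lt.le
  have h2 : 1 ≤ p ^ r := Nat.one_le_pow _ _ hp.out.pos
  have h3 : 1 ≤ p ^ (r + 1) := Nat.one_le_pow _ _ hp.out.pos
  zify [h1, h2, h3]
  ring

omit [Fintype σ] in
theorem coeff_pow_p (H : MvPolynomial σ K) (b : σ →₀ ℕ) :
    coeff (p • b) (H ^ p) = (coeff b H) ^ p := by
  rw [← map_frobenius_expand p, coeff_map, coeff_expand_smul _ hp.out.ne_zero, frobenius_def]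

omit [Fintype σ] in
theorem dvd_of_coeff_pow_p_ne_zero (H : MvPolynomial σ K) (b : σ →₀ ℕ)
    (hb : coeff b (H ^ p) ≠ 0) (i : σ) : p ∣ b i := by
  by_contra hi
  apply hb
  rw [← map_frobenius_expand p, coeff_map, coeff_expand_of_not_dvd _ hi, map_zero]

theorem key (g H : MvPolynomial σ K) (hg : g.IsHomogeneous (Fintype.card σ * (p - 1))) (r : ℕ) :
    coeff (dd (p ^ (r + 1) - 1)) (g * H ^ p) =
      coeff (dd (p - 1)) g * (coeff (dd (p ^ r - 1)) H) ^ p := by
  classical
  have hD : (dd (p ^ (r + 1) - 1) : σ →₀ ℕ) = dd (p - 1) + p • dd (p ^ r - 1) := by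
    ext i
    simp only [Finsupp.add_apply, Finsupp.smul_apply, dd_apply, smul_eq_mul]
    exact pow_succ_sub_one p r
  rw [coeff_mul, Finset.sum_eq_single (dd (p - 1), p • dd (p ^ r - 1))]
  · rw [coeff_pow_p]
  · rintro ⟨a, b⟩ hab hne
    rw [Finset.HasAntidiagonal.mem_antidiagonal] at hab
    by_contra hcon
    apply hne
    have ha : coeff a g ≠ 0 := left_ne_zero_of_mul hcon
    have hb : coeff b (H ^ p) ≠ 0 := right_ne_zero_of_mul hcon
    have hdvd := dvd_of_coeff_pow_p_ne_zero p H b hb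
    have hdeg : a.degree = Fintype.card σ * (p - 1) := by
      rw [Finsupp.degree_eq_weight_one]; exact hg ha
    have hge : ∀ i, p - 1 ≤ a i := by
      intro i
      obtain ⟨c, hc⟩ := hdvd i
      have hi : a i + b i = p ^ (r + 1) - 1 := by
        have := DFunLike.congr_fun hab i
        simpa only [Finsupp.add_apply, dd_apply] using this
      rw [pow_succ_sub_one, hc] at hi
      -- a i ≡ p - 1 mod p
      have hmod : a i % p = (p - 1) % p := by
        have h1 : (a i + p * c) % p = (p - 1 + p * (p ^ r - 1)) % p := by rw [hi]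
        rwa [Nat.add_mul_mod_self_left, Nat.add_mul_mod_self_left] at h1
      rw [Nat.mod_eq_of_lt (Nat.sub_lt hp.out.pos Nat.one_pos)] at hmod
      rw [← hmod]
      exact Nat.mod_le _ _
    rw [Finsupp.degree_eq_sum] at hdeg
    have hsum : ∑ i : σ, (p - 1) = ∑ i, a i := by
      rw [hdeg, sum_const, card_univ, smul_eq_mul]
    have heq := (Finset.sum_eq_sum_iff_of_le (fun i _ => hge i)).mp hsum
    have ha0 : a = dd (p - 1) := by
      ext i
      rw [dd_apply]
      exact (heq i (mem_univ i)).symm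
    have hb0 : b = p • dd (p ^ r - 1) := by
      rw [hD, ha0] at hab
      exact add_left_cancel hab
    rw [ha0, hb0]
  · intro h
    exfalso
    apply h
    rw [Finset.HasAntidiagonal.mem_antidiagonal, hD]

/-- The coefficient `c_r` of `(∏ x_i)^(p^r-1)` in `F^(p^r-1)`. -/
noncomputable def c (F : MvPolynomial σ K) (r : ℕ) : K :=
  coeff (dd (p ^ r - 1)) (F ^ (p ^ r - 1))

theorem c_succ (F : MvPolynomial σ K) (hF : F.IsHomogeneous (Fintype.card σ)) (r : ℕ) :
    c p F (r + 1) = coeff (dd (p - 1)) (F ^ (p - 1)) * (c p F r) ^ p := by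
  unfold c
  have : F ^ (p ^ (r + 1) - 1) = F ^ (p - 1) * (F ^ (p ^ r - 1)) ^ p := by
    rw [pow_succ_sub_one, pow_add, ← pow_mul, mul_comm p]
  rw [this]
  exact key p _ _ (hF.pow _) r

theorem c_ne_zero_iff (F : MvPolynomial σ K) (hF : F.IsHomogeneous (Fintype.card σ)) (r : ℕ)
    (hr : 1 ≤ r) :
    c p F r ≠ 0 ↔ coeff (dd (p - 1)) (F ^ (p - 1)) ≠ 0 := by
  induction r, hr using Nat.le_induction with
  | base =>
    have h0 : c p F 0 = 1 := by
      unfold c
      rw [pow_zero, Nat.sub_self, pow_zero, dd_zero, coeff_zero_one]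
    rw [c_succ p F hF 0, h0, one_pow, mul_one]
  | succ r hr ih =>
    rw [c_succ p F hF r, mul_ne_zero_iff, ne_eq (c p F r ^ p), pow_eq_zero_iff hp.out.ne_zero,
      ← ne_eq, ih, and_self]

end Groth.Agent.H85.CWCoeff2
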