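import Mathlib

/-!
# The trace `Ω_{R[x]/(x^p-a)/R} → Ω_R` is independent of the presentation (helper for S7340)
-/

set_option autoImplicit false
set_option linter.unusedSectionVars false
universe u

open Polynomial KaehlerDifferential

namespace Groth.Agent.H85.CartierTrace

section chain

variable {R S M : Type*} [CommRing R] [CommRing S] [Algebra R S] [AddCommGroup M] [Module S M]
  [Module R M] [IsScalarTower R S M]

/-- Chain rule for a derivation applied to a two-variable integer polynomial expression. -/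
theorem derivation_aeval₂ (D : Derivation R S M) (u : Fin 2 → S) (P : MvPolynomial (Fin 2) ℤ) :
    D (MvPolynomial.aeval u P) =
      ∑ i, MvPolynomial.aeval u (MvPolynomial.pderiv i P) • D (u i) := by
  induction P using MvPolynomial.induction_on with
  | C n =>
    have h1 : MvPolynomial.aeval u (MvPolynomial.C n : MvPolynomial (Fin 2) ℤ) =
        algebraMap R S (n : R) := by
      rw [MvPolynomial.aeval_C]; simp
    rw [h1, Derivation.map_algebraMap]
    simp
  | add P Q hP hQ =>
    simp only [map_add, hP, hQ, add_smul, Finset.sum_add_distrib]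
  | mul_X P j hP =>
    have hpd : ∀ i, MvPolynomial.aeval u (MvPolynomial.pderiv i (P * MvPolynomial.X j)) =
        (if i = j then MvPolynomial.aeval u P else 0) +
          u j * MvPolynomial.aeval u (MvPolynomial.pderiv i P) := by
      intro i
      rw [Derivation.leibniz, MvPolynomial.pderiv_X, smul_eq_mul, smul_eq_mul, map_add, map_mul,
        map_mul, MvPolynomial.aeval_X]
      by_cases hij : i = j
      · subst hij; simp
      · simp [Pi.single_apply, hij, Ne.symm hij]
    rw [map_mul, MvPolynomial.aeval_X, Derivation.leibniz, hP]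
    simp_rw [hpd, add_smul, Finset.sum_add_distrib, ite_smul, zero_smul, Finset.sum_ite_eq',
      Finset.mem_univ, if_true, Finset.smul_sum, smul_smul]

end chain

section universal

variable (p : ℕ) [hp : Fact p.Prime]

/-- The universal polynomial `((X+Y)^p - X^p - Y^p)/p` and its partial derivatives. -/
theorem exists_universal :
    ∃ P : MvPolynomial (Fin 2) ℤ,
      MvPolynomial.pderiv 0 P =
        (MvPolynomial.X 0 + MvPolynomial.X 1) ^ (p - 1) - MvPolynomial.X 0 ^ (p - 1) ∧
      MvPolynomial.pderiv 1 P =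
        (MvPolynomial.X 0 + MvPolynomial.X 1) ^ (p - 1) - MvPolynomial.X 1 ^ (p - 1) := by
  obtain ⟨r, hr⟩ := exists_add_pow_prime_eq hp.out
    (MvPolynomial.X 0 : MvPolynomial (Fin 2) ℤ) (MvPolynomial.X 1)
  refine ⟨MvPolynomial.X 0 * MvPolynomial.X 1 * r, ?_, ?_⟩
  · have h := congrArg (MvPolynomial.pderiv (0 : Fin 2)) hr
    have hp0 : ((p : ℕ) : MvPolynomial (Fin 2) ℤ) ≠ 0 := by
      exact_mod_cast hp.out.ne_zero
    simp only [map_add, Derivation.leibniz_pow, MvPolynomial.pderiv_X_self,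
      MvPolynomial.pderiv_X_of_ne (show (1 : Fin 2) ≠ 0 by decide), smul_zero, add_zero,
      nsmul_eq_mul, smul_eq_mul, mul_one, mul_zero] at h
    have h2 : MvPolynomial.pderiv (0 : Fin 2)
        ((p : MvPolynomial (Fin 2) ℤ) * MvPolynomial.X 0 * MvPolynomial.X 1 * r) =
        (p : MvPolynomial (Fin 2) ℤ) *
          MvPolynomial.pderiv (0 : Fin 2) (MvPolynomial.X 0 * MvPolynomial.X 1 * r) := by
      rw [mul_assoc, mul_assoc, Derivation.leibniz, Derivation.map_natCast, smul_zero, add_zero,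
        smul_eq_mul, ← mul_assoc]
    rw [h2, ← mul_add] at h
    have h3 := mul_left_cancel₀ hp0 h
    rw [h3]; ring
  · have h := congrArg (MvPolynomial.pderiv (1 : Fin 2)) hr
    have hp0 : ((p : ℕ) : MvPolynomial (Fin 2) ℤ) ≠ 0 := by
      exact_mod_cast hp.out.ne_zero
    simp only [map_add, Derivation.leibniz_pow, MvPolynomial.pderiv_X_self,
      MvPolynomial.pderiv_X_of_ne (show (0 : Fin 2) ≠ 1 by decide), smul_zero, zero_add,
      nsmul_eq_mul, smul_eq_mul, mul_one, mul_zero] at h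
    have h2 : MvPolynomial.pderiv (1 : Fin 2)
        ((p : MvPolynomial (Fin 2) ℤ) * MvPolynomial.X 0 * MvPolynomial.X 1 * r) =
        (p : MvPolynomial (Fin 2) ℤ) *
          MvPolynomial.pderiv (1 : Fin 2) (MvPolynomial.X 0 * MvPolynomial.X 1 * r) := by
      rw [mul_assoc, mul_assoc, Derivation.leibniz, Derivation.map_natCast, smul_zero, add_zero,
        smul_eq_mul, ← mul_assoc]
    rw [h2, ← mul_add] at h
    have h3 := mul_left_cancel₀ hp0 h
    rw [h3]; ring

end universal

section trace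

variable (p : ℕ) [hp : Fact p.Prime] (R : Type u) [CommRing R] [CharP R p] [Nontrivial R] (b : R)

/-- `R[y]/(y^p - b)`. -/
abbrev SS (p : ℕ) (R : Type u) [CommRing R] (b : R) : Type u := AdjoinRoot (X ^ p - C b : R[X])

/-- the root. -/
noncomputable abbrev yy (p : ℕ) (R : Type u) [CommRing R] (b : R) : SS p R b :=
  AdjoinRoot.root (X ^ p - C b : R[X])

/-- the universal derivation. -/
noncomputable abbrev DD (p : ℕ) (R : Type u) [CommRing R] (b : R) :
    Derivation R (SS p R b) (Ω[SS p R b⁄R]) :=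
  KaehlerDifferential.D R (SS p R b)

theorem monic_q : (X ^ p - C b : R[X]).Monic := monic_X_pow_sub_C b hp.out.ne_zero

theorem root_pow : (yy p R b) ^ p = algebraMap R (SS p R b) b := by
  have := AdjoinRoot.eval₂_root (X ^ p - C b : R[X])
  rw [eval₂_sub, eval₂_pow, eval₂_X, eval₂_C, sub_eq_zero] at this
  rw [this, AdjoinRoot.algebraMap_eq]

theorem exists_repr (g : (SS p R b)) : ∃ c : ℕ → R, g = ∑ i ∈ Finset.range p, c i • (yy p R b) ^ i := by
  obtain ⟨f, rfl⟩ := AdjoinRoot.mk_surjective g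
  set q : R[X] := X ^ p - C b with hq
  have hmon : q.Monic := monic_q p R b
  have hdeg : (f %ₘ q).natDegree < p := by
    have h1 := degree_modByMonic_lt f hmon
    have h2 : q.degree = p := by
      rw [hq, degree_X_pow_sub_C hp.out.pos]
    rw [h2] at h1
    by_cases h0 : f %ₘ q = 0
    · rw [h0, natDegree_zero]; exact hp.out.pos
    · exact (natDegree_lt_iff_degree_lt h0).mpr h1
  refine ⟨fun i => (f %ₘ q).coeff i, ?_⟩
  have h3 : AdjoinRoot.mk q f = AdjoinRoot.mk q (f %ₘ q) := by
    rw [AdjoinRoot.mk_eq_mk, modByMonic_eq_sub_mul_div f q, sub_sub_cancel]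
    exact dvd_mul_right _ _
  rw [h3]
  conv_lhs => rw [as_sum_range' (f %ₘ q) p hdeg]
  rw [map_sum]
  apply Finset.sum_congr rfl
  intro i _
  rw [← C_mul_X_pow_eq_monomial, map_mul, map_pow, AdjoinRoot.mk_C, AdjoinRoot.mk_X,
    Algebra.smul_def, AdjoinRoot.algebraMap_eq]

theorem algebraMap_injective : Function.Injective (algebraMap R (SS p R b)) := by
  rw [injective_iff_map_eq_zero]
  intro r hr
  rw [AdjoinRoot.algebraMap_eq, ← AdjoinRoot.mk_C, AdjoinRoot.mk_eq_zero] at hr
  by_contra h0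
  refine (monic_q p R b).not_dvd_of_degree_lt (by rwa [Ne, C_eq_zero]) ?_ hr
  rw [degree_X_pow_sub_C hp.out.pos, degree_C h0]
  exact_mod_cast hp.out.pos

instance charP_Sb : CharP (SS p R b) p :=
  charP_of_injective_algebraMap (algebraMap_injective p R b) p

variable (Ty : Ω[SS p R b⁄R] →ₗ[R] Ω[R⁄ℤ])
  (hTy : ∀ i : ℕ, i + 2 ≤ p → Ty ((yy p R b) ^ i • DD p R b (yy p R b)) = 0)
  (hTy' : Ty ((yy p R b) ^ (p - 1) • DD p R b (yy p R b)) = KaehlerDifferential.D ℤ R b)

theorem Ty_algebraMap_mul_smul (c : R) (z : (SS p R b)) (ω : Ω[SS p R b⁄R]) :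
    Ty ((algebraMap R (SS p R b) c * z) • ω) = c • Ty (z • ω) := by
  rw [mul_smul, algebraMap_smul, map_smul]

include hTy in
/-- `Ty` kills exact forms. -/
theorem Ty_D (h : (SS p R b)) : Ty (DD p R b h) = 0 := by
  obtain ⟨c, rfl⟩ := exists_repr p R b h
  rw [map_sum, map_sum]
  apply Finset.sum_eq_zero
  intro i hi
  rw [Finset.mem_range] at hi
  rw [Derivation.map_smul, map_smul, Derivation.leibniz_pow]
  rcases Nat.eq_zero_or_pos i with h0 | h0
  · rw [h0, zero_smul, map_zero, smul_zero]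
  · rw [← Nat.cast_smul_eq_nsmul R, map_smul, hTy (i - 1) (by omega), smul_zero, smul_zero]

/-- `ψ g = Ty (g^(p-1) dg)`. -/
noncomputable def ψ (g : (SS p R b)) : Ω[R⁄ℤ] := Ty (g ^ (p - 1) • DD p R b g)

include hTy in
theorem ψ_add (g h : (SS p R b)) : ψ p R b Ty (g + h) = ψ p R b Ty g + ψ p R b Ty h := by
  obtain ⟨P, hP0, hP1⟩ := exists_universal p
  have hch := derivation_aeval₂ (DD p R b) ![g, h] P
  rw [Fin.sum_univ_two, hP0, hP1] at hch
  simp only [map_sub, map_pow, map_add, MvPolynomial.aeval_X, Matrix.cons_val_zero,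
    Matrix.cons_val_one] at hch
  have key : (g + h) ^ (p - 1) • DD p R b (g + h) =
      g ^ (p - 1) • DD p R b g + h ^ (p - 1) • DD p R b h +
        (((g + h) ^ (p - 1) - g ^ (p - 1)) • DD p R b g +
          ((g + h) ^ (p - 1) - h ^ (p - 1)) • DD p R b h) := by
    rw [map_add, smul_add, sub_smul, sub_smul]
    abel
  unfold ψ
  rw [key, ← hch, map_add, map_add, Ty_D p R b Ty hTy, add_zero]

include hTy in
theorem ψ_sum {ι : Type*} (s : Finset ι) (f : ι → (SS p R b)) :
    ψ p R b Ty (∑ i ∈ s, f i) = ∑ i ∈ s, ψ p R b Ty (f i) := by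
  classical
  induction s using Finset.induction_on with
  | empty =>
    simp [ψ]
  | insert a s ha ih =>
    rw [Finset.sum_insert ha, Finset.sum_insert ha, ψ_add p R b Ty hTy, ih]

theorem natCast_p_smul (ω : Ω[R⁄ℤ]) : p • ω = 0 := by
  rw [← Nat.cast_smul_eq_nsmul R, CharP.cast_eq_zero, zero_smul]

include hTy' in
theorem ψ_monomial (r : R) (i : ℕ) :
    ψ p R b Ty (r • (yy p R b) ^ i) = KaehlerDifferential.D ℤ R (r ^ p * b ^ i) := by
  have hp1 : p - 1 + 1 = p := Nat.sub_add_cancel hp.out.pos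
  have hrhs : KaehlerDifferential.D ℤ R (r ^ p * b ^ i) =
      (r ^ p * (i * b ^ (i - 1))) • KaehlerDifferential.D ℤ R b := by
    rw [Derivation.leibniz, Derivation.leibniz_pow, Derivation.leibniz_pow, natCast_p_smul p R,
      smul_zero, add_zero, ← Nat.cast_smul_eq_nsmul R, smul_smul, smul_smul, mul_assoc]
  rw [hrhs]
  unfold ψ
  rw [Derivation.map_smul, Derivation.leibniz_pow]
  rcases Nat.eq_zero_or_pos i with h0 | h0
  · subst h0
    simp
  · have h1 : (r • (yy p R b) ^ i) ^ (p - 1) • r • i • (yy p R b) ^ (i - 1) • DD p R b (yy p R b) =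
        (algebraMap R (SS p R b) (r ^ p * (i * b ^ (i - 1))) * (yy p R b) ^ (p - 1)) • DD p R b (yy p R b) := by
      rw [← Nat.cast_smul_eq_nsmul R, ← algebraMap_smul (SS p R b) r (_ : Ω[SS p R b⁄R]),
        ← algebraMap_smul (SS p R b) (i : R) (_ : Ω[SS p R b⁄R]), smul_smul, smul_smul, smul_smul]
      congr 1
      rw [Algebra.smul_def, mul_pow, ← pow_mul, map_mul, map_mul, map_pow, map_pow, ← root_pow,
        map_natCast, ← pow_mul]
      have e1 : i * (p - 1) + (i - 1) = p * (i - 1) + (p - 1) := by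
        obtain ⟨j, rfl⟩ : ∃ j, i = j + 1 := ⟨i - 1, by omega⟩
        obtain ⟨q, hq⟩ : ∃ q, p - 1 = q := ⟨p - 1, rfl⟩
        have hpq : p = q + 1 := by omega
        rw [hq, hpq]
        simp only [Nat.add_sub_cancel]
        ring
      have hY : (yy p R b) ^ (i * (p - 1)) * (yy p R b) ^ (i - 1) =
          ((yy p R b) ^ p) ^ (i - 1) * (yy p R b) ^ (p - 1) := by
        rw [← pow_add, ← pow_mul, ← pow_add, e1]
      have hAp : algebraMap R (SS p R b) r ^ p =
          algebraMap R (SS p R b) r ^ (p - 1) * algebraMap R (SS p R b) r := by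
        rw [← pow_succ, hp1]
      calc _ = (algebraMap R (SS p R b) r ^ (p - 1) * algebraMap R (SS p R b) r) * (i : SS p R b) *
            ((yy p R b) ^ (i * (p - 1)) * (yy p R b) ^ (i - 1)) := by ring
        _ = _ := by rw [← hAp, hY]; ring
    rw [h1, Ty_algebraMap_mul_smul, hTy']

include hTy hTy' in
/-- The Cartier-type identity `Ty (g^(p-1) dg) = d (g^p)`. -/
theorem Ty_pow_pred (g : SS p R b) (n : R) (hg : g ^ p = algebraMap R (SS p R b) n) :
    Ty (g ^ (p - 1) • DD p R b g) = KaehlerDifferential.D ℤ R n := by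
  obtain ⟨c, rfl⟩ := exists_repr p R b g
  have h1 : (∑ i ∈ Finset.range p, c i • (yy p R b) ^ i) ^ p =
      algebraMap R (SS p R b) (∑ i ∈ Finset.range p, c i ^ p * b ^ i) := by
    rw [sum_pow_char, map_sum]
    apply Finset.sum_congr rfl
    intro i _
    rw [_root_.smul_pow, ← pow_mul, mul_comm i p, pow_mul, root_pow, Algebra.smul_def, map_mul, map_pow,
      map_pow]
  have h2 : n = ∑ i ∈ Finset.range p, c i ^ p * b ^ i :=
    algebraMap_injective p R b (hg.symm.trans h1)
  have h3 := ψ_sum p R b Ty hTy (Finset.range p) (fun i => c i • (yy p R b) ^ i)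
  unfold ψ at h3
  rw [h3, h2, map_sum]
  apply Finset.sum_congr rfl
  intro i _
  exact ψ_monomial p R b Ty hTy' (c i) i

include hTy hTy' in
theorem Ty_pow (g : SS p R b) (n : R) (hg : g ^ p = algebraMap R (SS p R b) n) (m : ℕ) :
    Ty (g ^ m • DD p R b g) =
      n ^ (m / p) • (if m % p = p - 1 then KaehlerDifferential.D ℤ R n else 0) := by
  have hm : g ^ m = algebraMap R (SS p R b) (n ^ (m / p)) * g ^ (m % p) := by
    conv_lhs => rw [← Nat.div_add_mod m p]
    rw [pow_add, pow_mul, hg, map_pow]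
  rw [hm, Ty_algebraMap_mul_smul]
  congr 1
  have hl : m % p < p := Nat.mod_lt _ hp.out.pos
  split_ifs with h
  · rw [h]
    exact Ty_pow_pred p R b Ty hTy hTy' g n hg
  · set l := m % p with hl'
    have hcop : Nat.Coprime (l + 1) p := by
      rw [Nat.coprime_comm, Nat.Prime.coprime_iff_not_dvd hp.out]
      intro hdvd
      have := Nat.le_of_dvd (Nat.succ_pos l) hdvd
      omega
    obtain ⟨c', -, hc'⟩ := Nat.exists_mul_mod_eq_one_of_coprime hcop hp.out.one_lt
    have hcast : (((l + 1) * c' : ℕ) : R) = 1 := by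
      rw [CharP.cast_eq_mod R p, hc', Nat.cast_one]
    have h5 : g ^ l • DD p R b g = (c' : R) • DD p R b (g ^ (l + 1)) := by
      rw [Derivation.leibniz_pow, Nat.add_sub_cancel, ← Nat.cast_smul_eq_nsmul R, smul_smul,
        mul_comm, ← Nat.cast_mul, hcast, one_smul]
    rw [h5, map_smul, Ty_D p R b Ty hTy, smul_zero]

end trace

section main

variable (p : ℕ) [hp : Fact p.Prime] (R : Type u) [CommRing R] [CharP R p] [Nontrivial R] (a b : R)
  (φ : SS p R a →ₐ[R] SS p R b)
  (Tx : Ω[SS p R a⁄R] →ₗ[R] Ω[R⁄ℤ]) (Ty : Ω[SS p R b⁄R] →ₗ[R] Ω[R⁄ℤ])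
  (hTx : ∀ i : ℕ, i + 2 ≤ p → Tx ((yy p R a) ^ i • DD p R a (yy p R a)) = 0)
  (hTx' : Tx ((yy p R a) ^ (p - 1) • DD p R a (yy p R a)) = KaehlerDifferential.D ℤ R a)
  (hTy : ∀ i : ℕ, i + 2 ≤ p → Ty ((yy p R b) ^ i • DD p R b (yy p R b)) = 0)
  (hTy' : Ty ((yy p R b) ^ (p - 1) • DD p R b (yy p R b)) = KaehlerDifferential.D ℤ R b)

include hTx hTx' hTy hTy' in
theorem main_pow (m : ℕ) :
    Tx ((yy p R a) ^ m • DD p R a (yy p R a)) =
      Ty ((φ (yy p R a)) ^ m • DD p R b (φ (yy p R a))) := by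
  have hg : (φ (yy p R a)) ^ p = algebraMap R (SS p R b) a := by
    rw [← map_pow, root_pow, AlgHom.commutes]
  rw [Ty_pow p R a Tx hTx hTx' (yy p R a) a (root_pow p R a) m,
    Ty_pow p R b Ty hTy hTy' (φ (yy p R a)) a hg m]

include hTx hTx' hTy hTy' in
theorem main_pow_pow (i j : ℕ) :
    Tx ((yy p R a) ^ i • DD p R a ((yy p R a) ^ j)) =
      Ty ((φ (yy p R a)) ^ i • DD p R b ((φ (yy p R a)) ^ j)) := by
  rw [Derivation.leibniz_pow, Derivation.leibniz_pow, smul_comm, smul_comm _ j, smul_smul, smul_smul,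
    ← pow_add, ← pow_add, map_nsmul, map_nsmul, main_pow p R a b φ Tx Ty hTx hTx' hTy hTy']

include hTx hTx' hTy hTy' in
theorem main_pow_D (i : ℕ) (t : SS p R a) :
    Tx ((yy p R a) ^ i • DD p R a t) = Ty ((φ (yy p R a)) ^ i • DD p R b (φ t)) := by
  obtain ⟨e, rfl⟩ := exists_repr p R a t
  have hφ : φ (∑ j ∈ Finset.range p, e j • (yy p R a) ^ j) =
      ∑ j ∈ Finset.range p, e j • (φ (yy p R a)) ^ j := by
    rw [map_sum]
    apply Finset.sum_congr rfl
    intro j _
    rw [map_smul, map_pow]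
  rw [hφ, map_sum, map_sum, Finset.smul_sum, Finset.smul_sum, map_sum, map_sum]
  apply Finset.sum_congr rfl
  intro j _
  rw [Derivation.map_smul, Derivation.map_smul, smul_comm, smul_comm _ (e j),
    LinearMap.map_smul Tx (e j), LinearMap.map_smul Ty (e j),
    main_pow_pow p R a b φ Tx Ty hTx hTx' hTy hTy']

include hTx hTx' hTy hTy' in
theorem main (s t : SS p R a) :
    Tx (s • DD p R a t) = Ty (φ s • DD p R b (φ t)) := by
  obtain ⟨c, rfl⟩ := exists_repr p R a s
  have hφ : φ (∑ i ∈ Finset.range p, c i • (yy p R a) ^ i) =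
      ∑ i ∈ Finset.range p, c i • (φ (yy p R a)) ^ i := by
    rw [map_sum]
    apply Finset.sum_congr rfl
    intro i _
    rw [map_smul, map_pow]
  rw [hφ, Finset.sum_smul, Finset.sum_smul, map_sum, map_sum]
  apply Finset.sum_congr rfl
  intro i _
  rw [smul_assoc, smul_assoc, LinearMap.map_smul Tx (c i), LinearMap.map_smul Ty (c i),
    main_pow_D p R a b φ Tx Ty hTx hTx' hTy hTy']

end main

end Groth.Agent.H85.CartierTrace
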