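import Mathlib

/-!
# Alternating subset sums (`deviations`) of a function on an abelian group

`Tg s φ x = ∑_{I ⊆ s} (-1)^{|I|} φ (∑_{i ∈ I} x i)` and the version `T n` for `Fin n`,
with the recursion obtained by splitting off the last and the zeroth variable.
-/

set_option autoImplicit false
set_option linter.unusedSectionVars false

namespace Groth.Agent.H85.Deviation

open Finset

section general

variable {ι κ : Type*} [DecidableEq ι] [DecidableEq κ] {G : Type*} [AddCommMonoid G]
  {R : Type*} [CommRing R]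

/-- alternating sum over the subsets of `s` -/
def Tg (s : Finset ι) (φ : G → R) (x : ι → G) : R :=
  ∑ I ∈ s.powerset, (-1) ^ I.card * φ (∑ i ∈ I, x i)

theorem Tg_insert {s : Finset ι} {a : ι} (ha : a ∉ s) (φ : G → R) (x : ι → G) :
    Tg (insert a s) φ x = Tg s φ x - Tg s (fun g => φ (g + x a)) x := by
  unfold Tg
  rw [Finset.sum_powerset_insert ha, sub_eq_add_neg, ← Finset.sum_neg_distrib]
  congr 1
  refine Finset.sum_congr rfl (fun t ht => ?_)
  have hat : a ∉ t := fun h => ha (Finset.mem_powerset.mp ht h)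
  rw [Finset.card_insert_of_notMem hat, Finset.sum_insert hat, pow_succ, add_comm (x a)]
  ring

theorem Tg_congr {s : Finset ι} (φ : G → R) {x x' : ι → G} (h : ∀ i ∈ s, x i = x' i) :
    Tg s φ x = Tg s φ x' := by
  unfold Tg
  refine Finset.sum_congr rfl (fun t ht => ?_)
  rw [Finset.sum_congr rfl (fun i hi => h i (Finset.mem_powerset.mp ht hi))]

theorem Tg_map (e : ι ↪ κ) (s : Finset ι) (φ : G → R) (x : κ → G) :
    Tg (s.map e) φ x = Tg s φ (x ∘ e) := by
  unfold Tg
  symm
  refine Finset.sum_bij (fun J _ => J.map e) ?_ ?_ ?_ ?_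
  · intro J hJ
    exact Finset.mem_powerset.mpr (Finset.map_subset_map.mpr (Finset.mem_powerset.mp hJ))
  · intro J _ J' _ h
    exact Finset.map_injective e h
  · intro I hI
    obtain ⟨J, hJ, rfl⟩ := Finset.subset_map_iff.mp (Finset.mem_powerset.mp hI)
    exact ⟨J, Finset.mem_powerset.mpr hJ, rfl⟩
  · intro J _
    rw [Finset.card_map, Finset.sum_map]
    rfl

theorem Tg_sub (s : Finset ι) (φ φ' : G → R) (x : ι → G) :
    Tg s (fun g => φ g - φ' g) x = Tg s φ x - Tg s φ' x := by
  unfold Tg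
  rw [← Finset.sum_sub_distrib]
  exact Finset.sum_congr rfl (fun _ _ => by ring)

theorem Tg_const_mul (s : Finset ι) (c : R) (φ : G → R) (x : ι → G) :
    Tg s (fun g => c * φ g) x = c * Tg s φ x := by
  unfold Tg
  rw [Finset.mul_sum]
  exact Finset.sum_congr rfl (fun _ _ => by ring)

end general

section fin

variable {G : Type*} [AddCommMonoid G] {R : Type*} [CommRing R]

/-- alternating sum over all subsets of `Fin n` -/
def T (n : ℕ) (φ : G → R) (x : Fin n → G) : R := Tg Finset.univ φ x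

theorem T_def (n : ℕ) (φ : G → R) (x : Fin n → G) :
    T n φ x = ∑ I ∈ (Finset.univ : Finset (Fin n)).powerset, (-1) ^ I.card * φ (∑ i ∈ I, x i) :=
  rfl

theorem T_zero (φ : G → R) (x : Fin 0 → G) : T 0 φ x = φ 0 := by
  rw [T_def]
  simp

theorem T_snoc (n : ℕ) (φ : G → R) (y : Fin n → G) (b : G) :
    T (n + 1) φ (Fin.snoc y b) = T n φ y - T n (fun g => φ (g + b)) y := by
  unfold T
  rw [Fin.univ_castSuccEmb, Finset.cons_eq_insert, Tg_insert (by simp), Tg_map, Tg_map]
  have h1 : (Fin.snoc y b : Fin (n + 1) → G) ∘ (Fin.castSuccEmb : Fin n ↪ Fin (n + 1)) = y := by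
    funext i
    simp
  rw [h1, Fin.snoc_last]

theorem T_succ_zero (n : ℕ) (φ : G → R) (y : Fin (n + 1) → G) :
    T (n + 1) φ y = Tg (Finset.univ.map ⟨Fin.succ, Fin.succ_injective n⟩) φ y -
      Tg (Finset.univ.map ⟨Fin.succ, Fin.succ_injective n⟩) (fun g => φ (g + y 0)) y := by
  unfold T
  rw [Fin.univ_succ, Finset.cons_eq_insert, Tg_insert (by simp [Fin.succ_ne_zero])]

theorem T_rec (n : ℕ) (φ : G → R) (y : Fin (n + 1) → G) (b : G) :
    T (n + 2) φ (Fin.snoc y b) =
      T (n + 1) φ y + T (n + 1) φ (Function.update y 0 b) -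
        T (n + 1) φ (Function.update y 0 (y 0 + b)) := by
  have hc : ∀ (χ : G → R) (v : G),
      Tg (Finset.univ.map ⟨Fin.succ, Fin.succ_injective n⟩) χ (Function.update y 0 v) =
        Tg (Finset.univ.map ⟨Fin.succ, Fin.succ_injective n⟩) χ y := by
    intro χ v
    refine Tg_congr χ (fun i hi => ?_)
    have : i ≠ 0 := by
      rintro rfl
      simp [Fin.succ_ne_zero] at hi
    rw [Function.update_of_ne this]
  rw [T_snoc, T_succ_zero n φ y, T_succ_zero n (fun g => φ (g + b)) y,
    T_succ_zero n φ (Function.update y 0 b), T_succ_zero n φ (Function.update y 0 (y 0 + b))]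
  simp only [Function.update_self, hc]
  have : (fun g => φ (g + y 0 + b)) = (fun g => φ (g + (y 0 + b))) := by
    funext g
    rw [add_assoc]
  rw [this]
  ring

/-- the `n`-th deviation of `φ` -/
def dev (n : ℕ) (φ : G → R) (x : Fin n → G) : R :=
  ∑ I ∈ (Finset.univ : Finset (Fin n)).powerset.erase ∅,
    (-1) ^ (n + I.card) * φ (∑ i ∈ I, x i)

theorem dev_eq (n : ℕ) (φ : G → R) (x : Fin n → G) :
    dev n φ x = (-1) ^ n * (T n φ x - φ 0) := by
  unfold dev
  rw [Finset.sum_erase_eq_sub (Finset.empty_mem_powerset _), T_def, mul_sub, Finset.mul_sum]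
  simp [pow_add, mul_assoc]

theorem T_const_mul (n : ℕ) (c : R) (φ : G → R) (x : Fin n → G) :
    T n (fun g => c * φ g) x = c * T n φ x := Tg_const_mul _ c φ x

theorem T_sub (n : ℕ) (φ φ' : G → R) (x : Fin n → G) :
    T n (fun g => φ g - φ' g) x = T n φ x - T n φ' x := Tg_sub _ φ φ' x

theorem T_one (φ : G → R) (x : Fin 1 → G) : T 1 φ x = φ 0 - φ (0 + x 0) := by
  obtain ⟨b, rfl⟩ : ∃ b, x = Fin.snoc (Fin.elim0 : Fin 0 → G) b := by
    refine ⟨x 0, ?_⟩
    funext i
    have : i = Fin.last 0 := Subsingleton.elim _ _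
    rw [this, Fin.snoc_last]
    rfl
  have h0 : (Fin.snoc (Fin.elim0 : Fin 0 → G) b : Fin 1 → G) 0 = b := by
    change (Fin.snoc (Fin.elim0 : Fin 0 → G) b : Fin 1 → G) (Fin.last 0) = b
    rw [Fin.snoc_last]
  rw [T_snoc, T_zero, T_zero, h0]

end fin

end Groth.Agent.H85.Deviation
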