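import Mathlib

/-!
# Continuous functions on a product of compact Hausdorff Borel spaces

* they are measurable for the *product* σ-algebra (Stone–Weierstrass), even without second
  countability;
* integrals over a compact space of a jointly continuous function depend continuously on the
  parameter.
-/

set_option autoImplicit false
set_option linter.unusedSectionVars false

namespace Groth.Agent.H85.PiMeasurable

open MeasureTheory Filter Topology

section meas

variable {ι : Type*} {G : Type*} [TopologicalSpace G] [CompactSpace G] [T2Space G]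
  [MeasurableSpace G] [BorelSpace G]

/-- the continuous functions on `ι → G` measurable for the product σ-algebra -/
def measSubalg (ι G : Type*) [TopologicalSpace G] [MeasurableSpace G] :
    Subalgebra ℝ C(ι → G, ℝ) where
  carrier := {f | Measurable f}
  mul_mem' := by
    intro f g hf hg
    change Measurable (f * g : C(ι → G, ℝ))
    rw [ContinuousMap.coe_mul]
    exact Measurable.mul hf hg
  add_mem' := by
    intro f g hf hg
    change Measurable (f + g : C(ι → G, ℝ))
    rw [ContinuousMap.coe_add]
    exact Measurable.add hf hg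
  algebraMap_mem' := by
    intro r
    change Measurable (algebraMap ℝ C(ι → G, ℝ) r)
    exact measurable_const

theorem measSubalg_separatesPoints : (measSubalg ι G).SeparatesPoints := by
  intro x y hxy
  obtain ⟨i, hi⟩ : ∃ i, x i ≠ y i := by
    by_contra hcon
    push Not at hcon
    exact hxy (funext hcon)
  obtain ⟨h, h0, h1, -⟩ := exists_continuous_zero_one_of_isClosed
    (isClosed_singleton (x := x i)) (isClosed_singleton (x := y i))
    (Set.disjoint_singleton.mpr hi)
  let f : C(ι → G, ℝ) := h.comp ⟨fun u => u i, continuous_apply i⟩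
  refine ⟨f, ⟨f, ?_, rfl⟩, ?_⟩
  · change Measurable (fun u : ι → G => h (u i))
    exact h.continuous.measurable.comp (measurable_pi_apply i)
  · change h (x i) ≠ h (y i)
    rw [h0 (Set.mem_singleton _), h1 (Set.mem_singleton _)]
    simp

/-- A continuous real function on a product of compact Hausdorff Borel spaces is measurable for
the product σ-algebra. -/
theorem measurable_of_continuous (f : (ι → G) → ℝ) (hf : Continuous f) : Measurable f := by
  have key : ∀ k : ℕ, ∃ g : measSubalg ι G, ∀ x, ‖(g : (ι → G) → ℝ) x - f x‖ < 1 / ((k : ℝ) + 1) :=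
    fun k => ContinuousMap.exists_mem_subalgebra_near_continuous_of_separatesPoints _
      measSubalg_separatesPoints f hf _ (by positivity)
  choose g hg using key
  refine measurable_of_tendsto_metrizable (f := fun k => ((g k : C(ι → G, ℝ)) : (ι → G) → ℝ))
    (fun k => (g k).2) ?_
  rw [tendsto_pi_nhds]
  intro x
  rw [Metric.tendsto_atTop]
  intro ε hε
  obtain ⟨N, hN⟩ := exists_nat_one_div_lt hε
  refine ⟨N, fun k hk => ?_⟩
  rw [Real.dist_eq]
  have h1 := hg k x
  rw [Real.norm_eq_abs] at h1
  refine lt_trans h1 (lt_of_le_of_lt ?_ hN)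
  apply one_div_le_one_div_of_le (by positivity)
  have : (N : ℝ) ≤ k := by exact_mod_cast hk
  linarith

theorem aestronglyMeasurable_of_continuous (ν : Measure (ι → G)) (f : (ι → G) → ℝ)
    (hf : Continuous f) : AEStronglyMeasurable f ν :=
  (measurable_of_continuous f hf).stronglyMeasurable.aestronglyMeasurable

end meas

section bound

variable {K : Type*} [TopologicalSpace K] [CompactSpace K] [MeasurableSpace K]

theorem integrable_of_continuous (ν : Measure K) [IsFiniteMeasure ν] (f : K → ℝ)
    (hf : Continuous f) (hm : AEStronglyMeasurable f ν) : Integrable f ν := by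
  refine Integrable.of_bound hm ‖(⟨f, hf⟩ : C(K, ℝ))‖ (ae_of_all _ (fun x => ?_))
  exact ContinuousMap.norm_coe_le_norm (⟨f, hf⟩ : C(K, ℝ)) x

/-- Continuity of an integral over a compact space depending on a parameter. -/
theorem continuous_integral_param {X : Type*} [TopologicalSpace X] (ν : Measure K)
    [IsFiniteMeasure ν] (F : X → K → ℝ) (hF : Continuous (Function.uncurry F))
    (hm : ∀ x, AEStronglyMeasurable (F x) ν) : Continuous (fun x => ∫ k, F x k ∂ν) := by
  let Fc : C(X, C(K, ℝ)) := ContinuousMap.curry ⟨Function.uncurry F, hF⟩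
  have hFc : ∀ x k, Fc x k = F x k := fun x k => rfl
  have hint : ∀ x, Integrable (F x) ν := fun x =>
    integrable_of_continuous ν (F x) (Fc x).continuous (hm x)
  rw [continuous_iff_continuousAt]
  intro x₀
  rw [ContinuousAt, Metric.tendsto_nhds]
  intro ε hε
  set M : ℝ := ν.real Set.univ with hM
  have hM0 : 0 ≤ M := measureReal_nonneg
  have hδ : 0 < ε / (M + 1) := by positivity
  have hev : ∀ᶠ x in 𝓝 x₀, dist (Fc x) (Fc x₀) < ε / (M + 1) :=
    Metric.tendsto_nhds.mp (Fc.continuous.tendsto x₀) _ hδ
  filter_upwards [hev] with x hx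
  rw [dist_eq_norm, ← integral_sub (hint x) (hint x₀)]
  have hb : ∀ᵐ k ∂ν, ‖F x k - F x₀ k‖ ≤ dist (Fc x) (Fc x₀) := by
    refine ae_of_all _ (fun k => ?_)
    rw [← dist_eq_norm, ← hFc, ← hFc]
    exact ContinuousMap.dist_apply_le_dist k
  refine lt_of_le_of_lt (norm_integral_le_of_norm_le_const hb) ?_
  rw [← hM]
  calc dist (Fc x) (Fc x₀) * M ≤ ε / (M + 1) * M :=
        mul_le_mul_of_nonneg_right hx.le hM0
    _ < ε / (M + 1) * (M + 1) := by
        apply mul_lt_mul_of_pos_left _ hδ
        linarith
    _ = ε := by field_simp

end bound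

end Groth.Agent.H85.PiMeasurable
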