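import Mathlib
import Groth.Agent.H85.Deviation
import Groth.Agent.H85.PiMeasurable

/-!
# Multi-cocycles on a compact abelian group are deviations of their Haar average
-/

set_option autoImplicit false
set_option linter.unusedSectionVars false

namespace Groth.Agent.H85.CocycleHaar

open MeasureTheory Groth.Agent.H85.Deviation Groth.Agent.H85.PiMeasurable

variable {G : Type*} [AddCommGroup G] [TopologicalSpace G] [IsTopologicalAddGroup G]
  [CompactSpace G] [T2Space G] [MeasurableSpace G] [BorelSpace G]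
  (μ : Measure G) [μ.IsAddHaarMeasure] [IsProbabilityMeasure μ]

/-- the 2-cocycle condition in every pair of variables -/
def IsCocycle {n : ℕ} (ψ : (Fin n → G) → ℝ) : Prop :=
  ∀ (i j : Fin n), i ≠ j → ∀ (x : Fin n → G) (a b c : G),
    ψ (Function.update (Function.update x i (a + b)) j c) +
        ψ (Function.update (Function.update x i a) j b) =
      ψ (Function.update (Function.update x i a) j (b + c)) +
        ψ (Function.update (Function.update x i b) j c)

/-- integrate out the last variable -/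
noncomputable def intLast {n : ℕ} (ψ : (Fin (n + 1) → G) → ℝ) (y : Fin n → G) : ℝ :=
  ∫ c, ψ (Fin.snoc y c) ∂μ

/-- average over all variables but the first -/
noncomputable def avg {n : ℕ} (ψ : (Fin (n + 1) → G) → ℝ) (g : G) : ℝ :=
  ∫ u, ψ (Fin.cons g u) ∂(Measure.pi (fun _ : Fin n => μ))

section basic

variable {n : ℕ} (ψ : (Fin (n + 1) → G) → ℝ) (hψ : Continuous ψ)

include hψ

theorem continuous_snoc_right (y : Fin n → G) : Continuous (fun c : G => ψ (Fin.snoc y c)) :=
  hψ.comp (Continuous.finSnoc (A := fun _ => G) continuous_const continuous_id)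

theorem continuous_snoc_uncurry :
    Continuous (Function.uncurry (fun (y : Fin n → G) (c : G) => ψ (Fin.snoc y c))) :=
  hψ.comp (Continuous.finSnoc (A := fun _ => G) continuous_fst continuous_snd)

theorem integrable_snoc (y : Fin n → G) : Integrable (fun c : G => ψ (Fin.snoc y c)) μ :=
  integrable_of_continuous μ _ (continuous_snoc_right ψ hψ y)
    (continuous_snoc_right ψ hψ y).aestronglyMeasurable

theorem continuous_intLast : Continuous (intLast μ ψ) :=
  continuous_integral_param μ (fun (y : Fin n → G) (c : G) => ψ (Fin.snoc y c))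
    (continuous_snoc_uncurry ψ hψ) (fun y => (continuous_snoc_right ψ hψ y).aestronglyMeasurable)

theorem continuous_cons_right (g : G) : Continuous (fun u : Fin n → G => ψ (Fin.cons g u)) :=
  hψ.comp (Continuous.finCons (A := fun _ => G) continuous_const continuous_id)

theorem continuous_avg : Continuous (avg μ ψ) :=
  continuous_integral_param (Measure.pi (fun _ : Fin n => μ))
    (fun (g : G) (u : Fin n → G) => ψ (Fin.cons g u))
    (hψ.comp (Continuous.finCons (A := fun _ => G) continuous_fst continuous_snd))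
    (fun g => aestronglyMeasurable_of_continuous _ _ (continuous_cons_right ψ hψ g))

theorem isCocycle_intLast (hc : IsCocycle ψ) : IsCocycle (intLast μ ψ) := by
  intro i j hij x a b c
  unfold intLast
  rw [← integral_add (integrable_snoc μ ψ hψ _) (integrable_snoc μ ψ hψ _),
    ← integral_add (integrable_snoc μ ψ hψ _) (integrable_snoc μ ψ hψ _)]
  refine integral_congr_ae (ae_of_all _ (fun c₀ => ?_))
  have hij' : i.castSucc ≠ j.castSucc := fun h => hij (Fin.castSucc_injective _ h)
  have := hc i.castSucc j.castSucc hij' (Fin.snoc x c₀) a b c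
  simp only [← Fin.snoc_update] at this
  exact this

end basic

section fubini

theorem integral_pi_succ_snoc {n : ℕ} (f : (Fin (n + 1) → G) → ℝ) (hf : Continuous f) :
    ∫ w, f w ∂(Measure.pi fun _ : Fin (n + 1) => μ) =
      ∫ u, ∫ c, f (Fin.snoc u c) ∂μ ∂(Measure.pi fun _ : Fin n => μ) := by
  have mp := (measurePreserving_piFinSuccAbove (fun _ : Fin (n + 1) => μ) (Fin.last n)).symm
  have hint : Integrable f (Measure.pi fun _ : Fin (n + 1) => μ) :=
    integrable_of_continuous _ f hf (aestronglyMeasurable_of_continuous _ f hf)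
  rw [← mp.integral_comp' f]
  have hint' : Integrable (fun x : G × (Fin n → G) =>
      f ((MeasurableEquiv.piFinSuccAbove (fun _ => G) (Fin.last n)).symm x))
      (μ.prod (Measure.pi fun _ : Fin n => μ)) :=
    (mp.integrable_comp_emb (MeasurableEquiv.measurableEmbedding _)).mpr hint
  rw [integral_prod_symm _ hint']
  refine integral_congr_ae (ae_of_all _ fun u => integral_congr_ae (ae_of_all _ fun c => ?_))
  simp [MeasurableEquiv.piFinSuccAbove_symm_apply, Fin.insertNthEquiv, Fin.insertNth_last']

theorem avg_intLast {n : ℕ} (ψ : (Fin (n + 2) → G) → ℝ) (hψ : Continuous ψ) (g : G) :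
    avg μ (intLast μ ψ) g = avg μ ψ g := by
  unfold avg
  rw [integral_pi_succ_snoc μ (fun w => ψ (Fin.cons g w)) (continuous_cons_right ψ hψ g)]
  refine integral_congr_ae (ae_of_all _ fun u => ?_)
  unfold intLast
  refine integral_congr_ae (ae_of_all _ fun c => ?_)
  simp only [Fin.cons_snoc_eq_snoc_cons]

end fubini

section key

variable {n : ℕ} (ψ : (Fin (n + 2) → G) → ℝ) (hψ : Continuous ψ) (hc : IsCocycle ψ)

include hψ hc

theorem eq_intLast_comb (y : Fin (n + 1) → G) (b : G) :
    ψ (Fin.snoc y b) = intLast μ ψ y + intLast μ ψ (Function.update y 0 b) -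
      intLast μ ψ (Function.update y 0 (y 0 + b)) := by
  have h : ∀ c : G, ψ (Fin.snoc (Function.update y 0 (y 0 + b)) c) + ψ (Fin.snoc y b) =
      ψ (Fin.snoc y (b + c)) + ψ (Fin.snoc (Function.update y 0 b) c) := by
    intro c
    have h0 : (Fin.castSucc (0 : Fin (n + 1)) : Fin (n + 2)) ≠ Fin.last (n + 1) :=
      (Fin.castSucc_lt_last _).ne
    have := hc (Fin.castSucc (0 : Fin (n + 1))) (Fin.last (n + 1)) h0 (Fin.snoc y b) (y 0) b c
    simp only [← Fin.snoc_update, Fin.update_snoc_last, Function.update_eq_self] at this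
    exact this
  have hI : ∫ c, (ψ (Fin.snoc (Function.update y 0 (y 0 + b)) c) + ψ (Fin.snoc y b)) ∂μ =
      ∫ c, (ψ (Fin.snoc y (b + c)) + ψ (Fin.snoc (Function.update y 0 b) c)) ∂μ :=
    integral_congr_ae (ae_of_all _ h)
  have hshift : Integrable (fun c : G => ψ (Fin.snoc y (b + c))) μ :=
    integrable_of_continuous μ _
      ((continuous_snoc_right ψ hψ y).comp (continuous_const.add continuous_id))
      ((continuous_snoc_right ψ hψ y).comp
        (continuous_const.add continuous_id)).aestronglyMeasurable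
  rw [integral_add (integrable_snoc μ ψ hψ _) (integrable_const _),
    integral_add hshift (integrable_snoc μ ψ hψ _), integral_const,
    integral_add_left_eq_self (fun c => ψ (Fin.snoc y c)) b] at hI
  simp only [probReal_univ, one_smul] at hI
  unfold intLast
  linarith

end key

section main

theorem main_eq_zero (ψ : (Fin 1 → G) → ℝ) (x : Fin 1 → G) :
    ψ x = avg μ ψ 0 - T 1 (avg μ ψ) x := by
  have havg : ∀ g, avg μ ψ g = ψ (fun _ => g) := by
    intro g
    unfold avg
    have : (fun u : Fin 0 → G => ψ (Fin.cons g u)) = fun _ => ψ (fun _ => g) := by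
      funext u
      congr 1
      funext i
      have : i = 0 := @Subsingleton.elim _ (inferInstanceAs (Subsingleton (Fin 1))) i 0
      rw [this, Fin.cons_zero]
    rw [this, integral_const]
    simp
  rw [T_one, havg, havg, sub_sub_cancel]
  congr 1
  funext i
  have : i = 0 := Subsingleton.elim _ _
  rw [this, zero_add]

theorem main_eq : ∀ (n : ℕ) (ψ : (Fin (n + 1) → G) → ℝ), Continuous ψ → IsCocycle ψ →
    ∀ x, ψ x = avg μ ψ 0 - T (n + 1) (avg μ ψ) x := by
  intro n
  induction n with
  | zero =>
    intro ψ _ _ x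
    exact main_eq_zero μ ψ x
  | succ n ih =>
    intro ψ hψ hc x
    have hx : x = Fin.snoc (Fin.init x) (x (Fin.last (n + 1))) := (Fin.snoc_init_self x).symm
    have hψ₁ := continuous_intLast μ ψ hψ
    have hc₁ := isCocycle_intLast μ ψ hψ hc
    have havg : avg μ (intLast μ ψ) = avg μ ψ := funext (avg_intLast μ ψ hψ)
    have IH := ih (intLast μ ψ) hψ₁ hc₁
    rw [havg] at IH
    rw [hx, eq_intLast_comb μ ψ hψ hc, T_rec, IH, IH, IH]
    ring

end main

section unique

theorem continuous_T (n : ℕ) (δ : G → ℝ) (hδ : Continuous δ) : Continuous (T n δ) := by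
  change Continuous (fun x : Fin n → G =>
    ∑ I ∈ (Finset.univ : Finset (Fin n)).powerset, (-1 : ℝ) ^ I.card * δ (∑ i ∈ I, x i))
  refine continuous_finsetSum _ (fun I _ => ?_)
  exact continuous_const.mul (hδ.comp (continuous_finsetSum _ (fun i _ => continuous_apply i)))

theorem eq_zero_of_additive_bounded {H : Type*} [AddCommGroup H] (e : H → ℝ)
    (hadd : ∀ a b, e (a + b) = e a + e b) (C : ℝ) (hC : ∀ a, |e a| ≤ C) (a : H) : e a = 0 := by
  let f : H →+ ℝ := AddMonoidHom.mk' e hadd
  have hf : ∀ a, f a = e a := fun _ => rfl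
  by_contra hne
  have hpos : 0 < |e a| := abs_pos.mpr hne
  obtain ⟨k, hk⟩ := exists_nat_gt (C / |e a|)
  have h1 : |e (k • a)| ≤ C := hC _
  rw [← hf, map_nsmul, hf, nsmul_eq_mul, abs_mul, Nat.abs_cast] at h1
  rw [div_lt_iff₀ hpos] at hk
  linarith

theorem unique_aux_zero (δ : G → ℝ) (h : ∀ x : Fin 1 → G, T 1 δ x = δ 0) (g : G) : δ g = 0 := by
  have := h (fun _ => g)
  rw [T_one, zero_add] at this
  linarith

theorem unique_aux : ∀ (n : ℕ) (δ : G → ℝ), Continuous δ →
    (∀ x : Fin (n + 1) → G, T (n + 1) δ x = δ 0) → ∀ g, δ g = 0 := by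
  intro n
  induction n with
  | zero =>
    intro δ _ h g
    exact unique_aux_zero δ h g
  | succ n ih =>
    intro δ hδ h
    refine ih δ hδ (fun y₀ => ?_)
    have hcont : Continuous (fun y : Fin (n + 1) → G => T (n + 1) δ y - δ 0) :=
      (continuous_T (n + 1) δ hδ).sub continuous_const
    obtain ⟨C, hC⟩ := isCompact_univ.exists_bound_of_continuousOn hcont.continuousOn
    have hadd : ∀ a b : G,
        (T (n + 1) δ (Function.update y₀ 0 (a + b)) - δ 0) =
          (T (n + 1) δ (Function.update y₀ 0 a) - δ 0) +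
            (T (n + 1) δ (Function.update y₀ 0 b) - δ 0) := by
      intro a b
      have h1 := T_rec n δ (Function.update y₀ 0 a) b
      rw [h, Function.update_self, Function.update_idem, Function.update_idem] at h1
      linarith
    have := eq_zero_of_additive_bounded
      (fun a => T (n + 1) δ (Function.update y₀ 0 a) - δ 0) hadd C
      (fun a => by simpa [Real.norm_eq_abs] using hC (Function.update y₀ 0 a) (Set.mem_univ _))
      (y₀ 0)
    simp only [Function.update_eq_self] at this
    linarith

end unique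

section final

theorem main (m : ℕ) (ψ : (Fin (m + 1) → G) → ℝ) (hψc : Continuous ψ)
    (hψ : ∀ (i j : Fin (m + 1)), i ≠ j → ∀ (x : Fin (m + 1) → G) (a b c : G),
      ψ (Function.update (Function.update x i (a + b)) j c) +
          ψ (Function.update (Function.update x i a) j b) =
        ψ (Function.update (Function.update x i a) j (b + c)) +
          ψ (Function.update (Function.update x i b) j c)) :
    (∀ x : Fin (m + 1) → G,
      ψ x = ∑ I ∈ ((Finset.univ : Finset (Fin (m + 1))).powerset.erase ∅),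
        (-1 : ℝ) ^ (m + 1 + I.card) * ((-1 : ℝ) ^ m *
          ∫ u, ψ (Fin.cons (∑ i ∈ I, x i) u) ∂(Measure.pi (fun _ : Fin m => μ)))) ∧
    Continuous (fun g : G => (-1 : ℝ) ^ m *
      ∫ u, ψ (Fin.cons g u) ∂(Measure.pi (fun _ : Fin m => μ))) ∧
    (∀ φ : G → ℝ, Continuous φ → (∀ x : Fin (m + 1) → G,
      ψ x = ∑ I ∈ ((Finset.univ : Finset (Fin (m + 1))).powerset.erase ∅),
        (-1 : ℝ) ^ (m + 1 + I.card) * φ (∑ i ∈ I, x i)) →
      φ = fun g => (-1 : ℝ) ^ m *
        ∫ u, ψ (Fin.cons g u) ∂(Measure.pi (fun _ : Fin m => μ))) := by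
  have hsq : ((-1 : ℝ) ^ m) * ((-1 : ℝ) ^ m) = 1 := by
    rw [← mul_pow]
    simp
  have h1 : ∀ x : Fin (m + 1) → G,
      ψ x = dev (m + 1) (fun g => (-1 : ℝ) ^ m * avg μ ψ g) x := by
    intro x
    rw [dev_eq, T_const_mul, main_eq μ m ψ hψc hψ x, pow_succ]
    linear_combination (T (m + 1) (avg μ ψ) x - avg μ ψ 0) * hsq
  have h2 : Continuous (fun g : G => (-1 : ℝ) ^ m * avg μ ψ g) :=
    continuous_const.mul (continuous_avg μ ψ hψc)
  refine ⟨h1, h2, ?_⟩
  intro φ hφ hφx
  have hδ : Continuous (fun g => φ g - (-1 : ℝ) ^ m * avg μ ψ g) := hφ.sub h2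
  have key : ∀ x : Fin (m + 1) → G,
      T (m + 1) (fun g => φ g - (-1 : ℝ) ^ m * avg μ ψ g) x =
        (fun g => φ g - (-1 : ℝ) ^ m * avg μ ψ g) 0 := by
    intro x
    have e1 : ψ x = dev (m + 1) φ x := hφx x
    have e2 := h1 x
    rw [dev_eq] at e1 e2
    have e3 : (-1 : ℝ) ^ (m + 1) * (T (m + 1) φ x - φ 0) =
        (-1 : ℝ) ^ (m + 1) * (T (m + 1) (fun g => (-1 : ℝ) ^ m * avg μ ψ g) x -
          (fun g => (-1 : ℝ) ^ m * avg μ ψ g) 0) := by rw [← e1, ← e2]
    have hne : ((-1 : ℝ) ^ (m + 1)) ≠ 0 := pow_ne_zero _ (by norm_num)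
    have e4 := mul_left_cancel₀ hne e3
    rw [T_sub]
    simp only at e4 ⊢
    linarith
  funext g
  have := unique_aux m _ hδ key g
  change φ g = (-1 : ℝ) ^ m * avg μ ψ g
  linarith

end final

end Groth.Agent.H85.CocycleHaar
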