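import Mathlib

/-!
# Vanishing of `H^{n+1}(G, V)` when `|G|` acts bijectively on `V`

Proof via Shapiro's lemma: `V` is a "retract up to `|G|`" of the module coinduced from the
trivial subgroup.
-/

namespace Groth.Agent.H85.CohVanish

open CategoryTheory CategoryTheory.Limits groupCohomology Rep

variable {k G : Type} [CommRing k] [Group G] [Fintype G] (V : Rep.{0} k G)

/-- The restriction of `V` to the trivial subgroup. -/
noncomputable abbrev A₀ : Rep.{0} k (⊥ : Subgroup G) := Rep.res (⊥ : Subgroup G).subtype V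

/-- The module coinduced from the trivial subgroup. -/
noncomputable abbrev C₀ : Rep.{0} k G := Rep.coind (⊥ : Subgroup G).subtype (A₀ V)

/-- `v ↦ (x ↦ x • v)` as a linear map. -/
noncomputable def ιlin : V.V →ₗ[k] Representation.coindV (⊥ : Subgroup G).subtype (A₀ V).ρ where
  toFun v := ⟨fun x => V.ρ x v, fun g h => by
    show V.ρ (g.1 * h) v = V.ρ g.1 (V.ρ h v)
    rw [map_mul]; rfl⟩
  map_add' v w := by
    apply Subtype.ext; funext x; simp
  map_smul' r v := by
    apply Subtype.ext; funext x; simp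

/-- `v ↦ (x ↦ x • v)`. -/
noncomputable def ι : V ⟶ C₀ V := Rep.ofHom
  ⟨ιlin V, fun g => by
    ext v x
    show V.ρ x (V.ρ g v) = V.ρ (x * g) v
    rw [map_mul]; rfl⟩

/-- `f ↦ ∑ x, x⁻¹ • f x` as a linear map. -/
noncomputable def πlin : Representation.coindV (⊥ : Subgroup G).subtype (A₀ V).ρ →ₗ[k] V.V where
  toFun f := ∑ x : G, V.ρ x⁻¹ (f.1 x)
  map_add' f f' := by
    simp [Finset.sum_add_distrib]
  map_smul' r f := by
    simp [Finset.smul_sum]

/-- `f ↦ ∑ x, x⁻¹ • f x`. -/
noncomputable def π' : C₀ V ⟶ V := Rep.ofHom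
  ⟨πlin V, fun g => by
    ext f
    show ∑ x : G, V.ρ x⁻¹ (f.1 (x * g)) = V.ρ g (∑ x : G, V.ρ x⁻¹ (f.1 x))
    rw [map_sum]
    refine Fintype.sum_equiv (Equiv.mulRight g) _ _ (fun x => ?_)
    show V.ρ x⁻¹ (f.1 (x * g)) = V.ρ g (V.ρ (x * g)⁻¹ (f.1 (x * g)))
    rw [← Module.End.mul_apply, ← map_mul, mul_inv_rev, mul_inv_cancel_left]⟩

theorem ι_π'_apply (v : V) : (π' V).hom ((ι V).hom v) = Fintype.card G • v := by
  show ∑ x : G, V.ρ x⁻¹ (V.ρ x v) = _
  simp_rw [← Module.End.mul_apply, ← map_mul, inv_mul_cancel, map_one, Module.End.one_apply]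
  simp

theorem comp_hom_apply (v : V) : (ι V ≫ π' V).hom v = Fintype.card G • v :=
  ι_π'_apply V v

/-- If `|G|` acts bijectively on `V` then `H^{n+1}(G, V) = 0`. -/
theorem isZero_groupCohomology_succ
    (hV : Function.Bijective (fun v : V => Fintype.card G • v)) (n : ℕ) :
    IsZero (groupCohomology V (n + 1)) := by
  have hμ : IsIso (ι V ≫ π' V) := by
    have hmono : Mono (ι V ≫ π' V) := (Rep.mono_iff_injective _).2 (by
      intro v w h
      apply hV.1
      simpa only [comp_hom_apply] using h)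
    have hepi : Epi (ι V ≫ π' V) := (Rep.epi_iff_surjective _).2 (by
      intro w
      obtain ⟨v, hv⟩ := hV.2 w
      exact ⟨v, by rw [comp_hom_apply]; exact hv⟩)
    exact isIso_of_mono_of_epi _
  have hC : IsZero (groupCohomology (C₀ V) (n + 1)) :=
    (isZero_groupCohomology_succ_of_subsingleton (A₀ V) n).of_iso (coindIso (A₀ V) (n + 1))
  have h1 : IsIso ((functor k G (n + 1)).map (ι V ≫ π' V)) := inferInstance
  have h2 : (functor k G (n + 1)).map (ι V ≫ π' V) = 0 := by
    rw [Functor.map_comp]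
    have : (functor k G (n + 1)).map (ι V) = 0 := hC.eq_of_tgt _ _
    rw [this, zero_comp]
  rw [h2] at h1
  change IsZero ((functor k G (n + 1)).obj V)
  rw [IsZero.iff_id_eq_zero]
  have := IsIso.hom_inv_id (f := (0 : (functor k G (n + 1)).obj V ⟶ (functor k G (n + 1)).obj V))
  rw [zero_comp] at this
  exact this.symm

open ShortComplex in
/-- If `φ : X ⟶ Y` is surjective and `|G|` acts uniquely divisibly on `ker φ`, then `φ` induces
bijections on `H^{n+1}`. -/
theorem bijective_map_succ {X Y : Rep.{0} k G} (φ : X ⟶ Y)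
    (hsurj : Function.Surjective φ.hom)
    (hinj : ∀ x : X, φ.hom x = 0 → Fintype.card G • x = 0 → x = 0)
    (hdiv : ∀ x : X, φ.hom x = 0 → ∃ y : X, φ.hom y = 0 ∧ Fintype.card G • y = x)
    (n : ℕ) : Function.Bijective ((functor k G (n + 1)).map φ).hom := by
  let S : ShortComplex (Rep.{0} k G) := ShortComplex.mk (kernel.ι φ) φ (kernel.condition φ)
  have hS : S.ShortExact :=
    { exact := ShortComplex.exact_of_f_is_kernel _ (kernelIsKernel φ)
      mono_f := inferInstanceAs (Mono (kernel.ι φ))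
      epi_g := (Rep.epi_iff_surjective φ).2 hsurj }
  have hrange : LinearMap.range (kernel.ι φ).hom.toLinearMap = LinearMap.ker φ.hom.toLinearMap :=
    (hS.exact.map (forget₂ (Rep k G) (ModuleCat k))).moduleCat_range_eq_ker
  have hιinj : Function.Injective (kernel.ι φ).hom :=
    (Rep.mono_iff_injective _).1 inferInstance
  have hιφ : ∀ z : (kernel φ : Rep.{0} k G), φ.hom ((kernel.ι φ).hom z) = 0 := by
    intro z
    have : (kernel.ι φ).hom z ∈ LinearMap.ker φ.hom.toLinearMap := by
      rw [← hrange]; exact ⟨z, rfl⟩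
    exact this
  have hbij : Function.Bijective (fun z : (kernel φ : Rep.{0} k G) => Fintype.card G • z) := by
    constructor
    · intro z w hzw
      have h0 : Fintype.card G • (z - w) = 0 := by
        rw [smul_sub]; exact sub_eq_zero.2 hzw
      have h1 := hinj ((kernel.ι φ).hom (z - w)) (hιφ _) (by rw [← map_nsmul, h0, map_zero])
      have h2 : z - w = 0 := hιinj (by rw [h1, map_zero])
      exact sub_eq_zero.1 h2
    · intro z
      obtain ⟨y, hy0, hy⟩ := hdiv ((kernel.ι φ).hom z) (hιφ z)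
      have hy' : y ∈ LinearMap.range (kernel.ι φ).hom.toLinearMap := by
        rw [hrange]; exact hy0
      obtain ⟨w, hw⟩ := hy'
      refine ⟨w, hιinj ?_⟩
      show (kernel.ι φ).hom (Fintype.card G • w) = _
      rw [map_nsmul]
      have hw' : (kernel.ι φ).hom w = y := hw
      rw [hw', hy]
  have hK : ∀ m, IsZero (groupCohomology (kernel φ : Rep.{0} k G) (m + 1)) :=
    fun m => isZero_groupCohomology_succ _ hbij m
  have hmono : Mono ((functor k G (n + 1)).map φ) :=
    (mapShortComplex₂_exact hS (n + 1)).mono_g ((hK n).eq_of_src _ _)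
  have hepi : Epi ((functor k G (n + 1)).map φ) :=
    (mapShortComplex₃_exact hS (rfl : n + 1 + 1 = n + 2)).epi_f ((hK (n + 1)).eq_of_tgt _ _)
  exact ⟨(ModuleCat.mono_iff_injective _).1 hmono, (ModuleCat.epi_iff_surjective _).1 hepi⟩

end Groth.Agent.H85.CohVanish
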