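import Groth.Agent.H85.Nilpotent
import Mathlib.RingTheory.WittVector.Complete

set_option autoImplicit false
set_option linter.unusedSectionVars false

noncomputable section

open scoped Isocrystal Pointwise
open Filter Topology Module

universe u v v'

namespace Groth.Agent.H85

variable {p : ℕ} [Fact p.Prime] {k : Type u} [Field k] [CharP k p] [PerfectRing k p]

local notation "W" => WittVector p k
local notation "L" => FractionRing (WittVector p k)

variable {N : Type v} [AddCommGroup N] [Module (WittVector p k) N] [Module (FractionRing (WittVector p k)) N]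
  [IsScalarTower (WittVector p k) (FractionRing (WittVector p k)) N]

variable {h : ℕ}

/-! ### descending chains -/

/-- a descending chain of submodules between `pA₀` and `A₀` is eventually constant -/
theorem chain_one [Module.Finite L N] (hh : Module.finrank L N = h) (A : ℕ → Submodule W N)
    (hA : Antitone A) (hpA : ∀ n, Isoc.pPow 1 (A 0) ≤ A n) :
    ∃ n₀, ∀ n, n₀ ≤ n → A n = A n₀ := by
  classical
  by_contra hcon
  push Not at hcon
  choose φ hφ1 hφ2 using hcon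
  let ψ : ℕ → ℕ := fun i => φ^[i] 0
  have hψs : ∀ i, ψ (i + 1) = φ (ψ i) := fun i => Function.iterate_succ_apply' φ i 0
  have hψle : ∀ i, ψ i ≤ ψ (i + 1) := fun i => by rw [hψs]; exact hφ1 _
  have hψmono : Monotone ψ := monotone_nat_of_le_succ hψle
  have hψlt : ∀ i, A (ψ (i + 1)) < A (ψ i) := by
    intro i
    refine lt_of_le_of_ne (hA (hψle i)) ?_
    rw [hψs]
    exact hφ2 _
  have hex : ∀ i, ∃ x, x ∈ A (ψ i) ∧ x ∉ A (ψ (i + 1)) := fun i => SetLike.exists_of_lt (hψlt i)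
  choose x hx1 hx2 using hex
  obtain ⟨w, hrel, hu⟩ := exists_integral_relation hh (fun i : Fin (h + 1) => x i)
  let S : Finset (Fin (h + 1)) := Finset.univ.filter fun i => IsUnit (w i)
  have hS : S.Nonempty := by
    obtain ⟨i, hi⟩ := hu
    exact ⟨i, by simp [S, hi]⟩
  set j := S.min' hS with hj
  have hjS : j ∈ S := Finset.min'_mem S hS
  have hju : IsUnit (w j) := by simpa [S] using hjS
  have hlt : ∀ i : Fin (h + 1), i < j → ¬ IsUnit (w i) := by
    intro i hi hiu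
    have : i ∈ S := by simp [S, hiu]
    exact absurd (Finset.min'_le S i this) (not_le.mpr hi)
  apply hx2 (j : ℕ)
  have h1 := Finset.add_sum_erase Finset.univ (fun i : Fin (h + 1) => w i • x i) (Finset.mem_univ j)
  rw [hrel] at h1
  have h2 : w j • x j = -∑ i ∈ Finset.univ.erase j, w i • x i := eq_neg_of_add_eq_zero_left h1
  have h3 : w j • x j ∈ A (ψ ((j : ℕ) + 1)) := by
    rw [h2]
    apply Submodule.neg_mem
    apply Submodule.sum_mem
    intro i hi
    have hij : i ≠ j := Finset.ne_of_mem_erase hi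
    rcases lt_or_gt_of_ne hij with hlt' | hgt
    · apply hpA
      obtain ⟨w', hw'⟩ := p_dvd_of_not_isUnit (hlt i hlt')
      rw [hw', mul_smul, mem_pPow_iff_exists]
      refine ⟨w' • x i, (A 0).smul_mem _ (hA (Nat.zero_le _) (hx1 i)), ?_⟩
      rw [zpow_one, pL_smul_eq]
    · apply Submodule.smul_mem
      have : (j : ℕ) + 1 ≤ (i : ℕ) := hgt
      exact hA (hψmono this) (hx1 i)
  obtain ⟨u, hu'⟩ := hju
  have : x j = ((u⁻¹ : Wˣ) : W) • (w j • x j) := by
    rw [smul_smul, ← hu', Units.inv_mul, one_smul]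
  rw [this]
  exact Submodule.smul_mem _ _ h3

/-- a descending chain of submodules between `p^ℓ E₀` and `E₀` is eventually constant -/
theorem chain_stabilizes [Module.Finite L N] (hh : Module.finrank L N = h) (ℓ : ℕ) :
    ∀ (E : ℕ → Submodule W N), Antitone E → (∀ n, Isoc.pPow (ℓ : ℤ) (E 0) ≤ E n) →
      ∃ n₀, ∀ n, n₀ ≤ n → E n = E n₀ := by
  induction ℓ with
  | zero =>
    intro E hE hp
    refine ⟨0, fun n _ => le_antisymm (hE (Nat.zero_le _)) ?_⟩
    have := hp n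
    rwa [Nat.cast_zero, pPow_zero] at this
  | succ ℓ ih =>
    intro E hE hp
    have hE0 : Isoc.pPow 1 (E 0) ≤ E 0 := pPow_one_le (E 0)
    -- the chain `E n + p E 0`
    let A : ℕ → Submodule W N := fun n => E n ⊔ Isoc.pPow 1 (E 0)
    have hA : Antitone A := fun m n hmn => sup_le_sup_right (hE hmn) _
    have hA0 : A 0 = E 0 := sup_eq_left.mpr hE0
    obtain ⟨nA, hnA⟩ := chain_one hh A hA (fun n => by rw [hA0]; exact le_sup_right)
    -- the chain `p⁻¹ (E n ∩ p E 0)`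
    let B : ℕ → Submodule W N := fun n => Isoc.pPow (-1) (E n ⊓ Isoc.pPow 1 (E 0))
    have hB : Antitone B := fun m n hmn => pPow_mono _ (inf_le_inf_right _ (hE hmn))
    have hB0 : B 0 = E 0 := by
      change Isoc.pPow (-1) (E 0 ⊓ Isoc.pPow 1 (E 0)) = E 0
      rw [inf_eq_right.mpr hE0, pPow_pPow, neg_add_cancel, pPow_zero]
    obtain ⟨nB, hnB⟩ := ih B hB (fun n => by
      rw [hB0]
      change Isoc.pPow (ℓ : ℤ) (E 0) ≤ Isoc.pPow (-1) (E n ⊓ Isoc.pPow 1 (E 0))
      rw [← pPow_le_iff, pPow_pPow]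
      refine le_inf ?_ (pPow_anti _ (by omega))
      have := hp n
      have h1 : ((ℓ + 1 : ℕ) : ℤ) = 1 + (ℓ : ℤ) := by push_cast; ring
      rwa [h1] at this)
    refine ⟨max nA nB, fun n hn => le_antisymm (hE hn) ?_⟩
    have hnA' : A n = A (max nA nB) := by
      rw [hnA n ((le_max_left _ _).trans hn), hnA _ (le_max_left _ _)]
    have hnB' : B n = B (max nA nB) := by
      rw [hnB n ((le_max_right _ _).trans hn), hnB _ (le_max_right _ _)]
    have hinf : E n ⊓ Isoc.pPow 1 (E 0) = E (max nA nB) ⊓ Isoc.pPow 1 (E 0) := by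
      have := congrArg (Isoc.pPow 1) hnB'
      change Isoc.pPow 1 (Isoc.pPow (-1) _) = Isoc.pPow 1 (Isoc.pPow (-1) _) at this
      rwa [pPow_pPow, pPow_pPow, add_neg_cancel, pPow_zero, pPow_zero] at this
    intro x hx
    have hxA : x ∈ A n := by
      rw [hnA']
      exact Submodule.mem_sup_left hx
    obtain ⟨y, hy, z, hz, rfl⟩ := Submodule.mem_sup.mp hxA
    have hz' : z ∈ E (max nA nB) ⊓ Isoc.pPow 1 (E 0) := by
      refine ⟨?_, hz⟩
      have : z = (y + z) - y := by abel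
      rw [this]
      exact Submodule.sub_mem _ hx (hE hn hy)
    rw [← hinf] at hz'
    exact Submodule.add_mem _ hy hz'.1


/-! ### completeness -/

theorem witt_complete (f : ℕ → W) (hf : ∀ n, (p : W) ^ n ∣ f (n + 1) - f n) :
    ∃ l : W, ∀ n, (p : W) ^ n ∣ l - f n := by
  have hmem : ∀ (n : ℕ) (x : W), x ∈ ((Ideal.span {(p : W)}) ^ n • ⊤ : Submodule W W) ↔ (p : W) ^ n ∣ x := by
    intro n x
    rw [smul_eq_mul, Ideal.mul_top, Ideal.span_singleton_pow, Ideal.mem_span_singleton]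
  have hcauchy : ∀ m d : ℕ, (p : W) ^ m ∣ f (m + d) - f m := by
    intro m d
    induction d with
    | zero => simp
    | succ d ih =>
      have h1 : f (m + (d + 1)) - f m = (f (m + d + 1) - f (m + d)) + (f (m + d) - f m) := by
        rw [← add_assoc]; ring
      rw [h1]
      exact dvd_add ((pow_dvd_pow _ (Nat.le_add_right m d)).trans (hf (m + d))) ih
  have hprec : IsPrecomplete (Ideal.span {(p : W)}) W :=
    (WittVector.isAdicCompleteIdealSpanP (p := p) (k := k)).toIsPrecomplete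
  obtain ⟨l, hl⟩ := hprec.prec (f := f) (by
    intro m n hmn
    obtain ⟨d, rfl⟩ := Nat.exists_eq_add_of_le hmn
    rw [SModEq.sub_mem, hmem]
    have := hcauchy m d
    rw [← dvd_neg, neg_sub] at this
    exact this)
  refine ⟨l, fun n => ?_⟩
  have := hl n
  rw [SModEq.sub_mem, hmem] at this
  rw [← dvd_neg, neg_sub]
  exact this

/-- lattices are `p`-adically complete -/
theorem lattice_complete [Module.Finite L N] {M : Submodule W N} (hM : M.IsLattice L)
    (x : ℕ → N) (hx : ∀ n, x n ∈ M) (hC : ∀ n : ℕ, x (n + 1) - x n ∈ Isoc.pPow (n : ℤ) M) :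
    ∃ y ∈ M, ∀ n : ℕ, y - x n ∈ Isoc.pPow (n : ℤ) M := by
  obtain ⟨b, rfl⟩ := exists_basis_of_lattice hM (Module.finBasis L N)
  have hco : ∀ n i, ∃ w : W, b.repr (x n) i = algebraMap W L w := by
    intro n i
    obtain ⟨w, hw⟩ := (mem_stdLat b).mp (hx n) i
    exact ⟨w, by simpa using hw⟩
  choose w hw using hco
  have hdiff : ∀ i n, (p : W) ^ n ∣ w (n + 1) i - w n i := by
    intro i n
    obtain ⟨q, hq⟩ := (mem_pPow_stdLat b).mp (hC n) i
    refine ⟨q, ?_⟩
    apply algebraMap_W_injective (p := p) (k := k)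
    rw [map_sub, ← hw, ← hw, map_mul, map_pow, map_natCast, ← zpow_natCast, ← hq, map_sub,
      Finsupp.sub_apply]
  have hlim : ∀ i, ∃ l : W, ∀ n, (p : W) ^ n ∣ l - w n i := fun i =>
    witt_complete (fun n => w n i) (hdiff i)
  choose l hl using hlim
  refine ⟨∑ i, (algebraMap W L (l i)) • b i, ?_, ?_⟩
  · rw [mem_stdLat]
    intro i
    rw [b.repr_sum_self]
    exact memPW_algebraMap _
  · intro n
    rw [mem_pPow_stdLat]
    intro i
    obtain ⟨q, hq⟩ := hl i n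
    refine ⟨q, ?_⟩
    rw [map_sub, Finsupp.sub_apply, b.repr_sum_self, hw, ← map_sub, hq, map_mul, map_pow,
      map_natCast, zpow_natCast]


/-! ### linear compactness -/

/-- a decreasing sequence of cosets of open submodules of a lattice has a common point -/
theorem linear_compact [Module.Finite L N] (hh : Module.finrank L N = h) {M : Submodule W N}
    (hM : M.IsLattice L) (B : ℕ → Submodule W N) (hB : Antitone B) (hBM : ∀ n, B n ≤ M)
    (hopen : ∀ n, ∃ m : ℕ, Isoc.pPow (m : ℤ) M ≤ B n)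
    (a : ℕ → N) (ha : ∀ n, a n ∈ M) (hcoh : ∀ n, a (n + 1) - a n ∈ B n) :
    ∃ e ∈ M, ∀ n, e - a n ∈ B n := by
  classical
  have hcoh' : ∀ n d, a (n + d) - a n ∈ B n := by
    intro n d
    induction d with
    | zero => simp
    | succ d ih =>
      have h1 : a (n + (d + 1)) - a n = (a (n + d + 1) - a (n + d)) + (a (n + d) - a n) := by
        rw [← add_assoc]; abel
      rw [h1]
      exact Submodule.add_mem _ (hB (Nat.le_add_right n d) (hcoh (n + d))) ih
  have hstab : ∀ ℓ : ℕ, ∃ n₀, ∀ n, n₀ ≤ n →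
      B n ⊔ Isoc.pPow (ℓ : ℤ) M = B n₀ ⊔ Isoc.pPow (ℓ : ℤ) M := by
    intro ℓ
    apply chain_stabilizes hh ℓ (fun n => B n ⊔ Isoc.pPow (ℓ : ℤ) M)
    · exact fun m n hmn => sup_le_sup_right (hB hmn) _
    · intro n
      refine le_trans (pPow_mono _ ?_) le_sup_right
      exact sup_le (hBM 0) (pPow_natCast_le M ℓ)
  choose ν hν using hstab
  let nn : ℕ → ℕ := fun ℓ => (Finset.range (ℓ + 1)).sup ν + ℓ
  have hnnν : ∀ ℓ, ν ℓ ≤ nn ℓ := fun ℓ =>
    le_trans (Finset.le_sup (f := ν) (Finset.self_mem_range_succ ℓ)) (Nat.le_add_right _ _)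
  have hnnℓ : ∀ ℓ, ℓ ≤ nn ℓ := fun ℓ => Nat.le_add_left _ _
  have hnnmono : Monotone nn := by
    intro ℓ ℓ' hℓ
    exact Nat.add_le_add (Finset.sup_mono (Finset.range_mono (by omega))) hℓ
  have hstab' : ∀ ℓ n, nn ℓ ≤ n →
      B n ⊔ Isoc.pPow (ℓ : ℤ) M = B (nn ℓ) ⊔ Isoc.pPow (ℓ : ℤ) M := by
    intro ℓ n hn
    rw [hν ℓ n ((hnnν ℓ).trans hn), hν ℓ (nn ℓ) (hnnν ℓ)]
  -- one step of the construction
  have step : ∀ (ℓ : ℕ) (e : N),
      (e ∈ M ∧ e - a (nn ℓ) ∈ B (nn ℓ) ⊔ Isoc.pPow (ℓ : ℤ) M) →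
      ∃ e' : N, (e' ∈ M ∧ e' - a (nn (ℓ + 1)) ∈ B (nn (ℓ + 1)) ⊔ Isoc.pPow ((ℓ + 1 : ℕ) : ℤ) M) ∧
        e' - e ∈ Isoc.pPow (ℓ : ℤ) M := by
    rintro ℓ e ⟨heM, he⟩
    have hle : nn ℓ ≤ nn (ℓ + 1) := hnnmono (Nat.le_succ ℓ)
    have h1 : e - a (nn (ℓ + 1)) ∈ B (nn (ℓ + 1)) ⊔ Isoc.pPow (ℓ : ℤ) M := by
      rw [hstab' ℓ _ hle]
      have h2 : e - a (nn (ℓ + 1)) = (e - a (nn ℓ)) - (a (nn (ℓ + 1)) - a (nn ℓ)) := by abel
      rw [h2]
      refine Submodule.sub_mem _ he (Submodule.mem_sup_left ?_)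
      obtain ⟨d, hd⟩ := Nat.exists_eq_add_of_le hle
      rw [hd]
      exact hcoh' _ _
    obtain ⟨β, hβ, π, hπ, hsum⟩ := Submodule.mem_sup.mp h1
    refine ⟨e - π, ⟨Submodule.sub_mem _ heM (pPow_natCast_le M ℓ hπ), ?_⟩, ?_⟩
    · have : e - π - a (nn (ℓ + 1)) = β := by
        have h3 : e - π - a (nn (ℓ + 1)) = (e - a (nn (ℓ + 1))) - π := by abel
        rw [h3, ← hsum]; abel
      rw [this]
      exact Submodule.mem_sup_left hβ
    · have : e - π - e = -π := by abel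
      rw [this]
      exact Submodule.neg_mem _ hπ
  choose! f hf using step
  let seq : ℕ → N := fun ℓ => Nat.rec (a (nn 0)) (fun ℓ e => f ℓ e) ℓ
  have hseq_succ : ∀ ℓ, seq (ℓ + 1) = f ℓ (seq ℓ) := fun ℓ => rfl
  have hP : ∀ ℓ, seq ℓ ∈ M ∧ seq ℓ - a (nn ℓ) ∈ B (nn ℓ) ⊔ Isoc.pPow (ℓ : ℤ) M := by
    intro ℓ
    induction ℓ with
    | zero =>
      refine ⟨ha _, ?_⟩
      change a (nn 0) - a (nn 0) ∈ _
      rw [sub_self]
      exact Submodule.zero_mem _
    | succ ℓ ih =>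
      rw [hseq_succ]
      exact (hf ℓ (seq ℓ) ih).1
  have hC : ∀ ℓ : ℕ, seq (ℓ + 1) - seq ℓ ∈ Isoc.pPow (ℓ : ℤ) M := by
    intro ℓ
    rw [hseq_succ]
    exact (hf ℓ (seq ℓ) (hP ℓ)).2
  obtain ⟨e, heM, he⟩ := lattice_complete hM seq (fun ℓ => (hP ℓ).1) hC
  refine ⟨e, heM, fun n => ?_⟩
  obtain ⟨m, hm⟩ := hopen n
  set ℓ := max m n with hℓ
  have hℓm : Isoc.pPow (ℓ : ℤ) M ≤ B n :=
    le_trans (pPow_anti M (by exact_mod_cast le_max_left m n)) hm
  have hnℓ : n ≤ nn ℓ := (le_max_right m n).trans (hnnℓ ℓ)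
  have h1 : e - a n = (e - seq ℓ) + (seq ℓ - a (nn ℓ)) + (a (nn ℓ) - a n) := by abel
  rw [h1]
  refine Submodule.add_mem _ (Submodule.add_mem _ (hℓm (he ℓ)) ?_) ?_
  · exact (sup_le (hB hnℓ) hℓm) (hP ℓ).2
  · obtain ⟨d, hd⟩ := Nat.exists_eq_add_of_le hnℓ
    rw [hd]
    exact hcoh' _ _

end Groth.Agent.H85
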