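import Mathlib
import Groth.Agent.Lead.RegularCompletion

set_option autoImplicit false
universe u

namespace Groth.Agent.H85.DVRSection

open IsLocalRing

theorem main
    (B : Type u) [CommRing B] [IsDomain B] [IsDiscreteValuationRing B]
    (A : Type u) [CommRing A] [Algebra B A]
    (p : Ideal A) [p.IsPrime] (hp : p.comap (algebraMap B A) = IsLocalRing.maximalIdeal B)
    [Algebra.IsSmoothAt B p]
    (hres : Function.Surjective ((algebraMap A p.ResidueField).comp (algebraMap B A))) :
    ∃ (B' : Type u) (_ : CommRing B') (_ : IsDomain B') (_ : IsDiscreteValuationRing B') (ψ : A →+* B'),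
      Ideal.comap ψ (IsLocalRing.maximalIdeal B') = p ∧
      Function.Injective (ψ.comp (algebraMap B A)) ∧
      Ideal.map (ψ.comp (algebraMap B A)) (IsLocalRing.maximalIdeal B) = IsLocalRing.maximalIdeal B' ∧
      Function.Surjective ((IsLocalRing.residue B').comp (ψ.comp (algebraMap B A))) := by
  classical
  obtain ⟨hdom, hdvr⟩ :=
    (Groth.Agent.Lead.RLR.exists_isDiscreteValuationRing_adicCompletion_iff B).mp
      ⟨inferInstance, inferInstance⟩
  -- the B-algebra map `B ⧸ m → κ(p)`
  have hker : ∀ b ∈ maximalIdeal B, (algebraMap B p.ResidueField) b = 0 := by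
    intro b hb
    rw [← hp] at hb
    rw [IsScalarTower.algebraMap_apply B A p.ResidueField]
    exact (Ideal.algebraMap_residueField_eq_zero).mpr hb
  let φ : B ⧸ maximalIdeal B →ₐ[B] p.ResidueField :=
    Ideal.Quotient.liftₐ (maximalIdeal B) (Algebra.ofId B p.ResidueField) hker
  have hφsurj : Function.Surjective φ := by
    intro y
    obtain ⟨b, rfl⟩ := hres y
    refine ⟨Ideal.Quotient.mk (maximalIdeal B) b, ?_⟩
    simp only [φ, RingHom.comp_apply]
    rw [← IsScalarTower.algebraMap_apply B A p.ResidueField]
    rfl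
  have : (maximalIdeal B).IsMaximal := maximalIdeal.isMaximal B
  let _ : Field (B ⧸ maximalIdeal B) := Ideal.Quotient.field (maximalIdeal B)
  have hφinj : Function.Injective φ := (φ : B ⧸ maximalIdeal B →+* p.ResidueField).injective
  let e : (B ⧸ maximalIdeal B) ≃ₐ[B] p.ResidueField := AlgEquiv.ofBijective φ ⟨hφinj, hφsurj⟩
  -- the map `A_p → B ⧸ m`
  let f : Localization.AtPrime p →ₐ[B] B ⧸ maximalIdeal B :=
    (e.symm : p.ResidueField →ₐ[B] B ⧸ maximalIdeal B).comp
      (IsScalarTower.toAlgHom B (Localization.AtPrime p) p.ResidueField)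
  obtain ⟨g, hg⟩ := Algebra.FormallySmooth.exists_adicCompletionEvalOneₐ_comp_eq
    (I := maximalIdeal B) f
  let ψ : A →+* AdicCompletion (maximalIdeal B) B :=
    (g : Localization.AtPrime p →+* AdicCompletion (maximalIdeal B) B).comp
      (algebraMap A (Localization.AtPrime p))
  have hψB : ψ.comp (algebraMap B A) = algebraMap B (AdicCompletion (maximalIdeal B) B) := by
    ext b
    simp only [ψ, RingHom.comp_apply, RingHom.coe_coe]
    rw [← IsScalarTower.algebraMap_apply B A (Localization.AtPrime p), AlgHom.commutes]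
  have hmax : ∀ x : AdicCompletion (maximalIdeal B) B,
      x ∈ maximalIdeal (AdicCompletion (maximalIdeal B) B) ↔
        AdicCompletion.evalOneₐ (maximalIdeal B) x = 0 := by
    intro x
    rw [AdicCompletion.maximalIdeal_eq_map,
      ← AdicCompletion.ker_evalOneₐ_eq_map (maximalIdeal B) (maximalIdeal B).fg_of_isNoetherianRing]
    rfl
  refine ⟨AdicCompletion (maximalIdeal B) B, inferInstance, hdom, hdvr, ψ, ?_, ?_, ?_, ?_⟩
  · ext x
    rw [Ideal.mem_comap, hmax]
    have h1 : AdicCompletion.evalOneₐ (maximalIdeal B) (ψ x) =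
        f (algebraMap A (Localization.AtPrime p) x) := by
      have := congrArg (fun h => h (algebraMap A (Localization.AtPrime p) x)) hg
      simpa [ψ] using this
    rw [h1]
    simp only [f, AlgHom.comp_apply, IsScalarTower.coe_toAlgHom']
    rw [← IsScalarTower.algebraMap_apply A (Localization.AtPrime p) p.ResidueField]
    constructor
    · intro h
      have h' : (e.symm (algebraMap A p.ResidueField x)) = 0 := h
      rw [map_eq_zero_iff _ e.symm.injective] at h'
      exact Ideal.algebraMap_residueField_eq_zero.mp h'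
    · intro h
      have h' : algebraMap A p.ResidueField x = 0 := Ideal.algebraMap_residueField_eq_zero.mpr h
      show (e.symm (algebraMap A p.ResidueField x)) = 0
      rw [h', map_zero]
  · rw [hψB]
    exact AdicCompletion.of_injective (maximalIdeal B) B
  · rw [hψB]
    exact AdicCompletion.maximalIdeal_eq_map.symm
  · rw [hψB]
    intro y
    obtain ⟨z, rfl⟩ := IsLocalRing.residue_surjective y
    obtain ⟨b, hb⟩ := Ideal.Quotient.mk_surjective (AdicCompletion.evalOneₐ (maximalIdeal B) z)
    refine ⟨b, ?_⟩
    simp only [RingHom.comp_apply]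
    rw [← sub_eq_zero, ← map_sub, IsLocalRing.residue_eq_zero_iff, hmax, map_sub, sub_eq_zero]
    rw [← hb]
    rfl

end Groth.Agent.H85.DVRSection
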