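import Mathlib
import Groth.Prelude.Def_CAlg
import Groth.Agent.H15.Depth
import Groth.Agent.H72.HalfExact
import Groth.Agent.H72.DepthExt

/-!
# Depth calculus with respect to an ideal (helper85)

For a Noetherian ring `T`, an ideal `I` and finite `T`-modules:

* `le_idealDepth_iff_ext'`: Rees' characterisation of `LocCoh.idealDepth I M` through the vanishing
  of `Ext^i(T/I, M)`, without the hypothesis `IM ≠ M`;
* `depth_mid`, `depth_left`, `depth_right`: the depth lemma for a short exact sequence;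
* `idealDepth_eq_quotSMulTop_add_one`: `depth_I N = depth_I (N/fN) + 1` for `f ∈ I` regular on `N`;
* `idealDepth_eq_zero_of_smul_eq_zero`: a nonzero module killed by `I` has depth `0`.
-/

set_option autoImplicit false
universe u

open CategoryTheory Abelian Groth.Agent.H15 Groth.Agent.H72.DepthExt RingTheory.Sequence
open scoped Pointwise

namespace Groth.Agent.H85.DepthCalc

variable {T : Type u} [CommRing T] (I : Ideal T)

section Ext

variable [IsNoetherianRing T]

/-- all `Ext` groups out of `T/I` vanish when `IM = M` -/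
theorem subsingleton_ext_of_smul_top_eq_top (M : Type u) [AddCommGroup M] [Module T M]
    [Module.Finite T M] (h : I • (⊤ : Submodule T M) = ⊤) (i : ℕ) :
    Subsingleton (Ext (testObj I) (ModuleCat.of T M) i) := by
  obtain ⟨r, hr, hr0⟩ := Submodule.exists_sub_one_mem_and_smul_eq_zero_of_fg_of_le_smul I
    (⊤ : Submodule T M) (Module.finite_def.mp inferInstance) h.ge
  have key : ∀ e : Ext (testObj I) (ModuleCat.of T M) i, e = 0 := by
    intro e
    have h1 : r • e = 0 := by
      rw [Ext.smul_eq_comp_mk₀]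
      have h0 : r • 𝟙 (ModuleCat.of T M) = 0 := by
        ext m
        exact hr0 m Submodule.mem_top
      rw [h0, Ext.mk₀_zero, Ext.comp_zero]
    have h2 : (r - 1) • e = 0 := by
      have h0 : (r - 1) • 𝟙 (testObj I) = 0 := by
        apply ModuleCat.hom_ext
        apply LinearMap.ext
        intro n
        change (r - 1) • n = 0
        apply (Shrink.linearEquiv T (T ⧸ I)).injective
        rw [map_smul, map_zero]
        obtain ⟨b, hb⟩ := Ideal.Quotient.mk_surjective (Shrink.linearEquiv T (T ⧸ I) n)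
        rw [← hb, ← Ideal.Quotient.mk_eq_mk, ← Submodule.Quotient.mk_smul,
          Submodule.Quotient.mk_eq_zero]
        exact I.mul_mem_right b hr
      have h3 : (r - 1) • e = (Ext.mk₀ ((r - 1) • 𝟙 (testObj I))).comp e (zero_add i) := by
        rw [Ext.mk₀_smul, Ext.smul_comp, Ext.mk₀_id_comp]
      rw [h3, h0, Ext.mk₀_zero, Ext.zero_comp]
    have h4 : e = r • e - (r - 1) • e := by
      rw [← sub_smul]
      simp
    rw [h4, h1, h2, sub_zero]
  exact ⟨fun e₁ e₂ => by rw [key e₁, key e₂]⟩

/-- Rees' characterisation of depth, valid also when `IM = M` -/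
theorem le_idealDepth_iff_ext' (M : Type u) [AddCommGroup M] [Module T M] [Module.Finite T M]
    (n : ℕ) : (n : ℕ∞) ≤ LocCoh.idealDepth I M ↔
      ∀ i < n, Subsingleton (Ext (testObj I) (ModuleCat.of T M) i) := by
  by_cases h : I • (⊤ : Submodule T M) = ⊤
  · rw [idealDepth_eq_top_of_smul_top_eq I M h]
    constructor
    · intro _ i _
      exact subsingleton_ext_of_smul_top_eq_top I M h i
    · intro _
      exact le_top
  · exact le_idealDepth_iff_ext I M h n

variable {L E Q : Type u} [AddCommGroup L] [Module T L] [Module.Finite T L]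
  [AddCommGroup E] [Module T E] [Module.Finite T E]
  [AddCommGroup Q] [Module T Q] [Module.Finite T Q]
  (f : L →ₗ[T] E) (g : E →ₗ[T] Q) (hf : Function.Injective f) (hg : Function.Surjective g)
  (hfg : Function.Exact f g)

include hf hg hfg

/-- depth lemma: `depth E ≥ min (depth L) (depth Q)` -/
theorem depth_mid (n : ℕ) (hL : (n : ℕ∞) ≤ LocCoh.idealDepth I L)
    (hQ : (n : ℕ∞) ≤ LocCoh.idealDepth I Q) : (n : ℕ∞) ≤ LocCoh.idealDepth I E := by
  rw [le_idealDepth_iff_ext'] at hL hQ ⊢
  intro i hi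
  have hS := Groth.Agent.H72.HalfExact.shortExact_of_exact f g hf hg hfg
  have h1 := hL i hi
  have h3 := hQ i hi
  have key : ∀ e : Ext (testObj I) (ModuleCat.of T E) i, e = 0 := by
    intro e
    obtain ⟨x₁, hx₁⟩ := Ext.covariant_sequence_exact₂ _ hS e (@Subsingleton.elim _ h3 _ _)
    rw [← hx₁, @Subsingleton.elim _ h1 x₁ 0, Ext.zero_comp]
  exact ⟨fun e₁ e₂ => by rw [key e₁, key e₂]⟩

/-- depth lemma: `depth L ≥ min (depth E) (depth Q + 1)` -/
theorem depth_left (n : ℕ) (hE : (n : ℕ∞) ≤ LocCoh.idealDepth I E)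
    (hQ : (n : ℕ∞) ≤ LocCoh.idealDepth I Q + 1) : (n : ℕ∞) ≤ LocCoh.idealDepth I L := by
  rw [le_idealDepth_iff_ext'] at hE ⊢
  intro i hi
  have hS := Groth.Agent.H72.HalfExact.shortExact_of_exact f g hf hg hfg
  have h2 := hE i hi
  rcases Nat.eq_zero_or_pos i with h0 | hpos
  · subst h0
    haveI : Mono (ModuleCat.shortComplexOfCompEqZero f g hfg.linearMap_comp_eq_zero).f := hS.mono_f
    have hinj := Ext.postcomp_mk₀_injective_of_mono (testObj I)
      (ModuleCat.shortComplexOfCompEqZero f g hfg.linearMap_comp_eq_zero).f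
    refine ⟨fun e₁ e₂ => hinj (@Subsingleton.elim _ h2 _ _)⟩
  · obtain ⟨j, rfl⟩ : ∃ j, i = j + 1 := ⟨i - 1, by omega⟩
    have hQ' : ((j + 1 : ℕ) : ℕ∞) ≤ LocCoh.idealDepth I Q + 1 := by
      refine le_trans ?_ hQ
      exact_mod_cast hi.le
    have hQ'' : (j : ℕ∞) + 1 ≤ LocCoh.idealDepth I Q + 1 := by exact_mod_cast hQ'
    have hQj : ((j : ℕ) : ℕ∞) < LocCoh.idealDepth I Q + 1 := by
      refine lt_of_lt_of_le ?_ hQ''
      exact_mod_cast Nat.lt_succ_self j
    have h3 : Subsingleton (Ext (testObj I) (ModuleCat.of T Q) j) := by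
      by_cases hn : n = 0
      · omega
      have hQn : ((n - 1 : ℕ) : ℕ∞) ≤ LocCoh.idealDepth I Q := by
        have h5 : ((n - 1 : ℕ) : ℕ∞) + 1 ≤ LocCoh.idealDepth I Q + 1 := by
          have : ((n - 1 : ℕ) : ℕ∞) + 1 = (n : ℕ∞) := by
            have : n - 1 + 1 = n := by omega
            exact_mod_cast this
          rw [this]
          exact hQ
        exact (ENat.add_le_add_iff_right ENat.one_ne_top).mp h5
      exact (le_idealDepth_iff_ext' I Q (n - 1)).mp hQn j (by omega)
    have key : ∀ e : Ext (testObj I) (ModuleCat.of T L) (j + 1), e = 0 := by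
      intro e
      obtain ⟨x₃, hx₃⟩ := Ext.covariant_sequence_exact₁ _ hS e (@Subsingleton.elim _ h2 _ _) rfl
      rw [← hx₃, @Subsingleton.elim _ h3 x₃ 0, Ext.zero_comp]
    exact ⟨fun e₁ e₂ => by rw [key e₁, key e₂]⟩

/-- depth lemma: `depth Q ≥ min (depth L - 1) (depth E)` -/
theorem depth_right (n : ℕ) (hL : ((n + 1 : ℕ) : ℕ∞) ≤ LocCoh.idealDepth I L)
    (hE : (n : ℕ∞) ≤ LocCoh.idealDepth I E) : (n : ℕ∞) ≤ LocCoh.idealDepth I Q := by
  rw [le_idealDepth_iff_ext'] at hL hE ⊢
  intro i hi
  have hS := Groth.Agent.H72.HalfExact.shortExact_of_exact f g hf hg hfg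
  have h1 := hL (i + 1) (by omega)
  have h2 := hE i hi
  have key : ∀ e : Ext (testObj I) (ModuleCat.of T Q) i, e = 0 := by
    intro e
    obtain ⟨x₂, hx₂⟩ := Ext.covariant_sequence_exact₃ _ hS e rfl (@Subsingleton.elim _ h1 _ _)
    rw [← hx₂, @Subsingleton.elim _ h2 x₂ 0, Ext.zero_comp]
  exact ⟨fun e₁ e₂ => by rw [key e₁, key e₂]⟩

end Ext

section Quot

variable [IsNoetherianRing T] {N : Type u} [AddCommGroup N] [Module T N] [Module.Finite T N]

/-- modulo a regular element of `I` the depth drops by exactly one -/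
theorem idealDepth_eq_quotSMulTop_add_one (f : T) (hfI : f ∈ I) (hreg : IsSMulRegular N f) :
    LocCoh.idealDepth I N = LocCoh.idealDepth I (QuotSMulTop f N) + 1 := by
  by_cases h : I • (⊤ : Submodule T N) = ⊤
  · have h' : I • (⊤ : Submodule T (QuotSMulTop f N)) = ⊤ := smul_top_quotSMulTop_eq_top I f h
    rw [idealDepth_eq_top_of_smul_top_eq I N h, idealDepth_eq_top_of_smul_top_eq I _ h']
    rfl
  · have h' : I • (⊤ : Submodule T (QuotSMulTop f N)) ≠ ⊤ :=
      smul_top_quotSMulTop_ne_top (M := N) hfI h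
    apply le_antisymm
    · rw [← ENat.forall_natCast_le_iff_le]
      intro n hn
      rcases Nat.eq_zero_or_pos n with rfl | hpos
      · simp
      · obtain ⟨m, rfl⟩ : ∃ m, n = m + 1 := ⟨n - 1, by omega⟩
        have h1 := le_idealDepth_quotSMulTop I N f hfI hreg m hn
        have h2 : ((m + 1 : ℕ) : ℕ∞) = (m : ℕ∞) + 1 := by push_cast; rfl
        rw [h2]
        exact add_le_add_left h1 1
    · rw [← ENat.forall_natCast_le_iff_le]
      intro n hn
      rcases Nat.eq_zero_or_pos n with rfl | hpos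
      · simp
      · obtain ⟨m, rfl⟩ : ∃ m, n = m + 1 := ⟨n - 1, by omega⟩
        have h2 : ((m + 1 : ℕ) : ℕ∞) = (m : ℕ∞) + 1 := by push_cast; rfl
        rw [h2] at hn
        have h3 : (m : ℕ∞) ≤ LocCoh.idealDepth I (QuotSMulTop f N) :=
          (ENat.add_le_add_iff_right ENat.one_ne_top).mp hn
        obtain ⟨rs, hlen, hmem, hrs⟩ :=
          exists_isRegular_of_le_idealDepth I (QuotSMulTop f N) h' m h3
        have hwr : IsWeaklyRegular N (f :: rs) :=
          (isWeaklyRegular_cons_iff N f rs).mpr ⟨hreg, hrs.toIsWeaklyRegular⟩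
        have h4 := le_idealDepth I N hwr (by
          intro r hr
          rcases List.mem_cons.mp hr with rfl | hr
          · exact hfI
          · exact hmem r hr)
        rw [List.length_cons, hlen] at h4
        exact h4

end Quot

section Killed

variable {N : Type u} [AddCommGroup N] [Module T N]

/-- a nonzero module killed by `I` has `I`-depth `0` -/
theorem idealDepth_eq_zero_of_smul_eq_zero [Nontrivial N] (h : ∀ a ∈ I, ∀ x : N, a • x = 0) :
    LocCoh.idealDepth I N = 0 := by
  have hne : I • (⊤ : Submodule T N) ≠ ⊤ := by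
    intro htop
    have hbot : I • (⊤ : Submodule T N) = ⊥ := by
      rw [eq_bot_iff, Submodule.smul_le]
      intro a ha x _
      rw [Submodule.mem_bot]
      exact h a ha x
    rw [hbot] at htop
    obtain ⟨x, hx⟩ := exists_ne (0 : N)
    have : x ∈ (⊥ : Submodule T N) := by rw [htop]; trivial
    exact hx ((Submodule.mem_bot T).mp this)
  apply le_antisymm _ zero_le
  apply idealDepth_le_of_forall I N hne
  intro rs hrs hmem
  rcases rs with _ | ⟨a, rs⟩
  · simp
  · exfalso
    have ha : a ∈ I := hmem a (by simp)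
    have hreg : IsSMulRegular N a := ((isWeaklyRegular_cons_iff N a rs).mp hrs).1
    obtain ⟨x, hx⟩ := exists_ne (0 : N)
    apply hx
    apply hreg
    change a • x = a • 0
    rw [h a ha x, smul_zero]

/-- the zero module has `I`-depth `⊤` -/
theorem idealDepth_eq_top_of_subsingleton [Subsingleton N] : LocCoh.idealDepth I N = ⊤ :=
  idealDepth_eq_top_of_smul_top_eq I N (Subsingleton.elim _ _)

end Killed

end Groth.Agent.H85.DepthCalc
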