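import Groth.Agent.H85.GradedCMUnmixed
import Groth.Agent.H85.SegreRingFacts

/-!
# Depth bounds from socle elements; height of the irrelevant ideal; homogeneous nonzerodivisors
-/

set_option autoImplicit false
universe u

namespace Groth.Agent.H85.DepthSocle

open DirectSum Groth.Agent.H85.GradedNN Groth.Agent.H85.GradedCM
open scoped Pointwise

section Socle

variable {T : Type u} [CommRing T] [IsNoetherianRing T]

/-- a nonzerodivisor avoids all associated primes -/
theorem notMem_of_mem_associatedPrimes {f : T} (hfreg : ∀ c : T, f * c = 0 → c = 0)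
    (q : Ideal T) (hq : q ∈ associatedPrimes T T) : f ∉ q := by
  intro hfq
  obtain ⟨hqprime, m, hm⟩ := isAssociatedPrime_iff.mp (AssociatedPrimes.mem_iff.mp hq)
  rw [hm, Submodule.mem_colon_singleton, Submodule.mem_bot] at hfq
  have hm0 : m = 0 := hfreg m hfq
  apply hqprime.ne_top
  rw [hm, hm0, Ideal.eq_top_iff_one, Submodule.mem_colon_singleton, Submodule.mem_bot, smul_zero]

/-- if `f ∈ 𝔪` is a nonzerodivisor and `z ∉ fT` satisfies `𝔪 z ⊆ fT`, then `depth T_𝔪 ≤ 1` -/
theorem depth_le_one_of_socle (𝔪 : Ideal T) [hmax : 𝔪.IsMaximal]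
    (f : T) (hf𝔪 : f ∈ 𝔪) (hfreg : ∀ c : T, f * c = 0 → c = 0) (z : T) (hz : ∀ c : T, z ≠ f * c)
    (hsoc : ∀ a ∈ 𝔪, ∃ c : T, a * z = f * c) :
    LocCoh.depth (Localization.AtPrime 𝔪) (Localization.AtPrime 𝔪) ≤ 1 := by
  haveI : 𝔪.IsPrime := hmax.isPrime
  have hmemf : ∀ w : T, w ∈ f • (⊤ : Submodule T T) ↔ ∃ c : T, w = f * c := by
    intro w
    rw [Submodule.mem_smul_pointwise_iff_exists]
    constructor
    · rintro ⟨b, -, hb⟩
      exact ⟨b, hb.symm⟩
    · rintro ⟨c, hc⟩
      exact ⟨c, trivial, hc.symm⟩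
  -- `𝔪` is an associated prime of `T / fT`
  have hAss : 𝔪 ∈ associatedPrimes T (QuotSMulTop f T) := by
    rw [AssociatedPrimes.mem_iff, isAssociatedPrime_iff]
    refine ⟨inferInstance, Submodule.Quotient.mk z, ?_⟩
    apply hmax.eq_of_le
    · intro htop
      have h1 : (1 : T) ∈ (⊥ : Submodule T (QuotSMulTop f T)).colon {Submodule.Quotient.mk z} := by
        rw [htop]; trivial
      rw [Submodule.mem_colon_singleton, Submodule.mem_bot, one_smul,
        Submodule.Quotient.mk_eq_zero, hmemf] at h1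
      obtain ⟨c, hc⟩ := h1
      exact hz c hc
    · intro a ha
      rw [Submodule.mem_colon_singleton, Submodule.mem_bot, ← Submodule.Quotient.mk_smul,
        Submodule.Quotient.mk_eq_zero, hmemf]
      obtain ⟨c, hc⟩ := hsoc a ha
      exact ⟨c, hc⟩
  have h1 := Groth.Agent.H72.DepthLocIneq.depth_localization_le_height_of_mem_associatedPrimes
    (QuotSMulTop f T) 𝔪 𝔪 le_rfl hAss
  have h0 : (𝔪.map (Ideal.Quotient.mk 𝔪)).height = 0 := by
    rw [Ideal.map_quotient_self]
    exact Ideal.height_bot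
  rw [h0] at h1
  have hreg' : IsSMulRegular (LocalizedModule 𝔪.primeCompl T)
      (algebraMap T (Localization.AtPrime 𝔪) f) :=
    Groth.Agent.H72.DepthLocIneq.isSMulRegular_localization_of_notMem T 𝔪 f
      (fun q hq _ => notMem_of_mem_associatedPrimes hfreg q hq)
  have h2 := Groth.Agent.H72.DepthLocIneq.depth_localization_le_quot_add_one T 𝔪 f hf𝔪 hreg'
  rw [Groth.Agent.H72.DepthCM.depth_localizedModule_self] at h2
  calc LocCoh.depth (Localization.AtPrime 𝔪) (Localization.AtPrime 𝔪)
      ≤ LocCoh.depth (Localization.AtPrime 𝔪)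
          (LocalizedModule 𝔪.primeCompl (QuotSMulTop f T)) + 1 := h2
    _ ≤ 0 + 1 := by gcongr
    _ = 1 := zero_add 1

end Socle

section Graded

variable {k : Type u} [Field k] {R : Type u} [CommRing R] [Algebra k R]
  (𝒜 : ℤ → Submodule k R) [GradedAlgebra 𝒜]
  (hpos : ∀ n : ℤ, n < 0 → 𝒜 n = ⊥) (h0 : 𝒜 0 = Submodule.span k {(1 : R)})

include hpos h0 in
/-- the irrelevant ideal of a graded finite type algebra has height `dim R` -/
theorem le_height_irr [Algebra.FiniteType k R] (r : ℕ) (hr : (r : WithBot ℕ∞) ≤ ringKrullDim R) :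
    (r : ℕ∞) ≤ (irr 𝒜).height := by
  have hI : (r : WithBot ℕ∞) ≤ ringKrullDim (R ⧸ (⊥ : Ideal R)) := by
    rw [ringKrullDim_eq_of_ringEquiv (RingEquiv.quotientBot R)]
    exact hr
  obtain ⟨p, hp, hdim⟩ := exists_minimalPrimes_le_ringKrullDim_quotient _ r hI
  haveI hpprime : p.IsPrime := hp.1.1
  have hbot : (⊥ : Ideal R).IsHomogeneous 𝒜 := Ideal.IsHomogeneous.bot 𝒜
  have hphom : p.IsHomogeneous 𝒜 := isHomogeneous_of_mem_minimalPrimes 𝒜 _ hbot p hp
  have hple : p ≤ irr 𝒜 := le_irr 𝒜 hpos h0 p hphom hpprime.ne_top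
  set P' : Ideal (R ⧸ p) := (irr 𝒜).map (Ideal.Quotient.mk p) with hP'
  have hcomap : irr 𝒜 = P'.comap (Ideal.Quotient.mk p) := (Ideal.comap_map_mk hple).symm
  haveI : Nontrivial R := ⟨⟨0, 1, fun h => hpprime.ne_top (by
    rw [Ideal.eq_top_iff_one, ← h]; exact zero_mem _)⟩⟩
  have hmax : (irr 𝒜).IsMaximal := irr_isMaximal 𝒜 hpos h0
  haveI hP'max : P'.IsMaximal := by
    rcases Ideal.map_eq_top_or_isMaximal_of_surjective (Ideal.Quotient.mk p)
      Ideal.Quotient.mk_surjective hmax with h | h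
    · exfalso
      apply hmax.ne_top
      rw [hcomap, hP', h, Ideal.comap_top]
    · exact h
  have hht := Groth.Agent.H14.height_of_isMaximal_of_finiteType_domain k (R ⧸ p) P'
  have h5 := Groth.Agent.H72.DepthLocIneq.height_le_height_comap (Ideal.Quotient.mk p)
    (PrimeSpectrum.comap_injective_of_surjective _ Ideal.Quotient.mk_surjective) P'
  rw [← hcomap] at h5
  rw [← hht] at hdim
  have h6 : (r : ℕ∞) ≤ P'.height := by exact_mod_cast hdim
  exact h6.trans h5

include hpos h0 in
/-- a graded Cohen–Macaulay ring of positive dimension has a homogeneous nonzerodivisor of positive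
degree -/
theorem exists_posHom_regular [Algebra.FiniteType k R] [hCM : LocCoh.IsCohenMacaulayRing R]
    (h1 : 1 ≤ ringKrullDim R) :
    ∃ x : R, PosHom 𝒜 x ∧ ∀ c : R, x * c = 0 → c = 0 := by
  classical
  haveI : IsNoetherianRing R := Algebra.FiniteType.isNoetherianRing k R
  haveI : Nontrivial R := by
    by_contra hnt
    rw [not_nontrivial_iff_subsingleton] at hnt
    rw [ringKrullDim_eq_bot_of_subsingleton] at h1
    exact absurd h1 (by simp)
  have hmax : (irr 𝒜).IsMaximal := irr_isMaximal 𝒜 hpos h0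
  haveI : (irr 𝒜).IsPrime := hmax.isPrime
  have hht : (1 : ℕ∞) ≤ (irr 𝒜).height := by
    have := le_height_irr 𝒜 hpos h0 1 (by exact_mod_cast h1)
    exact_mod_cast this
  have hCMloc := hCM.isCohenMacaulayLocalRing_localization (irr 𝒜)
  have hdep := hCMloc.supportDim_eq_depth
  rw [Module.supportDim_self_eq_ringKrullDim,
    IsLocalization.AtPrime.ringKrullDim_eq_height (irr 𝒜) (Localization.AtPrime (irr 𝒜)),
    WithBot.coe_inj] at hdep
  -- the irrelevant ideal is not an associated prime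
  have hnotAss : irr 𝒜 ∉ associatedPrimes R R := by
    intro hAss
    have h2 := Groth.Agent.H72.DepthLocIneq.depth_localization_le_height_of_mem_associatedPrimes
      R (irr 𝒜) (irr 𝒜) le_rfl hAss
    rw [Ideal.map_quotient_self, Ideal.height_bot,
      Groth.Agent.H72.DepthCM.depth_localizedModule_self, ← hdep] at h2
    have := hht.trans h2
    simp at this
  have hfin : (associatedPrimes R R).Finite := associatedPrimes.finite R R
  obtain ⟨x, hx, hxnot⟩ := exists_posHom_notMem 𝒜 hfin.toFinset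
    (fun p hp => (hfin.mem_toFinset.mp hp).isPrime)
    (fun p hp hle => by
      have hp' := hfin.mem_toFinset.mp hp
      have : irr 𝒜 = p := hmax.eq_of_le hp'.isPrime.ne_top hle
      exact hnotAss (this ▸ hp'))
  refine ⟨x, hx, ?_⟩
  have hreg : IsSMulRegular R x := by
    by_contra hcon
    have hmem : x ∈ ⋃ p ∈ associatedPrimes R R, (p : Set R) := by
      rw [biUnion_associatedPrimes_eq_compl_regular]
      exact hcon
    simp only [Set.mem_iUnion] at hmem
    obtain ⟨p, hp, hxp⟩ := hmem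
    exact hxnot p (hfin.mem_toFinset.mpr hp) hxp
  intro c hc
  exact hreg.right_eq_zero_of_smul hc

end Graded

end Groth.Agent.H85.DepthSocle
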