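import Groth.Agent.H85.SlopePart
import Mathlib.LinearAlgebra.Matrix.NonsingularInverse
import Mathlib.LinearAlgebra.Matrix.ToLin

set_option autoImplicit false
set_option linter.unusedSectionVars false

noncomputable section

open scoped Isocrystal Pointwise
open Filter Topology Module

universe u v v'

namespace Groth.Agent.H85

variable {p : ℕ} [Fact p.Prime] {k : Type u} [Field k] [CharP k p] [PerfectRing k p]

local notation "W" => WittVector p k
local notation "L" => FractionRing (WittVector p k)

variable {N : Type v} [AddCommGroup N] [Module (WittVector p k) N] [Module (FractionRing (WittVector p k)) N]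
  [IsScalarTower (WittVector p k) (FractionRing (WittVector p k)) N]

variable {h : ℕ}

/-! ### determinants of matrices with entries in `p^r W` -/

theorem memPW_one : MemPW (p := p) (k := k) 0 1 := by
  simpa using memPW_algebraMap (p := p) (k := k) 1

theorem memPW_det {n : Type*} [Fintype n] [DecidableEq n] (A : Matrix n n L) (r : ℤ)
    (hA : ∀ i j, MemPW r (A i j)) : MemPW (r * Fintype.card n) A.det := by
  rw [Matrix.det_apply]
  apply memPW_sum
  intro σ _
  have h1 : MemPW (r * Fintype.card n) (∏ i, A (σ i) i) := by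
    have := memPW_prod Finset.univ r (fun i => A (σ i) i) (fun i _ => hA _ _)
    simpa using this
  rcases Int.units_eq_one_or (Equiv.Perm.sign σ) with h | h
  · rw [h, one_smul]; exact h1
  · rw [h, Units.neg_smul, one_smul]; exact h1.neg

/-- the matrix of a function in a basis -/
def matC (b : Basis (Fin h) L N) (G : N → N) : Matrix (Fin h) (Fin h) L :=
  Matrix.of fun i j => b.repr (G (b j)) i

/-- the determinant coefficient of a function in a basis -/
def detC (b : Basis (Fin h) L N) (G : N → N) : L := (matC b G).det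

theorem detCoeff_eq_detC {τ : L →+* L} (b : Basis (Fin h) L N) (F : N →ₛₗ[τ] N) :
    Isoc.detCoeff b F = detC b (⇑F) := rfl

/-- a function which is additive and `T`-semilinear -/
def SemiWith (T : Twist p k) (G : N → N) : Prop :=
  (∀ x y, G (x + y) = G x + G y) ∧ ∀ (c : L) (x : N), G (c • x) = T.ρ c • G x

theorem SemiWith.isSemi {T : Twist p k} {G : N → N} (h : SemiWith T G) : IsSemi (p := p) (k := k) G :=
  ⟨T, h.1, h.2⟩

theorem IsSemi.exists_semiWith {G : N → N} (h : IsSemi (p := p) (k := k) G) : ∃ T : Twist p k, SemiWith T G :=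
  h

theorem SemiWith.apply_eq_sum {T : Twist p k} {G : N → N} (hG : SemiWith T G) (b : Basis (Fin h) L N)
    (x : N) : G x = ∑ i, T.ρ (b.repr x i) • G (b i) := by
  conv_lhs => rw [← b.sum_repr x]
  rw [hG.isSemi.map_sum]
  apply Finset.sum_congr rfl
  intro i _
  rw [hG.2]

theorem SemiWith.repr_apply {T : Twist p k} {G : N → N} (hG : SemiWith T G) (b : Basis (Fin h) L N)
    (x : N) (l : Fin h) : b.repr (G x) l = ∑ i, matC b G l i * T.ρ (b.repr x i) := by
  rw [hG.apply_eq_sum b x, map_sum, Finsupp.coe_finsetSum, Finset.sum_apply]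
  apply Finset.sum_congr rfl
  intro i _
  rw [map_smul, Finsupp.smul_apply, smul_eq_mul, mul_comm]
  rfl

theorem matC_comp {T : Twist p k} {G₁ : N → N} (hG₁ : SemiWith T G₁) (G₂ : N → N)
    (b : Basis (Fin h) L N) :
    matC b (G₁ ∘ G₂) = matC b G₁ * (matC b G₂).map T.ρ := by
  ext l j
  rw [Matrix.mul_apply]
  change b.repr (G₁ (G₂ (b j))) l = _
  rw [hG₁.repr_apply b]
  rfl

theorem detC_comp {T : Twist p k} {G₁ : N → N} (hG₁ : SemiWith T G₁) (G₂ : N → N)
    (b : Basis (Fin h) L N) :
    detC b (G₁ ∘ G₂) = detC b G₁ * T.ρ (detC b G₂) := by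
  unfold detC
  rw [matC_comp hG₁, Matrix.det_mul]
  congr 1
  have := RingHom.map_det (T.ρ : L →+* L) (matC b G₂)
  rw [RingHom.mapMatrix_apply] at this
  exact this.symm

theorem matC_id (b : Basis (Fin h) L N) : matC b (id : N → N) = 1 := by
  ext i j
  change b.repr (b j) i = _
  rw [b.repr_self, Matrix.one_apply, Finsupp.single_apply]
  simp only [eq_comm]

theorem detC_id (b : Basis (Fin h) L N) : detC b (id : N → N) = 1 := by
  rw [detC, matC_id, Matrix.det_one]

theorem isOrdP_detC_comp {G₁ G₂ : N → N} (hG₁ : IsSemi (p := p) (k := k) G₁) (b : Basis (Fin h) L N)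
    {d₁ d₂ : ℤ} (h₁ : Isoc.IsOrdP (detC b G₁) d₁) (h₂ : Isoc.IsOrdP (detC b G₂) d₂) :
    Isoc.IsOrdP (detC b (G₁ ∘ G₂)) (d₁ + d₂) := by
  obtain ⟨T, hT⟩ := hG₁.exists_semiWith
  rw [detC_comp hT]
  exact isOrdP_mul h₁ (T.isOrdP_map h₂)

theorem isOrdP_detC_iterate {G : N → N} (hG : IsSemi (p := p) (k := k) G) (b : Basis (Fin h) L N)
    {d : ℤ} (hd : Isoc.IsOrdP (detC b G) d) (n : ℕ) : Isoc.IsOrdP (detC b (G^[n])) (n * d) := by
  induction n with
  | zero =>
    rw [Function.iterate_zero, detC_id]
    simpa using isOrdP_one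
  | succ n ih =>
    rw [Function.iterate_succ]
    have := isOrdP_detC_comp (hG.iterate n) b ih hd
    convert this using 1
    push_cast; ring

theorem matC_const_smul (b : Basis (Fin h) L N) (c : L) (G : N → N) :
    matC b (fun x => c • G x) = c • matC b G := by
  ext i j
  change b.repr (c • G (b j)) i = _
  rw [map_smul]
  rfl

theorem detC_const_smul (b : Basis (Fin h) L N) (c : L) (G : N → N) :
    detC b (fun x => c • G x) = c ^ h * detC b G := by
  unfold detC
  rw [matC_const_smul, Matrix.det_smul, Fintype.card_fin]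

theorem isOrdP_detC_twistIter {G : N → N} (hG : IsSemi (p := p) (k := k) G) (b : Basis (Fin h) L N)
    {d : ℤ} (hd : Isoc.IsOrdP (detC b G) d) (m : ℤ) (n : ℕ) :
    Isoc.IsOrdP (detC b (twistIter p k G m n)) (h * m + n * d) := by
  unfold twistIter
  rw [detC_const_smul]
  exact isOrdP_mul (isOrdP_pow (isOrdP_p_zpow m) h) (isOrdP_detC_iterate hG b hd n)

/-! ### change of basis -/

theorem isOrdP_detC_basis_change {G : N → N} (hG : IsSemi (p := p) (k := k) G)
    (b b' : Basis (Fin h) L N) {d : ℤ} (hd : Isoc.IsOrdP (detC b G) d) :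
    Isoc.IsOrdP (detC b' G) d := by
  obtain ⟨T, hT⟩ := hG.exists_semiWith
  let φ : N ≃ₗ[L] N := b.equiv b' (Equiv.refl _)
  have hφb : ∀ j, φ (b j) = b' j := fun j => by simp [φ]
  have hrepr : ∀ y, b'.repr y = b.repr (φ.symm y) := by
    intro y
    have h1 : b' = b.map φ := by
      apply Basis.eq_of_apply_eq
      intro i
      rw [Basis.map_apply, hφb]
    rw [h1, Basis.map_repr]
    rfl
  have hφsemi : SemiWith (Twist.one p k) (⇑φ) := ⟨fun x y => map_add φ x y, fun c x => map_smul φ c x⟩
  have hφsymm : SemiWith (Twist.one p k) (⇑φ.symm) :=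
    ⟨fun x y => map_add φ.symm x y, fun c x => map_smul φ.symm c x⟩
  have hmat : matC b' G = matC b (⇑φ.symm ∘ G ∘ ⇑φ) := by
    ext i j
    change b'.repr (G (b' j)) i = b.repr (φ.symm (G (φ (b j)))) i
    rw [hrepr, hφb]
  have hdet : detC b' G = detC b (⇑φ.symm) * (detC b G * T.ρ (detC b (⇑φ))) := by
    unfold detC at *
    rw [hmat]
    have := detC_comp hφsymm (G ∘ ⇑φ) b
    unfold detC at this
    rw [this]
    have h2 := detC_comp hT (⇑φ) b
    unfold detC at h2
    rw [h2]
    rfl
  have hinv : detC b (⇑φ.symm) * detC b (⇑φ) = 1 := by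
    have := detC_comp hφsymm (⇑φ) b
    have hid : (⇑φ.symm ∘ ⇑φ) = id := by
      funext x; simp
    rw [hid, detC_id] at this
    rw [this]
    rfl
  have hne : detC b (⇑φ) ≠ 0 := right_ne_zero_of_mul_eq_one hinv
  obtain ⟨e, he⟩ := exists_isOrdP hne
  have he' : Isoc.IsOrdP (detC b (⇑φ.symm)) (-e) := by
    have : detC b (⇑φ.symm) = (detC b (⇑φ))⁻¹ := eq_inv_of_mul_eq_one_left hinv
    rw [this]
    exact isOrdP_inv he
  rw [hdet]
  have := isOrdP_mul he' (isOrdP_mul hd (T.isOrdP_map he))
  convert this using 1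
  ring

/-! ### the standard lattice of a basis -/

/-- the `W`-span of a basis -/
def stdLat (b : Basis (Fin h) L N) : Submodule W N := Submodule.span W (Set.range b)

theorem mem_stdLat (b : Basis (Fin h) L N) {x : N} :
    x ∈ stdLat b ↔ ∀ i, MemPW (p := p) (k := k) 0 (b.repr x i) := by
  constructor
  · intro hx i
    unfold stdLat at hx
    induction hx using Submodule.span_induction with
    | mem y hy =>
      obtain ⟨j, rfl⟩ := hy
      rw [b.repr_self, Finsupp.single_apply]
      split_ifs
      · exact memPW_one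
      · exact memPW_zero 0
    | zero => simpa using memPW_zero (p := p) (k := k) 0
    | add y z _ _ hy hz =>
      rw [map_add, Finsupp.add_apply]
      exact hy.add hz
    | smul w y _ hy =>
      rw [← algebraMap_smul L w y, map_smul, Finsupp.smul_apply, smul_eq_mul]
      have := (memPW_algebraMap (p := p) (k := k) w).mul hy
      simpa using this
  · intro hx
    rw [← b.sum_repr x]
    apply Submodule.sum_mem
    intro i _
    obtain ⟨w, hw⟩ := hx i
    rw [hw, zpow_zero, one_mul, algebraMap_smul]
    exact Submodule.smul_mem _ _ (Submodule.subset_span ⟨i, rfl⟩)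

theorem mem_pPow_stdLat (b : Basis (Fin h) L N) {r : ℤ} {x : N} :
    x ∈ Isoc.pPow r (stdLat b) ↔ ∀ i, MemPW (p := p) (k := k) r (b.repr x i) := by
  rw [mem_pPow, mem_stdLat]
  apply forall_congr'
  intro i
  rw [map_smul, Finsupp.smul_apply, smul_eq_mul]
  have := memPW_pow_mul_iff (p := p) (k := k) (r := r) (s := -r) (c := b.repr x i)
  rw [neg_add_cancel] at this
  exact this

theorem basis_mem_stdLat (b : Basis (Fin h) L N) (j : Fin h) : b j ∈ stdLat (p := p) (k := k) b :=
  Submodule.subset_span ⟨j, rfl⟩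

theorem stdLat_isLattice (b : Basis (Fin h) L N) : (stdLat (p := p) (k := k) b).IsLattice L := by
  refine ⟨Submodule.fg_span (Set.finite_range b), ?_⟩
  rw [eq_top_iff, ← b.span_eq]
  apply Submodule.span_mono
  exact Submodule.subset_span

theorem exists_basis_of_lattice [Module.Finite L N] {M : Submodule W N} (hM : M.IsLattice L)
    (b : Basis (Fin h) L N) : ∃ b' : Basis (Fin h) L N, M = stdLat b' := by
  have := hM
  have hfr : Module.finrank W M = h := by
    have h1 : Module.rank W M = Module.rank L N := Submodule.IsLattice.rank' L M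
    have h2 : Module.finrank W M = Module.finrank L N := by
      unfold Module.finrank; rw [h1]
    rw [h2, Module.finrank_eq_card_basis b, Fintype.card_fin]
  let b₀ : Basis (Fin h) W M := (Module.finBasis W M).reindex (finCongr hfr)
  let b' : Basis (Fin h) L N := b₀.extendOfIsLattice L
  refine ⟨b', ?_⟩
  have hb' : ∀ i, b' i = (b₀ i : N) := fun i => Basis.extendOfIsLattice_apply L b₀ i
  unfold stdLat
  have hrange : Set.range b' = M.subtype '' Set.range b₀ := by
    ext y
    constructor
    · rintro ⟨i, rfl⟩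
      exact ⟨b₀ i, ⟨i, rfl⟩, (hb' i).symm⟩
    · rintro ⟨_, ⟨i, rfl⟩, rfl⟩
      exact ⟨i, hb' i⟩
  rw [hrange, ← Submodule.map_span, b₀.span_eq, Submodule.map_top, Submodule.range_subtype]

/-! ### lattices and determinants -/

theorem memPW_detC_of_img_le {G : N → N} (b : Basis (Fin h) L N) {r : ℤ}
    (hle : img G (stdLat (p := p) (k := k) b) ≤ Isoc.pPow r (stdLat b)) :
    MemPW (r * h) (detC b G) := by
  have := memPW_det (matC b G) r (fun i j => by
    have h1 : G (b j) ∈ Isoc.pPow r (stdLat (p := p) (k := k) b) :=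
      hle (apply_mem_img G (basis_mem_stdLat b j))
    exact (mem_pPow_stdLat b).mp h1 i)
  unfold detC
  simpa using this

end Groth.Agent.H85
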