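import Groth.Agent.H85.Det

set_option autoImplicit false
set_option linter.unusedSectionVars false

noncomputable section

open scoped Isocrystal Pointwise
open Filter Topology Module

universe u v v'

namespace Groth.Agent.H85

variable {p : ℕ} [Fact p.Prime] {k : Type u} [Field k] [CharP k p] [PerfectRing k p]

local notation "W" => WittVector p k
local notation "L" => FractionRing (WittVector p k)

variable {N : Type v} [AddCommGroup N] [Module (WittVector p k) N] [Module (FractionRing (WittVector p k)) N]
  [IsScalarTower (WittVector p k) (FractionRing (WittVector p k)) N]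

variable {h : ℕ}

/-- `G^n M ⊆ p^e M` forces `e · h ≤ n · orddet(G)` -/
theorem mul_le_of_img_iterate_le [Module.Finite L N] {G : N → N} (hG : IsSemi (p := p) (k := k) G)
    (b : Basis (Fin h) L N) {d : ℤ} (hd : Isoc.IsOrdP (detC b G) d) {M : Submodule W N}
    (hM : M.IsLattice L) (n : ℕ) {e : ℤ} (hle : img (G^[n]) M ≤ Isoc.pPow e M) :
    e * h ≤ n * d := by
  obtain ⟨b', rfl⟩ := exists_basis_of_lattice hM b
  have h1 : MemPW (e * h) (detC b' (G^[n])) := memPW_detC_of_img_le b' hle
  have h2 : Isoc.IsOrdP (detC b' (G^[n])) (n * d) :=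
    isOrdP_detC_iterate hG b' (isOrdP_detC_basis_change hG b b' hd) n
  exact isOrdP_le_of_memPW h2 h1

end Groth.Agent.H85
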