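import Groth.Agent.H85.Det2

set_option autoImplicit false
set_option linter.unusedSectionVars false

noncomputable section

open scoped Isocrystal Pointwise
open Filter Topology Module

universe u v v'

namespace Groth.Agent.H85

variable {p : ℕ} [Fact p.Prime] {k : Type u} [Field k] [CharP k p] [PerfectRing k p]

local notation "W" => WittVector p k
local notation "L" => FractionRing (WittVector p k)

variable {N : Type v} [AddCommGroup N] [Module (WittVector p k) N] [Module (FractionRing (WittVector p k)) N]
  [IsScalarTower (WittVector p k) (FractionRing (WittVector p k)) N]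

variable {h : ℕ}

/-- an integral element whose inverse is integral has order zero -/
theorem isOrdP_zero_of_mul_eq_one {a c : L} (ha : MemPW (p := p) (k := k) 0 a) (hc : MemPW (p := p) (k := k) 0 c)
    (hac : a * c = 1) : Isoc.IsOrdP a 0 := by
  obtain ⟨a', rfl⟩ := ha
  obtain ⟨c', rfl⟩ := hc
  simp only [zpow_zero, one_mul] at hac ⊢
  rw [isOrdP_zero_iff_unit]
  have : a' * c' = 1 := algebraMap_W_injective (by rw [map_mul, hac, map_one])
  exact IsUnit.of_mul_eq_one _ this

/-- the inverse of an integral matrix with unit determinant is integral -/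
theorem memPW_inv {n : Type*} [Fintype n] [DecidableEq n] (A : Matrix n n L)
    (hA : ∀ i j, MemPW (p := p) (k := k) 0 (A i j)) (hdet : Isoc.IsOrdP A.det 0) (i j : n) :
    MemPW (p := p) (k := k) 0 (A⁻¹ i j) := by
  rw [Matrix.inv_def, Ring.inverse_eq_inv, Matrix.smul_apply, smul_eq_mul, Matrix.adjugate_apply]
  have h1 : MemPW (p := p) (k := k) 0 (A.det⁻¹) := by
    have := isOrdP_memPW (isOrdP_inv hdet)
    simpa using this
  have h2 : MemPW (p := p) (k := k) 0 (A.updateRow j (Pi.single i 1)).det := by
    have := memPW_det (A.updateRow j (Pi.single i 1)) 0 (fun a b => by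
      rw [Matrix.updateRow_apply]
      split_ifs
      · rw [Pi.single_apply]
        split_ifs
        · exact memPW_one
        · exact memPW_zero 0
      · exact hA a b)
    simpa using this
  simpa using h1.mul h2

theorem memPW_matC_of_img_le {G : N → N} (b : Basis (Fin h) L N) {r : ℤ}
    (hle : img G (stdLat (p := p) (k := k) b) ≤ Isoc.pPow r (stdLat b)) (i j : Fin h) :
    MemPW r (matC b G i j) := by
  have h1 : G (b j) ∈ Isoc.pPow r (stdLat (p := p) (k := k) b) :=
    hle (apply_mem_img G (basis_mem_stdLat b j))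
  exact (mem_pPow_stdLat b).mp h1 i

/-- if `G M = M` then the determinant is a unit -/
theorem isOrdP_detC_of_img_eq {G : N → N} (hG : IsSemi (p := p) (k := k) G) (b : Basis (Fin h) L N)
    (heq : img G (stdLat (p := p) (k := k) b) = stdLat b) : Isoc.IsOrdP (detC b G) 0 := by
  classical
  obtain ⟨T, hT⟩ := hG.exists_semiWith
  have hle : img G (stdLat (p := p) (k := k) b) ≤ Isoc.pPow 0 (stdLat b) := by
    rw [pPow_zero, heq]
  have hmem : ∀ j, ∃ m ∈ stdLat (p := p) (k := k) b, G m = b j := by
    intro j
    have : b j ∈ img G (stdLat (p := p) (k := k) b) := by rw [heq]; exact basis_mem_stdLat b j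
    exact (mem_img hG).mp this
  choose m hm hGm using hmem
  let B : Matrix (Fin h) (Fin h) L := Matrix.of fun i j => b.repr (m j) i
  have hB : ∀ i j, MemPW (p := p) (k := k) 0 (B i j) := fun i j => (mem_stdLat b).mp (hm j) i
  have hprod : matC b G * B.map T.ρ = 1 := by
    ext l j
    rw [Matrix.mul_apply]
    have := hT.repr_apply b (m j) l
    rw [hGm, b.repr_self, Finsupp.single_apply] at this
    rw [Matrix.one_apply]
    simp only [Matrix.map_apply, B, Matrix.of_apply]
    rw [← this]
    simp only [eq_comm]
  have hdet : detC b G * T.ρ B.det = 1 := by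
    have := congrArg Matrix.det hprod
    rw [Matrix.det_mul, Matrix.det_one] at this
    have h2 := RingHom.map_det (T.ρ : L →+* L) B
    rw [RingHom.mapMatrix_apply] at h2
    unfold detC
    rw [← this]
    congr 1
  have h1 : MemPW (p := p) (k := k) 0 (detC b G) := by
    have := memPW_detC_of_img_le b hle
    simpa using this
  have h2 : MemPW (p := p) (k := k) 0 (T.ρ B.det) := by
    apply T.memPW_map
    have := memPW_det B 0 hB
    simpa using this
  exact isOrdP_zero_of_mul_eq_one h1 h2 hdet

/-- if `G M = p^r M` then `orddet G = r h` -/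
theorem isOrdP_detC_of_img_eq_pPow {G : N → N} (hG : IsSemi (p := p) (k := k) G) (b : Basis (Fin h) L N)
    {r : ℤ} (heq : img G (stdLat (p := p) (k := k) b) = Isoc.pPow r (stdLat b)) :
    Isoc.IsOrdP (detC b G) (r * h) := by
  have hG' : IsSemi (p := p) (k := k) (fun x => ((p : L) ^ (-r)) • G x) := hG.const_smul _
  have h1 : img (fun x => ((p : L) ^ (-r)) • G x) (stdLat (p := p) (k := k) b) = stdLat b := by
    rw [img_const_smul, heq, pPow_pPow, neg_add_cancel, pPow_zero]
  have h2 := isOrdP_detC_of_img_eq hG' b h1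
  rw [detC_const_smul] at h2
  have h3 : detC b G = ((p : L) ^ r) ^ h * (((p : L) ^ (-r)) ^ h * detC b G) := by
    rw [← mul_assoc, ← mul_pow, ← zpow_add₀ pL_ne_zero, add_neg_cancel, zpow_zero, one_pow, one_mul]
  rw [h3]
  have := isOrdP_mul (isOrdP_pow (isOrdP_p_zpow (p := p) (k := k) r) h) h2
  convert this using 1
  ring

/-- if `G M ⊆ M` and the determinant is a unit then `G M = M` -/
theorem img_eq_of_isOrdP_detC_zero {G : N → N} (hG : IsSemi (p := p) (k := k) G) (b : Basis (Fin h) L N)
    (hle : img G (stdLat (p := p) (k := k) b) ≤ stdLat b) (hdet : Isoc.IsOrdP (detC b G) 0) :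
    img G (stdLat (p := p) (k := k) b) = stdLat b := by
  classical
  obtain ⟨T, hT⟩ := hG.exists_semiWith
  apply le_antisymm hle
  have hle0 : img G (stdLat (p := p) (k := k) b) ≤ Isoc.pPow 0 (stdLat b) := by rwa [pPow_zero]
  have hA : ∀ i j, MemPW (p := p) (k := k) 0 (matC b G i j) := memPW_matC_of_img_le b hle0
  have hAinv := memPW_inv (matC b G) hA hdet
  have hunit : IsUnit (matC b G).det := by
    have : (matC b G).det ≠ 0 := isOrdP_ne_zero hdet
    exact isUnit_iff_ne_zero.mpr this
  intro y hy
  rw [mem_img hG]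
  -- coordinates of the preimage
  let c : Fin h → L := fun i => T.ρ.symm (∑ l, (matC b G)⁻¹ i l * b.repr y l)
  have hc : ∀ i, MemPW (p := p) (k := k) 0 (c i) := by
    intro i
    apply T.symm.memPW_map
    apply memPW_sum
    intro l _
    have := (hAinv i l).mul ((mem_stdLat b).mp hy l)
    simpa using this
  refine ⟨∑ i, c i • b i, ?_, ?_⟩
  · rw [mem_stdLat]
    intro i
    have : b.repr (∑ i, c i • b i) i = c i := by
      rw [b.repr_sum_self]
    rw [this]
    exact hc i
  · apply b.repr.injective
    ext l
    rw [hT.repr_apply b]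
    have h1 : ∀ i, T.ρ (b.repr (∑ i, c i • b i) i) = ∑ l, (matC b G)⁻¹ i l * b.repr y l := by
      intro i
      rw [b.repr_sum_self]
      simp only [c, RingEquiv.apply_symm_apply]
    simp only [h1]
    have h2 : ∑ i, matC b G l i * ∑ l', (matC b G)⁻¹ i l' * b.repr y l' =
        ((matC b G * (matC b G)⁻¹).mulVec (fun l' => b.repr y l')) l := by
      rw [← Matrix.mulVec_mulVec]
      simp only [Matrix.mulVec, dotProduct]
    rw [h2, Matrix.mul_nonsing_inv _ hunit, Matrix.one_mulVec]

end Groth.Agent.H85
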