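import Mathlib

/-!
# `exp` and `log` as mutually inverse power series; linear ODE uniqueness
(helper for S13075, S13056)
-/

set_option autoImplicit false

open PowerSeries

namespace Groth.Agent.H85.ExpLog

section ODE

variable {A : Type*} [CommRing A] [IsAddTorsionFree A]

/-- Uniqueness for the linear ODE `y' = a y`. -/
theorem ode_unique_zero {a z : A⟦X⟧} (h : d⁄dX A z = a * z) (h0 : constantCoeff z = 0) :
    z = 0 := by
  ext n
  rw [map_zero]
  induction n using Nat.strong_induction_on with
  | _ n ih =>
    cases n with
    | zero => rw [coeff_zero_eq_constantCoeff, h0]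
    | succ n =>
      have h1 : coeff n (d⁄dX A z) = coeff n (a * z) := by rw [h]
      rw [coeff_derivative, coeff_mul] at h1
      have h2 : ∑ p ∈ Finset.HasAntidiagonal.antidiagonal n, coeff p.1 a * coeff p.2 z = 0 := by
        apply Finset.sum_eq_zero
        intro p hp
        rw [Finset.HasAntidiagonal.mem_antidiagonal] at hp
        rw [ih p.2 (by omega), mul_zero]
      rw [h2] at h1
      have h3 : (n + 1) • coeff (n + 1) z = 0 := by
        rw [nsmul_eq_mul, mul_comm]; exact_mod_cast h1
      exact (smul_eq_zero_iff_right (Nat.succ_ne_zero n)).mp h3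

theorem ode_unique {a y₁ y₂ : A⟦X⟧} (h₁ : d⁄dX A y₁ = a * y₁) (h₂ : d⁄dX A y₂ = a * y₂)
    (h0 : constantCoeff y₁ = constantCoeff y₂) : y₁ = y₂ := by
  rw [← sub_eq_zero]
  apply ode_unique_zero (a := a)
  · rw [map_sub, h₁, h₂, mul_sub]
  · rw [map_sub, h0, sub_self]

end ODE

section Geom

variable (A : Type*) [CommRing A] [Algebra ℚ A]

/-- The geometric series `1 - X + X² - ⋯`. -/
noncomputable def geom : A⟦X⟧ := mk fun n ↦ algebraMap ℚ A ((-1 : ℚ) ^ n)

theorem geom_mul : geom A * (1 + X) = 1 := by
  ext n
  rw [mul_add, mul_one, map_add]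
  cases n with
  | zero => simp [geom]
  | succ n =>
    rw [coeff_succ_mul_X, geom, coeff_mk, coeff_mk, coeff_one, if_neg (Nat.succ_ne_zero n),
      ← map_add, pow_succ]
    simp

theorem constantCoeff_geom : constantCoeff (geom A) = 1 := by
  rw [← coeff_zero_eq_constantCoeff_apply, geom, coeff_mk]; simp

end Geom

theorem constantCoeff_subst_of_zero {A : Type*} [CommRing A] {a f : A⟦X⟧}
    (ha : constantCoeff a = 0) : constantCoeff (f.subst a) = constantCoeff f := by
  have hs : HasSubst a := HasSubst.of_constantCoeff_zero' ha
  have hf : f = C (constantCoeff f) + (f - C (constantCoeff f)) := by ring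
  conv_lhs => rw [hf]
  rw [subst_add hs, map_add]
  have h1 : constantCoeff ((f - C (constantCoeff f)).subst a) = 0 := by
    apply constantCoeff_subst_eq_zero ha
    rw [map_sub, constantCoeff_C, sub_self]
  rw [h1, add_zero, subst_C]
  exact constantCoeff_C _

section ExpLog

variable (A : Type*) [CommRing A] [Algebra ℚ A] [IsAddTorsionFree A]

theorem log_subst_exp : (log A).subst (exp A - 1) = X := by
  have hs : HasSubst (exp A - 1) := HasSubst.exp_sub_one
  apply derivative.ext
  · rw [derivative_subst hs, deriv_log, derivative_X, map_sub, derivative_exp, derivative_one,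
      sub_zero]
    have h := congrArg (subst (exp A - 1)) (geom_mul A)
    rw [subst_mul hs, subst_add hs, subst_X hs] at h
    have h1 : (1 : A⟦X⟧).subst (exp A - 1) = 1 := by
      rw [← map_one C, subst_C]; rfl
    rw [h1] at h
    have h2 : (1 : A⟦X⟧) + (exp A - 1) = exp A := by ring
    rw [h2] at h
    exact h
  · rw [constantCoeff_X]
    apply constantCoeff_subst_eq_zero
    · change constantCoeff (exp A - 1) = 0
      rw [map_sub, constantCoeff_exp, map_one, sub_self]
    · exact constantCoeff_log

theorem exp_subst_log : (exp A).subst (log A) = 1 + X := by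
  have hs : HasSubst (log A) := HasSubst.log
  apply ode_unique (a := geom A)
  · rw [derivative_subst hs, derivative_exp, deriv_log, mul_comm]; rfl
  · rw [map_add, derivative_one, derivative_X, zero_add, geom_mul]
  · rw [constantCoeff_subst_of_zero constantCoeff_log, constantCoeff_exp, map_add,
      constantCoeff_one, constantCoeff_X, add_zero]

end ExpLog

end Groth.Agent.H85.ExpLog
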