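import Mathlib

/-!
# Jacobi's formula for a derivation applied to a determinant
-/

set_option autoImplicit false

open Matrix Finset

namespace Groth.Agent.H85.Jacobi

variable {S R : Type*} [CommRing S] [CommRing R] [Algebra S R]

theorem derivation_prod {ι : Type*} [DecidableEq ι] (D : Derivation S R R) (s : Finset ι)
    (f : ι → R) :
    D (∏ i ∈ s, f i) = ∑ j ∈ s, (∏ i ∈ s.erase j, f i) * D (f j) := by
  induction s using Finset.induction_on with
  | empty => simp
  | insert a s ha ih =>
    rw [Finset.prod_insert ha, Derivation.leibniz, ih, Finset.sum_insert ha,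
      Finset.erase_insert ha, smul_eq_mul, smul_eq_mul, add_comm, Finset.mul_sum]
    congr 1
    apply Finset.sum_congr rfl
    intro j hj
    have hne : j ≠ a := fun h => ha (h ▸ hj)
    rw [Finset.erase_insert_of_ne hne.symm, Finset.prod_insert (by
      rw [Finset.mem_erase]; exact fun h => ha h.2), mul_assoc]

variable {n : Type*} [Fintype n] [DecidableEq n]

theorem derivation_det (D : Derivation S R R) (A : Matrix n n R) :
    D A.det = ∑ j, (A.updateCol j fun k => D (A k j)).det := by
  simp_rw [Matrix.det_apply, map_sum, Units.smul_def, map_zsmul]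
  rw [Finset.sum_comm]
  apply Finset.sum_congr rfl
  intro σ _
  rw [← Finset.smul_sum]
  congr 1
  rw [derivation_prod]
  apply Finset.sum_congr rfl
  intro j _
  rw [← Finset.mul_prod_erase univ _ (mem_univ j), Matrix.updateCol_self, mul_comm]
  congr 1
  apply Finset.prod_congr rfl
  intro i hi
  rw [Matrix.updateCol_ne (Finset.ne_of_mem_erase hi)]

/-- **Jacobi's formula**: `D (det A) = tr (adj A * D A)`. -/
theorem derivation_det_eq_trace (D : Derivation S R R) (A : Matrix n n R) :
    D A.det = (A.adjugate * A.map D).trace := by
  rw [derivation_det, Matrix.trace]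
  apply Finset.sum_congr rfl
  intro j _
  rw [Matrix.diag_apply, ← Matrix.cramer_apply, Matrix.cramer_eq_adjugate_mulVec, Matrix.mulVec,
    Matrix.mul_apply]
  rfl

end Groth.Agent.H85.Jacobi
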