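import Mathlib
import Groth.Agent.H85.ExpLog
import Groth.Agent.H85.Jacobi

/-!
# `det (1 - tM) = exp (-∑ tr(M^m) t^m / m)` (helper for S13056)
-/

set_option autoImplicit false
set_option linter.unusedSectionVars false

open PowerSeries Matrix

namespace Groth.Agent.H85.DetExp

variable {K : Type*} [Field K] [CharZero K]
variable {n : Type*} [Fintype n] [DecidableEq n] (M : Matrix n n K)

example : IsAddTorsionFree K := inferInstance

/-- `1 - X • M` over `K⟦X⟧`. -/
noncomputable def A : Matrix n n K⟦X⟧ := 1 - (X : K⟦X⟧) • M.map (C : K → K⟦X⟧)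

/-- Its inverse `∑ X^m M^m`. -/
noncomputable def Ainv : Matrix n n K⟦X⟧ := Matrix.of fun i j => mk fun m => (M ^ m) i j

theorem det_A : (A M).det = ((M.charpolyRev : Polynomial K) : K⟦X⟧) := by
  unfold Matrix.charpolyRev A
  have := RingHom.map_det (Polynomial.coeToPowerSeries.ringHom (R := K))
    (1 - (Polynomial.X : Polynomial K) • M.map Polynomial.C)
  rw [Polynomial.coeToPowerSeries.ringHom_apply] at this
  rw [this]
  congr 1
  ext i j : 1
  by_cases hij : i = j <;>
    simp [hij, Polynomial.coeToPowerSeries.ringHom_apply] <;> exact mul_comm _ _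

theorem A_mul_Ainv : A M * Ainv M = 1 := by
  ext i k : 1
  rw [A, Matrix.sub_mul, Matrix.one_mul, Matrix.smul_mul, Matrix.sub_apply, Matrix.smul_apply,
    Matrix.mul_apply, smul_eq_mul]
  ext m
  simp only [map_sub, Ainv, Matrix.of_apply, Matrix.map_apply, coeff_mk]
  cases m with
  | zero =>
    simp [Matrix.one_apply]
  | succ m =>
    rw [mul_comm, coeff_succ_mul_X, map_sum]
    simp only [coeff_C_mul, coeff_mk]
    rw [pow_succ', Matrix.mul_apply, sub_self]
    by_cases hik : i = k <;> simp [Matrix.one_apply, hik]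

theorem adjugate_A : (A M).adjugate = (A M).det • Ainv M := by
  calc (A M).adjugate = (A M).adjugate * (A M * Ainv M) := by rw [A_mul_Ainv, Matrix.mul_one]
    _ = ((A M).adjugate * A M) * Ainv M := by rw [Matrix.mul_assoc]
    _ = (A M).det • Ainv M := by rw [Matrix.adjugate_mul, Matrix.smul_mul, Matrix.one_mul]

theorem map_D_A : (A M).map (d⁄dX K) = -(M.map (C : K → K⟦X⟧)) := by
  ext i j : 1
  simp only [A, Matrix.map_apply, Matrix.sub_apply, Matrix.smul_apply, Matrix.neg_apply,
    smul_eq_mul, map_sub]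
  have h1 : (d⁄dX K) ((1 : Matrix n n K⟦X⟧) i j) = 0 := by
    by_cases hij : i = j
    · rw [hij, Matrix.one_apply_eq, derivative_one]
    · rw [Matrix.one_apply_ne hij, map_zero]
  rw [h1, zero_sub, Derivation.leibniz, derivative_X, derivative_C]
  simp

/-- The series `∑ tr(M^(m+1)) X^m`. -/
noncomputable def trSeries : K⟦X⟧ := mk fun m => Matrix.trace (M ^ (m + 1))

theorem trace_Ainv_mul : (Ainv M * M.map (C : K → K⟦X⟧)).trace = trSeries M := by
  ext m
  simp only [Matrix.trace, Matrix.diag_apply, Matrix.mul_apply, map_sum, Ainv, Matrix.of_apply,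
    Matrix.map_apply, trSeries, coeff_mk, coeff_mul_C, pow_succ]

theorem derivative_det_A : d⁄dX K (A M).det = -trSeries M * (A M).det := by
  rw [Jacobi.derivation_det_eq_trace, adjugate_A, map_D_A, Matrix.mul_neg, Matrix.trace_neg,
    Matrix.smul_mul, Matrix.trace_smul, trace_Ainv_mul, smul_eq_mul]
  ring

/-- The exponent series `-∑ tr(M^m) X^m / m`. -/
noncomputable def S : K⟦X⟧ := mk fun m : ℕ => -(Matrix.trace (M ^ m)) / (m : K)

theorem constantCoeff_S : constantCoeff (S M) = 0 := by
  rw [← coeff_zero_eq_constantCoeff_apply, S, coeff_mk]; simp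

theorem derivative_S : d⁄dX K (S M) = -trSeries M := by
  ext m
  rw [coeff_derivative, S, coeff_mk, map_neg, trSeries, coeff_mk]
  have : ((m : K) + 1) ≠ 0 := Nat.cast_add_one_ne_zero m
  push_cast
  field_simp

theorem main : ((M.charpolyRev : Polynomial K) : K⟦X⟧) = (exp K).subst (S M) := by
  have hs : HasSubst (S M) := HasSubst.of_constantCoeff_zero' (constantCoeff_S M)
  rw [← det_A]
  apply ExpLog.ode_unique (a := -trSeries M)
  · exact derivative_det_A M
  · rw [derivative_subst hs, derivative_exp, derivative_S, mul_comm]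
  · rw [ExpLog.constantCoeff_subst_of_zero (constantCoeff_S M), constantCoeff_exp, det_A,
      ← coeff_zero_eq_constantCoeff_apply, Polynomial.coeff_coe, Polynomial.coeff_zero_eq_eval_zero,
      Matrix.eval_charpolyRev]

end Groth.Agent.H85.DetExp
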