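import Mathlib

/-!
# The determinant of an integral matrix over a domain is integral
-/

set_option autoImplicit false

namespace Groth.Agent.H85.DetIntegral

open Polynomial

/-- If a square matrix over a domain `D` is integral over `A'` (as an element of the matrix
algebra), then so is its determinant: its eigenvalues in an algebraic closure are roots of the
same monic polynomial. -/
theorem isIntegral_det {A' D : Type*} [CommRing A'] [CommRing D] [IsDomain D] [Algebra A' D]
    {n : Type*} [Fintype n] [DecidableEq n] (M : Matrix n n D) (hM : IsIntegral A' M) :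
    IsIntegral A' M.det := by
  obtain ⟨g, hg, hg0⟩ := hM
  let F := FractionRing D
  let Ω := AlgebraicClosure F
  let ι : D →+* Ω := (algebraMap F Ω).comp (algebraMap D F)
  have hι : Function.Injective ι :=
    (algebraMap F Ω).injective.comp (IsFractionRing.injective D F)
  let f : A' →+* Ω := ι.comp (algebraMap A' D)
  -- the matrix over Ω is killed by g
  have hcomp : (algebraMap Ω (Matrix n n Ω)).comp f =
      (ι.mapMatrix).comp (algebraMap A' (Matrix n n D)) := by
    ext a i j
    simp [f, Matrix.algebraMap_matrix_apply]
    split_ifs <;> simp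
  have hkill : aeval (ι.mapMatrix M) (g.map f) = 0 := by
    rw [← Polynomial.map_aeval_eq_aeval_map hcomp g M, Polynomial.aeval_def, hg0, map_zero]
  -- every root of the characteristic polynomial is a root of g
  have hroot : ∀ μ ∈ (ι.mapMatrix M).charpoly.roots, eval₂ f μ g = 0 := by
    intro μ hμ
    have h1 : μ ∈ spectrum Ω (ι.mapMatrix M) :=
      Matrix.mem_spectrum_iff_isRoot_charpoly.mpr (Polynomial.isRoot_of_mem_roots hμ)
    have h2 := spectrum.subset_polynomial_aeval (ι.mapMatrix M) (g.map f) ⟨μ, h1, rfl⟩
    rw [hkill] at h2
    by_cases hn : Nontrivial (Matrix n n Ω)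
    · rw [spectrum.zero_eq, Set.mem_singleton_iff] at h2
      change eval μ (map f g) = 0 at h2
      rw [Polynomial.eval_map] at h2
      exact h2
    · -- empty index type: no roots
      exfalso
      rw [not_nontrivial_iff_subsingleton] at hn
      have : IsEmpty n := by
        by_contra hne
        rw [not_isEmpty_iff] at hne
        exact not_subsingleton (Matrix n n Ω) hn
      have hc : (ι.mapMatrix M).charpoly = 1 := Matrix.charpoly_isEmpty
      rw [hc, Polynomial.roots_one] at hμ
      exact Multiset.notMem_zero _ hμ
  let _ : Algebra A' Ω := f.toAlgebra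
  have hdet : IsIntegral A' (ι M.det) := by
    have : ι M.det = (ι.mapMatrix M).det := RingHom.map_det ι M
    rw [this, Matrix.det_eq_prod_roots_charpoly]
    exact IsIntegral.multiset_prod (fun μ hμ => ⟨g, hg, hroot μ hμ⟩)
  obtain ⟨q, hq, hq0⟩ := hdet
  refine ⟨q, hq, hι ?_⟩
  rw [map_zero, Polynomial.hom_eval₂]
  exact hq0

end Groth.Agent.H85.DetIntegral
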