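import Mathlib

/-!
# Semilinear base change and a fibre count for modules with `F`, `V`, `FV = VF = π`

Mathlib-only helper library for the Dieudonné-module statements (S16222).
-/

set_option autoImplicit false

namespace Groth.Agent.H85.DieuFibre

open TensorProduct

section sbc

variable {R : Type*} [CommRing R] {B : Type*} [CommRing B] [Algebra R B]
  {σ : R →+* R} (σB : B →+* B)
  (hσ : ∀ r, σB (algebraMap R B r) = algebraMap R B (σ r))
  {M : Type*} [AddCommGroup M] [Module R M] (F : M →ₛₗ[σ] M)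

/-- A ring endomorphism `σB` of `B` lying over `σ`, as a `σ`-semilinear map. -/
def ringSemi : B →ₛₗ[σ] B where
  toFun := σB
  map_add' := map_add σB
  map_smul' r b := by
    simp only [Algebra.smul_def, map_mul, hσ]

@[simp] lemma ringSemi_apply (b : B) : ringSemi σB hσ b = σB b := rfl

/-- Semilinear base change: `b ⊗ m ↦ σB b ⊗ F m`. -/
def sbc : B ⊗[R] M →ₛₗ[σB] B ⊗[R] M where
  toFun := TensorProduct.map (ringSemi σB hσ) F
  map_add' := map_add _
  map_smul' b t := by
    induction t using TensorProduct.induction_on with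
    | zero => simp
    | tmul x y =>
      simp only [smul_tmul', TensorProduct.map_tmul, ringSemi_apply, smul_eq_mul, map_mul]
    | add x y hx hy => simp only [smul_add, map_add, hx, hy]

@[simp] lemma sbc_tmul (b : B) (m : M) : sbc σB hσ F (b ⊗ₜ[R] m) = σB b ⊗ₜ[R] F m := rfl

end sbc

section sbc_comp

variable {R : Type*} [CommRing R] {B : Type*} [CommRing B] [Algebra R B]
  {σ τ : R →+* R} (σB τB : B →+* B)
  (hσ : ∀ r, σB (algebraMap R B r) = algebraMap R B (σ r))
  (hτ : ∀ r, τB (algebraMap R B r) = algebraMap R B (τ r))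
  {M : Type*} [AddCommGroup M] [Module R M] (F : M →ₛₗ[σ] M) (V : M →ₛₗ[τ] M)

lemma sbc_comp (π : R) (hB : ∀ b, σB (τB b) = b) (hFV : ∀ m, F (V m) = π • m)
    (t : B ⊗[R] M) : sbc σB hσ F (sbc τB hτ V t) = algebraMap R B π • t := by
  induction t using TensorProduct.induction_on with
  | zero => simp
  | tmul x y =>
    rw [sbc_tmul, sbc_tmul, hB, hFV, tmul_smul, algebraMap_smul]
  | add x y hx hy => simp only [map_add, smul_add, hx, hy]

end sbc_comp

section functorial

variable {R : Type*} [CommRing R] {B C : Type*} [CommRing B] [CommRing C] [Algebra R B]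
  [Algebra B C] [Algebra R C] [IsScalarTower R B C]
  {σ : R →+* R} (σB : B →+* B) (σC : C →+* C)
  (hσ : ∀ r, σB (algebraMap R B r) = algebraMap R B (σ r))
  (hσC : ∀ r, σC (algebraMap R C r) = algebraMap R C (σ r))
  (hBC : ∀ b, σC (algebraMap B C b) = algebraMap B C (σB b))
  {M : Type*} [AddCommGroup M] [Module R M] (F : M →ₛₗ[σ] M)

/-- The comparison map `B ⊗ M → C ⊗ M`. -/
def cmp (M : Type*) [AddCommGroup M] [Module R M] : B ⊗[R] M →ₗ[R] C ⊗[R] M :=
  LinearMap.rTensor M (IsScalarTower.toAlgHom R B C).toLinearMap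

@[simp] lemma cmp_tmul (b : B) (m : M) :
    cmp (R := R) (B := B) (C := C) M (b ⊗ₜ[R] m) = algebraMap B C b ⊗ₜ[R] m := rfl

include hBC in
lemma cmp_sbc (t : B ⊗[R] M) :
    cmp (C := C) M (sbc σB hσ F t) = sbc σC hσC F (cmp (C := C) M t) := by
  induction t using TensorProduct.induction_on with
  | zero => simp
  | tmul x y => rw [sbc_tmul, cmp_tmul, cmp_tmul, sbc_tmul, hBC]
  | add x y hx hy => simp only [map_add, hx, hy]

end functorial


section ranknullity

variable {K : Type*} [Field K] {E : Type*} [AddCommGroup E] [Module K E] [Module.Finite K E]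

/-- Rank–nullity for a semilinear endomorphism over a field automorphism. -/
theorem finrank_ker_add_finrank_of_range {σK : K →+* K} (hbij : Function.Bijective σK)
    (f : E →ₛₗ[σK] E) (T : Submodule K E) (hT : (T : Set E) = Set.range f) :
    Module.finrank K (LinearMap.ker f) + Module.finrank K T = Module.finrank K E := by
  let g : E ⧸ LinearMap.ker f →ₛₗ[σK] E := (LinearMap.ker f).liftQ f le_rfl
  have hginj : Function.Injective g := by
    rw [← LinearMap.ker_eq_bot]
    exact Submodule.ker_liftQ_eq_bot _ _ _ le_rfl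
  have hgmem : ∀ x, g x ∈ T := by
    intro x
    obtain ⟨e, rfl⟩ := Submodule.Quotient.mk_surjective _ x
    rw [← SetLike.mem_coe, hT]
    exact ⟨e, rfl⟩
  let j₀ : (E ⧸ LinearMap.ker f) →+ T :=
    { toFun := fun x => ⟨g x, hgmem x⟩
      map_zero' := Subtype.ext (map_zero g)
      map_add' := fun x y => Subtype.ext (map_add g x y) }
  have hj₀ : Function.Bijective j₀ := by
    constructor
    · intro x y hxy
      exact hginj (congrArg Subtype.val hxy)
    · rintro ⟨t, ht⟩
      rw [← SetLike.mem_coe, hT] at ht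
      obtain ⟨e, rfl⟩ := ht
      exact ⟨Submodule.Quotient.mk e, Subtype.ext rfl⟩
  let j : (E ⧸ LinearMap.ker f) ≃+ T := AddEquiv.ofBijective j₀ hj₀
  have hrank : Module.rank K (E ⧸ LinearMap.ker f) = Module.rank K T :=
    rank_eq_of_equiv_equiv σK j hbij (fun r m => Subtype.ext (g.map_smulₛₗ r m))
  have hfin : Module.finrank K (E ⧸ LinearMap.ker f) = Module.finrank K T :=
    congrArg Cardinal.toNat hrank
  have := Submodule.finrank_quotient_add_finrank (LinearMap.ker f)
  omega

end ranknullity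

section levelone

variable {R : Type*} [CommRing R] {σ τ : R →+* R} {M : Type*} [AddCommGroup M] [Module R M]

/-- If `π` is `M`-regular and `VF = π`, then `F m ∈ πM` forces `m ∈ VM`. -/
theorem eq_of_map_eq_smul (F : M →ₛₗ[σ] M) (V : M →ₛₗ[τ] M) (π : R) (hτπ : τ π = π)
    (hVF : ∀ m, V (F m) = π • m) (hreg : IsSMulRegular M π) {m n : M} (h : F m = π • n) :
    m = V n := by
  apply hreg
  change π • m = π • V n
  rw [← hVF, h, V.map_smulₛₗ, hτπ]

/-- The range of a semilinear map over a surjective ring endomorphism is closed under scalars. -/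
theorem coe_span_range (V : M →ₛₗ[τ] M) (hτ : Function.Surjective τ) :
    (Submodule.span R (Set.range V) : Set M) = Set.range V := by
  apply Set.Subset.antisymm _ Submodule.subset_span
  intro x hx
  induction hx using Submodule.span_induction with
  | mem x hx => exact hx
  | zero => exact ⟨0, map_zero V⟩
  | add x y _ _ hx hy =>
    obtain ⟨a, rfl⟩ := hx
    obtain ⟨b, rfl⟩ := hy
    exact ⟨a + b, map_add V a b⟩
  | smul r x _ hx =>
    obtain ⟨a, rfl⟩ := hx
    obtain ⟨s, rfl⟩ := hτ r
    exact ⟨s • a, V.map_smulₛₗ s a⟩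

end levelone


section count

variable {R R' K : Type*} [CommRing R] [CommRing R'] [Field K] [Algebra R R'] [Algebra R' K]
  [Algebra R K] [IsScalarTower R R' K]
  {M : Type*} [AddCommGroup M] [Module R M]

lemma cmp_surjective (hsurj : Function.Surjective (algebraMap R' K)) :
    Function.Surjective (cmp (R := R) (B := R') (C := K) M) :=
  LinearMap.rTensor_surjective M hsurj

lemma exists_smul_of_cmp_eq_zero (π : R) (hsurj : Function.Surjective (algebraMap R' K))
    (hker : RingHom.ker (algebraMap R' K) = Ideal.span {algebraMap R R' π})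
    (t : R' ⊗[R] M) (h : cmp (R := R) (B := R') (C := K) M t = 0) :
    ∃ s : R' ⊗[R] M, t = algebraMap R R' π • s := by
  let mulπ : R' →ₗ[R] R' := LinearMap.lsmul R R' π
  have hπker : algebraMap R' K (algebraMap R R' π) = 0 := by
    have : algebraMap R R' π ∈ RingHom.ker (algebraMap R' K) := by
      rw [hker]; exact Ideal.mem_span_singleton_self _
    exact this
  have hex : Function.Exact mulπ (IsScalarTower.toAlgHom R R' K).toLinearMap := by
    intro x
    constructor
    · intro hx
      have hx' : x ∈ RingHom.ker (algebraMap R' K) := hx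
      rw [hker, Ideal.mem_span_singleton'] at hx'
      obtain ⟨a, ha⟩ := hx'
      refine ⟨a, ?_⟩
      change π • a = x
      rw [Algebra.smul_def, mul_comm, ha]
    · rintro ⟨a, rfl⟩
      change algebraMap R' K (π • a) = 0
      rw [Algebra.smul_def, map_mul, hπker, zero_mul]
  have hex2 := rTensor_exact M hex hsurj
  have hmul : ∀ s : R' ⊗[R] M, LinearMap.rTensor M mulπ s = algebraMap R R' π • s := by
    intro s
    induction s using TensorProduct.induction_on with
    | zero => simp
    | tmul x y =>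
      rw [LinearMap.rTensor_tmul, smul_tmul']
      change (π • x) ⊗ₜ[R] y = _
      rw [algebraMap_smul]
    | add x y hx hy => simp only [map_add, smul_add, hx, hy]
  obtain ⟨s, hs⟩ := (hex2 t).mp h
  exact ⟨s, by rw [← hs, hmul]⟩

variable {σ τ : R →+* R} (σ' τ' : R' →+* R') (σK τK : K →+* K)
  (hσ' : ∀ r, σ' (algebraMap R R' r) = algebraMap R R' (σ r))
  (hτ' : ∀ r, τ' (algebraMap R R' r) = algebraMap R R' (τ r))
  (hσKR : ∀ r, σK (algebraMap R K r) = algebraMap R K (σ r))
  (hτKR : ∀ r, τK (algebraMap R K r) = algebraMap R K (τ r))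
  (hσK : ∀ b, σK (algebraMap R' K b) = algebraMap R' K (σ' b))
  (hτK : ∀ b, τK (algebraMap R' K b) = algebraMap R' K (τ' b))
  (hτσ' : ∀ b, τ' (σ' b) = b)
  (π : R) (hτπ : τ π = π)
  (hπ' : algebraMap R R' π ∈ nonZeroDivisors R')
  (hsurj : Function.Surjective (algebraMap R' K))
  (hker : RingHom.ker (algebraMap R' K) = Ideal.span {algebraMap R R' π})
  [Module.Flat R M]
  (F : M →ₛₗ[σ] M) (V : M →ₛₗ[τ] M)
  (hVF : ∀ m, V (F m) = π • m)

include hσ' hτ' hσK hτK hτσ' hτπ hπ' hsurj hker hVF in
/-- Exactness on the fibre: the kernel of `F` on `K ⊗ M` is contained in the image of `V`. -/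
theorem exists_sbc_eq_of_sbc_eq_zero (e : K ⊗[R] M) (he : sbc σK hσKR F e = 0) :
    ∃ e', sbc τK hτKR V e' = e := by
  obtain ⟨t, rfl⟩ := cmp_surjective (R := R) (M := M) hsurj e
  have h1 : cmp (C := K) M (sbc σ' hσ' F t) = 0 := by
    rw [cmp_sbc σ' σK hσ' hσKR hσK F t]; exact he
  obtain ⟨s, hs⟩ := exists_smul_of_cmp_eq_zero π hsurj hker _ h1
  have hreg : IsSMulRegular (R' ⊗[R] M) (algebraMap R R' π) := by
    have := Module.Flat.isSMulRegular_of_nonZeroDivisors (M := R' ⊗[R] M) hπ'
    exact this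
  have hts := eq_of_map_eq_smul (sbc σ' hσ' F) (sbc τ' hτ' V) (algebraMap R R' π)
    (by rw [hτ', hτπ]) (fun m => sbc_comp τ' σ' hτ' hσ' V F π hτσ' hVF m) hreg hs
  refine ⟨cmp (C := K) M s, ?_⟩
  rw [← cmp_sbc τ' τK hτ' hτKR hτK V s, ← hts]

end count


section quotcount

variable {R K : Type*} [CommRing R] [Field K] [Algebra R K]
  {M : Type*} [AddCommGroup M] [Module R M] [Module.Finite R M]
  {τ : R →+* R} (τK : K →+* K)
  (hτKR : ∀ r, τK (algebraMap R K r) = algebraMap R K (τ r))
  (V : M →ₛₗ[τ] M)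

/-- `dim K ⊗ (M/S) + dim T = dim K ⊗ M` when `S = V M` and `T = V_K (K ⊗ M)`. -/
theorem finrank_quot_add (hτsurj : Function.Surjective τK) (S : Submodule R M)
    (T : Submodule K (K ⊗[R] M)) (hT : (T : Set (K ⊗[R] M)) = Set.range (sbc τK hτKR V))
    (hS : (S : Set M) = Set.range V) :
    Module.finrank K (K ⊗[R] (M ⧸ S)) + Module.finrank K T = Module.finrank K (K ⊗[R] M) := by
  let g : K ⊗[R] M →ₗ[K] K ⊗[R] (M ⧸ S) := S.mkQ.baseChange K
  have hgsurj : Function.Surjective g := by
    change Function.Surjective (S.mkQ.baseChange K)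
    rw [LinearMap.baseChange_eq_ltensor]
    exact LinearMap.lTensor_surjective K (Submodule.mkQ_surjective S)
  have hmemT : ∀ e', sbc τK hτKR V e' ∈ T := by
    intro e'
    rw [← SetLike.mem_coe, hT]
    exact ⟨e', rfl⟩
  have hker : LinearMap.ker g = T := by
    ext e
    constructor
    · intro he
      have hex : Function.Exact S.subtype S.mkQ := by
        rw [LinearMap.exact_iff, Submodule.ker_mkQ, Submodule.range_subtype]
      have h1 := lTensor_exact K hex (Submodule.mkQ_surjective S)
      have he' : LinearMap.lTensor K S.mkQ e = 0 := by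
        have := LinearMap.mem_ker.mp he
        change S.mkQ.baseChange K e = 0 at this
        rwa [LinearMap.baseChange_eq_ltensor] at this
      obtain ⟨z, hz⟩ := (h1 e).mp he'
      rw [← hz]
      clear hz he he'
      induction z using TensorProduct.induction_on with
      | zero => rw [map_zero]; exact T.zero_mem
      | tmul a s =>
        rw [LinearMap.lTensor_tmul]
        have hs : (s : M) ∈ (S : Set M) := s.2
        rw [hS] at hs
        obtain ⟨m, hm⟩ := hs
        obtain ⟨a', rfl⟩ := hτsurj a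
        have := hmemT (a' ⊗ₜ[R] m)
        rw [sbc_tmul, hm] at this
        exact this
      | add x y hx hy => rw [map_add]; exact T.add_mem hx hy
    · intro he
      rw [← SetLike.mem_coe, hT] at he
      obtain ⟨e', rfl⟩ := he
      rw [LinearMap.mem_ker]
      induction e' using TensorProduct.induction_on with
      | zero => simp
      | tmul a m =>
        rw [sbc_tmul]
        change S.mkQ.baseChange K (τK a ⊗ₜ[R] V m) = 0
        rw [LinearMap.baseChange_tmul]
        have : S.mkQ (V m) = 0 := by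
          rw [Submodule.mkQ_apply, Submodule.Quotient.mk_eq_zero, ← SetLike.mem_coe, hS]
          exact ⟨m, rfl⟩
        rw [this, tmul_zero]
      | add x y hx hy => rw [map_add, map_add, hx, hy, add_zero]
  have h2 := LinearMap.finrank_range_add_finrank_ker g
  rw [LinearMap.range_eq_top.mpr hgsurj, finrank_top, hker] at h2
  exact h2

end quotcount


section maincount

variable {R R' K : Type*} [CommRing R] [CommRing R'] [Field K] [Algebra R R'] [Algebra R' K]
  [Algebra R K] [IsScalarTower R R' K]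
  {M : Type*} [AddCommGroup M] [Module R M] [Module.Finite R M] [Module.Flat R M]
  {σ τ : R →+* R} (σ' τ' : R' →+* R') (σK τK : K →+* K)
  (hσ' : ∀ r, σ' (algebraMap R R' r) = algebraMap R R' (σ r))
  (hτ' : ∀ r, τ' (algebraMap R R' r) = algebraMap R R' (τ r))
  (hσK : ∀ b, σK (algebraMap R' K b) = algebraMap R' K (σ' b))
  (hτK : ∀ b, τK (algebraMap R' K b) = algebraMap R' K (τ' b))
  (hστ' : ∀ b, σ' (τ' b) = b) (hτσ' : ∀ b, τ' (σ' b) = b)
  (hστK : ∀ a, σK (τK a) = a) (hτσK : ∀ a, τK (σK a) = a)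
  (π : R) (hσπ : σ π = π) (hτπ : τ π = π)
  (hπ' : algebraMap R R' π ∈ nonZeroDivisors R')
  (hsurj : Function.Surjective (algebraMap R' K))
  (hker : RingHom.ker (algebraMap R' K) = Ideal.span {algebraMap R R' π})
  (F : M →ₛₗ[σ] M) (V : M →ₛₗ[τ] M)
  (hFV : ∀ m, F (V m) = π • m) (hVF : ∀ m, V (F m) = π • m)
  (SV SF : Submodule R M) (hSV : (SV : Set M) = Set.range V) (hSF : (SF : Set M) = Set.range F)

include σ' τ' hσ' hτ' hσK hτK hστ' hτσ' hστK hτσK hσπ hτπ hπ' hsurj hker hFV hVF hSV hSF in
/-- The fibre count: `dim K ⊗ M/VM + dim K ⊗ M/FM = dim K ⊗ M`. -/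
theorem finrank_add_finrank :
    Module.finrank K (K ⊗[R] (M ⧸ SV)) + Module.finrank K (K ⊗[R] (M ⧸ SF)) =
      Module.finrank K (K ⊗[R] M) := by
  have hσKR : ∀ r, σK (algebraMap R K r) = algebraMap R K (σ r) := fun r => by
    rw [IsScalarTower.algebraMap_apply R R' K, hσK, hσ', ← IsScalarTower.algebraMap_apply]
  have hτKR : ∀ r, τK (algebraMap R K r) = algebraMap R K (τ r) := fun r => by
    rw [IsScalarTower.algebraMap_apply R R' K, hτK, hτ', ← IsScalarTower.algebraMap_apply]
  have hπK : algebraMap R K π = 0 := by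
    rw [IsScalarTower.algebraMap_apply R R' K]
    have : algebraMap R R' π ∈ RingHom.ker (algebraMap R' K) := by
      rw [hker]; exact Ideal.mem_span_singleton_self _
    exact this
  have hFVE : ∀ e, sbc σK hσKR F (sbc τK hτKR V e) = 0 := by
    intro e
    rw [sbc_comp σK τK hσKR hτKR F V π hστK hFV, hπK, zero_smul]
  have hVFE : ∀ e, sbc τK hτKR V (sbc σK hσKR F e) = 0 := by
    intro e
    rw [sbc_comp τK σK hτKR hσKR V F π hτσK hVF, hπK, zero_smul]
  have hkerF : (LinearMap.ker (sbc σK hσKR F) : Set (K ⊗[R] M)) = Set.range (sbc τK hτKR V) := by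
    ext e
    constructor
    · intro he
      obtain ⟨e', he'⟩ := exists_sbc_eq_of_sbc_eq_zero σ' τ' σK τK hσ' hτ' hσKR hτKR hσK hτK hτσ' π
        hτπ hπ' hsurj hker F V hVF e he
      exact ⟨e', he'⟩
    · rintro ⟨e', rfl⟩
      exact hFVE e'
  have hkerV : (LinearMap.ker (sbc τK hτKR V) : Set (K ⊗[R] M)) = Set.range (sbc σK hσKR F) := by
    ext e
    constructor
    · intro he
      obtain ⟨e', he'⟩ := exists_sbc_eq_of_sbc_eq_zero τ' σ' τK σK hτ' hσ' hτKR hσKR hτK hσK hστ' π
        hσπ hπ' hsurj hker V F hFV e he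
      exact ⟨e', he'⟩
    · rintro ⟨e', rfl⟩
      exact hVFE e'
  have hσbij : Function.Bijective σK :=
    ⟨Function.LeftInverse.injective hτσK, Function.RightInverse.surjective hστK⟩
  have hτsurj : Function.Surjective τK := Function.RightInverse.surjective hτσK
  have hσsurj : Function.Surjective σK := hσbij.2
  have hRN := finrank_ker_add_finrank_of_range hσbij (sbc σK hσKR F)
    (LinearMap.ker (sbc τK hτKR V)) hkerV
  have h1 := finrank_quot_add τK hτKR V hτsurj SV (LinearMap.ker (sbc σK hσKR F)) hkerF hSV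
  have h2 := finrank_quot_add σK hσKR F hσsurj SF (LinearMap.ker (sbc τK hτKR V)) hkerV hSF
  omega

end maincount


section transfer

variable {R : Type*} [CommRing R] (π : R) {M : Type*} [AddCommGroup M] [Module R M]
  {σ τ : R →+* R} (F : M →ₛₗ[σ] M) (V : M →ₛₗ[τ] M)

/-- The quotient of `M/πM` by the span of the image of `V` is `M/VM`. -/
theorem nonempty_quot_equiv (hτ : Function.Surjective τ) (hVF : ∀ m, V (F m) = π • m) :
    Nonempty (((M ⧸ (Ideal.span {π} • ⊤ : Submodule R M)) ⧸
      Submodule.span (R ⧸ Ideal.span {π})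
        (Set.range fun m : M => (Ideal.span {π} • ⊤ : Submodule R M).mkQ (V m))) ≃ₗ[R]
      M ⧸ Submodule.span R (Set.range V)) := by
  set IM : Submodule R M := Ideal.span {π} • ⊤ with hIM
  set Sbar : Submodule (R ⧸ Ideal.span {π}) (M ⧸ IM) :=
    Submodule.span (R ⧸ Ideal.span {π}) (Set.range fun m : M => IM.mkQ (V m)) with hSbar
  let f : M →ₗ[R] (M ⧸ IM) ⧸ Sbar := (Sbar.mkQ.restrictScalars R).comp IM.mkQ
  have hf : Function.Surjective f := by
    intro y
    obtain ⟨y', rfl⟩ := Submodule.mkQ_surjective Sbar y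
    obtain ⟨m, rfl⟩ := Submodule.mkQ_surjective IM y'
    exact ⟨m, rfl⟩
  have hmemS : ∀ y ∈ Sbar, ∃ n, y = IM.mkQ (V n) := by
    intro y hy
    induction hy using Submodule.span_induction with
    | mem y hy => obtain ⟨n, rfl⟩ := hy; exact ⟨n, rfl⟩
    | zero => exact ⟨0, by simp⟩
    | add x y _ _ hx hy =>
      obtain ⟨a, rfl⟩ := hx
      obtain ⟨b, rfl⟩ := hy
      exact ⟨a + b, by simp⟩
    | smul a x _ hx =>
      obtain ⟨n, rfl⟩ := hx
      obtain ⟨r, rfl⟩ := Ideal.Quotient.mk_surjective a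
      obtain ⟨s, rfl⟩ := hτ r
      refine ⟨s • n, ?_⟩
      rw [V.map_smulₛₗ, map_smul]
      rfl
  have hker : LinearMap.ker f = Submodule.span R (Set.range V) := by
    ext m
    rw [← SetLike.mem_coe, ← SetLike.mem_coe, coe_span_range V hτ]
    constructor
    · intro hm
      have hm' : IM.mkQ m ∈ Sbar := by
        have := LinearMap.mem_ker.mp hm
        change Sbar.mkQ (IM.mkQ m) = 0 at this
        rwa [Submodule.mkQ_apply, Submodule.Quotient.mk_eq_zero] at this
      obtain ⟨n, hn⟩ := hmemS _ hm'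
      have hsub : m - V n ∈ IM := by
        rw [← Submodule.Quotient.mk_eq_zero, Submodule.Quotient.mk_sub, sub_eq_zero]
        exact hn
      rw [hIM, Submodule.ideal_span_singleton_smul, Submodule.mem_smul_pointwise_iff_exists] at hsub
      obtain ⟨m', -, hm'⟩ := hsub
      refine ⟨n + F m', ?_⟩
      rw [map_add, hVF, hm']
      abel
    · rintro ⟨n, rfl⟩
      rw [SetLike.mem_coe, LinearMap.mem_ker]
      change Sbar.mkQ (IM.mkQ (V n)) = 0
      rw [Submodule.mkQ_apply, Submodule.Quotient.mk_eq_zero]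
      exact Submodule.subset_span ⟨n, rfl⟩
  exact ⟨(f.quotKerEquivOfSurjective hf).symm.trans (Submodule.quotEquivOfEq _ _ hker)⟩

variable {K : Type*} [Field K] [Algebra R K] [Algebra (R ⧸ Ideal.span {π}) K]
  [IsScalarTower R (R ⧸ Ideal.span {π}) K]

theorem finrank_tensor_quot_smul_top :
    Module.finrank K (K ⊗[R ⧸ Ideal.span {π}] (M ⧸ (Ideal.span {π} • ⊤ : Submodule R M))) =
      Module.finrank K (K ⊗[R] M) := by
  let e1 : ((R ⧸ Ideal.span {π}) ⊗[R] M) ≃ₗ[R] M ⧸ (Ideal.span {π} • ⊤ : Submodule R M) :=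
    TensorProduct.quotTensorEquivQuotSMul M (Ideal.span {π})
  let e1' : ((R ⧸ Ideal.span {π}) ⊗[R] M) ≃ₗ[R ⧸ Ideal.span {π}]
      M ⧸ (Ideal.span {π} • ⊤ : Submodule R M) :=
    e1.extendScalarsOfSurjective Ideal.Quotient.mk_surjective
  let e2 := LinearEquiv.baseChange (R ⧸ Ideal.span {π}) K _ _ e1'
  let e3 : K ⊗[R ⧸ Ideal.span {π}] ((R ⧸ Ideal.span {π}) ⊗[R] M) ≃ₗ[K] K ⊗[R] M :=
    TensorProduct.AlgebraTensorModule.cancelBaseChange R (R ⧸ Ideal.span {π}) K K M
  rw [← e2.finrank_eq, e3.finrank_eq]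

theorem finrank_tensor_of_equiv (Q : Type*) [AddCommGroup Q] [Module (R ⧸ Ideal.span {π}) Q]
    [Module R Q] [IsScalarTower R (R ⧸ Ideal.span {π}) Q] (S : Submodule R M)
    (e : Q ≃ₗ[R] M ⧸ S) :
    Module.finrank K (K ⊗[R ⧸ Ideal.span {π}] Q) = Module.finrank K (K ⊗[R] (M ⧸ S)) := by
  have : TensorProduct.CompatibleSMul R (R ⧸ Ideal.span {π}) K Q :=
    TensorProduct.CompatibleSMul.of_algebraMap_surjective (R := R) K Q
      (A := R ⧸ Ideal.span {π}) Ideal.Quotient.mk_surjective
  let e1 : K ⊗[R ⧸ Ideal.span {π}] Q ≃ₗ[K] K ⊗[R] Q :=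
    TensorProduct.equivOfCompatibleSMul R (R ⧸ Ideal.span {π}) K K Q
  let e2 := LinearEquiv.baseChange R K _ _ e
  rw [e1.finrank_eq, e2.finrank_eq]

end transfer


section fg

variable {R : Type*} [CommRing R] (I : Ideal R) {M : Type*} [AddCommGroup M] [Module R M]
  [Module.Finite R M] {τ : R →+* R} (V : M →ₛₗ[τ] M)

theorem fg_span_range_mkQ :
    (Submodule.span (R ⧸ I)
      (Set.range fun m : M => (I • ⊤ : Submodule R M).mkQ (V m))).FG := by
  classical
  obtain ⟨G, hG⟩ := Module.finite_def.mp (inferInstance : Module.Finite R M)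
  refine ⟨G.image (fun m : M => (I • ⊤ : Submodule R M).mkQ (V m)), ?_⟩
  apply le_antisymm
  · apply Submodule.span_mono
    intro y hy
    rw [Finset.coe_image] at hy
    obtain ⟨m, -, rfl⟩ := hy
    exact ⟨m, rfl⟩
  · rw [Submodule.span_le]
    rintro _ ⟨m, rfl⟩
    have hm : m ∈ Submodule.span R (G : Set M) := by rw [hG]; exact Submodule.mem_top
    rw [SetLike.mem_coe]
    induction hm using Submodule.span_induction with
    | mem x hx =>
      apply Submodule.subset_span
      rw [Finset.coe_image]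
      exact ⟨x, hx, rfl⟩
    | zero => simp
    | add x y _ _ hx hy =>
      simp only [map_add]
      exact Submodule.add_mem _ hx hy
    | smul r x _ hx =>
      have : (I • ⊤ : Submodule R M).mkQ (V (r • x)) =
          (Ideal.Quotient.mk I (τ r)) • (I • ⊤ : Submodule R M).mkQ (V x) := by
        rw [V.map_smulₛₗ, map_smul]
        rfl
      change (I • ⊤ : Submodule R M).mkQ (V (r • x)) ∈ _
      rw [this]
      exact Submodule.smul_mem _ _ hx

end fg

end Groth.Agent.H85.DieuFibre
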