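import Mathlib
import Groth.Agent.H73.ReducedProj
import Groth.Agent.H73.FibreRank

/-!
# Projectivity of a quotient from complementary fibre ranks (over a reduced ring)
-/

set_option autoImplicit false
universe u v

namespace Groth.Agent.H85.DieuProj

open TensorProduct Groth.Agent.H73.ReducedProj

variable {A : Type u} [CommRing A] {N : Type v} [AddCommGroup N] [Module A N]
  [Module.Finite A N] [Module.Projective A N]

theorem isLocallyConstant_fibreRank : IsLocallyConstant (fibreRank A N) := by
  have : Module.FinitePresentation A N := Module.finitePresentation_of_projective A N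
  have h := Module.isLocallyConstant_rankAtStalk (R := A) (M := N)
  have heq : fibreRank A N = Module.rankAtStalk (R := A) N := by
    funext x
    rw [Module.rankAtStalk_eq]
    rfl
  rw [heq]
  exact h

/-- Over a reduced ring, if the fibre ranks of `N/S₁` and `N/S₂` add up to the fibre rank of the
finite projective module `N`, then `N/S₁` is projective. -/
theorem projective_quotient_of_fibreRank_add [IsReduced A] (S₁ S₂ : Submodule A N) (h₁ : S₁.FG)
    (hadd : ∀ x, fibreRank A (N ⧸ S₁) x + fibreRank A (N ⧸ S₂) x = fibreRank A N x) :
    Module.Projective A (N ⧸ S₁) := by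
  have hfpN : Module.FinitePresentation A N := Module.finitePresentation_of_projective A N
  have hfp : Module.FinitePresentation A (N ⧸ S₁) :=
    Module.finitePresentation_of_surjective S₁.mkQ (Submodule.mkQ_surjective S₁)
      (by rw [Submodule.ker_mkQ]; exact h₁)
  refine projective_of_isLocallyConstant ?_
  rw [IsLocallyConstant.iff_eventually_eq]
  intro x
  have e1 := Groth.Agent.H73.eventually_finrank_residueField_tensor_le (M := N ⧸ S₁) x
  have e2 := Groth.Agent.H73.eventually_finrank_residueField_tensor_le (M := N ⧸ S₂) x
  have e3 := (IsLocallyConstant.iff_eventually_eq _).mp (isLocallyConstant_fibreRank (A := A) (N := N)) x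
  filter_upwards [e1, e2, e3] with y h1 h2 h3
  have hy := hadd y
  have hx := hadd x
  change fibreRank A (N ⧸ S₁) y ≤ fibreRank A (N ⧸ S₁) x at h1
  change fibreRank A (N ⧸ S₂) y ≤ fibreRank A (N ⧸ S₂) x at h2
  omega

end Groth.Agent.H85.DieuProj
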