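import Mathlib
import Groth.Agent.H85.DieuFibre
import Groth.Agent.H85.DieuProj

/-!
# Dieudonné modules over a perfect ring: `M/VM` is projective over `W/p`
-/

set_option autoImplicit false
set_option backward.isDefEq.respectTransparency.types true
universe u v

namespace Groth.Agent.H85.DieuWitt

open TensorProduct Groth.Agent.H85.DieuFibre Groth.Agent.H85.DieuProj

section mapfrob

variable (p : ℕ) [Fact p.Prime] {k K : Type*} [CommRing k] [CommRing K] [CharP k p] [CharP K p]

theorem map_frobenius (φ : k →+* K) (x : WittVector p k) :
    WittVector.map φ (WittVector.frobenius x) = WittVector.frobenius (WittVector.map φ x) := by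
  ext n
  simp only [WittVector.map_coeff, WittVector.coeff_frobenius_charP, map_pow]

theorem map_frobeniusEquiv_symm [PerfectRing k p] [PerfectRing K p] (φ : k →+* K)
    (x : WittVector p k) :
    WittVector.map φ ((WittVector.frobeniusEquiv p k).symm x) =
      (WittVector.frobeniusEquiv p K).symm (WittVector.map φ x) := by
  apply (WittVector.frobeniusEquiv p K).injective
  rw [RingEquiv.apply_symm_apply, WittVector.frobeniusEquiv_apply, ← map_frobenius,
    ← WittVector.frobeniusEquiv_apply, RingEquiv.apply_symm_apply]

theorem constantCoeff_frobenius (x : WittVector p K) :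
    WittVector.constantCoeff (WittVector.frobenius x) =
      _root_.frobenius K p (WittVector.constantCoeff x) := by
  change (WittVector.frobenius x).coeff 0 = _
  rw [WittVector.coeff_frobenius_charP]
  rfl

theorem constantCoeff_frobeniusEquiv_symm [PerfectRing K p] (x : WittVector p K) :
    WittVector.constantCoeff ((WittVector.frobeniusEquiv p K).symm x) =
      (_root_.frobeniusEquiv K p).symm (WittVector.constantCoeff x) := by
  apply (_root_.frobeniusEquiv K p).injective
  rw [RingEquiv.apply_symm_apply, _root_.frobeniusEquiv_apply, ← constantCoeff_frobenius,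
    ← WittVector.frobeniusEquiv_apply, RingEquiv.apply_symm_apply]

theorem natCast_mem_nonZeroDivisors [PerfectRing K p] :
    (p : WittVector p K) ∈ nonZeroDivisors (WittVector p K) := by
  rw [mem_nonZeroDivisors_iff_right]
  intro x hx
  exact WittVector.eq_zero_of_p_mul_eq_zero x hx

end mapfrob


section fibre

variable (p : ℕ) [Fact p.Prime] {k : Type u} [CommRing k] [CharP k p] [PerfectRing k p]
  (K : Type u) [Field K] [CharP K p] [PerfectRing K p]
  [Algebra (WittVector p k ⧸ Ideal.span {(p : WittVector p k)}) K]
  {M : Type v} [AddCommGroup M] [Module (WittVector p k) M] [Module.Finite (WittVector p k) M]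
  [Module.Projective (WittVector p k) M]
  (F : M →ₛₗ[(WittVector.frobenius : WittVector p k →+* WittVector p k)] M)
  (V : M →ₛₗ[((WittVector.frobeniusEquiv p k).symm : WittVector p k →+* WittVector p k)] M)
  (hFV : ∀ m : M, F (V m) = (p : WittVector p k) • m)
  (hVF : ∀ m : M, V (F m) = (p : WittVector p k) • m)

include hFV hVF in
theorem fibre_count :
    Module.finrank K (K ⊗[WittVector p k ⧸ Ideal.span {(p : WittVector p k)}]
      ((M ⧸ (Ideal.span {(p : WittVector p k)} • ⊤ : Submodule (WittVector p k) M)) ⧸
        Submodule.span (WittVector p k ⧸ Ideal.span {(p : WittVector p k)})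
          (Set.range fun m : M =>
            (Ideal.span {(p : WittVector p k)} • ⊤ : Submodule (WittVector p k) M).mkQ (V m)))) +
    Module.finrank K (K ⊗[WittVector p k ⧸ Ideal.span {(p : WittVector p k)}]
      ((M ⧸ (Ideal.span {(p : WittVector p k)} • ⊤ : Submodule (WittVector p k) M)) ⧸
        Submodule.span (WittVector p k ⧸ Ideal.span {(p : WittVector p k)})
          (Set.range fun m : M =>
            (Ideal.span {(p : WittVector p k)} • ⊤ : Submodule (WittVector p k) M).mkQ (F m)))) =
    Module.finrank K (K ⊗[WittVector p k ⧸ Ideal.span {(p : WittVector p k)}]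
      (M ⧸ (Ideal.span {(p : WittVector p k)} • ⊤ : Submodule (WittVector p k) M))) := by
  let φ : k →+* K :=
    (algebraMap (WittVector p k ⧸ Ideal.span {(p : WittVector p k)}) K).comp
      (WittVector.quotientPEquiv (p := p) (k := k)).symm.toRingHom
  let algWW : Algebra (WittVector p k) (WittVector p K) := (WittVector.map φ).toAlgebra
  let algWK' : Algebra (WittVector p K) K := (WittVector.constantCoeff).toAlgebra
  let algWK : Algebra (WittVector p k) K :=
    ((algebraMap (WittVector p k ⧸ Ideal.span {(p : WittVector p k)}) K).comp
      (Ideal.Quotient.mk _)).toAlgebra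
  have : IsScalarTower (WittVector p k) (WittVector p k ⧸ Ideal.span {(p : WittVector p k)}) K :=
    IsScalarTower.of_algebraMap_eq (fun _ => rfl)
  have : IsScalarTower (WittVector p k) (WittVector p K) K := by
    refine IsScalarTower.of_algebraMap_eq (fun w => ?_)
    change algebraMap (WittVector p k ⧸ Ideal.span {(p : WittVector p k)}) K
        (Ideal.Quotient.mk _ w) = WittVector.constantCoeff (WittVector.map φ w)
    change _ = (WittVector.map φ w).coeff 0
    rw [WittVector.map_coeff]
    change _ = algebraMap (WittVector p k ⧸ Ideal.span {(p : WittVector p k)}) K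
      ((WittVector.quotientPEquiv (p := p) (k := k)).symm (w.coeff 0))
    congr 1
    apply (WittVector.quotientPEquiv (p := p) (k := k)).injective
    rw [RingEquiv.apply_symm_apply]
    rfl
  have hσsurj : Function.Surjective
      (WittVector.frobenius : WittVector p k →+* WittVector p k) :=
    (WittVector.frobenius_bijective p k).2
  have hτsurj : Function.Surjective
      ((WittVector.frobeniusEquiv p k).symm : WittVector p k →+* WittVector p k) :=
    (WittVector.frobeniusEquiv p k).symm.surjective
  obtain ⟨eV⟩ := nonempty_quot_equiv (p : WittVector p k) F V hτsurj hVF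
  obtain ⟨eF⟩ := nonempty_quot_equiv (p : WittVector p k) V F hσsurj hFV
  rw [finrank_tensor_of_equiv (p : WittVector p k) (K := K) _ _ eV,
    finrank_tensor_of_equiv (p : WittVector p k) (K := K) _ _ eF,
    finrank_tensor_quot_smul_top (p : WittVector p k) (K := K) (M := M)]
  have hpmap : algebraMap (WittVector p k) (WittVector p K) (p : WittVector p k) =
      (p : WittVector p K) := map_natCast (WittVector.map φ) p
  refine finrank_add_finrank (R' := WittVector p K)
    (σ := (WittVector.frobenius : WittVector p k →+* WittVector p k))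
    (τ := ((WittVector.frobeniusEquiv p k).symm : WittVector p k →+* WittVector p k))
    (WittVector.frobenius : WittVector p K →+* WittVector p K)
    ((WittVector.frobeniusEquiv p K).symm : WittVector p K →+* WittVector p K)
    (_root_.frobenius K p) ((_root_.frobeniusEquiv K p).symm : K →+* K)
    (fun r => (map_frobenius p φ r).symm)
    (fun r => (map_frobeniusEquiv_symm p φ r).symm)
    (fun b => (constantCoeff_frobenius p b).symm)
    (fun b => (constantCoeff_frobeniusEquiv_symm p b).symm)
    (fun b => (WittVector.frobeniusEquiv p K).apply_symm_apply b)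
    (fun b => (WittVector.frobeniusEquiv p K).symm_apply_apply b)
    (fun a => (_root_.frobeniusEquiv K p).apply_symm_apply a)
    (fun a => (_root_.frobeniusEquiv K p).symm_apply_apply a)
    (p : WittVector p k) (map_natCast _ p) (map_natCast _ p) ?_
    (WittVector.constantCoeff_surjective p) ?_ F V hFV hVF _ _
    (coe_span_range V hτsurj) (coe_span_range F hσsurj)
  · rw [hpmap]
    exact natCast_mem_nonZeroDivisors p
  · rw [hpmap]
    exact WittVector.ker_constantCoeff

end fibre


section general

theorem isReduced_of_perfectRing (p : ℕ) [hp : Fact p.Prime] (k : Type*) [CommRing k] [CharP k p]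
    [PerfectRing k p] : IsReduced k := by
  rw [← nilradical_eq_bot_iff, ← pNilradical_prime (R := k) hp.out]
  exact PerfectRing.pNilradical_eq_bot k p

variable {R : Type*} [CommRing R] (I : Ideal R) (M : Type*) [AddCommGroup M] [Module R M]

/-- `M/IM` as a base change, `R/I`-linearly. -/
noncomputable def quotEquiv :
    ((R ⧸ I) ⊗[R] M) ≃ₗ[R ⧸ I] M ⧸ (I • ⊤ : Submodule R M) :=
  (TensorProduct.quotTensorEquivQuotSMul M I).extendScalarsOfSurjective
    Ideal.Quotient.mk_surjective

theorem projective_quot_smul_top [Module.Projective R M] :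
    Module.Projective (R ⧸ I) (M ⧸ (I • ⊤ : Submodule R M)) :=
  Module.Projective.of_equiv (quotEquiv I M)

theorem finite_quot_smul_top [Module.Finite R M] :
    Module.Finite (R ⧸ I) (M ⧸ (I • ⊤ : Submodule R M)) :=
  Module.Finite.equiv (quotEquiv I M)

theorem comap_eq {σ τ : R →+* R} {M : Type*} [AddCommGroup M] [Module R M]
    (F : M →ₛₗ[σ] M) (V : M →ₛₗ[τ] M) (π : R) (hσπ : σ π = π) (hτπ : τ π = π)
    (hFV : ∀ m, F (V m) = π • m) (hVF : ∀ m, V (F m) = π • m) (hreg : IsSMulRegular M π) :
    (Ideal.span {π} • ⊤ : Submodule R M).comap F =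
      Submodule.span R (Set.range V) ⊔ (Ideal.span {π} • ⊤ : Submodule R M) := by
  have hmem : ∀ x : M, x ∈ (Ideal.span {π} • ⊤ : Submodule R M) ↔ ∃ n : M, π • n = x := by
    intro x
    rw [Submodule.ideal_span_singleton_smul, Submodule.mem_smul_pointwise_iff_exists]
    simp
  apply le_antisymm
  · intro m hm
    rw [Submodule.mem_comap, hmem] at hm
    obtain ⟨n, hn⟩ := hm
    have := eq_of_map_eq_smul F V π hτπ hVF hreg hn.symm
    apply Submodule.mem_sup_left
    apply Submodule.subset_span
    exact ⟨n, this.symm⟩
  · rw [sup_le_iff]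
    constructor
    · rw [Submodule.span_le]
      rintro _ ⟨n, rfl⟩
      rw [SetLike.mem_coe, Submodule.mem_comap, hmem]
      exact ⟨n, (hFV n).symm⟩
    · intro m hm
      rw [hmem] at hm
      obtain ⟨n, rfl⟩ := hm
      rw [Submodule.mem_comap, hmem]
      exact ⟨F n, by rw [F.map_smulₛₗ, hσπ]⟩

end general

section main

variable (p : ℕ) [hp : Fact p.Prime] {k : Type u} [CommRing k] [CharP k p] [PerfectRing k p]
  {M : Type v} [AddCommGroup M] [Module (WittVector p k) M] [Module.Finite (WittVector p k) M]
  [Module.Projective (WittVector p k) M]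
  (F : M →ₛₗ[(WittVector.frobenius : WittVector p k →+* WittVector p k)] M)
  (V : M →ₛₗ[((WittVector.frobeniusEquiv p k).symm : WittVector p k →+* WittVector p k)] M)
  (hFV : ∀ m : M, F (V m) = (p : WittVector p k) • m)
  (hVF : ∀ m : M, V (F m) = (p : WittVector p k) • m)

include hFV hVF in
theorem projective_quot :
    Module.Projective (WittVector p k ⧸ Ideal.span {(p : WittVector p k)})
      ((M ⧸ (Ideal.span {(p : WittVector p k)} • ⊤ : Submodule (WittVector p k) M)) ⧸
        Submodule.span (WittVector p k ⧸ Ideal.span {(p : WittVector p k)})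
          (Set.range fun m : M =>
            (Ideal.span {(p : WittVector p k)} • ⊤ : Submodule (WittVector p k) M).mkQ (V m))) := by
  have hredk : IsReduced k := isReduced_of_perfectRing p k
  have hproj := projective_quot_smul_top (Ideal.span {(p : WittVector p k)}) M
  have hfin := finite_quot_smul_top (Ideal.span {(p : WittVector p k)}) M
  have hred : IsReduced (WittVector p k ⧸ Ideal.span {(p : WittVector p k)}) :=
    isReduced_of_injective (WittVector.quotientPEquiv (p := p) (k := k)).toRingHom
      (WittVector.quotientPEquiv (p := p) (k := k)).injective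
  have hpA : ((p : ℕ) : WittVector p k ⧸ Ideal.span {(p : WittVector p k)}) = 0 := by
    have : Ideal.Quotient.mk (Ideal.span {(p : WittVector p k)}) (p : WittVector p k) = 0 :=
      Ideal.Quotient.eq_zero_iff_mem.mpr (Ideal.mem_span_singleton_self _)
    rw [← this, map_natCast]
  refine projective_quotient_of_fibreRank_add _
    (Submodule.span (WittVector p k ⧸ Ideal.span {(p : WittVector p k)})
      (Set.range fun m : M =>
        (Ideal.span {(p : WittVector p k)} • ⊤ : Submodule (WittVector p k) M).mkQ (F m)))
    (fg_span_range_mkQ _ V) ?_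
  intro x
  let K := AlgebraicClosure x.asIdeal.ResidueField
  have hpK : ((p : ℕ) : K) = 0 := by
    rw [← map_natCast (algebraMap (WittVector p k ⧸ Ideal.span {(p : WittVector p k)}) K), hpA,
      map_zero]
  have : CharP K p := (CharP.charP_iff_prime_eq_zero hp.out).mpr hpK
  have hq : RingHom.ker (algebraMap (WittVector p k ⧸ Ideal.span {(p : WittVector p k)}) K) =
      x.asIdeal := by
    rw [IsScalarTower.algebraMap_eq (WittVector p k ⧸ Ideal.span {(p : WittVector p k)})
      x.asIdeal.ResidueField K, ← RingHom.comap_ker,
      (RingHom.injective_iff_ker_eq_bot _).mp (algebraMap x.asIdeal.ResidueField K).injective,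
      ← RingHom.ker_eq_comap_bot, Ideal.ker_algebraMap_residueField]
  have h := fibre_count p K F V hFV hVF
  rw [Groth.Agent.H73.ReducedProj.finrank_tensor_eq_of_ker K x.asIdeal hq,
    Groth.Agent.H73.ReducedProj.finrank_tensor_eq_of_ker K x.asIdeal hq,
    Groth.Agent.H73.ReducedProj.finrank_tensor_eq_of_ker K x.asIdeal hq] at h
  exact h

end main


section final

variable (p : ℕ) [hp : Fact p.Prime] {k : Type u} [CommRing k] [CharP k p] [PerfectRing k p]
  {M : Type v} [AddCommGroup M] [Module (WittVector p k) M] [Module.Finite (WittVector p k) M]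
  [Module.Projective (WittVector p k) M]
  (F : M →ₛₗ[(WittVector.frobenius : WittVector p k →+* WittVector p k)] M)
  (V : M →ₛₗ[((WittVector.frobeniusEquiv p k).symm : WittVector p k →+* WittVector p k)] M)
  (hFV : ∀ m : M, F (V m) = (p : WittVector p k) • m)
  (hVF : ∀ m : M, V (F m) = (p : WittVector p k) • m)

include hFV hVF in
theorem main :
    ((Ideal.span {(p : WittVector p k)} • (⊤ : Submodule (WittVector p k) M)).comap F =
        Submodule.span (WittVector p k) (Set.range V) ⊔
          Ideal.span {(p : WittVector p k)} • (⊤ : Submodule (WittVector p k) M) ∧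
      (Ideal.span {(p : WittVector p k)} • (⊤ : Submodule (WittVector p k) M)).comap V =
        Submodule.span (WittVector p k) (Set.range F) ⊔
          Ideal.span {(p : WittVector p k)} • (⊤ : Submodule (WittVector p k) M)) ∧
    Module.Projective (WittVector p k ⧸ Ideal.span {(p : WittVector p k)})
      ((M ⧸ (Ideal.span {(p : WittVector p k)} • (⊤ : Submodule (WittVector p k) M))) ⧸
        Submodule.span (WittVector p k ⧸ Ideal.span {(p : WittVector p k)})
          (Set.range fun m : M =>
            (Ideal.span {(p : WittVector p k)} • (⊤ : Submodule (WittVector p k) M)).mkQ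
              (V m))) := by
  have hreg : IsSMulRegular M (p : WittVector p k) :=
    Module.Flat.isSMulRegular_of_nonZeroDivisors (natCast_mem_nonZeroDivisors p)
  refine ⟨⟨?_, ?_⟩, projective_quot p F V hFV hVF⟩
  · exact comap_eq F V (p : WittVector p k) (map_natCast _ p) (map_natCast _ p) hFV hVF hreg
  · exact comap_eq V F (p : WittVector p k) (map_natCast _ p) (map_natCast _ p) hVF hFV hreg

end final

end Groth.Agent.H85.DieuWitt
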