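import Mathlib
import Groth.Prelude.Def_W4c1extbt610Disp
import Groth.Agent.H85.DieuWitt
import Groth.Agent.H85.IdemLiftAdic

/-!
# A Dieudonné module over a perfect ring gives a 3n-display `(M, VM, F, V⁻¹)`
-/

set_option autoImplicit false
set_option backward.isDefEq.respectTransparency.types true
universe u v

namespace Groth.Agent.H85.DieuDisplay

open Groth.Agent.H85.DieuFibre Groth.Agent.H85.DieuWitt Groth.Agent.H85.IdemLiftAdic

section abstract

variable {R : Type*} [CommRing R] (π : R) {M : Type*} [AddCommGroup M] [Module R M]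
  {σ τ : R →+* R} (F : M →ₛₗ[σ] M) (V : M →ₛₗ[τ] M)

/-- If the class of `m` mod `π` lies in the span of the image of `V`, then `m ∈ V M`. -/
theorem mem_range_of_mkQ_mem (hτ : Function.Surjective τ) (hVF : ∀ m, V (F m) = π • m) (m : M)
    (hm : (Ideal.span {π} • ⊤ : Submodule R M).mkQ m ∈
      Submodule.span (R ⧸ Ideal.span {π})
        (Set.range fun m : M => (Ideal.span {π} • ⊤ : Submodule R M).mkQ (V m))) :
    m ∈ Set.range V := by
  set IM : Submodule R M := Ideal.span {π} • ⊤ with hIM
  have hmemS : ∀ y ∈ Submodule.span (R ⧸ Ideal.span {π})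
      (Set.range fun m : M => IM.mkQ (V m)), ∃ n, y = IM.mkQ (V n) := by
    intro y hy
    induction hy using Submodule.span_induction with
    | mem y hy => obtain ⟨n, rfl⟩ := hy; exact ⟨n, rfl⟩
    | zero => exact ⟨0, by simp⟩
    | add x y _ _ hx hy =>
      obtain ⟨a, rfl⟩ := hx
      obtain ⟨b, rfl⟩ := hy
      exact ⟨a + b, by simp⟩
    | smul a x _ hx =>
      obtain ⟨n, rfl⟩ := hx
      obtain ⟨r, rfl⟩ := Ideal.Quotient.mk_surjective a
      obtain ⟨s, rfl⟩ := hτ r
      refine ⟨s • n, ?_⟩
      rw [V.map_smulₛₗ, map_smul]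
      rfl
  obtain ⟨n, hn⟩ := hmemS _ hm
  have hsub : m - V n ∈ IM := by
    rw [← Submodule.Quotient.mk_eq_zero, Submodule.Quotient.mk_sub, sub_eq_zero]
    exact hn
  rw [hIM, Submodule.ideal_span_singleton_smul, Submodule.mem_smul_pointwise_iff_exists] at hsub
  obtain ⟨m', -, hm'⟩ := hsub
  refine ⟨n + F m', ?_⟩
  rw [map_add, hVF, hm']
  abel

end abstract


section normal

variable (p : ℕ) [hp : Fact p.Prime] {k : Type u} [CommRing k] [CharP k p] [PerfectRing k p]
  {M : Type v} [AddCommGroup M] [Module (WittVector p k) M] [Module.Finite (WittVector p k) M]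
  [Module.Projective (WittVector p k) M]
  (F : M →ₛₗ[(WittVector.frobenius : WittVector p k →+* WittVector p k)] M)
  (V : M →ₛₗ[((WittVector.frobeniusEquiv p k).symm : WittVector p k →+* WittVector p k)] M)
  (hFV : ∀ m : M, F (V m) = (p : WittVector p k) • m)
  (hVF : ∀ m : M, V (F m) = (p : WittVector p k) • m)

include hFV hVF in
theorem exists_normal :
    ∃ L T : Submodule (WittVector p k) M, IsCompl L T ∧
      Submodule.span (WittVector p k) (Set.range V) =
        L ⊔ Ideal.span {(p : WittVector p k)} • T := by
  have hτsurj : Function.Surjective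
      ((WittVector.frobeniusEquiv p k).symm : WittVector p k →+* WittVector p k) :=
    (WittVector.frobeniusEquiv p k).symm.surjective
  set IM : Submodule (WittVector p k) M := Ideal.span {(p : WittVector p k)} • ⊤ with hIM
  set Sbar : Submodule (WittVector p k ⧸ Ideal.span {(p : WittVector p k)}) (M ⧸ IM) :=
    Submodule.span (WittVector p k ⧸ Ideal.span {(p : WittVector p k)})
      (Set.range fun m : M => IM.mkQ (V m)) with hSbar
  have hproj : Module.Projective (WittVector p k ⧸ Ideal.span {(p : WittVector p k)})
      ((M ⧸ IM) ⧸ Sbar) := projective_quot p F V hFV hVF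
  obtain ⟨s, hs⟩ := Module.projective_lifting_property Sbar.mkQ LinearMap.id
    (Submodule.mkQ_surjective Sbar)
  have hs' : ∀ y, Sbar.mkQ (s y) = y := fun y => LinearMap.congr_fun hs y
  have hsinj : Function.Injective s := fun y y' h => by rw [← hs' y, ← hs' y', h]
  let ebar : (M ⧸ IM) →ₗ[WittVector p k ⧸ Ideal.span {(p : WittVector p k)}] (M ⧸ IM) :=
    s ∘ₗ Sbar.mkQ
  have hebar : ∀ y, ebar (ebar y) = ebar y := by
    intro y
    change s (Sbar.mkQ (s (Sbar.mkQ y))) = s (Sbar.mkQ y)
    rw [hs']
  obtain ⟨a, ha⟩ := Module.projective_lifting_property IM.mkQ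
    ((ebar.restrictScalars (WittVector p k)) ∘ₗ IM.mkQ) (Submodule.mkQ_surjective IM)
  have ha' : ∀ v, IM.mkQ (a v) = ebar (IM.mkQ v) := fun v => LinearMap.congr_fun ha v
  have hmem : ∀ v, (a * a - a) v ∈ IM := by
    intro v
    rw [← Submodule.Quotient.mk_eq_zero, ← Submodule.mkQ_apply]
    rw [LinearMap.sub_apply, Module.End.mul_apply, map_sub, ha', ha', hebar, sub_self]
  obtain ⟨e, he, hea⟩ := exists_idem_end (p : WittVector p k) a hmem
  have he' : ∀ v, IM.mkQ (e v) = ebar (IM.mkQ v) := by
    intro v
    rw [← ha']
    have := hea v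
    rw [← Submodule.Quotient.mk_eq_zero, ← Submodule.mkQ_apply, LinearMap.sub_apply,
      map_sub, sub_eq_zero] at this
    exact this
  have hee : ∀ v, e (e v) = e v := fun v => by
    have := LinearMap.congr_fun he.eq v
    rwa [Module.End.mul_apply] at this
  have hpQ : ∀ m : M, (p : WittVector p k) • m ∈ Submodule.span (WittVector p k) (Set.range V) :=
    fun m => Submodule.subset_span ⟨F m, hVF m⟩
  have hIMmem : ∀ x : M, x ∈ IM → ∃ y, (p : WittVector p k) • y = x := by
    intro x hx
    rw [hIM, Submodule.ideal_span_singleton_smul, Submodule.mem_smul_pointwise_iff_exists] at hx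
    obtain ⟨y, -, hy⟩ := hx
    exact ⟨y, hy⟩
  refine ⟨LinearMap.ker e, LinearMap.range e,
    (LinearMap.IsIdempotentElem.isCompl he).symm, ?_⟩
  apply le_antisymm
  · intro x hx
    have hx' : x ∈ Set.range V := by
      rw [← coe_span_range V hτsurj]; exact hx
    obtain ⟨m, rfl⟩ := hx'
    have h1 : V m - e (V m) ∈ LinearMap.ker e := by
      rw [LinearMap.mem_ker, map_sub, hee, sub_self]
    have h2 : e (V m) ∈ IM := by
      rw [← Submodule.Quotient.mk_eq_zero, ← Submodule.mkQ_apply, he']
      change s (Sbar.mkQ (IM.mkQ (V m))) = 0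
      have : Sbar.mkQ (IM.mkQ (V m)) = 0 := by
        rw [Submodule.mkQ_apply, Submodule.Quotient.mk_eq_zero]
        exact Submodule.subset_span ⟨m, rfl⟩
      rw [this, map_zero]
    obtain ⟨y, hy⟩ := hIMmem _ h2
    have h3 : e (V m) ∈ Ideal.span {(p : WittVector p k)} • LinearMap.range e := by
      rw [← hee, ← hy, map_smul]
      exact Submodule.smul_mem_smul (Ideal.mem_span_singleton_self _) ⟨y, rfl⟩
    have : V m = (V m - e (V m)) + e (V m) := by abel
    rw [this]
    exact Submodule.add_mem_sup h1 h3
  · rw [sup_le_iff]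
    constructor
    · intro x hx
      rw [LinearMap.mem_ker] at hx
      have h1 : ebar (IM.mkQ x) = 0 := by rw [← he', hx, map_zero]
      have h2 : Sbar.mkQ (IM.mkQ x) = 0 := by
        apply hsinj
        rw [map_zero]
        exact h1
      rw [Submodule.mkQ_apply Sbar, Submodule.Quotient.mk_eq_zero] at h2
      have := mem_range_of_mkQ_mem (p : WittVector p k) F V hτsurj hVF x h2
      rw [← coe_span_range V hτsurj] at this
      exact this
    · rw [Submodule.smul_le]
      intro r hr t _
      rw [Ideal.mem_span_singleton'] at hr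
      obtain ⟨c, rfl⟩ := hr
      rw [mul_smul]
      exact Submodule.smul_mem _ _ (hpQ t)

end normal


section display

variable (p : ℕ) [hp : Fact p.Prime] {k : Type u} [CommRing k] [CharP k p] [PerfectRing k p]

theorem verschiebung_eq (w : WittVector p k) :
    WittVector.verschiebung w = (WittVector.frobeniusEquiv p k).symm w * (p : WittVector p k) := by
  rw [← WittVector.verschiebung_frobenius, ← WittVector.frobeniusEquiv_apply,
    RingEquiv.apply_symm_apply]

theorem IV_eq : W4c1extbt610.IV p k = Ideal.span {(p : WittVector p k)} := by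
  unfold W4c1extbt610.IV
  apply le_antisymm
  · rw [Ideal.span_le]
    rintro _ ⟨w, rfl⟩
    rw [verschiebung_eq, SetLike.mem_coe, Ideal.mem_span_singleton']
    exact ⟨_, rfl⟩
  · rw [Ideal.span_singleton_le_iff_mem]
    apply Ideal.subset_span
    refine ⟨WittVector.frobenius 1, ?_⟩
    rw [WittVector.verschiebung_frobenius, one_mul]

variable {M : Type v} [AddCommGroup M] [Module (WittVector p k) M]
  [Module.Finite (WittVector p k) M] [Module.Projective (WittVector p k) M]
  (F : M →ₛₗ[(WittVector.frobenius : WittVector p k →+* WittVector p k)] M)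
  (V : M →ₛₗ[((WittVector.frobeniusEquiv p k).symm : WittVector p k →+* WittVector p k)] M)
  (hFV : ∀ m : M, F (V m) = (p : WittVector p k) • m)
  (hVF : ∀ m : M, V (F m) = (p : WittVector p k) • m)

include hFV in
theorem V_injective : Function.Injective V := by
  have hreg : IsSMulRegular M (p : WittVector p k) :=
    Module.Flat.isSMulRegular_of_nonZeroDivisors (natCast_mem_nonZeroDivisors p)
  intro x y hxy
  apply hreg
  change (p : WittVector p k) • x = (p : WittVector p k) • y
  rw [← hFV, ← hFV, hxy]

include hFV hVF in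
theorem main :
    ∃ D : W4c1extbt610.Display3n p k M,
      D.F = F ∧ (∀ x : M, x ∈ D.Q ↔ x ∈ Set.range V) ∧
        ∀ (m : M) (h : V m ∈ D.Q), D.Vinv ⟨V m, h⟩ = m := by
  have hτsurj : Function.Surjective
      ((WittVector.frobeniusEquiv p k).symm : WittVector p k →+* WittVector p k) :=
    (WittVector.frobeniusEquiv p k).symm.surjective
  have hVinj := V_injective p F V hFV
  let Q : Submodule (WittVector p k) M := Submodule.span (WittVector p k) (Set.range V)
  have hQ : ∀ x : M, x ∈ Q ↔ x ∈ Set.range V := by
    intro x
    rw [← coe_span_range V hτsurj]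
    rfl
  have hex : ∀ q : Q, ∃ m, V m = q := fun q => (hQ q).mp q.2
  choose vinv hvinv using hex
  let Vinv : Q →ₛₗ[(WittVector.frobenius : WittVector p k →+* WittVector p k)] M :=
    { toFun := vinv
      map_add' := fun q q' => by
        apply hVinj
        rw [map_add, hvinv, hvinv, hvinv]
        rfl
      map_smul' := fun w q => by
        apply hVinj
        rw [hvinv, V.map_smulₛₗ, hvinv]
        change w • (q : M) = (WittVector.frobeniusEquiv p k).symm (WittVector.frobenius w) • (q : M)
        rw [← WittVector.frobeniusEquiv_apply, RingEquiv.symm_apply_apply] }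
  have hVinvV : ∀ (m : M) (h : V m ∈ Q), Vinv ⟨V m, h⟩ = m := by
    intro m h
    apply hVinj
    exact hvinv ⟨V m, h⟩
  have hIVle : W4c1extbt610.IV p k • (⊤ : Submodule (WittVector p k) M) ≤ Q := by
    rw [IV_eq, Submodule.smul_le]
    intro r hr t _
    rw [Ideal.mem_span_singleton'] at hr
    obtain ⟨c, rfl⟩ := hr
    rw [mul_smul]
    exact Submodule.smul_mem _ _ (Submodule.subset_span ⟨F t, hVF t⟩)
  refine ⟨{ Q := Q
            F := F
            Vinv := Vinv
            finite := inferInstance
            projective := inferInstance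
            IV_smul_le := hIVle
            exists_normal := by
              rw [IV_eq]
              exact exists_normal p F V hFV hVF
            span_range_Vinv := by
              rw [eq_top_iff]
              intro m _
              apply Submodule.subset_span
              exact ⟨⟨V m, (hQ _).mpr ⟨m, rfl⟩⟩, hVinvV m _⟩
            Vinv_verschiebung_smul := by
              intro w x
              apply hVinj
              change V (vinv _) = _
              rw [hvinv, V.map_smulₛₗ, hVF]
              change WittVector.verschiebung w • x =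
                (WittVector.frobeniusEquiv p k).symm w • (p : WittVector p k) • x
              rw [verschiebung_eq, mul_smul] }, rfl, hQ, hVinvV⟩

end display

end Groth.Agent.H85.DieuDisplay
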