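import Mathlib
import Groth.Agent.H85.DieuFibre

/-!
# Fibre count for `F`, `V` with `FV = VF = π` under a torsion hypothesis

Variant of `DieuFibre.finrank_add_finrank`: instead of flatness of `M` and regularity of `π` on
`R'`, we assume that the `π`-torsion of `R' ⊗ M` is contained in `π (R' ⊗ M)`.
-/

set_option autoImplicit false

namespace Groth.Agent.H85.DieuFibre2

open TensorProduct Groth.Agent.H85.DieuFibre

section count

variable {R R' K : Type*} [CommRing R] [CommRing R'] [Field K] [Algebra R R'] [Algebra R' K]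
  [Algebra R K] [IsScalarTower R R' K]
  {M : Type*} [AddCommGroup M] [Module R M]
  {σ τ : R →+* R} (σ' τ' : R' →+* R') (σK τK : K →+* K)
  (hσ' : ∀ r, σ' (algebraMap R R' r) = algebraMap R R' (σ r))
  (hτ' : ∀ r, τ' (algebraMap R R' r) = algebraMap R R' (τ r))
  (hσKR : ∀ r, σK (algebraMap R K r) = algebraMap R K (σ r))
  (hτKR : ∀ r, τK (algebraMap R K r) = algebraMap R K (τ r))
  (hσK : ∀ b, σK (algebraMap R' K b) = algebraMap R' K (σ' b))
  (hτK : ∀ b, τK (algebraMap R' K b) = algebraMap R' K (τ' b))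
  (hτσ' : ∀ b, τ' (σ' b) = b)
  (π : R) (hτπ : τ π = π)
  (htors : ∀ y : R' ⊗[R] M, π • y = 0 → ∃ u : R' ⊗[R] M, y = π • u)
  (hsurj : Function.Surjective (algebraMap R' K))
  (hker : RingHom.ker (algebraMap R' K) = Ideal.span {algebraMap R R' π})
  (F : M →ₛₗ[σ] M) (V : M →ₛₗ[τ] M)
  (hVF : ∀ m, V (F m) = π • m)

include hσ' hτ' hσK hτK hτσ' hτπ htors hsurj hker hVF in
/-- Exactness on the fibre: the kernel of `F` on `K ⊗ M` is contained in the image of `V`. -/
theorem exists_sbc_eq_of_sbc_eq_zero (e : K ⊗[R] M) (he : sbc σK hσKR F e = 0) :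
    ∃ e', sbc τK hτKR V e' = e := by
  obtain ⟨t, rfl⟩ := cmp_surjective (R := R) (M := M) hsurj e
  have h1 : cmp (C := K) M (sbc σ' hσ' F t) = 0 := by
    rw [cmp_sbc σ' σK hσ' hσKR hσK F t]; exact he
  obtain ⟨s, hs⟩ := exists_smul_of_cmp_eq_zero π hsurj hker _ h1
  have hVF' : ∀ m, sbc τ' hτ' V (sbc σ' hσ' F m) = π • m := fun m => by
    rw [sbc_comp τ' σ' hτ' hσ' V F π hτσ' hVF m, algebraMap_smul]
  have hsm : ∀ m, sbc τ' hτ' V (π • m) = π • sbc τ' hτ' V m := fun m => by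
    rw [← algebraMap_smul R' π m, (sbc τ' hτ' V).map_smulₛₗ, hτ', hτπ, algebraMap_smul]
  have h2 : π • (t - sbc τ' hτ' V s) = 0 := by
    rw [smul_sub, ← hVF' t, hs, algebraMap_smul, hsm, sub_self]
  obtain ⟨u, hu⟩ := htors _ h2
  have ht : t = sbc τ' hτ' V (s + sbc σ' hσ' F u) := by
    rw [map_add, hVF', ← hu]
    abel
  refine ⟨cmp (C := K) M (s + sbc σ' hσ' F u), ?_⟩
  rw [← cmp_sbc τ' τK hτ' hτKR hτK V, ← ht]

end count

section maincount

variable {R R' K : Type*} [CommRing R] [CommRing R'] [Field K] [Algebra R R'] [Algebra R' K]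
  [Algebra R K] [IsScalarTower R R' K]
  {M : Type*} [AddCommGroup M] [Module R M] [Module.Finite R M]
  {σ τ : R →+* R} (σ' τ' : R' →+* R') (σK τK : K →+* K)
  (hσ' : ∀ r, σ' (algebraMap R R' r) = algebraMap R R' (σ r))
  (hτ' : ∀ r, τ' (algebraMap R R' r) = algebraMap R R' (τ r))
  (hσK : ∀ b, σK (algebraMap R' K b) = algebraMap R' K (σ' b))
  (hτK : ∀ b, τK (algebraMap R' K b) = algebraMap R' K (τ' b))
  (hστ' : ∀ b, σ' (τ' b) = b) (hτσ' : ∀ b, τ' (σ' b) = b)
  (hστK : ∀ a, σK (τK a) = a) (hτσK : ∀ a, τK (σK a) = a)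
  (π : R) (hσπ : σ π = π) (hτπ : τ π = π)
  (htors : ∀ y : R' ⊗[R] M, π • y = 0 → ∃ u : R' ⊗[R] M, y = π • u)
  (hsurj : Function.Surjective (algebraMap R' K))
  (hker : RingHom.ker (algebraMap R' K) = Ideal.span {algebraMap R R' π})
  (F : M →ₛₗ[σ] M) (V : M →ₛₗ[τ] M)
  (hFV : ∀ m, F (V m) = π • m) (hVF : ∀ m, V (F m) = π • m)
  (SV SF : Submodule R M) (hSV : (SV : Set M) = Set.range V) (hSF : (SF : Set M) = Set.range F)

include σ' τ' hσ' hτ' hσK hτK hστ' hτσ' hστK hτσK hσπ hτπ htors hsurj hker hFV hVF hSV hSF in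
/-- The fibre count: `dim K ⊗ M/VM + dim K ⊗ M/FM = dim K ⊗ M`. -/
theorem finrank_add_finrank :
    Module.finrank K (K ⊗[R] (M ⧸ SV)) + Module.finrank K (K ⊗[R] (M ⧸ SF)) =
      Module.finrank K (K ⊗[R] M) := by
  have hσKR : ∀ r, σK (algebraMap R K r) = algebraMap R K (σ r) := fun r => by
    rw [IsScalarTower.algebraMap_apply R R' K, hσK, hσ', ← IsScalarTower.algebraMap_apply]
  have hτKR : ∀ r, τK (algebraMap R K r) = algebraMap R K (τ r) := fun r => by
    rw [IsScalarTower.algebraMap_apply R R' K, hτK, hτ', ← IsScalarTower.algebraMap_apply]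
  have hπK : algebraMap R K π = 0 := by
    rw [IsScalarTower.algebraMap_apply R R' K]
    have : algebraMap R R' π ∈ RingHom.ker (algebraMap R' K) := by
      rw [hker]; exact Ideal.mem_span_singleton_self _
    exact this
  have hFVE : ∀ e, sbc σK hσKR F (sbc τK hτKR V e) = 0 := by
    intro e
    rw [sbc_comp σK τK hσKR hτKR F V π hστK hFV, hπK, zero_smul]
  have hVFE : ∀ e, sbc τK hτKR V (sbc σK hσKR F e) = 0 := by
    intro e
    rw [sbc_comp τK σK hτKR hσKR V F π hτσK hVF, hπK, zero_smul]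
  have hkerF : (LinearMap.ker (sbc σK hσKR F) : Set (K ⊗[R] M)) = Set.range (sbc τK hτKR V) := by
    ext e
    constructor
    · intro he
      obtain ⟨e', he'⟩ := exists_sbc_eq_of_sbc_eq_zero σ' τ' σK τK hσ' hτ' hσKR hτKR hσK hτK hτσ' π
        hτπ htors hsurj hker F V hVF e he
      exact ⟨e', he'⟩
    · rintro ⟨e', rfl⟩
      exact hFVE e'
  have hkerV : (LinearMap.ker (sbc τK hτKR V) : Set (K ⊗[R] M)) = Set.range (sbc σK hσKR F) := by
    ext e
    constructor
    · intro he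
      obtain ⟨e', he'⟩ := exists_sbc_eq_of_sbc_eq_zero τ' σ' τK σK hτ' hσ' hτKR hσKR hτK hσK hστ' π
        hσπ htors hsurj hker V F hFV e he
      exact ⟨e', he'⟩
    · rintro ⟨e', rfl⟩
      exact hVFE e'
  have hσbij : Function.Bijective σK :=
    ⟨Function.LeftInverse.injective hτσK, Function.RightInverse.surjective hστK⟩
  have hτsurj : Function.Surjective τK := Function.RightInverse.surjective hτσK
  have hσsurj : Function.Surjective σK := hσbij.2
  have hRN := finrank_ker_add_finrank_of_range hσbij (sbc σK hσKR F)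
    (LinearMap.ker (sbc τK hτKR V)) hkerV
  have h1 := finrank_quot_add τK hτKR V hτsurj SV (LinearMap.ker (sbc σK hσKR F)) hkerF hSV
  have h2 := finrank_quot_add σK hσKR F hσsurj SF (LinearMap.ker (sbc τK hτKR V)) hkerV hSF
  omega

end maincount

end Groth.Agent.H85.DieuFibre2
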