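import Mathlib
import Groth.Agent.H85.DieuFibre2
import Groth.Agent.H85.DieuProj
import Groth.Agent.H85.DieuWitt

/-!
# Truncated Dieudonné modules over a perfect ring: `M/VM` is projective over `W/p`
-/

set_option autoImplicit false
set_option backward.isDefEq.respectTransparency.types true
universe u v

namespace Groth.Agent.H85.DieuTrunc

open TensorProduct Groth.Agent.H85.DieuFibre Groth.Agent.H85.DieuProj Groth.Agent.H85.DieuWitt

section tors

variable {R : Type*} [CommRing R] (π : R)

/-- The `π`-torsion of `N` is contained in `πN`. -/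
def Tors (N : Type*) [AddCommGroup N] [Module R N] : Prop :=
  ∀ y : N, π • y = 0 → ∃ u : N, y = π • u

variable {N N' : Type*} [AddCommGroup N] [Module R N] [AddCommGroup N'] [Module R N']

theorem Tors.of_retract (i : N →ₗ[R] N') (r : N' →ₗ[R] N) (h : ∀ y, r (i y) = y)
    (hN' : Tors π N') : Tors π N := by
  intro y hy
  obtain ⟨u, hu⟩ := hN' (i y) (by rw [← map_smul, hy, map_zero])
  exact ⟨r u, by rw [← map_smul, ← hu, h]⟩

theorem Tors.of_equiv (e : N ≃ₗ[R] N') (hN' : Tors π N') : Tors π N :=
  Tors.of_retract π e.toLinearMap e.symm.toLinearMap e.symm_apply_apply hN'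

theorem Tors.finsupp (ι : Type*) (hN : Tors π N) : Tors π (ι →₀ N) := by
  classical
  intro y hy
  choose! f hf using hN
  let g : N → N := fun z => if z = 0 then 0 else f z
  have hg0 : g 0 = 0 := if_pos rfl
  have hg : ∀ z, π • z = 0 → z = π • g z := by
    intro z hz
    by_cases h0 : z = 0
    · simp [g, h0]
    · simp only [g, h0, if_false]
      exact hf z hz
  refine ⟨y.mapRange g hg0, ?_⟩
  ext i
  have hi : π • y i = 0 := by
    have := DFunLike.congr_fun hy i
    simpa using this
  simp only [Finsupp.smul_apply, Finsupp.mapRange_apply]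
  exact hg (y i) hi

theorem Tors.baseChange_of_projective (J : Ideal R) (R' : Type*) [CommRing R'] [Algebra R R']
    (M : Type*) [AddCommGroup M] [Module R M] [Module (R ⧸ J) M] [IsScalarTower R (R ⧸ J) M]
    [hM : Module.Projective (R ⧸ J) M] (h0 : Tors π (R' ⊗[R] (R ⧸ J))) :
    Tors π (R' ⊗[R] M) := by
  classical
  obtain ⟨s, hs⟩ := Module.projective_def'.mp hM
  let i₀ : M →ₗ[R] (M →₀ R ⧸ J) := s.restrictScalars R
  let r₀ : (M →₀ R ⧸ J) →ₗ[R] M := (Finsupp.linearCombination (R ⧸ J) id).restrictScalars R
  have h : r₀ ∘ₗ i₀ = LinearMap.id := LinearMap.ext (fun m => LinearMap.congr_fun hs m)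
  refine Tors.of_retract π ((i₀.baseChange R').restrictScalars R)
    ((r₀.baseChange R').restrictScalars R) ?_ ?_
  · intro y
    change (r₀.baseChange R') ((i₀.baseChange R') y) = y
    rw [← LinearMap.comp_apply, ← LinearMap.baseChange_comp, h, LinearMap.baseChange_id]
    rfl
  · have e : (R' ⊗[R] (M →₀ R ⧸ J)) ≃ₗ[R] (M →₀ R' ⊗[R] (R ⧸ J)) :=
      (TensorProduct.finsuppRight R R' R' (R ⧸ J) M).restrictScalars R
    exact Tors.of_equiv π (N' := M →₀ R' ⊗[R] (R ⧸ J)) e (Tors.finsupp π M h0)

theorem Tors.tensor_quot (R' : Type*) [CommRing R'] [Algebra R R'] (n : ℕ) (hn : 2 ≤ n)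
    (hreg : IsSMulRegular R' π) : Tors π (R' ⊗[R] (R ⧸ Ideal.span {π ^ n})) := by
  refine Tors.of_equiv π (TensorProduct.tensorQuotEquivQuotSMul R' (Ideal.span {π ^ n})) ?_
  intro y hy
  obtain ⟨r, rfl⟩ := Submodule.Quotient.mk_surjective _ y
  rw [← Submodule.Quotient.mk_smul, Submodule.Quotient.mk_eq_zero,
    Submodule.ideal_span_singleton_smul, Submodule.mem_smul_pointwise_iff_exists] at hy
  obtain ⟨s, -, hs⟩ := hy
  have hn1 : n = (n - 1) + 1 := by omega
  have hr : π ^ (n - 1) • s = r := by
    apply hreg
    change π • π ^ (n - 1) • s = π • r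
    rw [smul_smul, ← pow_succ', ← hn1, hs]
  refine ⟨Submodule.Quotient.mk (π ^ (n - 2) • s), ?_⟩
  rw [← Submodule.Quotient.mk_smul, smul_smul, ← pow_succ', show n - 2 + 1 = n - 1 by omega, hr]

end tors


section fibre

variable (p : ℕ) [Fact p.Prime] {k : Type u} [CommRing k] [CharP k p] [PerfectRing k p]
  (n : ℕ) (hn : 2 ≤ n)
  (K : Type u) [Field K] [CharP K p] [PerfectRing K p]
  [Algebra (WittVector p k ⧸ Ideal.span {(p : WittVector p k)}) K]
  {M : Type v} [AddCommGroup M] [Module (WittVector p k) M]
  [Module (WittVector p k ⧸ Ideal.span {(p : WittVector p k) ^ n}) M]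
  [IsScalarTower (WittVector p k) (WittVector p k ⧸ Ideal.span {(p : WittVector p k) ^ n}) M]
  [Module.Finite (WittVector p k) M]
  [Module.Projective (WittVector p k ⧸ Ideal.span {(p : WittVector p k) ^ n}) M]
  (F : M →ₛₗ[(WittVector.frobenius : WittVector p k →+* WittVector p k)] M)
  (V : M →ₛₗ[((WittVector.frobeniusEquiv p k).symm : WittVector p k →+* WittVector p k)] M)
  (hFV : ∀ m : M, F (V m) = (p : WittVector p k) • m)
  (hVF : ∀ m : M, V (F m) = (p : WittVector p k) • m)

include hn hFV hVF in
theorem fibre_count :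
    Module.finrank K (K ⊗[WittVector p k ⧸ Ideal.span {(p : WittVector p k)}]
      ((M ⧸ (Ideal.span {(p : WittVector p k)} • ⊤ : Submodule (WittVector p k) M)) ⧸
        Submodule.span (WittVector p k ⧸ Ideal.span {(p : WittVector p k)})
          (Set.range fun m : M =>
            (Ideal.span {(p : WittVector p k)} • ⊤ : Submodule (WittVector p k) M).mkQ (V m)))) +
    Module.finrank K (K ⊗[WittVector p k ⧸ Ideal.span {(p : WittVector p k)}]
      ((M ⧸ (Ideal.span {(p : WittVector p k)} • ⊤ : Submodule (WittVector p k) M)) ⧸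
        Submodule.span (WittVector p k ⧸ Ideal.span {(p : WittVector p k)})
          (Set.range fun m : M =>
            (Ideal.span {(p : WittVector p k)} • ⊤ : Submodule (WittVector p k) M).mkQ (F m)))) =
    Module.finrank K (K ⊗[WittVector p k ⧸ Ideal.span {(p : WittVector p k)}]
      (M ⧸ (Ideal.span {(p : WittVector p k)} • ⊤ : Submodule (WittVector p k) M))) := by
  let φ : k →+* K :=
    (algebraMap (WittVector p k ⧸ Ideal.span {(p : WittVector p k)}) K).comp
      (WittVector.quotientPEquiv (p := p) (k := k)).symm.toRingHom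
  let algWW : Algebra (WittVector p k) (WittVector p K) := (WittVector.map φ).toAlgebra
  let algWK' : Algebra (WittVector p K) K := (WittVector.constantCoeff).toAlgebra
  let algWK : Algebra (WittVector p k) K :=
    ((algebraMap (WittVector p k ⧸ Ideal.span {(p : WittVector p k)}) K).comp
      (Ideal.Quotient.mk _)).toAlgebra
  have : IsScalarTower (WittVector p k) (WittVector p k ⧸ Ideal.span {(p : WittVector p k)}) K :=
    IsScalarTower.of_algebraMap_eq (fun _ => rfl)
  have : IsScalarTower (WittVector p k) (WittVector p K) K := by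
    refine IsScalarTower.of_algebraMap_eq (fun w => ?_)
    change algebraMap (WittVector p k ⧸ Ideal.span {(p : WittVector p k)}) K
        (Ideal.Quotient.mk _ w) = WittVector.constantCoeff (WittVector.map φ w)
    change _ = (WittVector.map φ w).coeff 0
    rw [WittVector.map_coeff]
    change _ = algebraMap (WittVector p k ⧸ Ideal.span {(p : WittVector p k)}) K
      ((WittVector.quotientPEquiv (p := p) (k := k)).symm (w.coeff 0))
    congr 1
    apply (WittVector.quotientPEquiv (p := p) (k := k)).injective
    rw [RingEquiv.apply_symm_apply]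
    rfl
  have hσsurj : Function.Surjective
      (WittVector.frobenius : WittVector p k →+* WittVector p k) :=
    (WittVector.frobenius_bijective p k).2
  have hτsurj : Function.Surjective
      ((WittVector.frobeniusEquiv p k).symm : WittVector p k →+* WittVector p k) :=
    (WittVector.frobeniusEquiv p k).symm.surjective
  obtain ⟨eV⟩ := nonempty_quot_equiv (p : WittVector p k) F V hτsurj hVF
  obtain ⟨eF⟩ := nonempty_quot_equiv (p : WittVector p k) V F hσsurj hFV
  rw [finrank_tensor_of_equiv (p : WittVector p k) (K := K) _ _ eV,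
    finrank_tensor_of_equiv (p : WittVector p k) (K := K) _ _ eF,
    finrank_tensor_quot_smul_top (p : WittVector p k) (K := K) (M := M)]
  have hpmap : algebraMap (WittVector p k) (WittVector p K) (p : WittVector p k) =
      (p : WittVector p K) := map_natCast (WittVector.map φ) p
  have hreg : IsSMulRegular (WittVector p K) (p : WittVector p k) := by
    intro a b hab
    simp only [Algebra.smul_def, hpmap] at hab
    exact (mul_cancel_left_mem_nonZeroDivisors (natCast_mem_nonZeroDivisors p)).mp hab
  have htors : Tors (p : WittVector p k) (WittVector p K ⊗[WittVector p k] M) :=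
    Tors.baseChange_of_projective (p : WittVector p k) (Ideal.span {(p : WittVector p k) ^ n})
      (WittVector p K) M (Tors.tensor_quot (p : WittVector p k) (WittVector p K) n hn hreg)
  refine DieuFibre2.finrank_add_finrank (R' := WittVector p K)
    (σ := (WittVector.frobenius : WittVector p k →+* WittVector p k))
    (τ := ((WittVector.frobeniusEquiv p k).symm : WittVector p k →+* WittVector p k))
    (WittVector.frobenius : WittVector p K →+* WittVector p K)
    ((WittVector.frobeniusEquiv p K).symm : WittVector p K →+* WittVector p K)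
    (_root_.frobenius K p) ((_root_.frobeniusEquiv K p).symm : K →+* K)
    (fun r => (map_frobenius p φ r).symm)
    (fun r => (map_frobeniusEquiv_symm p φ r).symm)
    (fun b => (constantCoeff_frobenius p b).symm)
    (fun b => (constantCoeff_frobeniusEquiv_symm p b).symm)
    (fun b => (WittVector.frobeniusEquiv p K).apply_symm_apply b)
    (fun b => (WittVector.frobeniusEquiv p K).symm_apply_apply b)
    (fun a => (_root_.frobeniusEquiv K p).apply_symm_apply a)
    (fun a => (_root_.frobeniusEquiv K p).symm_apply_apply a)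
    (p : WittVector p k) (map_natCast _ p) (map_natCast _ p) htors
    (WittVector.constantCoeff_surjective p) ?_ F V hFV hVF _ _
    (coe_span_range V hτsurj) (coe_span_range F hσsurj)
  rw [hpmap]
  exact WittVector.ker_constantCoeff

end fibre


section projbar

variable {R : Type*} [CommRing R] (I J : Ideal R) (hJI : J ≤ I)
  (M : Type*) [AddCommGroup M] [Module R M] [Module (R ⧸ J) M] [IsScalarTower R (R ⧸ J) M]
  [Module.Projective (R ⧸ J) M]

include hJI in
theorem projective_quot_smul_top_of_le :
    Module.Projective (R ⧸ I) (M ⧸ (I • ⊤ : Submodule R M)) := by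
  let _ : Algebra (R ⧸ J) (R ⧸ I) := (Ideal.Quotient.factor hJI).toAlgebra
  have : IsScalarTower R (R ⧸ J) (R ⧸ I) := IsScalarTower.of_algebraMap_eq (fun _ => rfl)
  have : TensorProduct.CompatibleSMul R (R ⧸ J) (R ⧸ I) M :=
    TensorProduct.CompatibleSMul.of_algebraMap_surjective (R := R) (R ⧸ I) M
      (A := R ⧸ J) Ideal.Quotient.mk_surjective
  let e : (R ⧸ I) ⊗[R ⧸ J] M ≃ₗ[R ⧸ I] (R ⧸ I) ⊗[R] M :=
    TensorProduct.equivOfCompatibleSMul R (R ⧸ J) (R ⧸ I) (R ⧸ I) M
  have h1 : Module.Projective (R ⧸ I) ((R ⧸ I) ⊗[R] M) := Module.Projective.of_equiv e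
  exact Module.Projective.of_equiv (quotEquiv I M)

end projbar

section main

variable (p : ℕ) [hp : Fact p.Prime] {k : Type u} [CommRing k] [CharP k p] [PerfectRing k p]
  (n : ℕ) (hn : 2 ≤ n)
  {M : Type v} [AddCommGroup M] [Module (WittVector p k) M]
  [Module (WittVector p k ⧸ Ideal.span {(p : WittVector p k) ^ n}) M]
  [IsScalarTower (WittVector p k) (WittVector p k ⧸ Ideal.span {(p : WittVector p k) ^ n}) M]
  [Module.Finite (WittVector p k ⧸ Ideal.span {(p : WittVector p k) ^ n}) M]
  [Module.Projective (WittVector p k ⧸ Ideal.span {(p : WittVector p k) ^ n}) M]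
  (F : M →ₛₗ[(WittVector.frobenius : WittVector p k →+* WittVector p k)] M)
  (V : M →ₛₗ[((WittVector.frobeniusEquiv p k).symm : WittVector p k →+* WittVector p k)] M)
  (hFV : ∀ m : M, F (V m) = (p : WittVector p k) • m)
  (hVF : ∀ m : M, V (F m) = (p : WittVector p k) • m)

include hn hFV hVF in
theorem projective_quot :
    Module.Projective (WittVector p k ⧸ Ideal.span {(p : WittVector p k)})
      ((M ⧸ (Ideal.span {(p : WittVector p k)} • ⊤ : Submodule (WittVector p k) M)) ⧸
        Submodule.span (WittVector p k ⧸ Ideal.span {(p : WittVector p k)})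
          (Set.range fun m : M =>
            (Ideal.span {(p : WittVector p k)} • ⊤ : Submodule (WittVector p k) M).mkQ (V m))) := by
  have hfinW : Module.Finite (WittVector p k) M :=
    Module.Finite.trans (WittVector p k ⧸ Ideal.span {(p : WittVector p k) ^ n}) M
  have hredk : IsReduced k := isReduced_of_perfectRing p k
  have hJI : Ideal.span {(p : WittVector p k) ^ n} ≤ Ideal.span {(p : WittVector p k)} := by
    rw [Ideal.span_singleton_le_iff_mem]
    exact Ideal.pow_mem_of_mem _ (Ideal.mem_span_singleton_self _) n (by omega)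
  have hproj := projective_quot_smul_top_of_le (Ideal.span {(p : WittVector p k)})
    (Ideal.span {(p : WittVector p k) ^ n}) hJI M
  have hfin := finite_quot_smul_top (Ideal.span {(p : WittVector p k)}) M
  have hred : IsReduced (WittVector p k ⧸ Ideal.span {(p : WittVector p k)}) :=
    isReduced_of_injective (WittVector.quotientPEquiv (p := p) (k := k)).toRingHom
      (WittVector.quotientPEquiv (p := p) (k := k)).injective
  have hpA : ((p : ℕ) : WittVector p k ⧸ Ideal.span {(p : WittVector p k)}) = 0 := by
    have : Ideal.Quotient.mk (Ideal.span {(p : WittVector p k)}) (p : WittVector p k) = 0 :=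
      Ideal.Quotient.eq_zero_iff_mem.mpr (Ideal.mem_span_singleton_self _)
    rw [← this, map_natCast]
  refine projective_quotient_of_fibreRank_add _
    (Submodule.span (WittVector p k ⧸ Ideal.span {(p : WittVector p k)})
      (Set.range fun m : M =>
        (Ideal.span {(p : WittVector p k)} • ⊤ : Submodule (WittVector p k) M).mkQ (F m)))
    (fg_span_range_mkQ _ V) ?_
  intro x
  let K := AlgebraicClosure x.asIdeal.ResidueField
  have hpK : ((p : ℕ) : K) = 0 := by
    rw [← map_natCast (algebraMap (WittVector p k ⧸ Ideal.span {(p : WittVector p k)}) K), hpA,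
      map_zero]
  have : CharP K p := (CharP.charP_iff_prime_eq_zero hp.out).mpr hpK
  have hq : RingHom.ker (algebraMap (WittVector p k ⧸ Ideal.span {(p : WittVector p k)}) K) =
      x.asIdeal := by
    rw [IsScalarTower.algebraMap_eq (WittVector p k ⧸ Ideal.span {(p : WittVector p k)})
      x.asIdeal.ResidueField K, ← RingHom.comap_ker,
      (RingHom.injective_iff_ker_eq_bot _).mp (algebraMap x.asIdeal.ResidueField K).injective,
      ← RingHom.ker_eq_comap_bot, Ideal.ker_algebraMap_residueField]
  have h := fibre_count p n hn K F V hFV hVF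
  rw [Groth.Agent.H73.ReducedProj.finrank_tensor_eq_of_ker K x.asIdeal hq,
    Groth.Agent.H73.ReducedProj.finrank_tensor_eq_of_ker K x.asIdeal hq,
    Groth.Agent.H73.ReducedProj.finrank_tensor_eq_of_ker K x.asIdeal hq] at h
  exact h

end main

end Groth.Agent.H85.DieuTrunc
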