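import Groth.Agent.H85.Twisted
import Mathlib.LinearAlgebra.Dimension.Finite

set_option autoImplicit false
set_option linter.unusedSectionVars false

noncomputable section

open scoped Isocrystal Pointwise
open Filter Topology

universe u v

namespace Groth.Agent.H85

variable {p : ℕ} [Fact p.Prime] {k : Type u} [Field k] [CharP k p] [PerfectRing k p]

local notation "W" => WittVector p k
local notation "L" => FractionRing (WittVector p k)

variable {N : Type v} [AddCommGroup N] [Module (WittVector p k) N] [Module (FractionRing (WittVector p k)) N]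
  [IsScalarTower (WittVector p k) (FractionRing (WittVector p k)) N]

variable {M M₁ M₂ : Submodule (WittVector p k) N} {G G₁ G₂ : N → N}

theorem p_dvd_of_not_isUnit {w : W} (hw : ¬ IsUnit w) : (p : W) ∣ w := by
  have h1 : w ∈ IsLocalRing.maximalIdeal W := (IsLocalRing.mem_maximalIdeal w).mpr hw
  rw [(WittVector.irreducible (k := k) p).maximalIdeal_eq, Ideal.mem_span_singleton] at h1
  exact h1

/-- normalise a nonzero family of scalars: write it as `p^r` times an integral family with a unit entry -/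
theorem exists_normalize {ι : Type*} [Finite ι] (g : ι → L) (hne : ∃ i, g i ≠ 0) :
    ∃ (r : ℤ) (w : ι → W), (∀ i, g i = (p : L) ^ r * algebraMap W L (w i)) ∧ ∃ i, IsUnit (w i) := by
  classical
  have := Fintype.ofFinite ι
  obtain ⟨i₀, hi₀⟩ := hne
  obtain ⟨d, hd⟩ := exists_isOrdP hi₀
  -- the set of s with all g i ∈ p^s W
  have hbdd : ∀ z : ℤ, (∀ i, MemPW z (g i)) → z ≤ d := fun z hz => isOrdP_le_of_memPW hd (hz i₀)
  have hne : ∃ z : ℤ, ∀ i, MemPW z (g i) := by
    choose s hs using fun i => exists_memPW (g i)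
    obtain ⟨z, hz⟩ : ∃ z : ℤ, ∀ i, z ≤ s i := by
      refine ⟨Finset.univ.inf' ⟨i₀, Finset.mem_univ _⟩ s, fun i => Finset.inf'_le _ (Finset.mem_univ i)⟩
    exact ⟨z, fun i => (hs i).mono (hz i)⟩
  obtain ⟨r, hr, hmax⟩ := Int.exists_greatest_of_bdd ⟨d, hbdd⟩ hne
  choose w hw using hr
  refine ⟨r, w, hw, ?_⟩
  by_contra hnu
  rw [not_exists] at hnu
  have : ∀ i, MemPW (r + 1) (g i) := by
    intro i
    obtain ⟨w', hw'⟩ := p_dvd_of_not_isUnit (hnu i)
    refine ⟨w', ?_⟩
    rw [hw i, hw', map_mul, algebraMap_p, zpow_add₀ pL_ne_zero, zpow_one]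
    ring
  have := hmax (r + 1) this
  omega

theorem exists_integral_relation {h : ℕ} [Module.Finite L N] (hh : Module.finrank L N = h)
    (v : Fin (h + 1) → N) :
    ∃ w : Fin (h + 1) → W, (∑ i, w i • v i = 0) ∧ ∃ i, IsUnit (w i) := by
  have hdep : ¬ LinearIndependent L v := by
    intro hli
    have := hli.fintype_card_le_finrank
    rw [hh, Fintype.card_fin] at this
    omega
  rw [Fintype.linearIndependent_iff] at hdep
  push Not at hdep
  obtain ⟨g, hg, hne⟩ := hdep
  obtain ⟨r, w, hw, hu⟩ := exists_normalize g hne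
  refine ⟨w, ?_, hu⟩
  have h1 : ((p : L) ^ r) • (∑ i, w i • v i) = 0 := by
    rw [Finset.smul_sum, ← hg]
    apply Finset.sum_congr rfl
    intro i _
    rw [hw i, mul_smul, algebraMap_smul]
  exact (smul_eq_zero_iff_right (zpow_ne_zero _ pL_ne_zero)).mp h1

/-- the sum `M + G M + ... + G^h M` -/
def sumIter (G : N → N) (h : ℕ) (M : Submodule W N) : Submodule W N :=
  ⨆ i : Fin (h + 1), img (G^[i]) M

theorem img_le_sumIter (G : N → N) {h i : ℕ} (hi : i ≤ h) (M : Submodule W N) :
    img (G^[i]) M ≤ sumIter G h M :=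
  le_iSup (fun i : Fin (h + 1) => img (G^[i]) M) ⟨i, by omega⟩

theorem le_sumIter (G : N → N) (h : ℕ) (M : Submodule W N) : M ≤ sumIter G h M := by
  have := img_le_sumIter G (Nat.zero_le h) M
  rwa [Function.iterate_zero, img_id] at this

theorem sumIter_isLattice (hG : IsSemi (p := p) (k := k) G) (h : ℕ) (hM : M.IsLattice L) :
    (sumIter G h M).IsLattice L :=
  haveI := hM
  Submodule.IsLattice.of_le_of_isLattice_of_fg L (le_sumIter G h M)
    (Submodule.fg_iSup _ fun i => img_fg (hG.iterate i) hM.fg)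

/-- the key step -/
theorem iterate_succ_mem_sumIter {h : ℕ} [Module.Finite L N] (hh : Module.finrank L N = h)
    (hG : IsSemi (p := p) (k := k) G) (hGM : img (G^[h + 1]) M ≤ Isoc.pPow (-1) M)
    {x : N} (hx : x ∈ M) : G^[h + 1] x ∈ sumIter G h M := by
  classical
  obtain ⟨w, hrel, hu⟩ := exists_integral_relation hh (fun i : Fin (h + 1) => G^[i] x)
  -- the largest index with a unit coefficient
  let S : Finset (Fin (h + 1)) := Finset.univ.filter fun i => IsUnit (w i)
  have hS : S.Nonempty := by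
    obtain ⟨i, hi⟩ := hu
    exact ⟨i, by simp [S, hi]⟩
  set j := S.max' hS with hj
  have hjS : j ∈ S := Finset.max'_mem S hS
  have hju : IsUnit (w j) := by simpa [S] using hjS
  have hgt : ∀ i : Fin (h + 1), j < i → ¬ IsUnit (w i) := by
    intro i hi hiu
    have : i ∈ S := by simp [S, hiu]
    exact absurd (Finset.le_max' S i this) (not_le.mpr hi)
  set t : ℕ := h + 1 - j with ht
  have hjh : (j : ℕ) ≤ h := by omega
  obtain ⟨ρ, hρ⟩ := (hG.iterate t).map_W_smul
  -- apply G^t to the relation
  have hrel' : ∑ i : Fin (h + 1), ρ (w i) • G^[t + i] x = 0 := by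
    have := congrArg (G^[t]) hrel
    rw [(hG.iterate t).map_sum, (hG.iterate t).map_zero] at this
    rw [← this]
    apply Finset.sum_congr rfl
    intro i _
    rw [hρ, Function.iterate_add_apply]
  -- all the terms with i ≠ j lie in the sum
  have hterms : ∀ i : Fin (h + 1), i ≠ j → ρ (w i) • G^[t + i] x ∈ sumIter G h M := by
    intro i hij
    rcases lt_or_gt_of_ne hij with hlt | hgt'
    · apply Submodule.smul_mem
      apply img_le_sumIter G (i := t + i) (by omega) M
      exact apply_mem_img _ hx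
    · obtain ⟨w', hw'⟩ := p_dvd_of_not_isUnit (hgt i hgt')
      have hmem : G^[h + 1] x ∈ Isoc.pPow (-1) M := hGM (apply_mem_img _ hx)
      obtain ⟨m, hm, hmx⟩ := (mem_pPow_iff_exists _).mp hmem
      have hti : t + i = (i - j) + (h + 1) := by omega
      rw [hti, Function.iterate_add_apply, ← hmx, (hG.iterate _).map_pow_smul, hw', map_mul,
        mul_comm, mul_smul, map_natCast, ← pL_smul_eq, smul_smul, ← zpow_one_add₀ pL_ne_zero]
      simp only [add_neg_cancel, zpow_zero, one_smul]
      apply Submodule.smul_mem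
      apply img_le_sumIter G (i := i - j) (by omega) M
      exact apply_mem_img _ hm
  -- hence so does the j-th term
  have hjterm : ρ (w j) • G^[t + j] x ∈ sumIter G h M := by
    have h1 := Finset.add_sum_erase Finset.univ (fun i : Fin (h + 1) => ρ (w i) • G^[t + i] x)
      (Finset.mem_univ j)
    rw [hrel'] at h1
    have h2 : ρ (w j) • G^[t + j] x = -∑ i ∈ Finset.univ.erase j, ρ (w i) • G^[t + i] x :=
      eq_neg_of_add_eq_zero_left h1
    rw [h2]
    apply Submodule.neg_mem
    apply Submodule.sum_mem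
    intro i hi
    exact hterms i (Finset.ne_of_mem_erase hi)
  have htj : t + j = h + 1 := by omega
  rw [htj] at hjterm
  have hρu : IsUnit (ρ (w j)) := hju.map ρ
  obtain ⟨u, hu'⟩ := hρu
  have : G^[h + 1] x = ((u⁻¹ : Wˣ) : W) • (ρ (w j) • G^[h + 1] x) := by
    rw [smul_smul, ← hu', Units.inv_mul, one_smul]
  rw [this]
  exact Submodule.smul_mem _ _ hjterm

theorem img_sumIter_le {h : ℕ} [Module.Finite L N] (hh : Module.finrank L N = h)
    (hG : IsSemi (p := p) (k := k) G) (hGM : img (G^[h + 1]) M ≤ Isoc.pPow (-1) M) :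
    img G (sumIter G h M) ≤ sumIter G h M := by
  intro y hy
  obtain ⟨x, hx, rfl⟩ := (mem_img hG).mp hy
  clear hy
  unfold sumIter at hx
  refine Submodule.iSup_induction (fun i : Fin (h + 1) => img (G^[i]) M)
    (motive := fun x => G x ∈ sumIter G h M) hx ?_ ?_ ?_
  · intro i z hz
    obtain ⟨m, hm, rfl⟩ := (mem_img (hG.iterate i)).mp hz
    rw [← Function.iterate_succ_apply' G (i : ℕ) m]
    by_cases hi : (i : ℕ) + 1 ≤ h
    · exact img_le_sumIter G hi M (apply_mem_img _ hm)
    · have : (i : ℕ) + 1 = h + 1 := by omega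
      rw [Nat.succ_eq_add_one, this]
      exact iterate_succ_mem_sumIter hh hG hGM hm
  · rw [hG.map_zero]; exact Submodule.zero_mem _
  · intro a b ha hb
    rw [hG.map_add]; exact Submodule.add_mem _ ha hb

theorem effective_of_iterate_le {h : ℕ} [Module.Finite L N] (hh : Module.finrank L N = h)
    (hG : IsSemi (p := p) (k := k) G) (hM : M.IsLattice L)
    (hGM : img (G^[h + 1]) M ≤ Isoc.pPow (-1) M) :
    ∃ M' : Submodule W N, M'.IsLattice L ∧ img G M' ≤ M' :=
  ⟨sumIter G h M, sumIter_isLattice hG h hM, img_sumIter_le hh hG hGM⟩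

end Groth.Agent.H85
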