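import Mathlib

set_option autoImplicit false
set_option linter.unusedSectionVars false

noncomputable section

namespace Groth.Agent.H85

open Matrix Polynomial

variable {R : Type*} [CommRing R] {Ω : Type*} [Field Ω] [Algebra R Ω] {n : ℕ}

/-- a root of the characteristic polynomial has an eigenvector -/
theorem exists_eigenvector_of_isRoot (A : Matrix (Fin n) (Fin n) Ω) (α : Ω)
    (h : A.charpoly.IsRoot α) : ∃ v : Fin n → Ω, v ≠ 0 ∧ A *ᵥ v = α • v := by
  rw [Polynomial.IsRoot, Matrix.eval_charpoly] at h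
  obtain ⟨v, hv, hv0⟩ := Matrix.exists_mulVec_eq_zero_iff.mpr h
  refine ⟨v, hv, ?_⟩
  rw [Matrix.sub_mulVec] at hv0
  have h1 : (Matrix.scalar (Fin n) α) *ᵥ v = α • v := by
    ext i
    simp [Matrix.scalar, Matrix.mulVec, dotProduct, Matrix.diagonal_apply]
  rw [h1, sub_eq_zero] at hv0
  exact hv0.symm

/-- an eigenvalue is a root of the characteristic polynomial -/
theorem isRoot_of_mulVec_eq (A : Matrix (Fin n) (Fin n) Ω) (α : Ω) (v : Fin n → Ω) (hv : v ≠ 0)
    (h : A *ᵥ v = α • v) : A.charpoly.IsRoot α := by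
  rw [Polynomial.IsRoot, Matrix.eval_charpoly]
  apply Matrix.exists_mulVec_eq_zero_iff.mp
  refine ⟨v, hv, ?_⟩
  rw [Matrix.sub_mulVec]
  have h1 : (Matrix.scalar (Fin n) α) *ᵥ v = α • v := by
    ext i
    simp [Matrix.scalar, Matrix.mulVec, dotProduct, Matrix.diagonal_apply]
  rw [h1, h, sub_self]

theorem pow_mulVec_eq (A : Matrix (Fin n) (Fin n) Ω) (α : Ω) (v : Fin n → Ω)
    (h : A *ᵥ v = α • v) (s : ℕ) : (A ^ s) *ᵥ v = (α ^ s) • v := by
  induction s with
  | zero => simp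
  | succ s ih =>
    rw [pow_succ, ← Matrix.mulVec_mulVec, h, Matrix.mulVec_smul, ih, smul_smul, pow_succ, mul_comm]

/-- an eigenvalue of a matrix with entries in `R` is integral over `R` -/
theorem isIntegral_of_mulVec_eq (B : Matrix (Fin n) (Fin n) R) (v : Fin n → Ω) (hv : v ≠ 0) (β : Ω)
    (h : (B.map (algebraMap R Ω)) *ᵥ v = β • v) : IsIntegral R β := by
  have h1 := isRoot_of_mulVec_eq _ β v hv h
  refine ⟨B.charpoly, Matrix.charpoly_monic B, ?_⟩
  have h2 : (B.map (algebraMap R Ω)).charpoly = B.charpoly.map (algebraMap R Ω) :=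
    Matrix.charpoly_map B (algebraMap R Ω)
  rw [h2, Polynomial.IsRoot, Polynomial.eval_map] at h1
  exact h1

/-- an eigenvalue of an invertible matrix with entries in `R` is a unit of the integral closure -/
theorem isIntegral_inv_of_mulVec_eq (B : Matrix (Fin n) (Fin n) R) (hB : IsUnit B.det)
    (v : Fin n → Ω) (hv : v ≠ 0) (β : Ω)
    (h : (B.map (algebraMap R Ω)) *ᵥ v = β • v) : β ≠ 0 ∧ IsIntegral R β⁻¹ := by
  have hBinv : B⁻¹ * B = 1 := Matrix.nonsing_inv_mul B hB
  have h3 : (B⁻¹.map (algebraMap R Ω)) * (B.map (algebraMap R Ω)) = 1 := by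
    rw [← Matrix.map_mul, hBinv, Matrix.map_one _ (map_zero _) (map_one _)]
  have h4 : v = β • ((B⁻¹.map (algebraMap R Ω)) *ᵥ v) := by
    have := congrArg (fun w => (B⁻¹.map (algebraMap R Ω)) *ᵥ w) h
    simp only [Matrix.mulVec_mulVec, h3, Matrix.one_mulVec, Matrix.mulVec_smul] at this
    exact this
  have hβ : β ≠ 0 := by
    rintro rfl
    rw [zero_smul] at h4
    exact hv h4
  refine ⟨hβ, ?_⟩
  apply isIntegral_of_mulVec_eq B⁻¹ v hv
  have h5 := congrArg (fun w => β⁻¹ • w) h4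
  simp only [smul_smul, inv_mul_cancel₀ hβ, one_smul] at h5
  exact h5.symm

end Groth.Agent.H85
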