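import Groth.Agent.H85.SlopeLattice
import Mathlib.RingTheory.Noetherian.Basic

set_option autoImplicit false
set_option linter.unusedSectionVars false

noncomputable section

open scoped Isocrystal Pointwise
open Filter Topology

universe u v v'

namespace Groth.Agent.H85

variable {p : ℕ} [Fact p.Prime] {k : Type u} [Field k] [CharP k p] [PerfectRing k p]

local notation "W" => WittVector p k
local notation "L" => FractionRing (WittVector p k)

variable {N : Type v} [AddCommGroup N] [Module (WittVector p k) N] [Module (FractionRing (WittVector p k)) N]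
  [IsScalarTower (WittVector p k) (FractionRing (WittVector p k)) N]
variable {N' : Type v'} [AddCommGroup N'] [Module (WittVector p k) N'] [Module (FractionRing (WittVector p k)) N']
  [IsScalarTower (WittVector p k) (FractionRing (WittVector p k)) N']

/-! ### equivariant linear maps -/

section Equivariant

variable (φ : N →ₗ[FractionRing (WittVector p k)] N')

/-- the image of a `W`-submodule under an `L`-linear map -/
def mapW (M : Submodule W N) : Submodule W N' := M.map (φ.restrictScalars W)

theorem mem_mapW {M : Submodule W N} {y : N'} : y ∈ mapW φ M ↔ ∃ x ∈ M, φ x = y := by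
  simp [mapW, Submodule.mem_map]

theorem mapW_mono {M₁ M₂ : Submodule W N} (h : M₁ ≤ M₂) : mapW φ M₁ ≤ mapW φ M₂ :=
  Submodule.map_mono h

theorem mapW_fg {M : Submodule W N} (h : M.FG) : (mapW φ M).FG := h.map _

theorem mapW_pPow (r : ℤ) (M : Submodule W N) : mapW φ (Isoc.pPow r M) = Isoc.pPow r (mapW φ M) := by
  ext y
  rw [mem_mapW, mem_pPow_iff_exists]
  constructor
  · rintro ⟨x, hx, rfl⟩
    obtain ⟨m, hm, rfl⟩ := (mem_pPow_iff_exists _).mp hx
    exact ⟨φ m, (mem_mapW φ).mpr ⟨m, hm, rfl⟩, (φ.map_smul _ _).symm⟩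
  · rintro ⟨z, hz, rfl⟩
    obtain ⟨m, hm, rfl⟩ := (mem_mapW φ).mp hz
    exact ⟨_, smul_mem_pPow M hm, φ.map_smul _ _⟩

theorem mapW_img {G : N → N} {G' : N' → N'} (hG : IsSemi (p := p) (k := k) G)
    (hG' : IsSemi (p := p) (k := k) G') (hcomm : ∀ x, φ (G x) = G' (φ x)) (M : Submodule W N) :
    mapW φ (img G M) = img G' (mapW φ M) := by
  ext y
  rw [mem_mapW, mem_img hG']
  constructor
  · rintro ⟨x, hx, rfl⟩
    obtain ⟨m, hm, rfl⟩ := (mem_img hG).mp hx
    exact ⟨φ m, (mem_mapW φ).mpr ⟨m, hm, rfl⟩, (hcomm m).symm⟩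
  · rintro ⟨z, hz, rfl⟩
    obtain ⟨m, hm, rfl⟩ := (mem_mapW φ).mp hz
    exact ⟨G m, apply_mem_img G hm, hcomm m⟩

theorem comm_iterate {G : N → N} {G' : N' → N'} (hcomm : ∀ x, φ (G x) = G' (φ x)) (n : ℕ) (x : N) :
    φ (G^[n] x) = G'^[n] (φ x) := by
  induction n generalizing x with
  | zero => rfl
  | succ n ih => rw [Function.iterate_succ_apply, Function.iterate_succ_apply, ih, hcomm]

theorem span_mapW (M : Submodule W N) :
    Submodule.span L (mapW φ M : Set N') = (Submodule.span L (M : Set N)).map φ := by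
  rw [Submodule.map_span]
  congr 1

theorem mapW_injective (hφ : Function.Injective φ) : Function.Injective (mapW (p := p) (k := k) φ) :=
  Submodule.map_injective_of_injective (f := φ.restrictScalars W) hφ

end Equivariant

/-! ### intersection of the `p^m M` -/

theorem iInf_pPow_eq_bot {M : Submodule W N} (hM : M.FG) : ⨅ m : ℕ, Isoc.pPow (m : ℤ) M = ⊥ := by
  set X : Submodule W N := ⨅ m : ℕ, Isoc.pPow (m : ℤ) M with hX
  have hXM : X ≤ M := by
    have := iInf_le (fun m : ℕ => Isoc.pPow (m : ℤ) M) 0
    simpa using this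
  have hXfg : X.FG := hM.of_le hXM
  apply eq_bot_of_le_pPow_one hXfg
  intro x hx
  rw [mem_pPow]
  rw [hX, Submodule.mem_iInf] at hx ⊢
  intro m
  have := hx (m + 1)
  rw [mem_pPow] at this ⊢
  rw [smul_smul, ← zpow_add₀ pL_ne_zero]
  convert this using 3
  push_cast; ring

theorem eq_bot_of_forall_le_pPow {K M : Submodule W N} (hM : M.FG)
    (h : ∀ m : ℕ, K ≤ Isoc.pPow (m : ℤ) M) : K = ⊥ := by
  rw [eq_bot_iff, ← iInf_pPow_eq_bot hM]
  exact le_iInf h

/-- a finitely generated submodule scaled down by an operator fixing a lattice vanishes -/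
theorem eq_bot_of_img_eq_pPow_neg {H : N → N} (hH : IsSemi (p := p) (k := k) H)
    {M K : Submodule W N} (hM : M.IsLattice L) (hK : K.FG) (hHM : img H M = M) {e : ℤ} (he : e < 0)
    (hHK : img H K = Isoc.pPow e K) : K = ⊥ := by
  obtain ⟨c, hc⟩ := exists_le_pPow hK hM.span_eq_top
  apply eq_bot_of_forall_le_pPow hM.fg
  intro m
  have h1 : img (H^[m + c]) K = Isoc.pPow (((m + c : ℕ) : ℤ) * e) K := img_iterate_eq hH hHK _
  have h2 : img (H^[m + c]) M = M := by
    have := img_iterate_eq hH (a := 0) (by rw [pPow_zero]; exact hHM) (m + c)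
    simpa using this
  have h3 : Isoc.pPow (((m + c : ℕ) : ℤ) * e) K ≤ Isoc.pPow (-(c : ℤ)) M := by
    rw [← h1]
    refine (img_mono _ hc).trans ?_
    rw [img_pPow (hH.iterate _), h2]
  rw [pPow_le_iff, pPow_pPow] at h3
  refine h3.trans (pPow_anti _ ?_)
  push_cast
  nlinarith

/-! ### semilinear maps and finite dimensional subspaces -/

theorem mem_of_apply_mem {G : N → N} (hG : IsSemi (p := p) (k := k) G) (hinj : Function.Injective G)
    (P : Submodule L N) [Module.Finite L P] (hP : ∀ x ∈ P, G x ∈ P) {x : N} (hx : G x ∈ P) : x ∈ P := by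
  classical
  obtain ⟨T, hadd, hsmul⟩ := hG
  have hG : IsSemi (p := p) (k := k) G := ⟨T, hadd, hsmul⟩
  let b := Module.finBasis L P
  let v : Fin (Module.finrank L P) → N := fun i => G (b i : N)
  have hvP : ∀ i, v i ∈ P := fun i => hP _ (b i).2
  have hli : LinearIndependent L v := by
    rw [Fintype.linearIndependent_iff]
    intro g hg i
    have h1 : G (∑ i, T.ρ.symm (g i) • (b i : N)) = 0 := by
      rw [hG.map_sum, ← hg]
      apply Finset.sum_congr rfl
      intro i _
      rw [hsmul, RingEquiv.apply_symm_apply]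
    have h2 : ∑ i, T.ρ.symm (g i) • (b i : N) = 0 := hinj (h1.trans hG.map_zero.symm)
    have h3 : ∑ i, T.ρ.symm (g i) • b i = 0 := by
      apply Subtype.ext
      rw [Submodule.coe_sum]
      simpa using h2
    have h4 := (Fintype.linearIndependent_iff.mp b.linearIndependent) _ h3 i
    simpa using h4
  -- the v i span P
  let v' : Fin (Module.finrank L P) → P := fun i => ⟨v i, hvP i⟩
  have hli' : LinearIndependent L v' := by
    apply LinearIndependent.of_comp P.subtype
    exact hli
  have hspan : Submodule.span L (Set.range v') = ⊤ :=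
    hli'.span_eq_top_of_card_eq_finrank' (by simp)
  have hxP : (⟨G x, hx⟩ : P) ∈ Submodule.span L (Set.range v') := by rw [hspan]; trivial
  obtain ⟨c, hc⟩ := (Submodule.mem_span_range_iff_exists_fun L).mp hxP
  have h5 : G x = G (∑ i, T.ρ.symm (c i) • (b i : N)) := by
    rw [hG.map_sum]
    have := congrArg (fun z : P => (z : N)) hc
    simp only [Submodule.coe_sum, Submodule.coe_smul] at this
    rw [← this]
    apply Finset.sum_congr rfl
    intro i _
    rw [hsmul, RingEquiv.apply_symm_apply]
  rw [hinj h5]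
  exact Submodule.sum_mem _ fun i _ => Submodule.smul_mem _ _ (b i).2

end Groth.Agent.H85
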