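import Mathlib
import Groth.Agent.H85.EulerLES
import Groth.Agent.H75.ExtLen
import Groth.Agent.Lead.RegularGlDim

/-!
# Euler characteristic of `Ext(-, Y)` over a regular local ring of dimension 2 (helper85)

For `Y` of finite length over a regular local ring `R` of dimension `2` and `M` of finite length,
`ℓ(Ext¹(M,Y)) = ℓ(Hom(M,Y)) + ℓ(Ext²(M,Y))`.
-/

set_option autoImplicit false
universe u

namespace Groth.Agent.H85.ExtEuler

open CategoryTheory Abelian

variable {R : Type u} [CommRing R]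

section LES

variable {S : ShortComplex (ModuleCat.{u} R)} (hS : S.ShortExact) (Y : ModuleCat.{u} R)

/-- `Ext(X₃,Y) → Ext(X₂,Y)` -/
noncomputable def pG (S : ShortComplex (ModuleCat.{u} R)) (Y : ModuleCat.{u} R) (n : ℕ) :
    Ext S.X₃ Y n →ₗ[R] Ext S.X₂ Y n :=
  Ext.precompOfLinear (Ext.mk₀ S.g) R Y (zero_add n)

/-- `Ext(X₂,Y) → Ext(X₁,Y)` -/
noncomputable def pF (S : ShortComplex (ModuleCat.{u} R)) (Y : ModuleCat.{u} R) (n : ℕ) :
    Ext S.X₂ Y n →ₗ[R] Ext S.X₁ Y n :=
  Ext.precompOfLinear (Ext.mk₀ S.f) R Y (zero_add n)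

/-- the connecting map `Ext(X₁,Y) → Ext(X₃,Y)` -/
noncomputable def pD (n : ℕ) : Ext S.X₁ Y n →ₗ[R] Ext S.X₃ Y (n + 1) :=
  Ext.precompOfLinear hS.extClass R Y (add_comm 1 n)

include hS in
theorem pG_injective_zero : Function.Injective (pG S Y 0) := by
  have := hS.epi_g
  exact Ext.precomp_mk₀_injective_of_epi Y S.g

include hS in
theorem exact_pG_pF (n : ℕ) : Function.Exact (pG S Y n) (pF S Y n) := by
  intro x₂
  constructor
  · intro h
    obtain ⟨x₃, hx₃⟩ := Ext.contravariant_sequence_exact₂ hS Y x₂ h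
    exact ⟨x₃, hx₃⟩
  · rintro ⟨x₃, rfl⟩
    change (Ext.mk₀ S.f).comp ((Ext.mk₀ S.g).comp x₃ (zero_add n)) (zero_add n) = 0
    rw [Ext.mk₀_comp_mk₀_assoc, S.zero, Ext.mk₀_zero, Ext.zero_comp]

theorem exact_pF_pD (n : ℕ) : Function.Exact (pF S Y n) (pD hS Y n) := by
  intro x₁
  constructor
  · intro h
    obtain ⟨x₂, hx₂⟩ := Ext.contravariant_sequence_exact₁ hS Y x₁ (add_comm 1 n) h
    exact ⟨x₂, hx₂⟩
  · rintro ⟨x₂, rfl⟩
    exact hS.extClass_comp_assoc x₂ (h := add_comm 1 n)

theorem exact_pD_pG (n : ℕ) : Function.Exact (pD hS Y n) (pG S Y (n + 1)) := by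
  intro x₃
  constructor
  · intro h
    obtain ⟨x₁, hx₁⟩ := Ext.contravariant_sequence_exact₃ hS Y x₃ h (add_comm 1 n)
    exact ⟨x₁, hx₁⟩
  · rintro ⟨x₁, rfl⟩
    exact hS.comp_extClass_assoc x₁ (add_comm 1 n)

end LES

section Length

variable {A B C : Type u} [AddCommGroup A] [Module R A] [AddCommGroup B] [Module R B]
  [AddCommGroup C] [Module R C]

theorem length_ne_top_of_exact (f : A →ₗ[R] B) (g : B →ₗ[R] C) (h : Function.Exact f g)
    (hA : Module.length R A ≠ ⊤) (hC : Module.length R C ≠ ⊤) : Module.length R B ≠ ⊤ := by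
  rw [EulerLES.length_eq_ker_add_range g, LinearMap.exact_iff.mp h]
  intro h0
  rcases ENat.add_eq_top.mp h0 with h1 | h1
  swap
  · exact EulerLES.length_range_ne_top g hC h1
  apply hA
  have := Module.length_le_of_surjective f.rangeRestrict f.surjective_rangeRestrict
  rw [h1, top_le_iff] at this
  exact this

end Length

/-- all `Ext^i(X, Y)` have finite length -/
def Good (Y X : ModuleCat.{u} R) : Prop := ∀ i, Module.length R (Ext X Y i) ≠ ⊤

/-- the Euler characteristic `ℓ(Ext⁰) - ℓ(Ext¹) + ℓ(Ext²)` -/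
noncomputable def chi (Y X : ModuleCat.{u} R) : ℤ :=
  ∑ i ∈ Finset.range 3, (-1 : ℤ) ^ i * EulerLES.len (S := R) (Ext X Y i)

section Additivity

variable {S : ShortComplex (ModuleCat.{u} R)} (hS : S.ShortExact) (Y : ModuleCat.{u} R)

include hS in
theorem good_X₂ (h1 : Good Y S.X₁) (h3 : Good Y S.X₃) : Good Y S.X₂ := fun i =>
  length_ne_top_of_exact _ _ (exact_pG_pF hS Y i) (h3 i) (h1 i)

include hS in
theorem good_X₁ (h2 : Good Y S.X₂) (h3 : Good Y S.X₃) : Good Y S.X₁ := fun i =>
  length_ne_top_of_exact _ _ (exact_pF_pD hS Y i) (h2 i) (h3 (i + 1))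

include hS in
theorem good_X₃ (h1 : Good Y S.X₁) (h2 : Good Y S.X₂) : Good Y S.X₃ := fun i => by
  cases i with
  | zero =>
    intro h
    apply h2 0
    have := Module.length_le_of_injective (pG S Y 0) (pG_injective_zero hS Y)
    rw [h, top_le_iff] at this
    exact this
  | succ n =>
    exact length_ne_top_of_exact _ _ (exact_pD_pG hS Y n) (h1 n) (h2 (n + 1))

include hS in
theorem chi_add (hvan : Subsingleton (Ext S.X₃ Y 3)) (h1 : Good Y S.X₁) (h2 : Good Y S.X₂)
    (h3 : Good Y S.X₃) : chi Y S.X₂ = chi Y S.X₁ + chi Y S.X₃ := by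
  have := EulerLES.euler (S := R) (fun i => Ext S.X₃ Y i) (fun i => Ext S.X₂ Y i)
    (fun i => Ext S.X₁ Y i) (fun i => pG S Y i) (fun i => pF S Y i) (fun i => pD hS Y i)
    (pG_injective_zero hS Y) (exact_pG_pF hS Y) (exact_pF_pD hS Y) (exact_pD_pG hS Y)
    h3 h2 h1 2 hvan
  unfold chi
  simp only [Finset.sum_range_succ, Finset.sum_range_zero] at this ⊢
  linarith

end Additivity

section Iso

theorem good_of_iso (Y : ModuleCat.{u} R) {X X' : ModuleCat.{u} R} (e : X ≅ X') (h : Good Y X) :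
    Good Y X' := fun i => by
  rw [← (H75.ExtLen.extLEquivLeft (Y := Y) e i).length_eq]
  exact h i

theorem chi_of_iso (Y : ModuleCat.{u} R) {X X' : ModuleCat.{u} R} (e : X ≅ X') :
    chi Y X' = chi Y X := by
  unfold chi EulerLES.len
  refine Finset.sum_congr rfl fun i _ => ?_
  rw [(H75.ExtLen.extLEquivLeft (Y := Y) e i).length_eq]

end Iso

section Base

theorem subsingleton_ext_of_subsingleton (Y X : ModuleCat.{u} R) [Subsingleton X] (i : ℕ) :
    Subsingleton (Ext X Y i) := by
  have hid : 𝟙 X = 0 := by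
    apply ModuleCat.hom_ext
    apply LinearMap.ext
    intro x
    exact Subsingleton.elim _ _
  have hz : ∀ (α : Ext X Y i), α = 0 := by
    intro α
    rw [← Ext.mk₀_id_comp α, hid, Ext.mk₀_zero, Ext.zero_comp]
  exact ⟨fun a b => (hz a).trans (hz b).symm⟩

theorem good_of_subsingleton (Y X : ModuleCat.{u} R) [Subsingleton X] : Good Y X := fun i => by
  have := subsingleton_ext_of_subsingleton Y X i
  rw [Module.length_eq_zero]
  exact ENat.zero_ne_top

theorem chi_of_subsingleton (Y X : ModuleCat.{u} R) [Subsingleton X] : chi Y X = 0 := by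
  unfold chi
  refine Finset.sum_eq_zero fun i _ => ?_
  have := subsingleton_ext_of_subsingleton Y X i
  unfold EulerLES.len
  rw [Module.length_eq_zero]
  simp

/-- `Hom(R, Y) ≅ Y` -/
noncomputable def ext₀SelfEquiv (Y : ModuleCat.{u} R) :
    Ext (ModuleCat.of R R) Y 0 ≃ₗ[R] Y :=
  (Ext.linearEquiv₀.trans ModuleCat.homLinearEquiv).trans (LinearMap.ringLmapEquivSelf R R Y)

theorem subsingleton_ext_self (Y : ModuleCat.{u} R) (i : ℕ) :
    Subsingleton (Ext (ModuleCat.of R R) Y (i + 1)) := by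
  have hproj : Projective (ModuleCat.of R R) :=
    (IsProjective.iff_projective (R := R) (P := R)).mp inferInstance
  exact ⟨fun a b => (Ext.eq_zero_of_projective a).trans (Ext.eq_zero_of_projective b).symm⟩

theorem good_self (Y : ModuleCat.{u} R) (hY : Module.length R Y ≠ ⊤) :
    Good Y (ModuleCat.of R R) := fun i => by
  cases i with
  | zero => rw [(ext₀SelfEquiv Y).length_eq]; exact hY
  | succ n =>
    have := subsingleton_ext_self Y n
    rw [Module.length_eq_zero]
    exact ENat.zero_ne_top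

theorem chi_self (Y : ModuleCat.{u} R) :
    chi Y (ModuleCat.of R R) = EulerLES.len (S := R) Y := by
  unfold chi
  simp only [Finset.sum_range_succ, Finset.sum_range_zero]
  have h1 := subsingleton_ext_self Y 0
  have h2 := subsingleton_ext_self Y 1
  have e1 : EulerLES.len (S := R) (Ext (ModuleCat.of R R) Y (0 + 1)) = 0 := by
    unfold EulerLES.len
    rw [Module.length_eq_zero]
    simp
  have e2 : EulerLES.len (S := R) (Ext (ModuleCat.of R R) Y (1 + 1)) = 0 := by
    unfold EulerLES.len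
    rw [Module.length_eq_zero]
    simp
  have e0 : EulerLES.len (S := R) (Ext (ModuleCat.of R R) Y 0) = EulerLES.len (S := R) Y := by
    unfold EulerLES.len
    rw [(ext₀SelfEquiv Y).length_eq]
  rw [e0, e1, e2]
  ring

/-- quotient by a regular element kills the Euler characteristic -/
theorem chi_quotSMulTop (Y : ModuleCat.{u} R) (hvan : ∀ X : ModuleCat.{u} R, Subsingleton (Ext X Y 3))
    (E : ModuleCat.{u} R) (x : R) (hx : IsSMulRegular E x) (hE : Good Y E) :
    Good Y (ModuleCat.of R (QuotSMulTop x E)) ∧ chi Y (ModuleCat.of R (QuotSMulTop x E)) = 0 := by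
  have hS := hx.smulShortComplex_shortExact
  have h3 : Good Y (ModuleCat.smulShortComplex E x).X₃ := good_X₃ hS Y hE hE
  refine ⟨h3, ?_⟩
  have := chi_add hS Y (hvan _) hE hE h3
  have h' : chi Y (ModuleCat.smulShortComplex E x).X₃ = 0 := by
    change chi Y E = chi Y E + _ at this
    linarith
  exact h'

end Base

section Main

open IsLocalRing Pointwise

/-- `R/(x)/(y) ≅ R/(x,y)` -/
theorem exists_quotQuotEquiv (x y : R) (I : Ideal R) (h : Ideal.span {x, y} = I) :
    Nonempty (QuotSMulTop y (QuotSMulTop x R) ≃ₗ[R] R ⧸ I) := by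
  let φ : R →ₗ[R] QuotSMulTop y (QuotSMulTop x R) :=
    (y • (⊤ : Submodule R (QuotSMulTop x R))).mkQ ∘ₗ (x • (⊤ : Submodule R R)).mkQ
  have hsurj : Function.Surjective φ :=
    (Submodule.mkQ_surjective _).comp (Submodule.mkQ_surjective _)
  have hker : LinearMap.ker φ = I := by
    rw [← h]
    ext r
    rw [LinearMap.mem_ker, Ideal.mem_span_pair]
    change (y • (⊤ : Submodule R (QuotSMulTop x R))).mkQ ((x • (⊤ : Submodule R R)).mkQ r) = 0 ↔ _
    rw [Submodule.mkQ_apply, Submodule.Quotient.mk_eq_zero,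
      Submodule.mem_smul_pointwise_iff_exists]
    constructor
    · rintro ⟨q, -, hq⟩
      obtain ⟨s, rfl⟩ := Submodule.mkQ_surjective _ q
      rw [← map_smul, ← sub_eq_zero, ← map_sub, Submodule.mkQ_apply,
        Submodule.Quotient.mk_eq_zero, Submodule.mem_smul_pointwise_iff_exists] at hq
      obtain ⟨t, -, ht⟩ := hq
      refine ⟨-t, s, ?_⟩
      rw [smul_eq_mul, smul_eq_mul] at ht
      linear_combination (-1 : R) * ht
    · rintro ⟨a, b, rfl⟩
      refine ⟨(x • (⊤ : Submodule R R)).mkQ b, Submodule.mem_top, ?_⟩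
      rw [← map_smul, ← sub_eq_zero, ← map_sub, Submodule.mkQ_apply,
        Submodule.Quotient.mk_eq_zero, Submodule.mem_smul_pointwise_iff_exists]
      refine ⟨-a, Submodule.mem_top, ?_⟩
      rw [smul_eq_mul, smul_eq_mul]
      ring
  exact ⟨(φ.quotKerEquivOfSurjective hsurj).symm.trans (Submodule.quotEquivOfEq _ _ hker)⟩

variable (R) [IsRegularLocalRing R] (hd : ringKrullDim R = 2)

include hd in
theorem hvan (Y X : ModuleCat.{u} R) : Subsingleton (Ext X Y 3) := by
  have := Groth.Agent.Lead.RLR.hasProjectiveDimensionLT R 2 hd X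
  exact HasProjectiveDimensionLT.subsingleton X (2 + 1) 3 le_rfl Y

include hd in
/-- the residue field has vanishing Euler characteristic -/
theorem good_chi_residue (Y : ModuleCat.{u} R) (hY : Module.length R Y ≠ ⊤) :
    Good Y (ModuleCat.of R (R ⧸ maximalIdeal R)) ∧
      chi Y (ModuleCat.of R (R ⧸ maximalIdeal R)) = 0 := by
  obtain ⟨x, hx⟩ := Groth.Agent.Lead.RLR.exists_fin_span_eq R 2 hd
  have hreg := Groth.Agent.Lead.RLR.isRegular_ofFn R 2 hd x hx
  have hl : List.ofFn x = [x 0, x 1] := by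
    simp [List.ofFn_succ]
  rw [hl] at hreg
  obtain ⟨hx0, hreg1⟩ := (RingTheory.Sequence.isRegular_cons_iff _ _ _).mp hreg
  obtain ⟨hx1, -⟩ := (RingTheory.Sequence.isRegular_cons_iff _ _ _).mp hreg1
  have hspan : Ideal.span {x 0, x 1} = maximalIdeal R := by
    rw [← hx]
    congr 1
    ext z
    simp only [Set.mem_insert_iff, Set.mem_singleton_iff, Set.mem_range]
    constructor
    · rintro (rfl | rfl)
      · exact ⟨0, rfl⟩
      · exact ⟨1, rfl⟩
    · rintro ⟨i, rfl⟩
      fin_cases i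
      · left; rfl
      · right; rfl
  obtain ⟨e⟩ := exists_quotQuotEquiv (x 0) (x 1) _ hspan
  have hv := hvan R hd Y
  obtain ⟨g1, -⟩ := chi_quotSMulTop Y hv (ModuleCat.of R R) (x 0) hx0 (good_self Y hY)
  obtain ⟨g2, c2⟩ := chi_quotSMulTop Y hv (ModuleCat.of R (QuotSMulTop (x 0) R)) (x 1) hx1 g1
  refine ⟨good_of_iso Y e.toModuleIso g2, ?_⟩
  rw [chi_of_iso Y e.toModuleIso, c2]

include hd in
/-- **vanishing of the Euler characteristic on modules of finite length** -/
theorem good_chi_of_isFiniteLength (Y : ModuleCat.{u} R) (hY : Module.length R Y ≠ ⊤)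
    (M : Type u) [AddCommGroup M] [Module R M] (hM : IsFiniteLength R M) :
    Good Y (ModuleCat.of R M) ∧ chi Y (ModuleCat.of R M) = 0 := by
  induction hM with
  | of_subsingleton => exact ⟨good_of_subsingleton Y _, chi_of_subsingleton Y _⟩
  | @of_simple_quotient M _ _ N _ hN ih =>
    have hS := H75.Canon.shortExact_of N.subtype N.mkQ N.subtype_injective N.mkQ_surjective
      (LinearMap.exact_subtype_mkQ N)
    obtain ⟨I, hI, ⟨e⟩⟩ := isSimpleModule_iff_quot_maximal.mp
      (inferInstance : IsSimpleModule R (M ⧸ N))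
    rw [IsLocalRing.eq_maximalIdeal hI] at e
    obtain ⟨gk, ck⟩ := good_chi_residue R hd Y hY
    have g3 : Good Y (ModuleCat.of R (M ⧸ N)) := good_of_iso Y e.symm.toModuleIso gk
    have c3 : chi Y (ModuleCat.of R (M ⧸ N)) = 0 := by
      rw [chi_of_iso Y e.symm.toModuleIso, ck]
    have g2 := good_X₂ hS Y ih.1 g3
    refine ⟨g2, ?_⟩
    have := chi_add hS Y (hvan R hd Y _) ih.1 g2 g3
    change chi Y (ModuleCat.of R M) = chi Y (ModuleCat.of R N) + chi Y (ModuleCat.of R (M ⧸ N))
      at this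
    rw [this, ih.2, c3, add_zero]

include hd in
/-- `ℓ(Ext¹(M,Y)) = ℓ(Hom(M,Y)) + ℓ(Ext²(M,Y))` for `M`, `Y` of finite length over a regular
local ring of dimension two. -/
theorem length_ext_one_eq (Y : ModuleCat.{u} R) (hY : Module.length R Y ≠ ⊤)
    (M : Type u) [AddCommGroup M] [Module R M] (hM : IsFiniteLength R M) :
    Module.length R (Ext (ModuleCat.of R M) Y 1) =
      Module.length R (Ext (ModuleCat.of R M) Y 0) +
        Module.length R (Ext (ModuleCat.of R M) Y 2) := by
  obtain ⟨g, c⟩ := good_chi_of_isFiniteLength R hd Y hY M hM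
  unfold chi EulerLES.len at c
  simp only [Finset.sum_range_succ, Finset.sum_range_zero] at c
  have g0 := g 0
  have g1 := g 1
  have g2 := g 2
  obtain ⟨a, ha⟩ := ENat.ne_top_iff_exists.mp g0
  obtain ⟨b, hb⟩ := ENat.ne_top_iff_exists.mp g1
  obtain ⟨d, hd'⟩ := ENat.ne_top_iff_exists.mp g2
  simp only [zero_add] at c
  rw [← ha, ← hb, ← hd'] at c ⊢
  simp only [ENat.toNat_natCast] at c
  have : b = a + d := by
    have : (b : ℤ) = a + d := by linarith
    exact_mod_cast this
  rw [this]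
  rfl

end Main

end Groth.Agent.H85.ExtEuler
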