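import Mathlib
import Groth.Agent.H85.ExtEuler

/-!
# Right exactness of the top `Ext` in the second variable (helper85)

* `length_hom_add`: four term exact sequence of `Hom`/`Ext¹`.
* `length_ext_quot`: if `Ext^{n+1}(X, -) = 0` then `ℓ(Ext^n(X, R/J)) = ℓ(Ext^n(X,R)/J Ext^n(X,R))`.
-/

set_option autoImplicit false
universe u

namespace Groth.Agent.H85.ExtRight

open CategoryTheory Abelian

variable {R : Type u} [CommRing R]

section FourTerm

variable {A B C D : Type u} [AddCommGroup A] [Module R A] [AddCommGroup B] [Module R B]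
  [AddCommGroup C] [Module R C] [AddCommGroup D] [Module R D]

theorem length_four_term (f : A →ₗ[R] B) (g : B →ₗ[R] C) (h : C →ₗ[R] D)
    (hf : Function.Injective f) (hfg : Function.Exact f g) (hgh : Function.Exact g h)
    (hh : Function.Surjective h) :
    Module.length R A + Module.length R C = Module.length R B + Module.length R D := by
  have h1 := EulerLES.length_eq_ker_add_range g
  rw [LinearMap.exact_iff.mp hfg] at h1
  have h2 := EulerLES.length_eq_ker_add_range h
  rw [LinearMap.exact_iff.mp hgh, LinearMap.range_eq_top.mpr hh, Module.length_top] at h2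
  have h3 : Module.length R (LinearMap.range f) = Module.length R A :=
    (LinearEquiv.ofInjective f hf).length_eq.symm
  rw [h1, h2, h3, add_assoc]

end FourTerm

open ExtEuler in
/-- `0 → Hom(X₃,Y) → Hom(X₂,Y) → Hom(X₁,Y) → Ext¹(X₃,Y) → 0` when `Ext¹(X₂,Y) = 0`. -/
theorem length_hom_add {S : ShortComplex (ModuleCat.{u} R)} (hS : S.ShortExact)
    (Y : ModuleCat.{u} R) (hproj : ∀ x : Ext S.X₂ Y 1, x = 0) :
    Module.length R (Ext S.X₃ Y 0) + Module.length R (Ext S.X₁ Y 0) =
      Module.length R (Ext S.X₂ Y 0) + Module.length R (Ext S.X₃ Y 1) := by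
  refine length_four_term (pG S Y 0) (pF S Y 0) (pD hS Y 0) (pG_injective_zero hS Y)
    (exact_pG_pF hS Y 0) (exact_pF_pD hS Y 0) ?_
  intro x₃
  exact (exact_pD_pG hS Y 0 x₃).mp (hproj _)

section Sums

variable {X Y Z : ModuleCat.{u} R} {ι : Type*}

theorem mk₀_sum_smul (s : Finset ι) (a : ι → R) (h : ι → (X ⟶ Y)) :
    Ext.mk₀ (∑ k ∈ s, a k • h k) = ∑ k ∈ s, a k • Ext.mk₀ (h k) := by
  classical
  induction s using Finset.induction_on with
  | empty => simp [Ext.mk₀_zero]
  | insert b s hb ih =>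
    rw [Finset.sum_insert hb, Finset.sum_insert hb, Ext.mk₀_add, Ext.mk₀_smul, ih]

theorem comp_sum_smul {n m : ℕ} (z : Ext X Y n) (s : Finset ι) (a : ι → R)
    (w : ι → Ext Y Z 0) (hnm : n + 0 = m) :
    z.comp (∑ k ∈ s, a k • w k) hnm = ∑ k ∈ s, a k • z.comp (w k) hnm := by
  classical
  induction s using Finset.induction_on with
  | empty => simp
  | insert b s hb ih =>
    rw [Finset.sum_insert hb, Finset.sum_insert hb, Ext.comp_add, Ext.comp_smul, ih]

theorem sum_smul_comp {n m : ℕ} (z : Ext Y Z n) (s : Finset ι) (a : ι → R)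
    (w : ι → Ext X Y 0) (hnm : 0 + n = m) :
    (∑ k ∈ s, a k • w k).comp z hnm = ∑ k ∈ s, a k • (w k).comp z hnm := by
  classical
  induction s using Finset.induction_on with
  | empty => simp
  | insert b s hb ih =>
    rw [Finset.sum_insert hb, Finset.sum_insert hb, Ext.add_comp, Ext.smul_comp, ih]

end Sums

section Covariant

variable {T : ShortComplex (ModuleCat.{u} R)} (hT : T.ShortExact) (X : ModuleCat.{u} R)

/-- `Ext(X,T₁) → Ext(X,T₂)` -/
noncomputable def qF (T : ShortComplex (ModuleCat.{u} R)) (X : ModuleCat.{u} R) (n : ℕ) :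
    Ext X T.X₁ n →ₗ[R] Ext X T.X₂ n :=
  Ext.postcompOfLinear (Ext.mk₀ T.f) R X (add_zero n)

/-- `Ext(X,T₂) → Ext(X,T₃)` -/
noncomputable def qG (T : ShortComplex (ModuleCat.{u} R)) (X : ModuleCat.{u} R) (n : ℕ) :
    Ext X T.X₂ n →ₗ[R] Ext X T.X₃ n :=
  Ext.postcompOfLinear (Ext.mk₀ T.g) R X (add_zero n)

include hT in
theorem exact_qF_qG (n : ℕ) : Function.Exact (qF T X n) (qG T X n) := by
  intro x₂
  constructor
  · intro h
    obtain ⟨x₁, hx₁⟩ := Ext.covariant_sequence_exact₂ X hT x₂ h
    exact ⟨x₁, hx₁⟩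
  · rintro ⟨x₁, rfl⟩
    change (x₁.comp (Ext.mk₀ T.f) (add_zero n)).comp (Ext.mk₀ T.g) (add_zero n) = 0
    rw [Ext.comp_assoc_of_third_deg_zero, Ext.mk₀_comp_mk₀, T.zero, Ext.mk₀_zero, Ext.comp_zero]

include hT in
theorem qG_surjective (n : ℕ) (hv : Subsingleton (Ext X T.X₁ (n + 1))) :
    Function.Surjective (qG T X n) := by
  intro x₃
  obtain ⟨x₂, hx₂⟩ := Ext.covariant_sequence_exact₃ X hT x₃ rfl (Subsingleton.elim _ _)
  exact ⟨x₂, hx₂⟩

end Covariant

section Quot

open Pointwise

variable (X : ModuleCat.{u} R) (n : ℕ) (hv : ∀ Z : ModuleCat.{u} R, Subsingleton (Ext X Z (n + 1)))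
  (J : Ideal R) {s : ℕ} (j : Fin s → R) (hj : Ideal.span (Set.range j) = J)

include hv hj in
theorem range_qF_eq :
    LinearMap.range (qF (ModuleCat.shortComplexOfCompEqZero (Submodule.subtype J) (Submodule.mkQ J)
      (LinearMap.exact_subtype_mkQ J).linearMap_comp_eq_zero) X n) =
      J • (⊤ : Submodule R (Ext X (ModuleCat.of R R) n)) := by
  apply le_antisymm
  · rintro _ ⟨x₁, rfl⟩
    -- the presentation `R^s → J`
    let ψ : (Fin s → R) →ₗ[R] R := Fintype.linearCombination R j
    have hψ : ∀ v, ψ v ∈ J := by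
      intro v
      rw [← hj]
      have : ψ v ∈ LinearMap.range ψ := ⟨v, rfl⟩
      rw [Fintype.range_linearCombination] at this
      exact this
    let π : (Fin s → R) →ₗ[R] J := ψ.codRestrict J hψ
    have hπ : Function.Surjective π := by
      rintro ⟨a, ha⟩
      have : a ∈ LinearMap.range ψ := by
        rw [Fintype.range_linearCombination, ← hj] at *
        exact ha
      obtain ⟨v, hv⟩ := this
      exact ⟨v, Subtype.ext hv⟩
    have hU := H75.Canon.shortExact_of (LinearMap.ker π).subtype π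
      (Submodule.subtype_injective _) hπ (LinearMap.exact_subtype_ker_map π)
    obtain ⟨z, hz⟩ := qG_surjective hU X n (hv _) x₁
    change z.comp (Ext.mk₀ (ModuleCat.ofHom π)) (add_zero n) = x₁ at hz
    change x₁.comp (Ext.mk₀ (ModuleCat.ofHom (Submodule.subtype J))) (add_zero n) ∈ _
    rw [← hz, Ext.comp_assoc_of_third_deg_zero, Ext.mk₀_comp_mk₀]
    have hsum : ModuleCat.ofHom π ≫ ModuleCat.ofHom (Submodule.subtype J) =
        ∑ k ∈ Finset.univ, j k • ModuleCat.ofHom (LinearMap.proj (R := R) (φ := fun _ => R) k) := by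
      apply ModuleCat.hom_ext
      apply LinearMap.ext
      intro v
      simp only [ModuleCat.hom_comp, ModuleCat.hom_ofHom, LinearMap.coe_comp, Function.comp_apply,
        Submodule.coe_subtype, ModuleCat.hom_sum, ModuleCat.hom_smul, LinearMap.sum_apply,
        LinearMap.smul_apply, LinearMap.proj_apply]
      change ψ v = _
      rw [Fintype.linearCombination_apply]
      refine Finset.sum_congr rfl fun k _ => ?_
      rw [smul_eq_mul, smul_eq_mul, mul_comm]
    rw [hsum, mk₀_sum_smul, comp_sum_smul]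
    refine Submodule.sum_mem _ fun k _ => ?_
    refine Submodule.smul_mem_smul ?_ Submodule.mem_top
    rw [← hj]
    exact Ideal.subset_span ⟨k, rfl⟩
  · rw [Submodule.smul_le]
    intro r hr w _
    let ιr : R →ₗ[R] J := LinearMap.toSpanSingleton R J ⟨r, hr⟩
    have hcomp : ModuleCat.ofHom ιr ≫ ModuleCat.ofHom (Submodule.subtype J) =
        r • 𝟙 (ModuleCat.of R R) := by
      apply ModuleCat.hom_ext
      apply LinearMap.ext
      intro a
      simp only [ModuleCat.hom_comp, ModuleCat.hom_ofHom, LinearMap.coe_comp, Function.comp_apply,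
        Submodule.coe_subtype, ModuleCat.hom_smul, ModuleCat.hom_id, LinearMap.smul_apply,
        LinearMap.id_coe, id_eq, ιr, LinearMap.toSpanSingleton_apply]
      change a * r = r * a
      ring
    refine ⟨w.comp (Ext.mk₀ (ModuleCat.ofHom ιr)) (add_zero n), ?_⟩
    change (w.comp (Ext.mk₀ (ModuleCat.ofHom ιr)) (add_zero n)).comp
      (Ext.mk₀ (ModuleCat.ofHom (Submodule.subtype J))) (add_zero n) = r • w
    rw [Ext.comp_assoc_of_third_deg_zero, Ext.mk₀_comp_mk₀, hcomp, Ext.mk₀_smul, Ext.comp_smul,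
      Ext.comp_mk₀_id]

include hv hj in
/-- **right exactness**: `ℓ(Ext^n(X, R/J)) = ℓ(Ext^n(X,R)/J Ext^n(X,R))`. -/
theorem length_ext_quot :
    Module.length R (Ext X (ModuleCat.of R (R ⧸ J)) n) =
      Module.length R (Ext X (ModuleCat.of R R) n ⧸
        J • (⊤ : Submodule R (Ext X (ModuleCat.of R R) n))) := by
  have hT := H75.Canon.shortExact_of (Submodule.subtype J) (Submodule.mkQ J)
    (Submodule.subtype_injective _) (Submodule.mkQ_surjective _) (LinearMap.exact_subtype_mkQ J)
  have hsurj := qG_surjective hT X n (hv _)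
  have hker := LinearMap.exact_iff.mp (exact_qF_qG hT X n)
  have hr := range_qF_eq X n hv J j hj
  let e1 := LinearMap.quotKerEquivOfSurjective _ hsurj
  have hk : LinearMap.ker (qG _ X n) = J • (⊤ : Submodule R (Ext X (ModuleCat.of R R) n)) :=
    hker.trans hr
  exact (e1.symm.trans (Submodule.quotEquivOfEq _ _ hk)).length_eq

end Quot

end Groth.Agent.H85.ExtRight
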