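import Mathlib
import Groth.Agent.H85.ExtRight
import Groth.Agent.S5159

/-!
# The dualizing functor `Ext^n(-, R)` and annihilators (helper85)

For `M` of finite length over a regular local ring of dimension `n` and an ideal `J = (j_k)`,
`ℓ(Ext^n(M,R) / J Ext^n(M,R)) = ℓ(0 :_M J)`.
-/

set_option autoImplicit false
universe u

namespace Groth.Agent.H85.ExtDual2

open CategoryTheory Abelian

variable {R : Type u} [CommRing R]

/-- `m ↦ (j_k m)_k` -/
noncomputable def cmap {s : ℕ} (j : Fin s → R) (M : Type u) [AddCommGroup M] [Module R M] :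
    M →ₗ[R] (Fin s → M) :=
  LinearMap.pi fun k => j k • LinearMap.id

theorem cmap_apply {s : ℕ} (j : Fin s → R) (M : Type u) [AddCommGroup M] [Module R M] (m : M)
    (k : Fin s) : cmap j M m k = j k • m := rfl

section Finite

variable {M : Type u} [AddCommGroup M] [Module R M]

theorem isFiniteLength_submodule (hM : IsFiniteLength R M) (N : Submodule R M) :
    IsFiniteLength R N := by
  rw [isFiniteLength_iff_isNoetherian_isArtinian] at hM ⊢
  obtain ⟨h1, h2⟩ := hM
  exact ⟨inferInstance, inferInstance⟩

theorem isFiniteLength_quotient (hM : IsFiniteLength R M) (N : Submodule R M) :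
    IsFiniteLength R (M ⧸ N) := by
  rw [isFiniteLength_iff_isNoetherian_isArtinian] at hM ⊢
  obtain ⟨h1, h2⟩ := hM
  exact ⟨inferInstance, inferInstance⟩

theorem isFiniteLength_pi (hM : IsFiniteLength R M) (s : ℕ) :
    IsFiniteLength R (Fin s → M) := by
  rw [isFiniteLength_iff_isNoetherian_isArtinian] at hM ⊢
  obtain ⟨h1, h2⟩ := hM
  exact ⟨inferInstance, inferInstance⟩

end Finite

section Main

open Pointwise ExtEuler

variable (R) (n : ℕ)
  (M : Type u) [AddCommGroup M] [Module R M]
  (J : Ideal R) {s : ℕ} (j : Fin s → R) (hj : Ideal.span (Set.range j) = J)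

include hj in
theorem range_precomp_cmap :
    LinearMap.range (H75.ExtLen.precompL (ModuleCat.ofHom (cmap j M)) (ModuleCat.of R R) n) =
      J • (⊤ : Submodule R (Ext (ModuleCat.of R M) (ModuleCat.of R R) n)) := by
  classical
  apply le_antisymm
  · rintro _ ⟨z, rfl⟩
    rw [H75.ExtLen.precompL_apply]
    have hsum : ModuleCat.ofHom (cmap j M) =
        ∑ k ∈ Finset.univ, j k • ModuleCat.ofHom (LinearMap.single R (fun _ : Fin s => M) k) := by
      apply ModuleCat.hom_ext
      apply LinearMap.ext
      intro m
      funext l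
      simp only [ModuleCat.hom_ofHom, ModuleCat.hom_sum, ModuleCat.hom_smul, LinearMap.sum_apply,
        LinearMap.smul_apply, Finset.sum_apply, Pi.smul_apply, LinearMap.single_apply]
      rw [cmap_apply, Finset.sum_eq_single l]
      · rw [Pi.single_eq_same]
      · intro b _ hb
        rw [Pi.single_eq_of_ne' hb, smul_zero]
      · intro h
        exact absurd (Finset.mem_univ l) h
    rw [hsum, ExtRight.mk₀_sum_smul, ExtRight.sum_smul_comp]
    refine Submodule.sum_mem _ fun k _ => ?_
    refine Submodule.smul_mem_smul ?_ Submodule.mem_top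
    rw [← hj]
    exact Ideal.subset_span ⟨k, rfl⟩
  · rw [Submodule.smul_le]
    intro r hr w _
    rw [← hj] at hr
    induction hr using Submodule.span_induction with
    | mem x hx =>
      obtain ⟨k, rfl⟩ := hx
      have hcomp : ModuleCat.ofHom (cmap j M) ≫
          ModuleCat.ofHom (LinearMap.proj (R := R) (φ := fun _ : Fin s => M) k) =
            j k • 𝟙 (ModuleCat.of R M) := by
        apply ModuleCat.hom_ext
        apply LinearMap.ext
        intro m
        rfl
      refine ⟨(Ext.mk₀ (ModuleCat.ofHom (LinearMap.proj (R := R) (φ := fun _ : Fin s => M) k))).comp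
        w (zero_add n), ?_⟩
      rw [H75.ExtLen.precompL_apply, Ext.mk₀_comp_mk₀_assoc, hcomp, Ext.mk₀_smul, Ext.smul_comp,
        Ext.mk₀_id_comp]
    | zero => rw [zero_smul]; exact Submodule.zero_mem _
    | add x y _ _ hx hy => rw [add_smul]; exact Submodule.add_mem _ hx hy
    | smul a x _ hx => rw [smul_eq_mul, mul_smul]; exact Submodule.smul_mem _ a hx

variable [IsRegularLocalRing R] (hn : ringKrullDim R = n) (hM : IsFiniteLength R M)

include hn hM hj in
/-- `ℓ(D(M)/J D(M)) = ℓ(0 :_M J)` for the dualizing functor `D = Ext^n(-, R)`. -/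
theorem length_dual_quot :
    Module.length R (Ext (ModuleCat.of R M) (ModuleCat.of R R) n ⧸
        J • (⊤ : Submodule R (Ext (ModuleCat.of R M) (ModuleCat.of R R) n))) =
      Module.length R (LinearMap.ker (cmap j M)) := by
  set c := cmap j M with hc
  let Y : ModuleCat.{u} R := ModuleCat.of R R
  -- the two short exact sequences
  have hexA : Function.Exact (LinearMap.ker c).subtype c.rangeRestrict := by
    intro m
    constructor
    · intro h
      have : c m = 0 := congrArg Subtype.val h
      exact ⟨⟨m, this⟩, rfl⟩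
    · rintro ⟨⟨m', hm'⟩, rfl⟩
      exact Subtype.ext hm'
  have zA : ModuleCat.ofHom (LinearMap.ker c).subtype ≫ ModuleCat.ofHom c.rangeRestrict = 0 := by
    apply ModuleCat.hom_ext
    apply LinearMap.ext
    intro x
    exact hexA.apply_apply_eq_zero x
  have zB : ModuleCat.ofHom (LinearMap.range c).subtype ≫
      ModuleCat.ofHom (LinearMap.range c).mkQ = 0 := by
    apply ModuleCat.hom_ext
    apply LinearMap.ext
    intro x
    exact (LinearMap.exact_subtype_mkQ (LinearMap.range c)).apply_apply_eq_zero x
  let SA : ShortComplex (ModuleCat.{u} R) := ShortComplex.mk _ _ zA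
  let SB : ShortComplex (ModuleCat.{u} R) := ShortComplex.mk _ _ zB
  have hA : SA.ShortExact := H75.Canon.shortExact_of (LinearMap.ker c).subtype c.rangeRestrict
    (Submodule.subtype_injective _) c.surjective_rangeRestrict hexA
  have hB : SB.ShortExact := H75.Canon.shortExact_of (LinearMap.range c).subtype
    (LinearMap.range c).mkQ (Submodule.subtype_injective _) (Submodule.mkQ_surjective _)
    (LinearMap.exact_subtype_mkQ (LinearMap.range c))
  -- the duality statements
  have PK := Groth.Agent.S5159.P_of_isFiniteLength R n hn _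
    (isFiniteLength_submodule hM (LinearMap.ker c))
  have PQ := Groth.Agent.S5159.P_of_isFiniteLength R n hn _
    (isFiniteLength_submodule (isFiniteLength_pi hM s) (LinearMap.range c))
  have PC := Groth.Agent.S5159.P_of_isFiniteLength R n hn _
    (isFiniteLength_quotient (isFiniteLength_pi hM s) (LinearMap.range c))
  -- surjectivity of `D(M) → D(K)`
  have hsurjA : Function.Surjective (pF SA Y n) := by
    intro x₁
    have := PQ.1 (n + 1) (by omega)
    exact (exact_pF_pD hA Y n x₁).mp (Subsingleton.elim _ _)
  -- surjectivity of `D(M^s) → D(Q)`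
  have hsurjB : Function.Surjective (pF SB Y n) := by
    intro x₁
    have := PC.1 (n + 1) (by omega)
    exact (exact_pF_pD hB Y n x₁).mp (Subsingleton.elim _ _)
  -- the kernel of `D(M) → D(K)`
  have hker : LinearMap.ker (pF SA Y n) =
      J • (⊤ : Submodule R (Ext (ModuleCat.of R M) (ModuleCat.of R R) n)) := by
    rw [LinearMap.exact_iff.mp (exact_pG_pF hA Y n), ← range_precomp_cmap R n M J j hj]
    apply le_antisymm
    · rintro _ ⟨x, rfl⟩
      obtain ⟨z, rfl⟩ := hsurjB x
      refine ⟨z, ?_⟩
      rw [H75.ExtLen.precompL_apply]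
      change _ = (Ext.mk₀ (ModuleCat.ofHom c.rangeRestrict)).comp
        ((Ext.mk₀ (ModuleCat.ofHom (LinearMap.range c).subtype)).comp z (zero_add n)) (zero_add n)
      rw [Ext.mk₀_comp_mk₀_assoc]
      rfl
    · rintro _ ⟨z, rfl⟩
      refine ⟨(Ext.mk₀ (ModuleCat.ofHom (LinearMap.range c).subtype)).comp z (zero_add n), ?_⟩
      rw [H75.ExtLen.precompL_apply]
      change (Ext.mk₀ (ModuleCat.ofHom c.rangeRestrict)).comp
        ((Ext.mk₀ (ModuleCat.ofHom (LinearMap.range c).subtype)).comp z (zero_add n)) (zero_add n)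
          = _
      rw [Ext.mk₀_comp_mk₀_assoc]
      rfl
  let e1 := LinearMap.quotKerEquivOfSurjective _ hsurjA
  rw [← (Submodule.quotEquivOfEq _ _ hker).length_eq, e1.length_eq]
  exact PK.2

end Main

end Groth.Agent.H85.ExtDual2
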