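import Groth.Agent.H85.SlopeBlocks
import Groth.Agent.H85.Eigen

set_option autoImplicit false
set_option linter.unusedSectionVars false

noncomputable section

open scoped Isocrystal Pointwise
open Filter Topology Module DirectSum
open scoped Matrix

universe u v v' w

namespace Groth.Agent.H85

variable {p : ℕ} [Fact p.Prime] {k : Type u} [Field k] [CharP k p] [PerfectRing k p]

local notation "W" => WittVector p k
local notation "L" => FractionRing (WittVector p k)

variable {N : Type v} [AddCommGroup N] [Module (WittVector p k) N] [Module (FractionRing (WittVector p k)) N]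
  [IsScalarTower (WittVector p k) (FractionRing (WittVector p k)) N]

theorem isSemi_of_linear (T : N →ₗ[FractionRing (WittVector p k)] N) :
    IsSemi (p := p) (k := k) (⇑T) :=
  IsSemi.of_semilinear' (Twist.one p k) (fun _ => rfl) T

/-- a linear map mapping a standard lattice onto itself has a matrix with entries in `W` and unit
determinant -/
theorem exists_witt_matrix {n : ℕ} (T : N →ₗ[FractionRing (WittVector p k)] N)
    (b : Basis (Fin n) L N) (heq : img (⇑T) (stdLat (p := p) (k := k) b) = stdLat b) :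
    ∃ A₀ : Matrix (Fin n) (Fin n) W, A₀.map (algebraMap W L) = LinearMap.toMatrix b b T ∧
      IsUnit A₀.det := by
  have hT := isSemi_of_linear (p := p) (k := k) T
  have hle : img (⇑T) (stdLat (p := p) (k := k) b) ≤ Isoc.pPow 0 (stdLat b) := by
    rw [pPow_zero, heq]
  have hent : ∀ i j, ∃ w : W, matC b (⇑T) i j = algebraMap W L w := by
    intro i j
    obtain ⟨w, hw⟩ := memPW_matC_of_img_le b hle i j
    exact ⟨w, by simpa using hw⟩
  choose A₀ hA₀ using hent
  have hmap : (Matrix.of A₀).map (algebraMap W L) = LinearMap.toMatrix b b T := by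
    ext i j
    rw [Matrix.map_apply, Matrix.of_apply, ← hA₀, LinearMap.toMatrix_apply]
    rfl
  refine ⟨Matrix.of A₀, hmap, ?_⟩
  have hdet := isOrdP_detC_of_img_eq hT b heq
  have h1 : detC b (⇑T) = algebraMap W L (Matrix.of A₀).det := by
    rw [RingHom.map_det]
    unfold detC
    congr 1
    ext i j
    rw [RingHom.mapMatrix_apply, Matrix.map_apply, Matrix.of_apply, ← hA₀]
  rw [h1] at hdet
  exact isOrdP_zero_iff_unit.mp hdet


variable {Ω : Type w} [Field Ω] [Algebra (WittVector p k) Ω]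
  [Algebra (FractionRing (WittVector p k)) Ω]
  [IsScalarTower (WittVector p k) (FractionRing (WittVector p k)) Ω]

/-- eigenvalues of `G^m` (when linear) on an isoclinic isocrystal: `α^s p^{-mr}` is a unit of the
integral closure of `W` -/
theorem isIntegral_of_root_of_img_eq [Module.Finite L N] {G : N → N}
    (hG : IsSemi (p := p) (k := k) G) {M : Submodule W N} (hM : M.IsLattice L) {r : ℤ} {s m : ℕ}
    (heq : img (G^[s]) M = Isoc.pPow r M)
    (T₀ : N →ₗ[FractionRing (WittVector p k)] N) (hT₀ : ∀ x, T₀ x = G^[m] x) (α : Ω)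
    (hα : (T₀.charpoly.map (algebraMap L Ω)).IsRoot α) :
    α ^ s * (algebraMap L Ω (p : L)) ^ (-((m : ℤ) * r)) ≠ 0 ∧
    IsIntegral W (α ^ s * (algebraMap L Ω (p : L)) ^ (-((m : ℤ) * r))) ∧
      IsIntegral W (α ^ s * (algebraMap L Ω (p : L)) ^ (-((m : ℤ) * r)))⁻¹ := by
  classical
  obtain ⟨b, rfl⟩ := exists_basis_of_lattice hM (Module.finBasis L N)
  set c : L := (p : L) ^ (-((m : ℤ) * r)) with hc
  let T : N →ₗ[FractionRing (WittVector p k)] N := c • T₀ ^ s
  have hTfun : ⇑T = twistIter p k G (-((m : ℤ) * r)) (m * s) := by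
    funext x
    have h1 : (⇑T₀) = G^[m] := funext hT₀
    simp only [T, LinearMap.smul_apply, Module.End.pow_apply, twistIter]
    rw [h1, ← Function.iterate_mul]
  have himg : img (⇑T) (stdLat (p := p) (k := k) b) = stdLat b := by
    rw [hTfun, img_twistIter, Nat.mul_comm, iso_common hG heq m, pPow_pPow, neg_add_cancel,
      pPow_zero]
  obtain ⟨A₀, hA₀, hdet⟩ := exists_witt_matrix T b himg
  set Aπ := LinearMap.toMatrix b b T₀ with hAπ
  have hα' : ((Aπ.map (algebraMap L Ω)).charpoly).IsRoot α := by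
    rw [Matrix.charpoly_map, hAπ, LinearMap.charpoly_toMatrix]
    exact hα
  obtain ⟨v, hv, hvα⟩ := exists_eigenvector_of_isRoot _ α hα'
  have hmat : A₀.map (algebraMap W Ω) =
      (algebraMap L Ω c) • (Aπ.map (algebraMap L Ω)) ^ s := by
    have h1 : A₀.map (algebraMap W Ω) = (A₀.map (algebraMap W L)).map (algebraMap L Ω) := by
      rw [Matrix.map_map]
      congr 1
      rw [IsScalarTower.algebraMap_eq W L Ω]
      rfl
    rw [h1, hA₀]
    have h2 : LinearMap.toMatrix b b T = c • Aπ ^ s := by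
      simp only [T, map_smul, LinearMap.toMatrix_pow, hAπ]
    rw [h2]
    have h3 : (Aπ ^ s).map (algebraMap L Ω) = (Aπ.map (algebraMap L Ω)) ^ s := by
      have := map_pow (algebraMap L Ω).mapMatrix Aπ s
      simpa [RingHom.mapMatrix_apply] using this
    rw [← h3]
    ext i j
    simp [Matrix.map_apply, Matrix.smul_apply]
  have heig : (A₀.map (algebraMap W Ω)) *ᵥ v =
      (α ^ s * (algebraMap L Ω (p : L)) ^ (-((m : ℤ) * r))) • v := by
    rw [hmat, Matrix.smul_mulVec, pow_mulVec_eq _ α v hvα s, smul_smul, hc, map_zpow₀, mul_comm]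
  exact ⟨(isIntegral_inv_of_mulVec_eq A₀ hdet v hv _ heig).1,
    isIntegral_of_mulVec_eq A₀ v hv _ heig,
    (isIntegral_inv_of_mulVec_eq A₀ hdet v hv _ heig).2⟩


/-! ### arithmetic of exponents -/

theorem exists_mul_of_div_eq {r : ℤ} {s : ℕ} (hs : 0 < s) {μ : ℚ} (h : (r : ℚ) / s = μ) :
    ∃ t : ℕ, 0 < t ∧ s = μ.den * t ∧ r = μ.num * t := by
  have h1 : ((μ.den : ℕ) : ℤ) ∣ (s : ℤ) := by
    have := Rat.den_dvd r (s : ℤ)
    rw [Rat.divInt_eq_div] at this
    push_cast at this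
    rwa [h] at this
  obtain ⟨t', ht'⟩ := h1
  have hden : (0 : ℤ) < μ.den := by exact_mod_cast μ.den_pos
  have ht'pos : 0 < t' := by
    have hs' : (0 : ℤ) < s := by exact_mod_cast hs
    rw [ht'] at hs'
    exact (mul_pos_iff_of_pos_left hden).mp hs'
  obtain ⟨t, rfl⟩ : ∃ t : ℕ, t' = t := ⟨t'.toNat, by omega⟩
  refine ⟨t, by exact_mod_cast ht'pos, by exact_mod_cast ht', ?_⟩
  have hs' : (s : ℚ) ≠ 0 := by exact_mod_cast hs.ne'
  have hd' : (μ.den : ℚ) ≠ 0 := by exact_mod_cast μ.den_pos.ne'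
  have h2 : (r : ℚ) * μ.den = μ.num * s := by
    have h3 : (μ.num : ℚ) / μ.den = r / s := (Rat.num_div_den μ).trans h.symm
    rw [div_eq_div_iff hd' hs'] at h3
    linarith
  have h4 : (s : ℚ) = μ.den * t := by exact_mod_cast ht'
  rw [h4] at h2
  have h5 : (r : ℚ) = μ.num * t := by
    apply mul_right_cancel₀ hd'
    rw [h2]; ring
  exact_mod_cast h5

/-- the exponent for the slope itself -/
theorem isIntegral_gamma_of_beta {α : Ω} {r : ℤ} {s m : ℕ} (hs : 0 < s) {μ : ℚ}
    (h : (r : ℚ) / s = μ)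
    (hβ : IsIntegral W (α ^ s * (algebraMap L Ω (p : L)) ^ (-((m : ℤ) * r))))
    (hβ' : IsIntegral W (α ^ s * (algebraMap L Ω (p : L)) ^ (-((m : ℤ) * r)))⁻¹) :
    IsIntegral W (α ^ μ.den * (algebraMap L Ω (p : L)) ^ (-(μ.num * (m : ℤ)))) ∧
      IsIntegral W (α ^ μ.den * (algebraMap L Ω (p : L)) ^ (-(μ.num * (m : ℤ))))⁻¹ := by
  obtain ⟨t, ht, hst, hrt⟩ := exists_mul_of_div_eq hs h
  have hpow : (α ^ μ.den * (algebraMap L Ω (p : L)) ^ (-(μ.num * (m : ℤ)))) ^ t =
      α ^ s * (algebraMap L Ω (p : L)) ^ (-((m : ℤ) * r)) := by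
    have hPp : ((algebraMap L Ω (p : L)) ^ (-(μ.num * (m : ℤ)))) ^ t =
        (algebraMap L Ω (p : L)) ^ (-((m : ℤ) * r)) := by
      rw [← zpow_natCast, ← zpow_mul, hrt]
      congr 1
      ring
    rw [mul_pow, ← pow_mul, ← hst, hPp]
  constructor
  · apply IsIntegral.of_pow ht
    rw [hpow]
    exact hβ
  · apply IsIntegral.of_pow ht
    rw [inv_pow, hpow]
    exact hβ'

theorem not_isIntegral_p_zpow_neg (hφ : Function.Injective (algebraMap L Ω)) {n : ℕ} (hn : 0 < n) :
    ¬ IsIntegral W ((algebraMap L Ω (p : L)) ^ (-(n : ℤ))) := by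
  intro hint
  rw [← map_zpow₀, isIntegral_algebraMap_iff hφ, IsIntegrallyClosed.isIntegral_iff] at hint
  obtain ⟨w, hw⟩ := hint
  have h1 : MemPW (p := p) (k := k) 0 ((p : L) ^ (-(n : ℤ))) := ⟨w, by rw [← hw]; simp⟩
  have h2 := isOrdP_le_of_memPW (isOrdP_p_zpow (p := p) (k := k) (-(n : ℤ))) h1
  omega

/-- two different slopes cannot both be attained -/
theorem false_of_two_slopes (hφ : Function.Injective (algebraMap L Ω)) {α : Ω} {r : ℤ} {s m : ℕ}
    (hs : 0 < s) (hm : 0 < m) {μ : ℚ} (hne : (r : ℚ) / s ≠ μ)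
    (hβ0 : α ^ s * (algebraMap L Ω (p : L)) ^ (-((m : ℤ) * r)) ≠ 0)
    (hβ : IsIntegral W (α ^ s * (algebraMap L Ω (p : L)) ^ (-((m : ℤ) * r))))
    (hβ' : IsIntegral W (α ^ s * (algebraMap L Ω (p : L)) ^ (-((m : ℤ) * r)))⁻¹)
    (hγ : IsIntegral W (α ^ μ.den * (algebraMap L Ω (p : L)) ^ (-(μ.num * (m : ℤ)))))
    (hγ' : IsIntegral W (α ^ μ.den * (algebraMap L Ω (p : L)) ^ (-(μ.num * (m : ℤ))))⁻¹) :
    False := by
  have hα : α ≠ 0 := by
    rintro rfl
    apply hβ0
    rw [zero_pow hs.ne', zero_mul]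
  have hp0 : (algebraMap L Ω (p : L)) ≠ 0 := by
    rw [Ne, map_eq_zero_iff _ hφ]
    exact pL_ne_zero
  set P := algebraMap L Ω (p : L) with hP
  set j : ℤ := (m : ℤ) * (r * μ.den - μ.num * s) with hj
  have hj0 : j ≠ 0 := by
    have hm' : (m : ℤ) ≠ 0 := by exact_mod_cast hm.ne'
    refine mul_ne_zero hm' ?_
    intro h0
    apply hne
    have hs' : (s : ℚ) ≠ 0 := by exact_mod_cast hs.ne'
    have hd' : (μ.den : ℚ) ≠ 0 := by exact_mod_cast μ.den_pos.ne'
    have h1 : (r : ℚ) * μ.den = μ.num * s := by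
      have : r * (μ.den : ℤ) = μ.num * s := by linarith
      exact_mod_cast this
    rw [← Rat.num_div_den μ, div_eq_div_iff hs' hd']
    exact h1
  have e1 : (α ^ μ.den * P ^ (-(μ.num * (m : ℤ)))) ^ s * ((α ^ s * P ^ (-((m : ℤ) * r)))⁻¹) ^ μ.den =
      P ^ j := by
    rw [mul_pow, inv_pow, mul_pow, ← pow_mul, ← pow_mul, ← zpow_natCast (P ^ _) s,
      ← zpow_natCast (P ^ _) μ.den, ← zpow_mul, ← zpow_mul, mul_inv, Nat.mul_comm s μ.den]
    rw [mul_mul_mul_comm, mul_inv_cancel₀ (pow_ne_zero _ hα), one_mul, ← zpow_neg, ← zpow_add₀ hp0]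
    congr 1
    rw [hj]
    ring
  have e2 : ((α ^ μ.den * P ^ (-(μ.num * (m : ℤ))))⁻¹) ^ s * (α ^ s * P ^ (-((m : ℤ) * r))) ^ μ.den =
      P ^ (-j) := by
    rw [zpow_neg P j, ← e1]
    generalize α ^ μ.den * P ^ (-(μ.num * (m : ℤ))) = A
    generalize α ^ s * P ^ (-((m : ℤ) * r)) = B
    rw [mul_inv, inv_pow, inv_pow, inv_inv]
  have i1 : IsIntegral W (P ^ j) := by
    rw [← e1]
    exact (hγ.pow s).mul (hβ'.pow _)
  have i2 : IsIntegral W (P ^ (-j)) := by
    rw [← e2]
    exact (hγ'.pow s).mul (hβ.pow _)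
  rcases lt_or_gt_of_ne hj0 with hneg | hpos
  · obtain ⟨n, hn⟩ : ∃ n : ℕ, j = -(n : ℤ) := ⟨(-j).toNat, by omega⟩
    rw [hn] at i1
    exact not_isIntegral_p_zpow_neg hφ (by omega) i1
  · obtain ⟨n, hn⟩ : ∃ n : ℕ, j = (n : ℤ) := ⟨j.toNat, by omega⟩
    rw [hn] at i2
    exact not_isIntegral_p_zpow_neg hφ (by omega) i2


/-! ### the main theorem over a finite field -/

theorem restrict_iterate_coe {a : ℤ} (F : N →ₛₗ[Isoc.frob p k a] N) (P : Submodule L N)
    (hP : ∀ x ∈ P, F x ∈ P) (n : ℕ) (x : P) :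
    (((⇑(F.restrict hP))^[n] x : P) : N) = (⇑F)^[n] (x : N) :=
  comm_iterate (p := p) (k := k) P.subtype (G := ⇑(F.restrict hP)) (G' := ⇑F) (fun _ => rfl) n x

theorem newtonMult_eq_countP [Module.Finite L N] [Fintype k] [IsAlgClosed Ω] {m : ℕ}
    (hk : Fintype.card k = p ^ m) {a : ℤ}
    (F : N →ₛₗ[Isoc.frob p k a] N) (hF : Isoc.IsIsoc F)
    (π : N →ₗ[FractionRing (WittVector p k)] N) (hπ : ∀ x : N, π x = (⇑F)^[m] x) (μ : ℚ)
    [DecidablePred (fun α : Ω =>
      IsIntegral W (α ^ μ.den * (algebraMap L Ω (p : L)) ^ (-(μ.num * (m : ℤ)))) ∧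
      IsIntegral W (α ^ μ.den * (algebraMap L Ω (p : L)) ^ (-(μ.num * (m : ℤ))))⁻¹)] :
    Isoc.newtonMult F μ =
      Multiset.countP (fun α : Ω =>
        IsIntegral W (α ^ μ.den * (algebraMap L Ω (p : L)) ^ (-(μ.num * (m : ℤ)))) ∧
        IsIntegral W (α ^ μ.den * (algebraMap L Ω (p : L)) ^ (-(μ.num * (m : ℤ))))⁻¹)
        ((π.charpoly.map (algebraMap L Ω)).roots) := by
  have hG := IsSemi.of_semilinear F
  have hm : 0 < m := by
    rcases Nat.eq_zero_or_pos m with rfl | h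
    · rw [pow_zero] at hk
      have := Fintype.one_lt_card (α := k)
      omega
    · exact h
  have hφ : Function.Injective (algebraMap L Ω) := (algebraMap L Ω).injective
  have hint := slopePart_isInternal F hF
  have hfin := slopePart_finite_ne_bot F hF
  have hfinS : Fintype {ν : ℚ // Isoc.slopePart F ν ≠ ⊥} := hfin.fintype
  have hintS : DirectSum.IsInternal (fun ν : {ν : ℚ // Isoc.slopePart F ν ≠ ⊥} =>
      Isoc.slopePart F ν.1) := DirectSum.isInternal_ne_bot_iff.mpr hint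
  have hst := fun ν : ℚ => slopePart_stable_isoInt F ν
  have hπst : ∀ ν : ℚ, Set.MapsTo π (Isoc.slopePart F ν) (Isoc.slopePart F ν) := by
    intro ν x hx
    change π x ∈ Isoc.slopePart F ν
    rw [hπ]
    exact iterate_mem_of_stable (hst ν).1 m x hx
  let v : ∀ ν : {ν : ℚ // Isoc.slopePart F ν ≠ ⊥},
      Basis (Fin (Module.finrank L (Isoc.slopePart F ν.1))) L (Isoc.slopePart F ν.1) :=
    fun ν => Module.finBasis L _
  -- the characteristic polynomial is the product over the blocks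
  have hcp : π.charpoly = ∏ ν : {ν : ℚ // Isoc.slopePart F ν ≠ ⊥},
      (π.restrict (hπst ν.1)).charpoly := by
    rw [← LinearMap.charpoly_toMatrix π (hintS.collectedBasis v),
      LinearMap.toMatrix_directSum_collectedBasis_eq_blockDiagonal' hintS hintS v v
        (fun ν => hπst ν.1), charpoly_blockDiagonal'_of_decEq]
    apply Finset.prod_congr rfl
    intro ν _
    exact LinearMap.charpoly_toMatrix _ _
  have hne : ∏ ν : {ν : ℚ // Isoc.slopePart F ν ≠ ⊥},
      ((π.restrict (hπst ν.1)).charpoly.map (algebraMap L Ω)) ≠ 0 :=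
    Finset.prod_ne_zero_iff.mpr
      (fun ν _ => ((LinearMap.charpoly_monic _).map (algebraMap L Ω)).ne_zero)
  have hroots : (π.charpoly.map (algebraMap L Ω)).roots =
      ∑ ν : {ν : ℚ // Isoc.slopePart F ν ≠ ⊥},
        ((π.restrict (hπst ν.1)).charpoly.map (algebraMap L Ω)).roots := by
    rw [hcp, Polynomial.map_prod, Polynomial.roots_prod _ _ hne]
    rfl
  -- each block
  have hblock : ∀ ν : {ν : ℚ // Isoc.slopePart F ν ≠ ⊥},
      Multiset.countP (fun α : Ω =>
        IsIntegral W (α ^ μ.den * (algebraMap L Ω (p : L)) ^ (-(μ.num * (m : ℤ)))) ∧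
        IsIntegral W (α ^ μ.den * (algebraMap L Ω (p : L)) ^ (-(μ.num * (m : ℤ))))⁻¹)
        (((π.restrict (hπst ν.1)).charpoly.map (algebraMap L Ω)).roots) =
      if ν.1 = μ then Module.finrank L (Isoc.slopePart F ν.1) else 0 := by
    intro ν
    have hG' := IsSemi.of_semilinear (F.restrict (hst ν.1).1)
    have hres : Isoc.IsIsoclinic (F.restrict (hst ν.1).1) ν.1 :=
      (isIsoclinic_restrict_iff _ _ (hst ν.1).1 _).mpr (hst ν.1).2
    obtain ⟨M', hM', r, s, hs, hrs, heq⟩ := hres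
    have heq' : img ((⇑(F.restrict (hst ν.1).1))^[s]) M' = Isoc.pPow r M' := heq
    have hT₀ : ∀ x, (π.restrict (hπst ν.1)) x = (⇑(F.restrict (hst ν.1).1))^[m] x := by
      intro x
      apply Subtype.ext
      rw [restrict_iterate_coe]
      exact hπ x
    have hroot : ∀ α ∈ ((π.restrict (hπst ν.1)).charpoly.map (algebraMap L Ω)).roots,
        α ^ s * (algebraMap L Ω (p : L)) ^ (-((m : ℤ) * r)) ≠ 0 ∧
        IsIntegral W (α ^ s * (algebraMap L Ω (p : L)) ^ (-((m : ℤ) * r))) ∧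
        IsIntegral W (α ^ s * (algebraMap L Ω (p : L)) ^ (-((m : ℤ) * r)))⁻¹ := by
      intro α hα
      exact isIntegral_of_root_of_img_eq hG' hM' heq' _ hT₀ α (Polynomial.isRoot_of_mem_roots hα)
    by_cases hνμ : ν.1 = μ
    · rw [if_pos hνμ, Multiset.countP_eq_card.mpr]
      · rw [IsAlgClosed.card_roots_map_eq_natDegree_of_injective _ hφ, LinearMap.charpoly_natDegree]
      · intro α hα
        obtain ⟨-, h1, h2⟩ := hroot α hα
        exact isIntegral_gamma_of_beta hs (hrs.trans hνμ) h1 h2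
    · rw [if_neg hνμ, Multiset.countP_eq_zero]
      rintro α hα ⟨h3, h4⟩
      obtain ⟨h0, h1, h2⟩ := hroot α hα
      exact false_of_two_slopes hφ hs hm (fun h => hνμ (hrs.symm.trans h)) h0 h1 h2 h3 h4
  rw [hroots, ← Multiset.coe_countPAddMonoidHom, map_sum]
  simp only [Multiset.coe_countPAddMonoidHom, hblock]
  unfold Isoc.newtonMult
  by_cases hμ : Isoc.slopePart F μ = ⊥
  · rw [hμ, finrank_bot]
    symm
    apply Finset.sum_eq_zero
    intro ν _
    rw [if_neg]
    intro h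
    exact ν.2 (h ▸ hμ)
  · rw [Finset.sum_eq_single (⟨μ, hμ⟩ : {ν : ℚ // Isoc.slopePart F ν ≠ ⊥})]
    · rw [if_pos rfl]
    · intro ν _ hν
      rw [if_neg]
      intro h
      exact hν (Subtype.ext h)
    · intro h
      exact absurd (Finset.mem_univ _) h

end Groth.Agent.H85
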