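import Groth.Agent.H85.Nilpotent
import Mathlib.NumberTheory.DiophantineApproximation.Basic

set_option autoImplicit false
set_option linter.unusedSectionVars false

noncomputable section

open scoped Isocrystal Pointwise
open Filter Topology Module

universe u v v'

namespace Groth.Agent.H85

variable {p : ℕ} [Fact p.Prime] {k : Type u} [Field k] [CharP k p] [PerfectRing k p]

local notation "W" => WittVector p k
local notation "L" => FractionRing (WittVector p k)

variable {N : Type v} [AddCommGroup N] [Module (WittVector p k) N] [Module (FractionRing (WittVector p k)) N]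
  [IsScalarTower (WittVector p k) (FractionRing (WittVector p k)) N]

variable {h : ℕ} {G : N → N} {M : Submodule (WittVector p k) N}

/-- a stable lattice forces nonnegative slope -/
theorem slope_nonneg_of_stable {lam : ℝ} (hG : IsSemi (p := p) (k := k) G)
    (hsurj : Function.Surjective G) (hs : HasSlope (p := p) (k := k) G lam)
    (hM : M.IsLattice L) (hGM : img G M ≤ M) : 0 ≤ lam := by
  obtain ⟨o, ho, hlim⟩ := hs.of_lattice hG hsurj hM
  refine ge_of_tendsto' hlim fun n => ?_
  have h1 : img (G^[n]) M ≤ Isoc.pPow 0 M := by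
    have := img_iterate_le hG (a := 0) (by rwa [pPow_zero]) n
    simpa using this
  have h2 : (0 : ℤ) ≤ o n := (ho n).le_of h1
  have : (0 : ℝ) ≤ (o n : ℝ) := by exact_mod_cast h2
  positivity

/-- on a stable lattice of rank `h`, a positive slope is at least `1/h` -/
theorem slope_ge_inv_of_stable_of_pos [Module.Finite L N] (hh : Module.finrank L N = h) {lam : ℝ}
    (hG : IsSemi (p := p) (k := k) G)
    (hsurj : Function.Surjective G) (hs : HasSlope (p := p) (k := k) G lam)
    (hM : M.IsLattice L) (hGM : img G M ≤ M) (hpos : 0 < lam) : 1 / (h : ℝ) ≤ lam := by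
  have hnt := hs.nontrivial
  have hh0 : 0 < h := by
    rw [← hh]; exact Module.finrank_pos
  obtain ⟨o, ho, hlim⟩ := hs.of_lattice hG hsurj hM
  have hev : ∀ᶠ n : ℕ in atTop, 0 < (o n : ℝ) / n := (tendsto_order.1 hlim).1 0 hpos
  obtain ⟨n, hn, hn1⟩ := (hev.and (eventually_ge_atTop 1)).exists
  have hn' : (0 : ℝ) < n := by exact_mod_cast hn1
  have hon : 0 < o n := by
    have := (div_pos_iff_of_pos_right hn').mp hn
    exact_mod_cast this
  have hle : img (G^[n]) M ≤ Isoc.pPow 1 M :=
    (ho n).1.trans (pPow_anti M (by omega))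
  have hle' : img (G^[h]) M ≤ Isoc.pPow 1 M := img_iterate_finrank_le hh hG hGM hle
  have key : ∀ j : ℕ, (j : ℤ) ≤ o (h * j) := by
    intro j
    have h1 := img_iterate_le (hG.iterate h) hle' j
    rw [← Function.iterate_mul, mul_one] at h1
    exact (ho (h * j)).le_of h1
  have hmul : Tendsto (fun j : ℕ => h * j) atTop atTop :=
    (strictMono_mul_left_of_pos hh0).tendsto_atTop
  have hlim' : Tendsto (fun j : ℕ => (o (h * j) : ℝ) / ((h * j : ℕ) : ℝ)) atTop (𝓝 lam) :=
    hlim.comp hmul
  refine ge_of_tendsto hlim' ?_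
  filter_upwards [eventually_ge_atTop 1] with j hj
  have hj' : (0 : ℝ) < j := by exact_mod_cast hj
  have hh' : (0 : ℝ) < h := by exact_mod_cast hh0
  have h2 : (j : ℝ) ≤ (o (h * j) : ℝ) := by exact_mod_cast key j
  push_cast
  rw [div_le_div_iff₀ hh' (by positivity)]
  nlinarith

/-- on a stable lattice, slope zero forces all orders to vanish -/
theorem ordG_zero_of_stable_of_slope_zero (hG : IsSemi (p := p) (k := k) G)
    (hsurj : Function.Surjective G) (hs : HasSlope (p := p) (k := k) G 0)
    (hM : M.IsLattice L) (hGM : img G M ≤ M) : OrdG M G 0 := by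
  have hnt := hs.nontrivial
  refine ⟨by rwa [pPow_zero], fun hle => ?_⟩
  rw [zero_add] at hle
  obtain ⟨o, ho, hlim⟩ := hs.of_lattice hG hsurj hM
  have key : ∀ j : ℕ, (j : ℤ) ≤ o j := by
    intro j
    have h1 := img_iterate_le hG hle j
    rw [mul_one] at h1
    exact (ho j).le_of h1
  have : (1 : ℝ) ≤ 0 := by
    refine ge_of_tendsto hlim ?_
    filter_upwards [eventually_ge_atTop 1] with j hj
    have hj' : (0 : ℝ) < j := by exact_mod_cast hj
    have h2 : (j : ℝ) ≤ (o j : ℝ) := by exact_mod_cast key j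
    rw [le_div_iff₀ hj']
    linarith
  linarith

/-- a slope `≥ -1/(h+1)` admits a stable lattice -/
theorem exists_stable_of_slope_ge [Module.Finite L N] (hh : Module.finrank L N = h) {lam : ℝ}
    (hG : IsSemi (p := p) (k := k) G) (hs : HasSlope (p := p) (k := k) G lam)
    (hge : -(1 / ((h : ℝ) + 1)) ≤ lam) :
    ∃ M' : Submodule W N, M'.IsLattice L ∧ img G M' ≤ M' := by
  have hs' := hs.twistIter hG 1 (h + 1)
  have hG' := twistIter_isSemi (p := p) (k := k) hG 1 (h + 1)
  have hnn : (0 : ℝ) ≤ ((h + 1 : ℕ) : ℝ) * lam + ((1 : ℤ) : ℝ) := by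
    have hpos : (0 : ℝ) < (h : ℝ) + 1 := by positivity
    have : -1 ≤ ((h : ℝ) + 1) * lam := by
      have := mul_le_mul_of_nonneg_left hge hpos.le
      rw [mul_neg, mul_one_div_cancel hpos.ne'] at this
      exact this
    push_cast
    linarith
  obtain ⟨M₁, hM₁, hst⟩ := exists_stable_of_slope_nonneg hh hG' hs' hnn
  rw [img_twistIter, pPow_le_iff] at hst
  exact effective_of_iterate_le hh hG hM₁ hst

/-- rationality of the first slope: `λ₁ = r/s` with `0 < s ≤ h`, realised by a lattice -/
theorem exists_rational_slope [Module.Finite L N] (hh : Module.finrank L N = h) {lam : ℝ}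
    (hG : IsSemi (p := p) (k := k) G) (hsurj : Function.Surjective G)
    (hs : HasSlope (p := p) (k := k) G lam) :
    ∃ (r : ℤ) (s : ℕ) (M : Submodule W N), 0 < s ∧ s ≤ h ∧ lam = (r : ℝ) / s ∧
      M.IsLattice L ∧ OrdG M (G^[s]) r := by
  have hnt := hs.nontrivial
  have hh0 : 0 < h := by
    rw [← hh]; exact Module.finrank_pos
  obtain ⟨j, k', hk0, hkh, habs⟩ := Real.exists_int_int_abs_mul_sub_le lam hh0
  obtain ⟨s, rfl⟩ : ∃ s : ℕ, k' = (s : ℤ) := ⟨k'.toNat, by omega⟩
  have hs0 : 0 < s := by exact_mod_cast hk0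
  have hsh : s ≤ h := by exact_mod_cast hkh
  have hG' := twistIter_isSemi (p := p) (k := k) hG (-j) s
  have hs' := hs.twistIter hG (-j) s
  have hsurj' : Function.Surjective (twistIter p k G (-j) s) := by
    intro y
    obtain ⟨x, hx⟩ := hsurj.iterate s (((p : L) ^ (-j))⁻¹ • y)
    refine ⟨x, ?_⟩
    simp only [twistIter, hx]
    rw [smul_smul, mul_inv_cancel₀ (zpow_ne_zero _ pL_ne_zero), one_smul]
  set lam' : ℝ := (s : ℝ) * lam + ((-j : ℤ) : ℝ) with hlam'
  have habs' : |lam'| ≤ 1 / ((h : ℝ) + 1) := by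
    have : lam' = ((s : ℤ) : ℝ) * lam - (j : ℝ) := by
      rw [hlam']; push_cast; ring
    rw [this]
    exact habs
  obtain ⟨M', hM', hst⟩ := exists_stable_of_slope_ge hh hG' hs' (neg_le_of_abs_le habs')
  have hnn : 0 ≤ lam' := slope_nonneg_of_stable hG' hsurj' hs' hM' hst
  have hzero : lam' = 0 := by
    rcases hnn.eq_or_lt with h0 | hpos
    · exact h0.symm
    · exfalso
      have h1 := slope_ge_inv_of_stable_of_pos hh hG' hsurj' hs' hM' hst hpos
      have h2 : lam' ≤ 1 / ((h : ℝ) + 1) := le_of_abs_le habs'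
      have hh' : (0 : ℝ) < h := by exact_mod_cast hh0
      have : 1 / ((h : ℝ) + 1) < 1 / (h : ℝ) := by
        apply one_div_lt_one_div_of_lt hh'
        linarith
      linarith
  have hord : OrdG M' (twistIter p k G (-j) s) 0 := by
    apply ordG_zero_of_stable_of_slope_zero hG' hsurj' _ hM' hst
    rw [← hzero]
    exact hs'
  rw [ordG_twistIter_iff, zero_sub, neg_neg] at hord
  refine ⟨j, s, M', hs0, hsh, ?_, hM', hord⟩
  have hs0' : (0 : ℝ) < s := by exact_mod_cast hs0
  rw [eq_div_iff hs0'.ne']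
  rw [hlam'] at hzero
  push_cast at hzero
  linarith

end Groth.Agent.H85
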