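import Groth.Agent.H85.Compact
import Groth.Agent.H85.Rational

set_option autoImplicit false
set_option linter.unusedSectionVars false

noncomputable section

open scoped Isocrystal Pointwise
open Filter Topology Module

universe u v v'

namespace Groth.Agent.H85

variable {p : ℕ} [Fact p.Prime] {k : Type u} [Field k] [CharP k p] [PerfectRing k p]

local notation "W" => WittVector p k
local notation "L" => FractionRing (WittVector p k)

variable {N : Type v} [AddCommGroup N] [Module (WittVector p k) N] [Module (FractionRing (WittVector p k)) N]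
  [IsScalarTower (WittVector p k) (FractionRing (WittVector p k)) N]

variable {h : ℕ} {G : N → N} {M : Submodule (WittVector p k) N}

/-! ### the unit-root part of a stable lattice -/

/-- the unit-root part `⋂ Gʲ M` of a stable lattice -/
def unitPart (G : N → N) (M : Submodule W N) : Submodule W N := ⨅ j : ℕ, img (G^[j]) M

theorem mem_unitPart {x : N} : x ∈ unitPart (p := p) (k := k) G M ↔ ∀ j : ℕ, x ∈ img (G^[j]) M :=
  Submodule.mem_iInf _

theorem img_iterate_antitone (hG : IsSemi (p := p) (k := k) G) (hGM : img G M ≤ M) :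
    Antitone fun j : ℕ => img (G^[j]) M := by
  apply antitone_nat_of_succ_le
  intro j
  rw [Function.iterate_succ, img_comp hG]
  exact img_mono _ hGM

theorem img_iterate_le_self (hG : IsSemi (p := p) (k := k) G) (hGM : img G M ≤ M) (j : ℕ) :
    img (G^[j]) M ≤ M := by
  have := img_iterate_antitone hG hGM (Nat.zero_le j)
  simpa [img_id] using this

theorem unitPart_le (G : N → N) (M : Submodule W N) : unitPart (p := p) (k := k) G M ≤ M := by
  intro x hx
  have := mem_unitPart.mp hx 0
  simpa [img_id] using this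

theorem apply_mem_unitPart (hG : IsSemi (p := p) (k := k) G) (hGM : img G M ≤ M) {x : N}
    (hx : x ∈ unitPart (p := p) (k := k) G M) : G x ∈ unitPart (p := p) (k := k) G M := by
  rw [mem_unitPart] at hx ⊢
  intro j
  have h1 : G x ∈ img (G^[j + 1]) M := by
    obtain ⟨m, hm, rfl⟩ := (mem_img (hG.iterate j)).mp (hx j)
    rw [← Function.iterate_succ_apply' G]
    exact apply_mem_img _ hm
  exact img_iterate_antitone hG hGM (Nat.le_succ j) h1

theorem exists_mem_unitPart_apply_eq (hG : IsSemi (p := p) (k := k) G) (hinj : Function.Injective G)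
    {y : N} (hy : y ∈ unitPart (p := p) (k := k) G M) :
    ∃ x ∈ unitPart (p := p) (k := k) G M, G x = y := by
  rw [mem_unitPart] at hy
  have hex : ∀ j : ℕ, ∃ x ∈ img (G^[j]) M, G x = y := by
    intro j
    obtain ⟨m, hm, hmy⟩ := (mem_img (hG.iterate (j + 1))).mp (hy (j + 1))
    refine ⟨G^[j] m, apply_mem_img _ hm, ?_⟩
    rw [← Function.iterate_succ_apply' G]
    exact hmy
  obtain ⟨x, _, hxy⟩ := hex 0
  refine ⟨x, ?_, hxy⟩
  rw [mem_unitPart]
  intro j
  obtain ⟨x', hx', hxy'⟩ := hex j
  have : x = x' := hinj (hxy.trans hxy'.symm)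
  rw [this]
  exact hx'

theorem exists_mem_unitPart_iterate_eq (hG : IsSemi (p := p) (k := k) G) (hinj : Function.Injective G)
    (n : ℕ) {y : N} (hy : y ∈ unitPart (p := p) (k := k) G M) :
    ∃ x ∈ unitPart (p := p) (k := k) G M, G^[n] x = y := by
  induction n generalizing y with
  | zero => exact ⟨y, hy, rfl⟩
  | succ n ih =>
    obtain ⟨x, hx, hxy⟩ := exists_mem_unitPart_apply_eq hG hinj hy
    obtain ⟨x', hx', hxx'⟩ := ih hx
    refine ⟨x', hx', ?_⟩
    rw [Function.iterate_succ_apply', hxx', hxy]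

theorem img_unitPart (hG : IsSemi (p := p) (k := k) G) (hinj : Function.Injective G)
    (hGM : img G M ≤ M) : img G (unitPart (p := p) (k := k) G M) = unitPart (p := p) (k := k) G M := by
  apply le_antisymm
  · intro y hy
    obtain ⟨x, hx, rfl⟩ := (mem_img hG).mp hy
    exact apply_mem_unitPart hG hGM hx
  · intro y hy
    obtain ⟨x, hx, rfl⟩ := exists_mem_unitPart_apply_eq hG hinj hy
    exact apply_mem_img G hx

/-- some iterate of `G` maps `M` into `M_u + pM` -/
theorem exists_iterate_le_unitPart_sup [Module.Finite L N] (hh : Module.finrank L N = h)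
    (hG : IsSemi (p := p) (k := k) G) (hsurj : Function.Surjective G) (hM : M.IsLattice L)
    (hGM : img G M ≤ M) :
    ∃ J : ℕ, img (G^[J]) M ≤ unitPart (p := p) (k := k) G M ⊔ Isoc.pPow 1 M := by
  have hanti := img_iterate_antitone hG hGM
  let Q : ℕ → Submodule W N := fun j => img (G^[j]) M ⊔ Isoc.pPow 1 M
  have hQ : Antitone Q := fun m n hmn => sup_le_sup_right (hanti hmn) _
  have hQ0 : Q 0 = M := by
    change img (G^[0]) M ⊔ Isoc.pPow 1 M = M
    rw [Function.iterate_zero, img_id]
    exact sup_eq_left.mpr (pPow_one_le M)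
  obtain ⟨J, hJ⟩ := chain_one hh Q hQ (fun n => by rw [hQ0]; exact le_sup_right)
  refine ⟨J, fun x hx => ?_⟩
  have hxQ : ∀ j, x ∈ Q j := by
    intro j
    rcases le_total j J with hj | hj
    · exact Submodule.mem_sup_left (hanti hj hx)
    · rw [hJ j hj]
      exact Submodule.mem_sup_left hx
  have hdec : ∀ j, ∃ d ∈ img (G^[j]) M, x - d ∈ Isoc.pPow 1 M := by
    intro j
    obtain ⟨d, hd, π, hπ, hsum⟩ := Submodule.mem_sup.mp (hxQ j)
    refine ⟨d, hd, ?_⟩
    have : x - d = π := by rw [← hsum]; abel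
    rw [this]
    exact hπ
  choose d hd1 hd2 using hdec
  obtain ⟨e, heM, he⟩ := linear_compact hh hM (fun n => img (G^[n]) M ⊓ Isoc.pPow 1 M)
    (fun m n hmn => inf_le_inf_right _ (hanti hmn))
    (fun n => inf_le_right.trans (pPow_one_le M))
    (fun n => by
      have hlat := img_isLattice (hG.iterate n) (hsurj.iterate n) hM
      obtain ⟨c, hc⟩ := exists_pPow_le hM.fg hlat.span_eq_top
      refine ⟨c + 1, le_inf ((pPow_anti M (by push_cast; omega)).trans hc)
        (pPow_anti M (by push_cast; omega))⟩)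
    d (fun n => img_iterate_le_self hG hGM n (hd1 n))
    (fun n => by
      refine ⟨Submodule.sub_mem _ (hanti (Nat.le_succ n) (hd1 (n + 1))) (hd1 n), ?_⟩
      have : d (n + 1) - d n = (x - d n) - (x - d (n + 1)) := by abel
      rw [this]
      exact Submodule.sub_mem _ (hd2 n) (hd2 (n + 1)))
  have heu : e ∈ unitPart (p := p) (k := k) G M := by
    rw [mem_unitPart]
    intro j
    have := (he j).1
    have h2 : e = (e - d j) + d j := by abel
    rw [h2]
    exact Submodule.add_mem _ this (hd1 j)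
  have h3 : x = e + ((x - d 0) - (e - d 0)) := by abel
  rw [h3]
  exact Submodule.add_mem_sup heu (Submodule.sub_mem _ (hd2 0) (he 0).2)


/-! ### the topologically nilpotent part -/

/-- the preimage of a `W`-submodule under a semilinear map -/
def preimg (hG : IsSemi (p := p) (k := k) G) (X : Submodule W N) : Submodule W N where
  carrier := {z | G z ∈ X}
  add_mem' := by
    intro a b ha hb
    change G (a + b) ∈ X
    rw [hG.map_add]
    exact X.add_mem ha hb
  zero_mem' := by
    change G 0 ∈ X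
    rw [hG.map_zero]
    exact X.zero_mem
  smul_mem' := by
    intro w x hx
    change G (w • x) ∈ X
    obtain ⟨ρW, hρ⟩ := hG.map_W_smul
    rw [hρ]
    exact X.smul_mem _ hx

theorem mem_preimg (hG : IsSemi (p := p) (k := k) G) {X : Submodule W N} {z : N} :
    z ∈ preimg hG X ↔ G z ∈ X := Iff.rfl

theorem preimg_mono (hG : IsSemi (p := p) (k := k) G) {X Y : Submodule W N} (hXY : X ≤ Y) :
    preimg hG X ≤ preimg hG Y := fun _ hz => hXY hz

/-- the chain `B₀ = M`, `B_{i+1} = {z ∈ M | G^J z ∈ p B_i}` -/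
def nilChain (hG : IsSemi (p := p) (k := k) G) (J : ℕ) (M : Submodule W N) : ℕ → Submodule W N
  | 0 => M
  | i + 1 => M ⊓ preimg (hG.iterate J) (Isoc.pPow 1 (nilChain hG J M i))

theorem nilChain_zero (hG : IsSemi (p := p) (k := k) G) (J : ℕ) (M : Submodule W N) :
    nilChain hG J M 0 = M := rfl

theorem nilChain_succ (hG : IsSemi (p := p) (k := k) G) (J : ℕ) (M : Submodule W N) (i : ℕ) :
    nilChain hG J M (i + 1) = M ⊓ preimg (hG.iterate J) (Isoc.pPow 1 (nilChain hG J M i)) := rfl

theorem nilChain_le (hG : IsSemi (p := p) (k := k) G) (J : ℕ) (M : Submodule W N) (i : ℕ) :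
    nilChain hG J M i ≤ M := by
  cases i with
  | zero => exact le_rfl
  | succ i => exact inf_le_left

theorem nilChain_antitone (hG : IsSemi (p := p) (k := k) G) (J : ℕ) (M : Submodule W N) :
    Antitone (nilChain hG J M) := by
  apply antitone_nat_of_succ_le
  intro i
  induction i with
  | zero => exact nilChain_le hG J M 1
  | succ i ih =>
    rw [nilChain_succ hG J M (i + 1), nilChain_succ hG J M i]
    exact inf_le_inf_left _ (preimg_mono _ (pPow_mono _ ih))

theorem pPow_le_nilChain (hG : IsSemi (p := p) (k := k) G) (hGM : img G M ≤ M) (J : ℕ) (i : ℕ) :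
    Isoc.pPow (i : ℤ) M ≤ nilChain hG J M i := by
  induction i with
  | zero => simp [nilChain_zero]
  | succ i ih =>
    rw [nilChain_succ]
    refine le_inf (pPow_natCast_le M _) ?_
    intro z hz
    rw [mem_preimg]
    have h1 : G^[J] z ∈ img (G^[J]) (Isoc.pPow ((i + 1 : ℕ) : ℤ) M) := apply_mem_img _ hz
    rw [img_pPow (hG.iterate J)] at h1
    have h2 : Isoc.pPow ((i + 1 : ℕ) : ℤ) (img (G^[J]) M) ≤ Isoc.pPow 1 (nilChain hG J M i) := by
      have h3 : ((i + 1 : ℕ) : ℤ) = 1 + (i : ℤ) := by push_cast; ring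
      rw [h3, ← pPow_pPow]
      exact pPow_mono _ ((pPow_mono _ (img_iterate_le_self hG hGM J)).trans ih)
    exact h2 h1

theorem iterate_mem_of_mem_nilChain (hG : IsSemi (p := p) (k := k) G) (J : ℕ) (n : ℕ) {z : N}
    (hz : z ∈ nilChain hG J M n) : G^[J * n] z ∈ Isoc.pPow (n : ℤ) M := by
  induction n generalizing z with
  | zero => simpa [nilChain_zero] using hz
  | succ n ih =>
    rw [nilChain_succ] at hz
    obtain ⟨z', hz', hzz'⟩ := (mem_pPow_iff_exists _).mp ((mem_preimg _).mp hz.2)
    have h1 : G^[J * (n + 1)] z = G^[J * n] (G^[J] z) := by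
      rw [← Function.iterate_add_apply]
      congr 1
    rw [h1, ← hzz', (hG.iterate _).map_pow_smul]
    have h3 : ((n + 1 : ℕ) : ℤ) = 1 + (n : ℤ) := by push_cast; ring
    rw [h3, ← pPow_pPow]
    exact smul_mem_pPow _ (ih hz')

/-- every element of `M` is the sum of an element of `M_u` and an element of the `i`-th nil chain -/
theorem exists_sub_mem_nilChain (hG : IsSemi (p := p) (k := k) G) (hinj : Function.Injective G)
    (hGM : img G M ≤ M) {J : ℕ}
    (hJ : img (G^[J]) M ≤ unitPart (p := p) (k := k) G M ⊔ Isoc.pPow 1 M) (i : ℕ) :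
    ∀ x ∈ M, ∃ v ∈ unitPart (p := p) (k := k) G M, x - v ∈ nilChain hG J M i := by
  have hGJ := hG.iterate J
  have one : ∀ x ∈ M, ∃ v ∈ unitPart (p := p) (k := k) G M, x - v ∈ M ∧
      G^[J] (x - v) ∈ Isoc.pPow 1 M := by
    intro x hx
    obtain ⟨u, hu, π, hπ, hsum⟩ := Submodule.mem_sup.mp (hJ (apply_mem_img (G^[J]) hx))
    obtain ⟨v, hv, hvu⟩ := exists_mem_unitPart_iterate_eq hG hinj J hu
    refine ⟨v, hv, Submodule.sub_mem _ hx (unitPart_le G M hv), ?_⟩
    rw [hGJ.map_sub, hvu, ← hsum]
    simpa using hπ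
  induction i with
  | zero =>
    intro x hx
    exact ⟨0, Submodule.zero_mem _, by simpa [nilChain_zero] using hx⟩
  | succ i ih =>
    intro x hx
    obtain ⟨v₁, hv₁, hzM, hz⟩ := one x hx
    obtain ⟨y, hy, hyz⟩ := (mem_pPow_iff_exists _).mp hz
    obtain ⟨v', hv', hyv'⟩ := ih y hy
    obtain ⟨v'', hv'', hvv⟩ := exists_mem_unitPart_iterate_eq hG hinj J hv'
    have hpv : ((p : L) ^ (1 : ℤ)) • v'' ∈ unitPart (p := p) (k := k) G M := by
      rw [zpow_one, pL_smul_eq]
      exact Submodule.smul_mem _ _ hv''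
    refine ⟨v₁ + ((p : L) ^ (1 : ℤ)) • v'', Submodule.add_mem _ hv₁ hpv, ?_⟩
    have h1 : x - (v₁ + ((p : L) ^ (1 : ℤ)) • v'') = (x - v₁) - ((p : L) ^ (1 : ℤ)) • v'' := by abel
    rw [h1, nilChain_succ]
    refine ⟨Submodule.sub_mem _ hzM (unitPart_le G M hpv), ?_⟩
    change G^[J] ((x - v₁) - ((p : L) ^ (1 : ℤ)) • v'') ∈ Isoc.pPow 1 (nilChain hG J M i)
    rw [hGJ.map_sub, hGJ.map_pow_smul, hvv, ← hyz, ← smul_sub]
    exact smul_mem_pPow _ hyv'

/-- **Fitting decomposition** of a stable lattice: every element of `M` is the sum of an element of the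
unit-root part and a topologically nilpotent element -/
theorem exists_fitting [Module.Finite L N] (hh : Module.finrank L N = h)
    (hG : IsSemi (p := p) (k := k) G) (hbij : Function.Bijective G) (hM : M.IsLattice L)
    (hGM : img G M ≤ M) :
    ∃ J : ℕ, ∀ x ∈ M, ∃ v ∈ unitPart (p := p) (k := k) G M,
      ∀ n : ℕ, G^[J * n] (x - v) ∈ Isoc.pPow (n : ℤ) M := by
  obtain ⟨J, hJ⟩ := exists_iterate_le_unitPart_sup hh hG hbij.surjective hM hGM
  refine ⟨J, fun x hx => ?_⟩
  have hanti := img_iterate_antitone hG hGM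
  have hdec := fun i => exists_sub_mem_nilChain hG hbij.injective hGM hJ i x hx
  choose v hv1 hv2 using hdec
  have hvimg : ∀ n j, v n ∈ img (G^[j]) M := fun n j => mem_unitPart.mp (hv1 n) j
  obtain ⟨e, heM, he⟩ := linear_compact hh hM (fun n => img (G^[n]) M ⊓ nilChain hG J M n)
    (fun m n hmn => inf_le_inf (hanti hmn) (nilChain_antitone hG J M hmn))
    (fun n => inf_le_right.trans (nilChain_le hG J M n))
    (fun n => by
      have hlat := img_isLattice (hG.iterate n) (hbij.surjective.iterate n) hM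
      obtain ⟨c, hc⟩ := exists_pPow_le hM.fg hlat.span_eq_top
      refine ⟨c + n, le_inf ((pPow_anti M (by push_cast; omega)).trans hc)
        ((pPow_anti M (by push_cast; omega)).trans (pPow_le_nilChain hG hGM J n))⟩)
    v (fun n => unitPart_le G M (hv1 n))
    (fun n => by
      refine ⟨Submodule.sub_mem _ (hvimg _ _) (hvimg _ _), ?_⟩
      have : v (n + 1) - v n = (x - v n) - (x - v (n + 1)) := by abel
      rw [this]
      exact Submodule.sub_mem _ (hv2 n) (nilChain_antitone hG J M (Nat.le_succ n) (hv2 (n + 1))))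
  have heu : e ∈ unitPart (p := p) (k := k) G M := by
    rw [mem_unitPart]
    intro j
    have h2 : e = (e - v j) + v j := by abel
    rw [h2]
    exact Submodule.add_mem _ (he j).1 (hvimg j j)
  refine ⟨e, heu, fun n => ?_⟩
  apply iterate_mem_of_mem_nilChain hG J n
  have h3 : x - e = (x - v n) - (e - v n) := by abel
  rw [h3]
  exact Submodule.sub_mem _ (hv2 n) (he n).2

end Groth.Agent.H85
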