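import Mathlib
import Groth.Prelude.Def_GSzH1

/-!
# Locally constant 1-cocycles of a procyclic group (abstract form of Lang's bijection)

`Γ` a topological group with a central element `π` whose ℕ-powers are dense and such that the
open subgroups `V` with `{i | π^i ∈ V} = Nℕ` are cofinal with arbitrary divisibility.  Then
`z ↦ z π` is a bijection from locally constant cocycles to `A` (for `A` with open stabilisers
and locally finite).
-/

set_option autoImplicit false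
universe u v

namespace Groth.Agent.H85.Procyclic

open GpH1

variable {Γ : Type u} [Group Γ] {A : Type v} [Group A] [MulDistribMulAction Γ A]

theorem cocycle_one (z : OneCocycle Γ A) : z 1 = 1 := by
  have h := z.2 1 1
  rw [mul_one, one_smul] at h
  exact (mul_eq_left.mp h.symm)

theorem cocycle_inv (z : OneCocycle Γ A) (σ : Γ) : z σ⁻¹ = (σ⁻¹ • z σ)⁻¹ := by
  have h := z.2 σ⁻¹ σ
  rw [inv_mul_cancel, cocycle_one] at h
  exact eq_inv_of_mul_eq_one_left h.symm

/-- The subgroup on which two cocycles agree. -/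
def eqSubgroup (z z' : OneCocycle Γ A) : Subgroup Γ where
  carrier := {σ | z σ = z' σ}
  mul_mem' := by
    intro σ τ hσ hτ
    simp only [Set.mem_ofPred_eq] at *
    rw [z.2, z'.2, hσ, hτ]
  one_mem' := by simp [cocycle_one]
  inv_mem' := by
    intro σ hσ
    simp only [Set.mem_ofPred_eq] at *
    rw [cocycle_inv, cocycle_inv, hσ]

variable [TopologicalSpace Γ]

theorem injective_eval (π : Γ)
    (hdense : ∀ (σ : Γ) (T : Set Γ), IsOpen T → σ ∈ T → ∃ n : ℕ, π ^ n ∈ T) :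
    Function.Injective (fun z : OneCocycleLC Γ A => z.1 π) := by
  intro z z' h
  apply Subtype.ext
  apply OneCocycle.ext
  intro σ
  have hT : IsOpen ({τ | z.1 τ = z.1 σ} ∩ {τ | z'.1 τ = z'.1 σ}) :=
    (z.2.isOpen_fiber _).inter (z'.2.isOpen_fiber _)
  obtain ⟨n, hn⟩ := hdense σ _ hT ⟨rfl, rfl⟩
  have hπ : π ∈ eqSubgroup z.1 z'.1 := h
  have hmem : π ^ n ∈ eqSubgroup z.1 z'.1 := Subgroup.pow_mem _ hπ n
  calc z.1 σ = z.1 (π ^ n) := hn.1.symm
    _ = z'.1 (π ^ n) := hmem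
    _ = z'.1 σ := hn.2

/-- The sequence `z_n = a · π(a) ⋯ π^{n-1}(a)`. -/
def zseq (π : Γ) (a : A) : ℕ → A
  | 0 => 1
  | n + 1 => zseq π a n * π ^ n • a

theorem zseq_add (π : Γ) (a : A) (i j : ℕ) :
    zseq π a (i + j) = zseq π a i * π ^ i • zseq π a j := by
  induction j with
  | zero => simp [zseq]
  | succ j ih =>
    rw [← add_assoc, zseq, ih, zseq, smul_mul', mul_assoc, ← mul_smul, ← pow_add]

theorem zseq_mem (π : Γ) (a : A) (H : Subgroup A) (ha : a ∈ H)
    (hH : ∀ (σ : Γ) (x : A), x ∈ H → σ • x ∈ H) (n : ℕ) : zseq π a n ∈ H := by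
  induction n with
  | zero => exact H.one_mem
  | succ n ih => exact H.mul_mem ih (hH _ _ ha)

variable [IsTopologicalGroup Γ]

theorem exists_cocycle (π : Γ) (hπ : ∀ σ : Γ, σ * π = π * σ)
    (hdense : ∀ (σ : Γ) (T : Set Γ), IsOpen T → σ ∈ T → ∃ n : ℕ, π ^ n ∈ T)
    (hV : ∀ U : Subgroup Γ, IsOpen (U : Set Γ) → ∃ d : ℕ, 0 < d ∧ ∀ e : ℕ, 0 < e →
      ∃ V : Subgroup Γ, IsOpen (V : Set Γ) ∧ V ≤ U ∧ ∀ i : ℕ, π ^ i ∈ V ↔ d * e ∣ i)
    (hcont : ∀ a : A, IsOpen {σ : Γ | σ • a = a})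
    (hfin : ∀ a : A, ∃ H : Subgroup A, (H : Set A).Finite ∧ a ∈ H ∧
      ∀ (σ : Γ) (x : A), x ∈ H → σ • x ∈ H) (a : A) :
    ∃ z : OneCocycleLC Γ A, z.1 π = a := by
  classical
  obtain ⟨H, hHfin, haH, hHstab⟩ := hfin a
  -- the pointwise stabiliser of `H`
  let U : Subgroup Γ :=
    { carrier := {σ | ∀ x ∈ H, σ • x = x}
      mul_mem' := by
        intro σ τ hσ hτ x hx
        rw [mul_smul, hτ x hx, hσ x hx]
      one_mem' := by intro x _; exact one_smul _ _
      inv_mem' := by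
        intro σ hσ x hx
        rw [inv_smul_eq_iff, hσ x hx] }
  have hUopen : IsOpen (U : Set Γ) := by
    have : (U : Set Γ) = ⋂ x ∈ (H : Set A), {σ : Γ | σ • x = x} := by
      ext σ
      simp only [Set.mem_iInter, Set.mem_ofPred_eq, SetLike.mem_coe]
      rfl
    rw [this]
    exact hHfin.isOpen_biInter (fun x _ => hcont x)
  obtain ⟨d, hd, hVd⟩ := hV U hUopen
  obtain ⟨V₁, -, hV₁U, hV₁⟩ := hVd 1 one_pos
  have hπdU : π ^ d ∈ U := hV₁U ((hV₁ d).mpr (by simp))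
  have : Finite H := hHfin.to_subtype
  have he : 0 < Nat.card H := Nat.card_pos
  obtain ⟨V, hVo, hVU, hVi⟩ := hVd (Nat.card H) he
  set N := d * Nat.card H with hN
  have hzH : ∀ n, zseq π a n ∈ H := zseq_mem π a H haH hHstab
  have hpowd : ∀ t : ℕ, π ^ (d * t) ∈ U := by
    intro t
    rw [pow_mul]
    exact Subgroup.pow_mem _ hπdU t
  have hzd : ∀ t : ℕ, zseq π a (d * t) = (zseq π a d) ^ t := by
    intro t
    induction t with
    | zero => simp [zseq]
    | succ t ih =>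
      rw [mul_add, mul_one, zseq_add, ih, hpowd t _ (hzH d), pow_succ]
  have hzN : zseq π a N = 1 := by
    rw [hN, hzd]
    have h1 : (⟨zseq π a d, hzH d⟩ : H) ^ Nat.card H = 1 := pow_card_eq_one'
    have h2 : ((⟨zseq π a d, hzH d⟩ : H) : A) ^ Nat.card H = 1 := by
      exact_mod_cast congrArg (fun x : H => (x : A)) h1
    exact h2
  have hper : ∀ n t : ℕ, zseq π a (N * t + n) = zseq π a n := by
    intro n t
    have h0 : zseq π a (N * t) = 1 := by
      rw [hN, mul_assoc, hzd, pow_mul]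
      have : zseq π a d ^ Nat.card H = 1 := by
        have := hzN
        rw [hN, hzd] at this
        exact this
      rw [this, one_pow]
    have hmemV : π ^ (N * t) ∈ V := (hVi _).mpr (dvd_mul_right _ _)
    rw [zseq_add, h0, one_mul, hVU hmemV _ (hzH n)]
  have hcong : ∀ n n' : ℕ, n ≤ n' → N ∣ n' - n → zseq π a n' = zseq π a n := by
    intro n n' hle hdvd
    obtain ⟨t, ht⟩ := hdvd
    have : n' = N * t + n := by omega
    rw [this, hper]
  have hcomm : ∀ (σ : Γ) (n : ℕ), σ * π ^ n = π ^ n * σ := by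
    intro σ n
    exact ((show Commute σ π from hπ σ).pow_right n).eq
  have hex : ∀ σ : Γ, ∃ n : ℕ, σ⁻¹ * π ^ n ∈ V := by
    intro σ
    have hopen : IsOpen {τ : Γ | σ⁻¹ * τ ∈ V} :=
      hVo.preimage (continuous_const_mul σ⁻¹)
    obtain ⟨n, hn⟩ := hdense σ _ hopen (by simp [V.one_mem])
    exact ⟨n, hn⟩
  let ν : Γ → ℕ := fun σ => Classical.choose (hex σ)
  have hν : ∀ σ, σ⁻¹ * π ^ (ν σ) ∈ V := fun σ => Classical.choose_spec (hex σ)
  have key : ∀ (σ : Γ) (n : ℕ), σ⁻¹ * π ^ n ∈ V → zseq π a (ν σ) = zseq π a n := by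
    intro σ n hn
    have h1 := hν σ
    have h2 : (π ^ (ν σ))⁻¹ * π ^ n ∈ V := by
      have := V.mul_mem (V.inv_mem h1) hn
      simpa [mul_assoc] using this
    rcases le_total (ν σ) n with hle | hle
    · have h3 : π ^ (n - ν σ) ∈ V := by
        rw [pow_sub _ hle, ← hcomm]
        exact h2
      exact (hcong _ _ hle ((hVi _).mp h3)).symm
    · have h3 : π ^ (ν σ - n) ∈ V := by
        rw [pow_sub _ hle, ← hcomm]
        have := V.inv_mem h2
        simpa using this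
      exact hcong _ _ hle ((hVi _).mp h3)
  have hact : ∀ (σ : Γ) (n : ℕ), σ⁻¹ * π ^ n ∈ V → ∀ x ∈ H, π ^ n • x = σ • x := by
    intro σ n hn x hx
    have := hVU hn x hx
    rw [mul_smul, inv_smul_eq_iff] at this
    exact this
  have hcoc : IsOneCocycle (fun σ : Γ => zseq π a (ν σ)) := by
    intro σ τ
    have hmem : (σ * τ)⁻¹ * π ^ (ν σ + ν τ) ∈ V := by
      have h1 := V.mul_mem (hν τ) (hν σ)
      have : (σ * τ)⁻¹ * π ^ (ν σ + ν τ) = τ⁻¹ * π ^ ν τ * (σ⁻¹ * π ^ ν σ) := by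
        rw [mul_inv_rev, pow_add, mul_assoc τ⁻¹ (π ^ ν τ), ← mul_assoc (π ^ ν τ), ← hcomm σ⁻¹ (ν τ)]
        simp only [mul_assoc]
        rw [← hcomm (π ^ ν σ) (ν τ)]
      rw [this]
      exact h1
    show zseq π a (ν (σ * τ)) = zseq π a (ν σ) * σ • zseq π a (ν τ)
    rw [key _ _ hmem, zseq_add, hact σ (ν σ) (hν σ) _ (hzH _)]
  have hlc : IsLocallyConstant (fun σ : Γ => zseq π a (ν σ)) := by
    rw [IsLocallyConstant.iff_exists_open]
    intro σ
    refine ⟨{τ : Γ | σ⁻¹ * τ ∈ V}, hVo.preimage (continuous_const_mul σ⁻¹), by simp [V.one_mem], ?_⟩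
    intro τ hτ
    have hmem : τ⁻¹ * π ^ (ν σ) ∈ V := by
      have := V.mul_mem (V.inv_mem hτ) (hν σ)
      simpa [mul_assoc] using this
    exact key τ (ν σ) hmem
  refine ⟨⟨⟨fun σ => zseq π a (ν σ), hcoc⟩, hlc⟩, ?_⟩
  show zseq π a (ν π) = a
  rw [key π 1 (by simp [V.one_mem])]
  simp [zseq]

theorem classify (π : Γ)
    (hinj : Function.Injective (fun z : OneCocycleLC Γ A => z.1 π))
    (hcont : ∀ a : A, IsOpen {σ : Γ | σ • a = a})
    (z z' : OneCocycleLC Γ A) :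
    z.cl = z'.cl ↔ ∃ g : A, z'.1 π = g * z.1 π * (π • g)⁻¹ := by
  rw [OneCocycleLC.cl_eq_cl_iff]
  constructor
  · rintro ⟨c, hc⟩
    refine ⟨c, ?_⟩
    rw [hc π]
    group
  · rintro ⟨g, hg⟩
    have hcoc : IsOneCocycle (fun σ : Γ => g⁻¹ * z'.1 σ * σ • g) := by
      intro σ τ
      show g⁻¹ * z'.1 (σ * τ) * (σ * τ) • g = g⁻¹ * z'.1 σ * σ • g * σ • (g⁻¹ * z'.1 τ * τ • g)
      rw [z'.1.2 σ τ, smul_mul', smul_mul', smul_inv', mul_smul]
      group
    have hlcg : IsLocallyConstant (fun σ : Γ => σ • g) := by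
      rw [IsLocallyConstant.iff_exists_open]
      intro σ
      refine ⟨{τ : Γ | σ⁻¹ * τ ∈ {ρ : Γ | ρ • g = g}},
        (hcont g).preimage (continuous_const_mul σ⁻¹), by simp, ?_⟩
      intro τ hτ
      have : (σ⁻¹ * τ) • g = g := hτ
      rw [mul_smul, inv_smul_eq_iff] at this
      exact this
    have hlc : IsLocallyConstant (fun σ : Γ => g⁻¹ * z'.1 σ * σ • g) :=
      ((IsLocallyConstant.const g⁻¹).mul z'.2).mul hlcg
    let w : OneCocycleLC Γ A := ⟨⟨fun σ => g⁻¹ * z'.1 σ * σ • g, hcoc⟩, hlc⟩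
    have hw : w = z := by
      apply hinj
      show g⁻¹ * z'.1 π * π • g = z.1 π
      rw [hg]
      group
    refine ⟨g, fun σ => ?_⟩
    rw [← hw]

end Groth.Agent.H85.Procyclic
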