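import Mathlib
import Groth.Agent.H85.Procyclic

/-!
# Lang's bijection for the absolute Galois group of a finite field
-/

set_option autoImplicit false
universe u v

namespace Groth.Agent.H85.FrobCocycle

open GpH1 IntermediateField

variable (k : Type u) [Field k] [Finite k]

section frob

variable (π : AlgebraicClosure k ≃ₐ[k] AlgebraicClosure k)
  (hπ : ∀ x : AlgebraicClosure k, π x = x ^ Nat.card k)

include hπ

theorem central (σ : AlgebraicClosure k ≃ₐ[k] AlgebraicClosure k) : σ * π = π * σ := by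
  ext x
  simp only [AlgEquiv.mul_apply, hπ, map_pow]

theorem pow_apply (n : ℕ) (x : AlgebraicClosure k) : (π ^ n) x = x ^ (Nat.card k) ^ n := by
  induction n generalizing x with
  | zero => simp
  | succ n ih =>
    rw [pow_succ, AlgEquiv.mul_apply, ih, hπ, ← pow_mul, ← pow_succ']

theorem mem_fixingSubgroup_iff_dvd (E : IntermediateField k (AlgebraicClosure k))
    [FiniteDimensional k E] (i : ℕ) :
    π ^ i ∈ E.fixingSubgroup ↔ Module.finrank k E ∣ i := by
  classical
  letI : Fintype k := Fintype.ofFinite k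
  haveI : Finite E := Module.finite_of_finite k
  rw [← FiniteField.orderOf_frobeniusAlgEquivOfAlgebraic k E, orderOf_dvd_iff_pow_eq_one,
    IntermediateField.mem_fixingSubgroup_iff]
  constructor
  · intro h
    ext x
    have h1 := h x x.2
    rw [pow_apply k π hπ] at h1
    rw [AlgEquiv.coe_pow, FiniteField.coe_frobeniusAlgEquivOfAlgebraic_iterate]
    simp only [AlgEquiv.one_apply]
    rw [← Nat.card_eq_fintype_card]
    push_cast
    exact h1
  · intro h x hx
    have h1 := congrArg (fun f => ((f ⟨x, hx⟩ : E) : AlgebraicClosure k)) h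
    simp only [AlgEquiv.one_apply] at h1
    rw [AlgEquiv.coe_pow, FiniteField.coe_frobeniusAlgEquivOfAlgebraic_iterate] at h1
    rw [pow_apply k π hπ, Nat.card_eq_fintype_card]
    simpa using h1

theorem exists_pow_mem_fixingSubgroup (σ : AlgebraicClosure k ≃ₐ[k] AlgebraicClosure k)
    (E : IntermediateField k (AlgebraicClosure k)) [FiniteDimensional k E] :
    ∃ n : ℕ, σ⁻¹ * π ^ n ∈ E.fixingSubgroup := by
  classical
  letI : Fintype k := Fintype.ofFinite k
  haveI : Finite E := Module.finite_of_finite k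
  haveI : Normal k E := IsGalois.to_normal
  obtain ⟨⟨n, _⟩, hn⟩ := (FiniteField.bijective_frobeniusAlgEquivOfAlgebraic_pow k E).2
    (AlgEquiv.restrictNormalHom E σ)
  refine ⟨n, ?_⟩
  have hρπ : AlgEquiv.restrictNormalHom E π = FiniteField.frobeniusAlgEquivOfAlgebraic k E := by
    ext x
    rw [AlgEquiv.restrictNormalHom_apply, hπ, FiniteField.coe_frobeniusAlgEquivOfAlgebraic,
      Nat.card_eq_fintype_card]
    simp
  rw [← IntermediateField.restrictNormalHom_ker, MonoidHom.mem_ker, map_mul, map_inv, map_pow,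
    hρπ]
  simp only at hn
  rw [hn, inv_mul_cancel]

theorem dense_pow (σ : AlgebraicClosure k ≃ₐ[k] AlgebraicClosure k)
    (T : Set (AlgebraicClosure k ≃ₐ[k] AlgebraicClosure k)) (hT : IsOpen T) (hσ : σ ∈ T) :
    ∃ n : ℕ, π ^ n ∈ T := by
  have hopen : IsOpen {τ : AlgebraicClosure k ≃ₐ[k] AlgebraicClosure k | σ * τ ∈ T} :=
    hT.preimage (continuous_const_mul σ)
  have hmem : {τ : AlgebraicClosure k ≃ₐ[k] AlgebraicClosure k | σ * τ ∈ T} ∈ nhds 1 :=
    hopen.mem_nhds (by simpa using hσ)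
  obtain ⟨E, hE, hsub⟩ := (krullTopology_mem_nhds_one_iff k (AlgebraicClosure k) _).mp hmem
  obtain ⟨n, hn⟩ := exists_pow_mem_fixingSubgroup k π hπ σ E
  refine ⟨n, ?_⟩
  have := hsub hn
  simpa using this

end frob

theorem exists_intermediateField_finrank (N : ℕ) (hN : 0 < N) :
    ∃ E : IntermediateField k (AlgebraicClosure k),
      FiniteDimensional k E ∧ Module.finrank k E = N := by
  obtain ⟨p, hp⟩ := CharP.exists k
  haveI := hp
  haveI : Fact p.Prime := ⟨CharP.char_is_prime k p⟩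
  haveI : NeZero N := ⟨hN.ne'⟩
  let f : FiniteField.Extension k p N →ₐ[k] AlgebraicClosure k := IsAlgClosed.lift
  let e : FiniteField.Extension k p N ≃ₐ[k] f.fieldRange := AlgEquiv.ofInjectiveField f
  refine ⟨f.fieldRange, Module.Finite.equiv e.toLinearEquiv, ?_⟩
  rw [← e.toLinearEquiv.finrank_eq, FiniteField.finrank_extension]

theorem exists_open_subgroups (π : AlgebraicClosure k ≃ₐ[k] AlgebraicClosure k)
    (hπ : ∀ x : AlgebraicClosure k, π x = x ^ Nat.card k)
    (U : Subgroup (AlgebraicClosure k ≃ₐ[k] AlgebraicClosure k))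
    (hU : IsOpen (U : Set (AlgebraicClosure k ≃ₐ[k] AlgebraicClosure k))) :
    ∃ d : ℕ, 0 < d ∧ ∀ e : ℕ, 0 < e →
      ∃ V : Subgroup (AlgebraicClosure k ≃ₐ[k] AlgebraicClosure k),
        IsOpen (V : Set (AlgebraicClosure k ≃ₐ[k] AlgebraicClosure k)) ∧ V ≤ U ∧
          ∀ i : ℕ, π ^ i ∈ V ↔ d * e ∣ i := by
  have hmem : (U : Set (AlgebraicClosure k ≃ₐ[k] AlgebraicClosure k)) ∈ nhds 1 :=
    hU.mem_nhds U.one_mem
  obtain ⟨E, hE, hsub⟩ := (krullTopology_mem_nhds_one_iff k (AlgebraicClosure k) _).mp hmem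
  refine ⟨Module.finrank k E, Module.finrank_pos, fun e he => ?_⟩
  obtain ⟨E', hE', hfr⟩ := exists_intermediateField_finrank k (Module.finrank k E * e)
    (Nat.mul_pos Module.finrank_pos he)
  refine ⟨E'.fixingSubgroup ⊓ E.fixingSubgroup, ?_, ?_, ?_⟩
  · rw [Subgroup.coe_inf]
    exact (E'.fixingSubgroup_isOpen).inter (E.fixingSubgroup_isOpen)
  · exact inf_le_right.trans hsub
  · intro i
    rw [Subgroup.mem_inf, mem_fixingSubgroup_iff_dvd k π hπ E', mem_fixingSubgroup_iff_dvd k π hπ E,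
      hfr]
    exact ⟨fun h => h.1, fun h => ⟨h, (dvd_mul_right _ _).trans h⟩⟩

theorem main (π : AlgebraicClosure k ≃ₐ[k] AlgebraicClosure k)
    (hπ : ∀ x : AlgebraicClosure k, π x = x ^ Nat.card k)
    (A : Type v) [Group A] [MulDistribMulAction (AlgebraicClosure k ≃ₐ[k] AlgebraicClosure k) A]
    (hcont : ∀ a : A, IsOpen {σ : AlgebraicClosure k ≃ₐ[k] AlgebraicClosure k | σ • a = a})
    (hfin : ∀ a : A, ∃ H : Subgroup A, (H : Set A).Finite ∧ a ∈ H ∧
      ∀ (σ : AlgebraicClosure k ≃ₐ[k] AlgebraicClosure k) (x : A), x ∈ H → σ • x ∈ H) :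
    Function.Bijective
        (fun z : GpH1.OneCocycleLC (AlgebraicClosure k ≃ₐ[k] AlgebraicClosure k) A => z.1 π) ∧
      ∀ z z' : GpH1.OneCocycleLC (AlgebraicClosure k ≃ₐ[k] AlgebraicClosure k) A,
        z.cl = z'.cl ↔ ∃ g : A, z'.1 π = g * z.1 π * (π • g)⁻¹ := by
  have hinj := Procyclic.injective_eval (A := A) π (dense_pow k π hπ)
  exact ⟨⟨hinj, fun a => Procyclic.exists_cocycle π (central k π hπ) (dense_pow k π hπ)
    (exists_open_subgroups k π hπ) hcont hfin a⟩,
    fun z z' => Procyclic.classify π hinj hcont z z'⟩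

end Groth.Agent.H85.FrobCocycle
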