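import Mathlib
import Groth.Prelude.Def_GrLC
import Groth.Agent.H85.GrLCBridge

/-!
# Base change of a graded algebra over a field `k` to a field extension `K`:
the graded ring `R ⊗[k] K` (helper85)
-/

set_option autoImplicit false
set_option linter.unusedSectionVars false
set_option linter.unusedVariables false

universe u

namespace Groth.Agent.H85.GrBC

open scoped TensorProduct
open DirectSum

variable {k : Type u} [Field k] {R : Type u} [CommRing R] [Algebra k R]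
  (𝒜 : ℤ → Submodule k R) [GradedAlgebra 𝒜]
  (K : Type u) [Field K] [Algebra k K]

/-- the generators of the `n`-th piece -/
def gens (n : ℤ) : Set (R ⊗[k] K) := {x | ∃ a ∈ 𝒜 n, ∃ c : K, x = a ⊗ₜ[k] c}

/-- the pieces of `R ⊗[k] K` -/
def gr (n : ℤ) : AddSubgroup (R ⊗[k] K) := (DirectSum.decomposeTensor 𝒜 K n).toAddSubgroup

theorem mem_gr_iff (n : ℤ) (x : R ⊗[k] K) :
    x ∈ gr 𝒜 K n ↔ x ∈ Submodule.span k (gens 𝒜 K n) := by
  change x ∈ DirectSum.decomposeTensor 𝒜 K n ↔ _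
  rw [DirectSum.decomposeTensor_apply]
  constructor
  · rintro ⟨z, rfl⟩
    induction z using TensorProduct.induction_on with
    | zero => rw [map_zero]; exact zero_mem _
    | tmul a c =>
      rw [LinearMap.rTensor_tmul]
      exact Submodule.subset_span ⟨a.1, a.2, c, rfl⟩
    | add z w hz hw => rw [map_add]; exact add_mem hz hw
  · intro hx
    induction hx using Submodule.span_induction with
    | mem x hx =>
      obtain ⟨a, ha, c, rfl⟩ := hx
      exact ⟨(⟨a, ha⟩ : 𝒜 n) ⊗ₜ[k] c, by rw [LinearMap.rTensor_tmul]; rfl⟩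
    | zero => exact zero_mem _
    | add x y _ _ hx hy => exact add_mem hx hy
    | smul c x _ hx => exact Submodule.smul_mem _ c hx

theorem tmul_mem_gr {n : ℤ} {a : R} (ha : a ∈ 𝒜 n) (c : K) : a ⊗ₜ[k] c ∈ gr 𝒜 K n := by
  rw [mem_gr_iff]
  exact Submodule.subset_span ⟨a, ha, c, rfl⟩

/-- induction principle for elements of a piece -/
theorem gr_induction {n : ℤ} {P : R ⊗[k] K → Prop}
    (hmem : ∀ a ∈ 𝒜 n, ∀ c : K, P (a ⊗ₜ[k] c)) (hzero : P 0)
    (hadd : ∀ x y, P x → P y → P (x + y))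
    {x : R ⊗[k] K} (hx : x ∈ gr 𝒜 K n) : P x := by
  rw [mem_gr_iff] at hx
  induction hx using Submodule.closure_induction with
  | zero => exact hzero
  | add x y _ _ hx hy => exact hadd x y hx hy
  | smul_mem r x hx =>
    obtain ⟨a, ha, c, rfl⟩ := hx
    rw [TensorProduct.smul_tmul']
    exact hmem (r • a) (Submodule.smul_mem _ r ha) c

instance grGradedMonoid : SetLike.GradedMonoid (gr 𝒜 K) where
  one_mem := by
    rw [Algebra.TensorProduct.one_def]
    exact tmul_mem_gr 𝒜 K (SetLike.GradedOne.one_mem (A := 𝒜)) 1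
  mul_mem := by
    intro i j x y hx hy
    refine gr_induction 𝒜 K (P := fun x => x * y ∈ gr 𝒜 K (i + j)) ?_ ?_ ?_ hx
    · intro a ha c
      refine gr_induction 𝒜 K (P := fun y => a ⊗ₜ[k] c * y ∈ gr 𝒜 K (i + j)) ?_ ?_ ?_ hy
      · intro b hb c'
        rw [Algebra.TensorProduct.tmul_mul_tmul]
        exact tmul_mem_gr 𝒜 K (SetLike.GradedMul.mul_mem (A := 𝒜) ha hb) _
      · rw [mul_zero]; exact zero_mem _
      · intro y y' hy hy'
        rw [mul_add]; exact add_mem hy hy'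
    · rw [zero_mul]; exact zero_mem _
    · intro x x' hx hx'
      rw [add_mul]; exact add_mem hx hx'

noncomputable instance grDecomposition : DirectSum.Decomposition (gr 𝒜 K) :=
  letI := DirectSum.tensorDecomposition 𝒜 K
  { decompose' := fun x => (DirectSum.decompose (DirectSum.decomposeTensor 𝒜 K) x :
      DirectSum ℤ fun i => DirectSum.decomposeTensor 𝒜 K i)
    left_inv := DirectSum.Decomposition.left_inv (ℳ := DirectSum.decomposeTensor 𝒜 K)
    right_inv := DirectSum.Decomposition.right_inv (ℳ := DirectSum.decomposeTensor 𝒜 K) }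

noncomputable instance grGradedRing : GradedRing (gr 𝒜 K) where

/-- the inclusion `R → R ⊗[k] K` -/
def ι : R →+* R ⊗[k] K := algebraMap R (R ⊗[k] K)

theorem ι_apply (x : R) : ι K x = x ⊗ₜ[k] (1 : K) := rfl

theorem ι_mem_gr {n : ℤ} {a : R} (ha : a ∈ 𝒜 n) : ι K a ∈ gr 𝒜 K n := tmul_mem_gr 𝒜 K ha 1

theorem tmul_eq_ι_mul (a : R) (c : K) : a ⊗ₜ[k] c = ι K a * ((1 : R) ⊗ₜ[k] c) := by
  rw [ι_apply, Algebra.TensorProduct.tmul_mul_tmul, mul_one, one_mul]

/-- `(R ⊗ K)_n = 0` for `n < 0` -/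
theorem gr_neg (hpos : ∀ n : ℤ, n < 0 → 𝒜 n = ⊥) (n : ℤ) (hn : n < 0) : gr 𝒜 K n = ⊥ := by
  rw [eq_bot_iff]
  intro x hx
  rw [AddSubgroup.mem_bot]
  refine gr_induction 𝒜 K (P := fun x => x = 0) ?_ rfl ?_ hx
  · intro a ha c
    rw [hpos n hn, Submodule.mem_bot] at ha
    rw [ha, TensorProduct.zero_tmul]
  · intro x y hx hy
    rw [hx, hy, add_zero]

/-- elements of degree zero are of the form `1 ⊗ c` -/
theorem exists_of_mem_gr_zero (h0 : 𝒜 0 = Submodule.span k {(1 : R)}) {x : R ⊗[k] K}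
    (hx : x ∈ gr 𝒜 K 0) : ∃ c : K, x = (1 : R) ⊗ₜ[k] c := by
  refine gr_induction 𝒜 K (P := fun x => ∃ c : K, x = (1 : R) ⊗ₜ[k] c) ?_ ?_ ?_ hx
  · intro a ha c
    rw [h0, Submodule.mem_span_singleton] at ha
    obtain ⟨l, rfl⟩ := ha
    exact ⟨l • c, by rw [TensorProduct.smul_tmul]⟩
  · exact ⟨0, by rw [TensorProduct.tmul_zero]⟩
  · rintro x y ⟨c, rfl⟩ ⟨c', rfl⟩
    exact ⟨c + c', by rw [TensorProduct.tmul_add]⟩

theorem one_tmul_mem_gr_zero (c : K) : (1 : R) ⊗ₜ[k] c ∈ gr 𝒜 K 0 :=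
  tmul_mem_gr 𝒜 K (SetLike.GradedOne.one_mem (A := 𝒜)) c

/-- the ring homomorphism `K → (R ⊗ K)_0` -/
noncomputable def toDeg0 : K →+* GrLC.deg0 (gr 𝒜 K) where
  toFun c := ⟨(1 : R) ⊗ₜ[k] c, one_tmul_mem_gr_zero 𝒜 K c⟩
  map_one' := by
    apply Subtype.ext
    exact Algebra.TensorProduct.one_def.symm
  map_mul' c c' := by
    apply Subtype.ext
    change (1 : R) ⊗ₜ[k] (c * c') = (1 : R) ⊗ₜ[k] c * (1 : R) ⊗ₜ[k] c'
    rw [Algebra.TensorProduct.tmul_mul_tmul, mul_one]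
  map_zero' := by
    apply Subtype.ext
    exact TensorProduct.tmul_zero _ _
  map_add' c c' := by
    apply Subtype.ext
    exact TensorProduct.tmul_add _ _ _

theorem toDeg0_coe (c : K) : ((toDeg0 𝒜 K c : GrLC.deg0 (gr 𝒜 K)) : R ⊗[k] K) = (1 : R) ⊗ₜ[k] c :=
  rfl

theorem toDeg0_surjective (h0 : 𝒜 0 = Submodule.span k {(1 : R)}) :
    Function.Surjective (toDeg0 𝒜 K) := by
  rintro ⟨x, hx⟩
  obtain ⟨c, rfl⟩ := exists_of_mem_gr_zero 𝒜 K h0 hx
  exact ⟨c, rfl⟩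

instance nontrivial_tensor [Nontrivial R] : Nontrivial (R ⊗[k] K) :=
  Algebra.TensorProduct.nontrivial_of_algebraMap_injective_of_flat_right k R K
    (algebraMap k R).injective

theorem toDeg0_injective [Nontrivial R] : Function.Injective (toDeg0 𝒜 K) := by
  haveI : Nontrivial (GrLC.deg0 (gr 𝒜 K)) := by
    refine ⟨⟨0, 1, fun h => ?_⟩⟩
    have := congrArg Subtype.val h
    exact zero_ne_one this
  exact (toDeg0 𝒜 K).injective

/-- `(R ⊗ K)_0` is a field -/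
theorem isField_deg0 [Nontrivial R] (h0 : 𝒜 0 = Submodule.span k {(1 : R)}) :
    IsField (GrLC.deg0 (gr 𝒜 K)) := by
  have e : K ≃+* GrLC.deg0 (gr 𝒜 K) :=
    RingEquiv.ofBijective (toDeg0 𝒜 K) ⟨toDeg0_injective 𝒜 K, toDeg0_surjective 𝒜 K h0⟩
  exact e.symm.toMulEquiv.isField (Field.toIsField K)

theorem infinite_deg0 [Nontrivial R] [Infinite K] : Infinite (GrLC.deg0 (gr 𝒜 K)) :=
  Infinite.of_injective _ (toDeg0_injective 𝒜 K)

/-- the irrelevant ideal of `R ⊗ K` is the extension of the irrelevant ideal of `R` -/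
theorem irrI_gr_le_map (I : Ideal R) (hI : ∀ n : ℤ, 0 < n → ∀ a ∈ 𝒜 n, a ∈ I) :
    Groth.Agent.H85.GrLCBridge.irrI (gr 𝒜 K) ≤ I.map (ι K) := by
  apply Groth.Agent.H85.GrLCBridge.irrI_le
  intro n hn x hx
  refine gr_induction 𝒜 K (P := fun x => x ∈ I.map (ι K)) ?_ (zero_mem _) ?_ hx
  · intro a ha c
    rw [tmul_eq_ι_mul]
    exact Ideal.mul_mem_right _ _ (Ideal.mem_map_of_mem _ (hI n hn a ha))
  · intro x y hx hy
    exact add_mem hx hy

/-- if `R_d ⊆ J` then `(R ⊗ K)_d ⊆ J (R ⊗ K)` -/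
theorem mem_map_of_mem_gr (J : Ideal R) (d : ℤ) (hJ : ∀ a ∈ 𝒜 d, a ∈ J) {x : R ⊗[k] K}
    (hx : x ∈ gr 𝒜 K d) : x ∈ J.map (ι K) := by
  refine gr_induction 𝒜 K (P := fun x => x ∈ J.map (ι K)) ?_ (zero_mem _) ?_ hx
  · intro a ha c
    rw [tmul_eq_ι_mul]
    exact Ideal.mul_mem_right _ _ (Ideal.mem_map_of_mem _ (hJ a ha))
  · intro x y hx hy
    exact add_mem hx hy

end Groth.Agent.H85.GrBC
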