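import Mathlib
import Groth.Agent.H85.GrBC
import Groth.Agent.H54.Dim

/-!
# Dimensions of the pieces of the base change `R ⊗[k] K`; finite Krull dimension (helper85)
-/

set_option autoImplicit false
set_option linter.unusedSectionVars false
set_option linter.unusedVariables false

universe u

namespace Groth.Agent.H85.GrBC

open scoped TensorProduct
open DirectSum

section FinDim

/-- a nontrivial algebra of finite type over a field has finite Krull dimension -/
theorem exists_ringKrullDim_eq_nat (k : Type*) [Field k] (R : Type*) [CommRing R] [Nontrivial R]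
    [Algebra k R] [Algebra.FiniteType k R] : ∃ s : ℕ, ringKrullDim R = s := by
  obtain ⟨s, g, hinj, hint⟩ := exists_integral_inj_algHom_of_fg k R
  refine ⟨s, ?_⟩
  rw [← Groth.Agent.H54.ringKrullDim_eq_of_ringHom_isIntegral_of_injective
    (g : MvPolynomial (Fin s) k →+* R) hint hinj]
  exact Groth.Agent.H54.ringKrullDim_mvPolynomial_fin_field k s

end FinDim

variable {k : Type u} [Field k] {R : Type u} [CommRing R] [Algebra k R]
  (𝒜 : ℤ → Submodule k R) [GradedAlgebra 𝒜]
  (K : Type u) [Field K] [Algebra k K]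

/-- **the pieces of `R ⊗[k] K` have the same dimension as those of `R`** -/
theorem finrank_gr_eq [Nontrivial R] (h0 : 𝒜 0 = Submodule.span k {(1 : R)}) (n : ℤ)
    [Module.Finite k (𝒜 n)] :
    Module.finrank (GrLC.deg0 (gr 𝒜 K)) (Groth.Agent.H85.GrLCBridge.sub (gr 𝒜 K) n) =
      Module.finrank k (𝒜 n) := by
  classical
  set s := Module.finrank k (𝒜 n) with hs
  let b : Module.Basis (Fin s) k (𝒜 n) := Module.finBasis k (𝒜 n)
  -- coordinate functionals extended to `R`
  have hφ : ∀ i : Fin s, ∃ φ : R →ₗ[k] k, φ ∘ₗ (𝒜 n).subtype = b.coord i :=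
    fun i => LinearMap.exists_extend (b.coord i)
  choose φ hφ using hφ
  let Ψ : Fin s → (R ⊗[k] K →ₗ[k] K) := fun i =>
    (TensorProduct.lid k K).toLinearMap ∘ₗ ((φ i).rTensor K)
  have hΨ : ∀ i (a : R) (c : K), Ψ i (a ⊗ₜ[k] c) = φ i a • c := by
    intro i a c
    simp only [Ψ, LinearMap.coe_comp, LinearEquiv.coe_coe, Function.comp_apply,
      LinearMap.rTensor_tmul, TensorProduct.lid_tmul]
  have hΨmul : ∀ i (γ : K) (x : R ⊗[k] K), Ψ i (((1 : R) ⊗ₜ[k] γ) * x) = γ * Ψ i x := by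
    intro i γ x
    induction x using TensorProduct.induction_on with
    | zero => rw [mul_zero, map_zero, mul_zero]
    | tmul a c =>
      rw [Algebra.TensorProduct.tmul_mul_tmul, one_mul, hΨ, hΨ, mul_smul_comm]
    | add x x' hx hx' => rw [mul_add, map_add, hx, hx', map_add, mul_add]
  have hφb : ∀ i j : Fin s, φ i ((b j : 𝒜 n) : R) = if j = i then 1 else 0 := by
    intro i j
    have h2 : φ i ((b j : 𝒜 n) : R) = b.coord i (b j) := by
      rw [← hφ i]
      rfl
    rw [h2, Module.Basis.coord_apply, Module.Basis.repr_self, Finsupp.single_apply]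
  -- the candidate basis
  let v : Fin s → Groth.Agent.H85.GrLCBridge.sub (gr 𝒜 K) n := fun i =>
    ⟨ι K ((b i : 𝒜 n) : R), ι_mem_gr 𝒜 K (b i).2⟩
  have hli : LinearIndependent (GrLC.deg0 (gr 𝒜 K)) v := by
    rw [Fintype.linearIndependent_iff]
    intro c hc j
    have hγ : ∀ i, ∃ γ : K, ((c i : GrLC.deg0 (gr 𝒜 K)) : R ⊗[k] K) = (1 : R) ⊗ₜ[k] γ := fun i =>
      exists_of_mem_gr_zero 𝒜 K h0 (c i).2
    choose γ hγ using hγ
    have h1 : (∑ i, ((c i : GrLC.deg0 (gr 𝒜 K)) : R ⊗[k] K) * ι K ((b i : 𝒜 n) : R)) = 0 := by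
      have := congrArg (fun z : Groth.Agent.H85.GrLCBridge.sub (gr 𝒜 K) n => (z : R ⊗[k] K)) hc
      simp only [Submodule.coe_sum, Submodule.coe_zero] at this
      exact this
    have h2 := congrArg (Ψ j) h1
    rw [map_sum, map_zero] at h2
    have h3 : ∀ i, Ψ j (((c i : GrLC.deg0 (gr 𝒜 K)) : R ⊗[k] K) * ι K ((b i : 𝒜 n) : R)) =
        if i = j then γ i else 0 := by
      intro i
      rw [hγ i, hΨmul, ι_apply, hΨ, hφb]
      by_cases hij : i = j
      · simp [hij]
      · simp [hij]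
    simp only [h3] at h2
    rw [Finset.sum_ite_eq' Finset.univ j] at h2
    simp only [Finset.mem_univ, if_true] at h2
    apply Subtype.ext
    rw [hγ j, h2, TensorProduct.tmul_zero]
    rfl
  have hsp : ⊤ ≤ Submodule.span (GrLC.deg0 (gr 𝒜 K)) (Set.range v) := by
    have key : ∀ x : R ⊗[k] K, x ∈ gr 𝒜 K n → ∃ w ∈ Submodule.span (GrLC.deg0 (gr 𝒜 K))
        (Set.range v), ((w : Groth.Agent.H85.GrLCBridge.sub (gr 𝒜 K) n) : R ⊗[k] K) = x := by
      intro x hx
      refine gr_induction 𝒜 K (P := fun x => ∃ w ∈ Submodule.span (GrLC.deg0 (gr 𝒜 K))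
        (Set.range v), ((w : Groth.Agent.H85.GrLCBridge.sub (gr 𝒜 K) n) : R ⊗[k] K) = x)
        ?_ ?_ ?_ hx
      · intro a ha c
        refine ⟨∑ i, toDeg0 𝒜 K ((b.repr ⟨a, ha⟩ i) • c) • v i, ?_, ?_⟩
        · exact Submodule.sum_mem _ (fun i _ =>
            Submodule.smul_mem _ _ (Submodule.subset_span ⟨i, rfl⟩))
        · rw [Submodule.coe_sum]
          have hterm : ∀ i, ((toDeg0 𝒜 K ((b.repr ⟨a, ha⟩ i) • c) • v i :
              Groth.Agent.H85.GrLCBridge.sub (gr 𝒜 K) n) : R ⊗[k] K) =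
              ((b.repr ⟨a, ha⟩ i) • ((b i : 𝒜 n) : R)) ⊗ₜ[k] c := by
            intro i
            change ((1 : R) ⊗ₜ[k] ((b.repr ⟨a, ha⟩ i) • c)) * (((b i : 𝒜 n) : R) ⊗ₜ[k] (1 : K)) = _
            rw [Algebra.TensorProduct.tmul_mul_tmul, one_mul, mul_one, TensorProduct.smul_tmul]
          simp only [hterm]
          rw [← TensorProduct.sum_tmul]
          congr 1
          have h1 := b.sum_repr ⟨a, ha⟩
          have h2 := congrArg (fun z : 𝒜 n => (z : R)) h1
          simp only [Submodule.coe_sum, Submodule.coe_smul] at h2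
          exact h2
      · exact ⟨0, zero_mem _, rfl⟩
      · rintro x x' ⟨w, hw, rfl⟩ ⟨w', hw', rfl⟩
        exact ⟨w + w', add_mem hw hw', rfl⟩
    intro x _
    obtain ⟨w, hw, hwx⟩ := key x.1 x.2
    have : w = x := Subtype.ext hwx
    rw [← this]
    exact hw
  have hcard := Module.finrank_eq_card_basis (Module.Basis.mk hli hsp)
  rw [hcard, Fintype.card_fin]

end Groth.Agent.H85.GrBC
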