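import Mathlib
import Groth.Agent.H85.GrLCRS

/-!
# Regular sequences in the `Jid` form: comparison with `IsWeaklyRegular`, flat base change
(helper85)
-/

set_option autoImplicit false
set_option linter.unusedSectionVars false
set_option linter.unusedVariables false

universe u

namespace Groth.Agent.H85.JidReg

open Groth.Agent.H85.GrLCRegSeq Groth.Agent.H85.GrLCRS RingTheory.Sequence

variable {R : Type*} [CommRing R]

theorem smulTop_eq_Jid (g : ℕ → R) (t i : ℕ) (hi : i ≤ t) :
    (Ideal.ofList ((List.ofFn (fun l : Fin t => g l)).take i) • (⊤ : Submodule R R) :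
      Submodule R R) = Jid g i := by
  rw [ofList_take_eq_Jid (fun l : Fin t => g l) g (fun _ _ => rfl) i hi]
  exact Ideal.mul_top _

theorem isWeaklyRegular_of_Jid (g : ℕ → R) (t : ℕ)
    (hreg : ∀ i, i < t → ∀ r : R, g i * r ∈ Jid g i → r ∈ Jid g i) :
    IsWeaklyRegular R (List.ofFn (fun l : Fin t => g l)) := by
  refine ⟨fun i hi => ?_⟩
  have hit : i < t := by simpa using hi
  rw [isSMulRegular_quotient_iff_mem_of_smul_mem, smulTop_eq_Jid g t i (le_of_lt hit),
    List.getElem_ofFn]
  intro r hr
  exact hreg i hit r hr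

theorem Jid_of_isWeaklyRegular (g : ℕ → R) (t : ℕ)
    (h : IsWeaklyRegular R (List.ofFn (fun l : Fin t => g l))) :
    ∀ i, i < t → ∀ r : R, g i * r ∈ Jid g i → r ∈ Jid g i := by
  intro i hit r hr
  have hlen : i < (List.ofFn (fun l : Fin t => g l)).length := by simpa using hit
  have h1 := h.regular_mod_prev i hlen
  rw [isSMulRegular_quotient_iff_mem_of_smul_mem, smulTop_eq_Jid g t i (le_of_lt hit),
    List.getElem_ofFn] at h1
  exact h1 r hr

/-- regular sequences (in the `Jid` form) are preserved by flat ring maps -/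
theorem Jid_reg_of_flat {S : Type*} [CommRing S] [Algebra R S] [Module.Flat R S] (g : ℕ → R)
    (t : ℕ) (hreg : ∀ i, i < t → ∀ r : R, g i * r ∈ Jid g i → r ∈ Jid g i) :
    ∀ i, i < t → ∀ r : S, algebraMap R S (g i) * r ∈ Jid (fun l => algebraMap R S (g l)) i →
      r ∈ Jid (fun l => algebraMap R S (g l)) i := by
  have h1 := isWeaklyRegular_of_Jid g t hreg
  have h2 := h1.of_flat (S := S)
  rw [List.map_ofFn] at h2
  exact Jid_of_isWeaklyRegular (fun l => algebraMap R S (g l)) t h2

end Groth.Agent.H85.JidReg
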