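import Mathlib
import Groth.Agent.H85.GrBC
import Groth.Agent.H85.JidReg
import Groth.Agent.H49.CMFieldBC
import Groth.Agent.H49.FibreDimBC

/-!
# Ring-theoretic properties of the base change `R ⊗[k] K` of a graded algebra (helper85)
-/

set_option autoImplicit false
set_option linter.unusedSectionVars false
set_option linter.unusedVariables false

universe u

namespace Groth.Agent.H85.GrBC

open scoped TensorProduct
open DirectSum

section Ring

variable {k : Type u} [Field k] {R : Type u} [CommRing R] [Algebra k R]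
  (K : Type u) [Field K] [Algebra k K]

/-- `R ⊗[k] K` is Cohen–Macaulay if `R` is -/
theorem isCohenMacaulayRing_tensor [Algebra.FiniteType k R] [hCM : LocCoh.IsCohenMacaulayRing R] :
    LocCoh.IsCohenMacaulayRing (R ⊗[k] K) := by
  haveI : IsNoetherianRing R := inferInstance
  haveI hN : IsNoetherianRing (R ⊗[k] K) :=
    Groth.Agent.H49.CMFieldBC.isNoetherianRing_tensor k R K (Or.inl inferInstance)
  refine @LocCoh.IsCohenMacaulayRing.mk _ _ hN ?_
  intro q' _
  exact (Groth.Agent.H49.CMFieldBC.cm_iff_tensor k R K (Or.inl inferInstance) q').mp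
    (hCM.isCohenMacaulayLocalRing_localization _)

theorem ringKrullDim_tensor [Algebra.FiniteType k R] :
    ringKrullDim (R ⊗[k] K) = ringKrullDim R :=
  Groth.Agent.H49.FibreDimBC.ringKrullDim_tensor_field k K R

/-- regular sequences are preserved -/
theorem Jid_reg_ι (g : ℕ → R) (t : ℕ)
    (hreg : ∀ i, i < t → ∀ r : R, g i * r ∈ Groth.Agent.H85.GrLCRegSeq.Jid g i →
      r ∈ Groth.Agent.H85.GrLCRegSeq.Jid g i) :
    ∀ i, i < t → ∀ r : R ⊗[k] K, ι K (g i) * r ∈
      Groth.Agent.H85.GrLCRegSeq.Jid (fun l => ι (k := k) K (g l)) i →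
      r ∈ Groth.Agent.H85.GrLCRegSeq.Jid (fun l => ι (k := k) K (g l)) i :=
  Groth.Agent.H85.JidReg.Jid_reg_of_flat (S := R ⊗[k] K) g t hreg

end Ring

section Graded

variable {k : Type u} [Field k] {R : Type u} [CommRing R] [Algebra k R]
  (𝒜 : ℤ → Submodule k R) [GradedAlgebra 𝒜]
  (K : Type u) [Field K] [Algebra k K]

/-- generation in degree one is preserved -/
theorem std_gr
    (hstd : Ideal.span (⋃ n ∈ Set.Ioi (0 : ℤ), (𝒜 n : Set R)) = Ideal.span ((𝒜 1 : Submodule k R) : Set R)) :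
    Ideal.span (⋃ n ∈ Set.Ioi (0 : ℤ), (gr 𝒜 K n : Set (R ⊗[k] K))) =
      Ideal.span ((gr 𝒜 K 1 : AddSubgroup (R ⊗[k] K)) : Set (R ⊗[k] K)) := by
  apply le_antisymm
  · have h1 : Groth.Agent.H85.GrLCBridge.irrI (gr 𝒜 K) ≤
        (Ideal.span ((𝒜 1 : Submodule k R) : Set R)).map (ι K) := by
      apply irrI_gr_le_map
      intro n hn a ha
      rw [← hstd]
      apply Ideal.subset_span
      simp only [Set.mem_iUnion, Set.mem_Ioi, SetLike.mem_coe, exists_prop]
      exact ⟨n, hn, ha⟩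
    refine h1.trans ?_
    rw [Ideal.map_span, Ideal.span_le]
    rintro _ ⟨a, ha, rfl⟩
    exact Ideal.subset_span (ι_mem_gr 𝒜 K ha)
  · rw [Ideal.span_le]
    intro x hx
    exact Groth.Agent.H85.GrLCBridge.mem_irrI_of_pos (gr 𝒜 K) one_pos hx

/-- the dimension count: if the images of `R_1` lie in the `K`-span of `r` elements then
`dim_k R_1 ≤ r` -/
theorem finrank_le_of_span [Module.Finite k (𝒜 1)] (r : ℕ) (y : Fin r → R ⊗[k] K)
    (hy : ∀ a ∈ 𝒜 1, ∃ γ : Fin r → K,
      a ⊗ₜ[k] (1 : K) = ∑ l, ((1 : R) ⊗ₜ[k] γ l) * y l) :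
    Module.finrank k (𝒜 1) ≤ r := by
  classical
  set s := Module.finrank k (𝒜 1) with hs
  let b : Module.Basis (Fin s) k (𝒜 1) := Module.finBasis k (𝒜 1)
  -- coordinate functionals extended to `R`
  have hφ : ∀ i : Fin s, ∃ φ : R →ₗ[k] k, φ ∘ₗ (𝒜 1).subtype = b.coord i :=
    fun i => LinearMap.exists_extend (b.coord i)
  choose φ hφ using hφ
  let Ψ : Fin s → (R ⊗[k] K →ₗ[k] K) := fun i =>
    (TensorProduct.lid k K).toLinearMap ∘ₗ ((φ i).rTensor K)
  have hΨ : ∀ i (a : R) (c : K), Ψ i (a ⊗ₜ[k] c) = φ i a • c := by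
    intro i a c
    simp only [Ψ, LinearMap.coe_comp, LinearEquiv.coe_coe, Function.comp_apply,
      LinearMap.rTensor_tmul, TensorProduct.lid_tmul]
  have hΨmul : ∀ i (γ : K) (x : R ⊗[k] K), Ψ i (((1 : R) ⊗ₜ[k] γ) * x) = γ * Ψ i x := by
    intro i γ x
    induction x using TensorProduct.induction_on with
    | zero => rw [mul_zero, map_zero, mul_zero]
    | tmul a c =>
      rw [Algebra.TensorProduct.tmul_mul_tmul, one_mul, hΨ, hΨ, mul_smul_comm]
    | add x x' hx hx' => rw [mul_add, map_add, hx, hx', map_add, mul_add]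
  -- coefficients
  have hγ : ∀ j : Fin s, ∃ γ : Fin r → K,
      ((b j : 𝒜 1) : R) ⊗ₜ[k] (1 : K) = ∑ l, ((1 : R) ⊗ₜ[k] γ l) * y l :=
    fun j => hy _ (b j).2
  choose γ hγ using hγ
  let Γ : Matrix (Fin s) (Fin r) K := fun j l => γ j l
  let P : Matrix (Fin r) (Fin s) K := fun l i => Ψ i (y l)
  have hmul : Γ * P = 1 := by
    ext j i
    rw [Matrix.mul_apply]
    have h1 := congrArg (Ψ i) (hγ j)
    rw [hΨ, map_sum] at h1
    simp only [hΨmul] at h1
    have h2 : φ i ((b j : 𝒜 1) : R) = b.coord i (b j) := by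
      rw [← hφ i]
      rfl
    rw [h2, Module.Basis.coord_apply, Module.Basis.repr_self, Finsupp.single_apply] at h1
    rw [Matrix.one_apply]
    rw [← h1]
    by_cases hji : j = i
    · simp [hji]
    · simp [hji]
  have hrank : (Γ * P).rank ≤ r := by
    calc (Γ * P).rank ≤ Γ.rank := Matrix.rank_mul_le_left Γ P
      _ ≤ r := Matrix.rank_le_width Γ
  rw [hmul, Matrix.rank_one, Fintype.card_fin] at hrank
  exact hrank

end Graded

end Groth.Agent.H85.GrBC
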