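import Mathlib
import Groth.Agent.H85.GrConv

/-!
# From gradings by a general `SetLike` class to gradings by additive subgroups: modules
(helper85)

A `*`injective resolution of a graded module `M` over `𝒜 : ι → σ` gives one over `selfGr 𝒜`, with
the same pieces of graded local cohomology.
-/

set_option autoImplicit false
universe u

namespace Groth.Agent.H85.GrConv

open Groth.Agent.H98.GrStar

variable {ι : Type} [AddCommGroup ι] [DecidableEq ι]
variable {R : Type u} [CommRing R] {σ : Type u} [SetLike σ R] [AddSubgroupClass σ R]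
  (𝒜 : ι → σ) [GradedRing 𝒜]
  {M : Type u} [AddCommGroup M] [Module R M] (ℳ : ι → AddSubgroup M)
  [DirectSum.Decomposition ℳ] [SetLike.GradedSMul 𝒜 ℳ]

theorem gradedSMul_selfGr : SetLike.GradedSMul (selfGr 𝒜) ℳ :=
  ⟨fun {_ _ _ _} ha hb => SetLike.GradedSMul.smul_mem (A := 𝒜) (B := ℳ) ha hb⟩

/-- a `*`injective resolution of `M` over `𝒜` as one over `selfGr 𝒜` -/
def resAGM [SetLike.GradedSMul (selfGr 𝒜) ℳ] (E : GrLC.StarInjRes 𝒜 ℳ) :
    GrLC.StarInjRes (selfGr 𝒜) ℳ where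
  X n := toAG 𝒜 (E.X n)
  d n := E.d n
  ε := E.ε
  d_grHom := E.d_grHom
  ε_grHom := E.ε_grHom
  ε_injective := E.ε_injective
  exact_zero := E.exact_zero
  exact_succ := E.exact_succ
  starInj n := isStarInj_toAG 𝒜 (E.X n) (E.starInj n)

theorem Hcomp_eq_bot_iff_M [SetLike.GradedSMul (selfGr 𝒜) ℳ] (E : GrLC.StarInjRes 𝒜 ℳ)
    (a : HomogeneousIdeal 𝒜) (i : ℕ) (g : ι) :
    E.Hcomp a i g = ⊥ ↔ (resAGM 𝒜 ℳ E).Hgr (homAG 𝒜 a) i g = ⊥ := by
  constructor
  · intro h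
    rw [eq_bot_iff]
    rintro x ⟨z, hz, rfl⟩
    have h1 : E.toH a i z ∈ E.Hcomp a i g := ⟨z, hz, rfl⟩
    rw [h] at h1
    exact (AddSubgroup.mem_bot).mpr ((Submodule.mem_bot _).mp h1)
  · intro h
    rw [eq_bot_iff]
    rintro x ⟨z, hz, rfl⟩
    have h1 : (resAGM 𝒜 ℳ E).toH (homAG 𝒜 a) i z ∈ (resAGM 𝒜 ℳ E).Hgr (homAG 𝒜 a) i g :=
      ⟨z, hz, rfl⟩
    rw [h] at h1
    exact (Submodule.mem_bot _).mpr ((AddSubgroup.mem_bot).mp h1)

end Groth.Agent.H85.GrConv
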