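import Mathlib
import Groth.Agent.H85.GrLCBridge
import Groth.Agent.H85.GrLCRS

/-!
# Linear prime avoidance over an infinite field of degree zero, and spans of linear forms
(helper85)
-/

set_option autoImplicit false
set_option linter.unusedSectionVars false
set_option linter.unusedVariables false

universe u

namespace Groth.Agent.H85.GrLCLinear

open DirectSum Groth.Agent.H85.GrLCRegSeq Groth.Agent.H85.GrLCRS

section Jid

variable {R : Type u} [CommRing R]

theorem Jid_eq_span (g : ℕ → R) (t : ℕ) :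
    Jid g t = Ideal.span (Set.range (fun l : Fin t => g l)) := by
  apply le_antisymm
  · apply Jid_le
    intro l hl
    exact Ideal.subset_span ⟨⟨l, hl⟩, rfl⟩
  · rw [Ideal.span_le]
    rintro _ ⟨l, rfl⟩
    exact mem_Jid_self g t l l.2

end Jid

variable {R : Type u} [CommRing R] (𝒜 : ℤ → AddSubgroup R) [GradedRing 𝒜]

/-- a linear form in the ideal generated by linear forms is a combination with coefficients of
degree zero -/
theorem exists_deg0_coeff {t : ℕ} (y : Fin t → R) (hy : ∀ l, y l ∈ 𝒜 1) (z : R) (hz : z ∈ 𝒜 1)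
    (hzy : z ∈ Ideal.span (Set.range y)) :
    ∃ c : Fin t → R, (∀ l, c l ∈ 𝒜 0) ∧ z = ∑ l, c l * y l := by
  classical
  obtain ⟨c, hc⟩ := (Ideal.mem_span_range_iff_exists_fun).mp hzy
  refine ⟨fun l => (decompose 𝒜 (c l) 0 : R), fun l => SetLike.coe_mem _, ?_⟩
  have h1 : (decompose 𝒜 z 1 : R) = z := decompose_of_mem_same 𝒜 hz
  rw [← h1, ← hc, decompose_sum, DFinsupp.finsetSum_apply, AddSubmonoidClass.coe_finsetSum]
  refine Finset.sum_congr rfl (fun l _ => ?_)
  have := coe_decompose_mul_add_of_right_mem 𝒜 (a := c l) (b := y l) (i := 0) (j := 1) (hy l)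
  rwa [zero_add] at this

/-- **linear prime avoidance**: in a standard graded ring over an infinite field, finitely many
primes not containing the irrelevant ideal can be avoided by a linear form -/
theorem avoid_linear (h0 : IsField (GrLC.deg0 𝒜)) [hinf : Infinite (GrLC.deg0 𝒜)]
    (hstd : Ideal.span (⋃ n ∈ Set.Ioi (0 : ℤ), (𝒜 n : Set R)) =
      Ideal.span ((𝒜 1 : AddSubgroup R) : Set R))
    (s : Finset (Ideal R)) (hprime : ∀ p ∈ s, p.IsPrime)
    (hirr : ∀ p ∈ s, ¬ Groth.Agent.H85.GrLCBridge.irrI 𝒜 ≤ p) :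
    ∃ x ∈ 𝒜 1, ∀ p ∈ s, x ∉ p := by
  classical
  letI : Field (GrLC.deg0 𝒜) := h0.toField
  let V : Submodule (GrLC.deg0 𝒜) R := Groth.Agent.H85.GrLCBridge.sub 𝒜 1
  let P : s → Submodule (GrLC.deg0 𝒜) V := fun p =>
    ((p : Ideal R).restrictScalars (GrLC.deg0 𝒜)).comap V.subtype
  have hP : ∀ p : s, P p ≠ ⊤ := by
    intro p htop
    apply hirr p.1 p.2
    change Ideal.span (⋃ n ∈ Set.Ioi (0 : ℤ), (𝒜 n : Set R)) ≤ p.1
    rw [hstd, Ideal.span_le]
    intro x hx
    have : (⟨x, hx⟩ : V) ∈ P p := by rw [htop]; trivial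
    exact this
  obtain ⟨x, hx⟩ := Submodule.exists_forall_notMem_of_forall_ne_top P hP
  refine ⟨x.1, x.2, fun p hp hxp => ?_⟩
  exact hx ⟨p, hp⟩ hxp

end Groth.Agent.H85.GrLCLinear
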