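import Mathlib
import Groth.Agent.H85.GrLCRS
import Groth.Agent.H85.GrLCLinear

/-!
# The a-invariant through a maximal homogeneous regular sequence; regularity of the variables
(helper85)
-/

set_option autoImplicit false
set_option linter.unusedSectionVars false
set_option linter.unusedVariables false

universe u

namespace Groth.Agent.H85.GrLCAinv

open DirectSum Groth.Agent.H98.GrStar Groth.Agent.H85.GrLCRegSeq Groth.Agent.H85.GrLCRS

section Ainv

variable {R : Type u} [CommRing R] [hCM : LocCoh.IsCohenMacaulayRing R]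
  (𝒜 : ℤ → AddSubgroup R) [GradedRing 𝒜]
  (hpos : ∀ n : ℤ, n < 0 → 𝒜 n = ⊥) (h0 : IsField (GrLC.deg0 𝒜))
  (m : HomogeneousIdeal 𝒜) (hm : GrLC.IsStarLocal 𝒜 m)
  (hmsp : m.toIdeal = Ideal.span (⋃ n ∈ Set.Ioi (0 : ℤ), (𝒜 n : Set R)))
  (n : ℕ) (hn : ringKrullDim R = n)

include hpos h0 hm hmsp hn in
/-- `a(R) + ∑ deg g_i` is the end of `*H^0_m(R ⧸ (g_0, …, g_{n-1}))` -/
theorem endDeg_zero_eq (I : GrLC.StarInjRes 𝒜 𝒜) (g : ℕ → R)
    (hg : ∀ i, SetLike.IsHomogeneousElem 𝒜 (g i)) (dg : ℕ → ℤ)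
    (hdeg : ∀ i, i < n → g i ∈ 𝒜 (dg i)) (hdpos : ∀ i, i < n → 0 < dg i)
    (hreg : ∀ i, i < n → ∀ r : R, g i * r ∈ Jid g i → r ∈ Jid g i) :
    GrLC.endDeg ((res 𝒜 (X 𝒜 g hg n).gr).Hgr m 0) =
      GrLC.endDeg (I.Hgr m n) +
        ((((∑ l ∈ Finset.range n, dg l : ℤ) : ℤ) : WithTop ℤ) : WithBot (WithTop ℤ)) := by
  haveI : IsNoetherianRing R := inferInstance
  have hmne : m.toIdeal ≠ ⊤ := Groth.Agent.H98.Bass0.ne_top_of_isStarLocal 𝒜 hm
  haveI hmax : m.toIdeal.IsMaximal := Groth.Agent.H85.GrLCBase.isMaximal_irr 𝒜 hpos h0 m hmne hmsp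
  have hI : ∀ j, j < n → Subsingleton (I.H m j) := fun j hj =>
    Groth.Agent.H85.GrLCBase.subsingleton_H_of_cm 𝒜 m hm n hn I j hj
  obtain ⟨-, hend⟩ := chain 𝒜 hpos m hmsp g hg dg n I hI n le_rfl hdeg hdpos hreg n le_rfl
  rw [Nat.sub_self] at hend
  exact hend

end Ainv

section Arith

/-- cancellation in `WithBot (WithTop ℤ)` -/
theorem le_of_add_le_add (A : WithBot (WithTop ℤ)) (s c : ℤ)
    (h : A + (((s : ℤ) : WithTop ℤ) : WithBot (WithTop ℤ)) ≤
      (((s + c : ℤ) : WithTop ℤ) : WithBot (WithTop ℤ))) :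
    A ≤ (((c : ℤ) : WithTop ℤ) : WithBot (WithTop ℤ)) := by
  induction A using WithBot.recBotCoe with
  | bot => exact bot_le
  | coe A =>
    induction A using WithTop.recTopCoe with
    | top =>
      exfalso
      rw [← WithBot.coe_add, WithBot.coe_le_coe, WithTop.top_add] at h
      exact absurd h (by simp)
    | coe a =>
      rw [← WithBot.coe_add, WithBot.coe_le_coe, ← WithTop.coe_add, WithTop.coe_le_coe] at h
      rw [WithBot.coe_le_coe, WithTop.coe_le_coe]
      omega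

theorem add_le_of_le (A : WithBot (WithTop ℤ)) (s c : ℤ)
    (h : A ≤ (((c : ℤ) : WithTop ℤ) : WithBot (WithTop ℤ))) :
    A + (((s : ℤ) : WithTop ℤ) : WithBot (WithTop ℤ)) ≤
      (((c + s : ℤ) : WithTop ℤ) : WithBot (WithTop ℤ)) := by
  induction A using WithBot.recBotCoe with
  | bot => rw [WithBot.bot_add]; exact bot_le
  | coe A =>
    induction A using WithTop.recTopCoe with
    | top =>
      exfalso
      rw [WithBot.coe_le_coe] at h
      exact absurd h (by simp)
    | coe a =>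
      rw [WithBot.coe_le_coe, WithTop.coe_le_coe] at h
      rw [← WithBot.coe_add, WithBot.coe_le_coe, ← WithTop.coe_add, WithTop.coe_le_coe]
      omega

theorem eq_of_add_eq (A : WithBot (WithTop ℤ)) (s c : ℤ)
    (h : A + (((s : ℤ) : WithTop ℤ) : WithBot (WithTop ℤ)) =
      (((c : ℤ) : WithTop ℤ) : WithBot (WithTop ℤ))) :
    A = (((c - s : ℤ) : WithTop ℤ) : WithBot (WithTop ℤ)) := by
  induction A using WithBot.recBotCoe with
  | bot =>
    exfalso
    rw [WithBot.bot_add] at h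
    exact WithBot.bot_ne_coe h
  | coe A =>
    induction A using WithTop.recTopCoe with
    | top =>
      exfalso
      rw [← WithBot.coe_add, WithBot.coe_inj, WithTop.top_add] at h
      exact WithTop.top_ne_coe h
    | coe a =>
      rw [← WithBot.coe_add, WithBot.coe_inj, ← WithTop.coe_add, WithTop.coe_inj] at h
      rw [WithBot.coe_inj, WithTop.coe_inj]
      omega

end Arith

section Vars

open MvPolynomial

variable {k : Type u} [CommRing k] (r : ℕ)

/-- copy of `Groth.Agent.H81.GrAB.mem_span_X_image_of_X_mul_mem` (helper81) -/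
theorem mem_span_X_image_of_X_mul_mem {σ : Type*} (s : Set σ) (i : σ) (hi : i ∉ s)
    (p : MvPolynomial σ k) (h : X i * p ∈ Ideal.span (X '' s : Set (MvPolynomial σ k))) :
    p ∈ Ideal.span (X '' s : Set (MvPolynomial σ k)) := by
  rw [mem_ideal_span_X_image] at h ⊢
  intro m hm
  have hm' : Finsupp.single i 1 + m ∈ (X i * p).support := by
    rw [support_X_mul]
    exact Finset.mem_map.2 ⟨m, hm, rfl⟩
  obtain ⟨j, hj, hne⟩ := h _ hm'
  refine ⟨j, hj, ?_⟩
  have hji : j ≠ i := fun e => hi (e ▸ hj)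
  rw [Finsupp.add_apply, Finsupp.single_eq_of_ne hji, zero_add] at hne
  exact hne

/-- the variables, as a sequence indexed by `ℕ` -/
noncomputable def xs : ℕ → MvPolynomial (Fin r) k := fun l =>
  if h : l < r then X ⟨l, h⟩ else 0

theorem Jid_xs (i : ℕ) (hi : i ≤ r) :
    Jid (xs (k := k) r) i = Ideal.span (X '' {j : Fin r | (j : ℕ) < i}) := by
  rw [Groth.Agent.H85.GrLCLinear.Jid_eq_span]
  congr 1
  ext p
  constructor
  · rintro ⟨l, rfl⟩
    have hl : (l : ℕ) < r := lt_of_lt_of_le l.2 hi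
    refine ⟨⟨l, hl⟩, l.2, ?_⟩
    simp only [xs, dif_pos hl]
  · rintro ⟨j, hj, rfl⟩
    refine ⟨⟨j, hj⟩, ?_⟩
    simp only [xs, dif_pos j.2]

/-- the variables form a regular sequence -/
theorem xs_reg : ∀ i, i < r → ∀ p : MvPolynomial (Fin r) k,
    xs r i * p ∈ Jid (xs (k := k) r) i → p ∈ Jid (xs (k := k) r) i := by
  intro i hi p hp
  rw [Jid_xs r i (le_of_lt hi)] at hp ⊢
  have hx : xs (k := k) r i = X ⟨i, hi⟩ := by simp only [xs, dif_pos hi]
  rw [hx] at hp
  have hnot : (⟨i, hi⟩ : Fin r) ∉ {j : Fin r | (j : ℕ) < i} := fun h => lt_irrefl i h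
  exact mem_span_X_image_of_X_mul_mem {j : Fin r | (j : ℕ) < i} ⟨i, hi⟩ hnot p hp

end Vars

section Equiv

variable {P : Type*} [CommRing P] {R : Type*} [CommRing R]

/-- regular sequences (in the `Jid` form) are transported by ring isomorphisms -/
theorem Jid_reg_of_ringEquiv (e : P ≃+* R) (g : ℕ → P) (t : ℕ)
    (hreg : ∀ i, i < t → ∀ p : P, g i * p ∈ Jid g i → p ∈ Jid g i) :
    ∀ i, i < t → ∀ r : R, e (g i) * r ∈ Jid (fun l => e (g l)) i →
      r ∈ Jid (fun l => e (g l)) i := by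
  intro i hi r hr
  have hJ : Jid (fun l => e (g l)) i = (Jid g i).comap (e.symm : R →+* P) := by
    have h1 : Jid (fun l => e (g l)) i = (Jid g i).map (e : P →+* R) :=
      (Jid_map (e : P →+* R) g i).symm
    rw [h1]
    exact (Ideal.comap_symm (I := Jid g i) e).symm
  rw [hJ, Ideal.mem_comap] at hr ⊢
  have h1 : (e.symm : R →+* P) (e (g i) * r) = g i * (e.symm : R →+* P) r := by
    rw [map_mul]
    congr 1
    exact e.symm_apply_apply (g i)
  rw [h1] at hr
  exact hreg i hi _ hr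

end Equiv

end Groth.Agent.H85.GrLCAinv
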