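import Mathlib
import Groth.Agent.H85.GrLCTop
import Groth.Agent.H98.GrStar.LCVanish

/-!
# The pieces of `*H^1_a(R)` for a graded ring with a homogeneous parameter (helper85)

`R` a Noetherian `ℤ`-graded ring, `a` a homogeneous ideal, `x ∈ a` a homogeneous nonzerodivisor of
degree `d` with `a^N ⊆ xR`.  Then `*H^1_a(R)_n ≠ 0` iff `R_{n + (j+1) d} ⊄ xR` for some `j ≥ 0`.
-/

set_option autoImplicit false
set_option linter.unusedSectionVars false
set_option linter.unusedVariables false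

universe u

namespace Groth.Agent.H85.GrLCH1

open DirectSum Groth.Agent.H98.GrStar Groth.Agent.H85.GrLCStep Groth.Agent.H85.GrLCTop

section General

variable {R : Type u} [CommRing R] {𝒜 : ℤ → AddSubgroup R} [GradedRing 𝒜]
variable {M : Type u} [AddCommGroup M] [Module R M] {ℳ : ℤ → AddSubgroup M}
  [DirectSum.Decomposition ℳ] [SetLike.GradedSMul 𝒜 ℳ]
variable (E : GrLC.StarInjRes 𝒜 ℳ) (a : HomogeneousIdeal 𝒜)

/-- if `Γ_a(M) = 0` then `*H^0_a(M) = 0` -/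
theorem H_zero_subsingleton (h : ∀ u ∈ GrLC.gam a.toIdeal M, u = 0) : Subsingleton (E.H a 0) := by
  have key : ∀ w : E.H a 0, w = 0 := by
    intro w
    obtain ⟨z, rfl⟩ := Submodule.mkQ_surjective _ w
    have hz := z.2
    have hz1 : (z : (E.X 0).carrier) ∈ GrLC.gam a.toIdeal (E.X 0).carrier := hz.1
    have hz2 : (z : (E.X 0).carrier) ∈ LinearMap.ker (E.d 0) := hz.2
    rw [E.exact_zero] at hz2
    obtain ⟨u, hu⟩ := hz2
    have hu0 : u = 0 := by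
      apply h
      obtain ⟨k, hk⟩ := hz1
      refine ⟨k, fun r hr => ?_⟩
      apply E.ε_injective
      rw [map_smul, hu, hk r hr, map_zero]
    have hz0 : z = 0 := by
      apply Subtype.ext
      rw [← hu, hu0, map_zero]
      rfl
    rw [hz0, map_zero]
  exact ⟨fun w w' => by rw [key w, key w']⟩

end General

section StepSurj

variable {R : Type u} [CommRing R] [IsNoetherianRing R]
  {𝒜 : ℤ → AddSubgroup R} [GradedRing 𝒜]
variable {M : Type u} [AddCommGroup M] [Module R M] {ℳ : ℤ → AddSubgroup M}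
  [DirectSum.Decomposition ℳ] [SetLike.GradedSMul 𝒜 ℳ]
variable {N : Type u} [AddCommGroup N] [Module R N] {𝒩 : ℤ → AddSubgroup N}
  [DirectSum.Decomposition 𝒩] [SetLike.GradedSMul 𝒜 𝒩]
variable (a : HomogeneousIdeal 𝒜) (x : R) {d : ℤ} (hx : x ∈ 𝒜 d) (hreg : IsSMulRegular M x)
  (π : M →ₗ[R] N) (hπ : Function.Surjective π) (hπg : GrLC.IsGrHom ℳ 𝒩 π)
  (hker : LinearMap.ker π = LinearMap.range (x • (LinearMap.id : M →ₗ[R] M)))
  (E : GrLC.StarInjRes 𝒜 ℳ) (F : GrLC.StarInjRes 𝒜 𝒩)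

include hx hreg hπ hπg hker in
/-- if `*H^i(M/xM) = 0` then multiplication by `x` is surjective on `*H^i(M)`, degreewise -/
theorem step_surj (i : ℕ) (hF : Subsingleton (F.H a i)) (k : ℤ) (z : E.H a i)
    (hz : z ∈ E.Hgr a i k) : ∃ z' ∈ E.Hgr a i (k - d), x • z' = z := by
  let T := mulSES (𝒩 := 𝒩) x hx hreg π hπ hπg hker
  obtain ⟨y, hy, hyz⟩ := T.exact_mid_deg a (shiftDeg E d) E F i k z hz (Subsingleton.elim _ _)
  rw [Hmap_shiftDeg_smul a E x d T.u (fun _ => rfl)] at hyz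
  exact ⟨(show E.H a i from y), hy, hyz⟩

end StepSurj

section Main

variable {R : Type u} [CommRing R] [IsNoetherianRing R] (𝒜 : ℤ → AddSubgroup R) [GradedRing 𝒜]
  (a : HomogeneousIdeal 𝒜) {d : ℤ} {x : R} (hx : x ∈ 𝒜 d) (hxa : x ∈ a.toIdeal)
  (hreg : ∀ c : R, x * c = 0 → c = 0) (N : ℕ) (hN : a.toIdeal ^ N ≤ Ideal.span {x})
  (E : GrLC.StarInjRes 𝒜 𝒜)
  (Jx : HomogeneousIdeal 𝒜) (hJx : Jx.toIdeal = Ideal.span {x})
  (F : GrLC.StarInjRes 𝒜 (quotIdealGMod 𝒜 Jx).gr)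

include hreg in
theorem isSMulRegular_self : IsSMulRegular R x := by
  intro u v huv
  have huv' : x * u = x * v := huv
  have : x * (u - v) = 0 := by rw [mul_sub, huv', sub_self]
  exact sub_eq_zero.mp (hreg _ this)

include hreg in
theorem pow_reg : ∀ k : ℕ, ∀ c : R, x ^ k * c = 0 → c = 0 := by
  intro k
  induction k with
  | zero => intro c hc; simpa using hc
  | succ k ih =>
    intro c hc
    rw [pow_succ, mul_assoc] at hc
    exact hreg c (ih _ hc)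

include hxa hreg in
theorem H_zero_subsingleton_self : Subsingleton (E.H a 0) := by
  apply H_zero_subsingleton
  rintro u ⟨k, hk⟩
  have h2 : x ^ k ∈ a.toIdeal ^ k := Ideal.pow_mem_pow hxa k
  exact pow_reg hreg k u (hk _ h2)

/-- the quotient map, typed into the bundled graded module -/
noncomputable def qmap : R →ₗ[R] (quotIdealGMod 𝒜 Jx).carrier := quotMap 𝒜 Jx

theorem qmap_surjective : Function.Surjective (qmap 𝒜 Jx) := quotMap_surjective 𝒜 Jx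

theorem qmap_isGrHom : GrLC.IsGrHom 𝒜 (quotIdealGMod 𝒜 Jx).gr (qmap 𝒜 Jx) :=
  fun k s hs => ⟨s, hs, rfl⟩

include hJx in
theorem ker_qmap :
    LinearMap.ker (qmap 𝒜 Jx) = LinearMap.range (x • (LinearMap.id : R →ₗ[R] R)) := by
  change LinearMap.ker (quotMap 𝒜 Jx) = _
  rw [quotMap_ker, hJx]
  ext r
  rw [Ideal.mem_span_singleton']
  constructor
  · rintro ⟨c, rfl⟩
    exact ⟨c, by simp [mul_comm]⟩
  · rintro ⟨c, rfl⟩
    exact ⟨c, by simp [mul_comm]⟩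

include hN hJx in
theorem gam_quot_eq_top : GrLC.gam a.toIdeal (quotIdealGMod 𝒜 Jx).carrier = ⊤ := by
  rw [eq_top_iff]
  intro y _
  obtain ⟨s, rfl⟩ := Ideal.Quotient.mk_surjective (I := Jx.toIdeal) y
  refine ⟨N, fun r hr => ?_⟩
  change r • (Ideal.Quotient.mk Jx.toIdeal s) = 0
  rw [Algebra.smul_def, Ideal.Quotient.algebraMap_eq, ← map_mul]
  apply Ideal.Quotient.eq_zero_iff_mem.mpr
  apply Jx.toIdeal.mul_mem_right
  rw [hJx]
  exact hN hr

include hN hJx in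
theorem Hgr_zero_quot_ne_bot_iff (k : ℤ) :
    F.Hgr a 0 k ≠ ⊥ ↔ ∃ r ∈ 𝒜 k, r ∉ Ideal.span {x} := by
  constructor
  · intro hne
    by_contra hcon
    push Not at hcon
    apply hne
    apply Hgr_zero_eq_bot
    intro u hu
    obtain ⟨s, hs, rfl⟩ := hu
    apply Ideal.Quotient.eq_zero_iff_mem.mpr
    rw [hJx]
    exact hcon s hs
  · rintro ⟨r, hr, hrx⟩
    exact Hgr_zero_ne_bot_of_notMem 𝒜 Jx F a N (hJx ▸ hN) k r hr (hJx ▸ hrx)

include hx hxa hreg hN hJx F in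
theorem exists_smul_eq (k : ℤ) (z : E.H a 1) (hz : z ∈ E.Hgr a 1 k) :
    ∃ z' ∈ E.Hgr a 1 (k - d), x • z' = z := by
  have hF1 : Subsingleton (F.H a 1) :=
    H_subsingleton_of_gam_eq_top F a (gam_quot_eq_top 𝒜 a N hN Jx hJx) 1 le_rfl
  exact step_surj a x hx (isSMulRegular_self hreg) (qmap 𝒜 Jx) (qmap_surjective 𝒜 Jx)
    (qmap_isGrHom 𝒜 Jx) (ker_qmap 𝒜 Jx hJx) E F 1 hF1 k z hz

include hx hxa hreg hN hJx F in
theorem exists_ne_zero_pull (j : ℕ) : ∀ k : ℤ, (∃ z ∈ E.Hgr a 1 (k + j * d), z ≠ 0) →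
    ∃ z ∈ E.Hgr a 1 k, z ≠ 0 := by
  induction j with
  | zero =>
    intro k h
    simpa using h
  | succ j ih =>
    rintro k ⟨z, hz, hz0⟩
    obtain ⟨z', hz', hxz⟩ := exists_smul_eq 𝒜 a hx hxa hreg N hN E Jx hJx F _ z hz
    apply ih k
    refine ⟨z', ?_, ?_⟩
    · have : k + ((j + 1 : ℕ) : ℤ) * d - d = k + (j : ℤ) * d := by push_cast; ring
      rwa [this] at hz'
    · rintro rfl
      rw [smul_zero] at hxz
      exact hz0 hxz.symm

include hx hxa hreg hN hJx F in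
theorem Hgr_one_ne_bot_iff_aux (n : ℤ) :
    E.Hgr a 1 n ≠ ⊥ ↔ ∃ j : ℕ, ∃ r ∈ 𝒜 (n + (j + 1) * d), r ∉ Ideal.span {x} := by
  classical
  have hstep := step_piece a x hx (isSMulRegular_self hreg) (qmap 𝒜 Jx)
    (qmap_surjective 𝒜 Jx) (qmap_isGrHom 𝒜 Jx) (ker_qmap 𝒜 Jx hJx) E F 0
    (H_zero_subsingleton_self 𝒜 a hxa hreg E)
  have hpiece := Hgr_zero_quot_ne_bot_iff 𝒜 a N hN Jx hJx F
  constructor
  · intro hne
    obtain ⟨z, hz, hz0⟩ : ∃ z ∈ E.Hgr a 1 n, z ≠ 0 := by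
      by_contra hcon
      push Not at hcon
      apply hne
      rw [eq_bot_iff]
      intro w hw
      exact (AddSubgroup.mem_bot).mpr (hcon w hw)
    obtain ⟨K, hK⟩ := exists_pow_smul_eq_zero E a 1 z
    have hex : ∃ j : ℕ, x ^ j • z = 0 := ⟨K, hK _ (Ideal.pow_mem_pow hxa K)⟩
    have hjz : x ^ (Nat.find hex) • z = 0 := Nat.find_spec hex
    have hj1 : 1 ≤ Nat.find hex := by
      by_contra hlt
      have h0 : Nat.find hex = 0 := by omega
      rw [h0, pow_zero, one_smul] at hjz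
      exact hz0 hjz
    obtain ⟨i, hi⟩ : ∃ i, Nat.find hex = i + 1 := ⟨Nat.find hex - 1, by omega⟩
    have hiz : x ^ i • z ≠ 0 := by
      intro h
      have := Nat.find_min' hex h
      omega
    have hpowmem : x ^ i ∈ 𝒜 (i • d) := SetLike.pow_mem_graded i hx
    have hmem : x ^ i • z ∈ E.Hgr a 1 (i • d + n) := smul_mem_Hgr E a hpowmem 1 z hz
    have hxz : x • (x ^ i • z) = 0 := by
      rw [smul_smul, ← pow_succ', ← hi]
      exact hjz
    have hmem' : x ^ i • z ∈ E.Hgr a 1 (i • d + n + d - d) := by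
      rwa [add_sub_cancel_right]
    have h3 : F.Hgr a 0 (i • d + n + d) ≠ ⊥ :=
      (hstep (i • d + n + d)).mpr ⟨x ^ i • z, hmem', hiz, hxz⟩
    obtain ⟨r, hr, hrx⟩ := (hpiece _).mp h3
    refine ⟨i, r, ?_, hrx⟩
    have : i • d + n + d = n + ((i : ℤ) + 1) * d := by
      rw [nsmul_eq_mul]
      ring
    rwa [this] at hr
  · rintro ⟨j, r, hr, hrx⟩
    have h3 : F.Hgr a 0 (n + ((j : ℤ) + 1) * d) ≠ ⊥ := (hpiece _).mpr ⟨r, hr, hrx⟩
    obtain ⟨z, hz, hz0, -⟩ := (hstep (n + ((j : ℤ) + 1) * d)).mp h3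
    have hz' : z ∈ E.Hgr a 1 (n + (j : ℤ) * d) := by
      have : n + ((j : ℤ) + 1) * d - d = n + (j : ℤ) * d := by ring
      rwa [this] at hz
    obtain ⟨z₀, hz₀, hz₀0⟩ :=
      exists_ne_zero_pull 𝒜 a hx hxa hreg N hN E Jx hJx F j n ⟨z, hz', hz0⟩
    intro hbot
    rw [hbot, AddSubgroup.mem_bot] at hz₀
    exact hz₀0 hz₀

include hx hxa hreg hN in
theorem Hgr_one_ne_bot_iff (n : ℤ) :
    E.Hgr a 1 n ≠ ⊥ ↔ ∃ j : ℕ, ∃ r ∈ 𝒜 (n + (j + 1) * d), r ∉ Ideal.span {x} := by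
  have hJhom : (Ideal.span {x}).IsHomogeneous 𝒜 := by
    apply Ideal.homogeneous_span
    rintro y hy
    rw [Set.mem_singleton_iff] at hy
    exact ⟨d, hy ▸ hx⟩
  exact Hgr_one_ne_bot_iff_aux 𝒜 a hx hxa hreg N hN E ⟨Ideal.span {x}, hJhom⟩ rfl
    (res 𝒜 (quotIdealGMod 𝒜 ⟨Ideal.span {x}, hJhom⟩).gr) n

end Main

end Groth.Agent.H85.GrLCH1
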