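import Mathlib
import Groth.Agent.H85.GrLCH1
import Groth.Agent.H98.GrStar.SubQuot
import Groth.Agent.H98.Segre

/-!
# The pieces of `*H^1_a(M)` for a graded module with a homogeneous parameter (helper85)

`R` a Noetherian `ℤ`-graded ring, `a` a homogeneous ideal, `M` a graded module, `x ∈ a` homogeneous
of degree `d`, `M`-regular, with `a^K M ⊆ xM`.  Then `*H^1_a(M)_n ≠ 0` iff
`M_{n + (j+1) d} ⊄ xM` for some `j ≥ 0`.
-/

set_option autoImplicit false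
set_option linter.unusedSectionVars false
set_option linter.unusedVariables false

universe u

namespace Groth.Agent.H85.GrLCH1M

open DirectSum Groth.Agent.H98.GrStar Groth.Agent.H85.GrLCStep Groth.Agent.H85.GrLCTop
  Groth.Agent.H85.GrLCH1

section Main

variable {R : Type u} [CommRing R] [IsNoetherianRing R] (𝒜 : ℤ → AddSubgroup R) [GradedRing 𝒜]
  {M : Type u} [AddCommGroup M] [Module R M] (ℳ : ℤ → AddSubgroup M)
  [DirectSum.Decomposition ℳ] [SetLike.GradedSMul 𝒜 ℳ]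
  (a : HomogeneousIdeal 𝒜) {d : ℤ} {x : R} (hx : x ∈ 𝒜 d) (hxa : x ∈ a.toIdeal)
  (hreg : IsSMulRegular M x) (K : ℕ)
  (hK : ∀ r ∈ a.toIdeal ^ K, ∀ u : M, ∃ v : M, r • u = x • v)
  (E : GrLC.StarInjRes 𝒜 ℳ)
  {Q : Type u} [AddCommGroup Q] [Module R Q] (𝒬 : ℤ → AddSubgroup Q)
  [DirectSum.Decomposition 𝒬] [SetLike.GradedSMul 𝒜 𝒬]
  (π : M →ₗ[R] Q) (hπ : Function.Surjective π) (hπg : GrLC.IsGrHom ℳ 𝒬 π)
  (hπ' : ∀ k : ℤ, ∀ q ∈ 𝒬 k, ∃ u ∈ ℳ k, π u = q)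
  (hker : LinearMap.ker π = LinearMap.range (x • (LinearMap.id : M →ₗ[R] M)))
  (F : GrLC.StarInjRes 𝒜 𝒬)

include hxa hreg in
theorem H_zero_subsingleton_mod : Subsingleton (E.H a 0) := by
  apply H_zero_subsingleton
  rintro u ⟨k, hk⟩
  have h2 : x ^ k ∈ a.toIdeal ^ k := Ideal.pow_mem_pow hxa k
  exact (hreg.pow k).right_eq_zero_of_smul (hk _ h2)

include hπ hker hK in
theorem gam_quot_eq_top : GrLC.gam a.toIdeal Q = ⊤ := by
  rw [eq_top_iff]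
  intro y _
  obtain ⟨u, rfl⟩ := hπ y
  refine ⟨K, fun r hr => ?_⟩
  obtain ⟨v, hv⟩ := hK r hr u
  rw [← map_smul, hv]
  have : x • v ∈ LinearMap.ker π := by
    rw [hker]
    exact ⟨v, rfl⟩
  exact this

include hπ hπg hπ' hker hK in
theorem Hgr_zero_quot_ne_bot_iff (k : ℤ) :
    F.Hgr a 0 k ≠ ⊥ ↔ ∃ u ∈ ℳ k, ∀ v : M, u ≠ x • v := by
  constructor
  · intro hne
    by_contra hcon
    push Not at hcon
    apply hne
    apply Hgr_zero_eq_bot
    intro q hq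
    obtain ⟨u, hu, rfl⟩ := hπ' k q hq
    obtain ⟨v, hv⟩ := hcon u hu
    have : x • v ∈ LinearMap.ker π := by
      rw [hker]
      exact ⟨v, rfl⟩
    rw [hv]
    exact this
  · rintro ⟨u, hu, hux⟩
    refine Hgr_zero_ne_bot F a k (π u) (hπg k u hu) ?_ ?_
    · rw [gam_quot_eq_top 𝒜 a K hK π hπ hker]
      trivial
    · intro h
      have h1 : u ∈ LinearMap.ker π := h
      rw [hker] at h1
      obtain ⟨v, hv⟩ := h1
      exact hux v hv.symm

include hx hxa hreg hK hπ hπg hker F in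
theorem exists_smul_eq (k : ℤ) (z : E.H a 1) (hz : z ∈ E.Hgr a 1 k) :
    ∃ z' ∈ E.Hgr a 1 (k - d), x • z' = z := by
  have hF1 : Subsingleton (F.H a 1) :=
    H_subsingleton_of_gam_eq_top F a (gam_quot_eq_top 𝒜 a K hK π hπ hker) 1 le_rfl
  exact step_surj a x hx hreg π hπ hπg hker E F 1 hF1 k z hz

include hx hxa hreg hK hπ hπg hker F in
theorem exists_ne_zero_pull (j : ℕ) : ∀ k : ℤ, (∃ z ∈ E.Hgr a 1 (k + j * d), z ≠ 0) →
    ∃ z ∈ E.Hgr a 1 k, z ≠ 0 := by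
  induction j with
  | zero =>
    intro k h
    simpa using h
  | succ j ih =>
    rintro k ⟨z, hz, hz0⟩
    obtain ⟨z', hz', hxz⟩ := exists_smul_eq 𝒜 ℳ a hx hxa hreg K hK E 𝒬 π hπ hπg hker F _ z hz
    apply ih k
    refine ⟨z', ?_, ?_⟩
    · have : k + ((j + 1 : ℕ) : ℤ) * d - d = k + (j : ℤ) * d := by push_cast; ring
      rwa [this] at hz'
    · rintro rfl
      rw [smul_zero] at hxz
      exact hz0 hxz.symm

include hx hxa hreg hK hπ hπg hπ' hker F in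
theorem Hgr_one_ne_bot_iff_aux (n : ℤ) :
    E.Hgr a 1 n ≠ ⊥ ↔ ∃ j : ℕ, ∃ u ∈ ℳ (n + (j + 1) * d), ∀ v : M, u ≠ x • v := by
  classical
  have hstep := step_piece a x hx hreg π hπ hπg hker E F 0
    (H_zero_subsingleton_mod 𝒜 ℳ a hxa hreg E)
  have hpiece := Hgr_zero_quot_ne_bot_iff 𝒜 ℳ a K hK 𝒬 π hπ hπg hπ' hker F
  constructor
  · intro hne
    obtain ⟨z, hz, hz0⟩ : ∃ z ∈ E.Hgr a 1 n, z ≠ 0 := by
      by_contra hcon
      push Not at hcon
      apply hne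
      rw [eq_bot_iff]
      intro w hw
      exact (AddSubgroup.mem_bot).mpr (hcon w hw)
    obtain ⟨K', hK'⟩ := exists_pow_smul_eq_zero E a 1 z
    have hex : ∃ j : ℕ, x ^ j • z = 0 := ⟨K', hK' _ (Ideal.pow_mem_pow hxa K')⟩
    have hjz : x ^ (Nat.find hex) • z = 0 := Nat.find_spec hex
    have hj1 : 1 ≤ Nat.find hex := by
      by_contra hlt
      have h0 : Nat.find hex = 0 := by omega
      rw [h0, pow_zero, one_smul] at hjz
      exact hz0 hjz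
    obtain ⟨i, hi⟩ : ∃ i, Nat.find hex = i + 1 := ⟨Nat.find hex - 1, by omega⟩
    have hiz : x ^ i • z ≠ 0 := by
      intro h
      have := Nat.find_min' hex h
      omega
    have hpowmem : x ^ i ∈ 𝒜 (i • d) := SetLike.pow_mem_graded i hx
    have hmem : x ^ i • z ∈ E.Hgr a 1 (i • d + n) := smul_mem_Hgr E a hpowmem 1 z hz
    have hxz : x • (x ^ i • z) = 0 := by
      rw [smul_smul, ← pow_succ', ← hi]
      exact hjz
    have hmem' : x ^ i • z ∈ E.Hgr a 1 (i • d + n + d - d) := by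
      rwa [add_sub_cancel_right]
    have h3 : F.Hgr a 0 (i • d + n + d) ≠ ⊥ :=
      (hstep (i • d + n + d)).mpr ⟨x ^ i • z, hmem', hiz, hxz⟩
    obtain ⟨r, hr, hrx⟩ := (hpiece _).mp h3
    refine ⟨i, r, ?_, hrx⟩
    have : i • d + n + d = n + ((i : ℤ) + 1) * d := by
      rw [nsmul_eq_mul]
      ring
    rwa [this] at hr
  · rintro ⟨j, r, hr, hrx⟩
    have h3 : F.Hgr a 0 (n + ((j : ℤ) + 1) * d) ≠ ⊥ := (hpiece _).mpr ⟨r, hr, hrx⟩
    obtain ⟨z, hz, hz0, -⟩ := (hstep (n + ((j : ℤ) + 1) * d)).mp h3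
    have hz' : z ∈ E.Hgr a 1 (n + (j : ℤ) * d) := by
      have : n + ((j : ℤ) + 1) * d - d = n + (j : ℤ) * d := by ring
      rwa [this] at hz
    obtain ⟨z₀, hz₀, hz₀0⟩ :=
      exists_ne_zero_pull 𝒜 ℳ a hx hxa hreg K hK E 𝒬 π hπ hπg hker F j n ⟨z, hz', hz0⟩
    intro hbot
    rw [hbot, AddSubgroup.mem_bot] at hz₀
    exact hz₀0 hz₀

end Main

section Final

variable {R : Type u} [CommRing R] [IsNoetherianRing R] (𝒜 : ℤ → AddSubgroup R) [GradedRing 𝒜]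
  {M : Type u} [AddCommGroup M] [Module R M] (ℳ : ℤ → AddSubgroup M)
  [DirectSum.Decomposition ℳ] [SetLike.GradedSMul 𝒜 ℳ]
  (a : HomogeneousIdeal 𝒜) {d : ℤ} {x : R} (hx : x ∈ 𝒜 d) (hxa : x ∈ a.toIdeal)
  (hreg : IsSMulRegular M x) (K : ℕ)
  (hK : ∀ r ∈ a.toIdeal ^ K, ∀ u : M, ∃ v : M, r • u = x • v)
  (E : GrLC.StarInjRes 𝒜 ℳ)

include hx in
theorem range_smul_isHomogeneous :
    (LinearMap.range (x • (LinearMap.id : M →ₗ[R] M))).IsHomogeneous ℳ := by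
  rintro n u ⟨v, rfl⟩
  refine ⟨(decompose ℳ v (n - d) : M), ?_⟩
  have hsh := Groth.Agent.H98.decompose_map_shift ℳ ℳ (DistribSMul.toAddMonoidHom M x) d
    (fun l w hw => by
      have h := SetLike.GradedSMul.smul_mem (A := 𝒜) (B := ℳ) hx hw
      rw [vadd_eq_add, add_comm] at h
      exact h) v (n - d)
  rw [sub_add_cancel] at hsh
  exact hsh.symm

include hx hxa hreg hK in
/-- **the pieces of `*H^1_a(M)`** -/
theorem Hgr_one_ne_bot_iff (n : ℤ) :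
    E.Hgr a 1 n ≠ ⊥ ↔ ∃ j : ℕ, ∃ u ∈ ℳ (n + (j + 1) * d), ∀ v : M, u ≠ x • v := by
  set W : Submodule R M := LinearMap.range (x • (LinearMap.id : M →ₗ[R] M)) with hW
  have hker : LinearMap.ker W.mkQ = W := Submodule.ker_mkQ W
  have hhom : (LinearMap.ker W.mkQ).IsHomogeneous ℳ := by
    rw [hker]
    exact range_smul_isHomogeneous 𝒜 ℳ hx
  let Qm := quotGMod 𝒜 ℳ W.mkQ (Submodule.mkQ_surjective W) hhom
  letI : DirectSum.Decomposition Qm.gr := Qm.dec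
  haveI : SetLike.GradedSMul 𝒜 Qm.gr := Qm.gsmul
  let π : M →ₗ[R] Qm.carrier := W.mkQ
  exact Hgr_one_ne_bot_iff_aux 𝒜 ℳ a hx hxa hreg K hK E Qm.gr π (Submodule.mkQ_surjective W)
    (quotGMod_isGrHom 𝒜 ℳ W.mkQ (Submodule.mkQ_surjective W) hhom)
    (fun k q hq => by
      obtain ⟨u, hu, rfl⟩ := hq
      exact ⟨u, hu, rfl⟩) hker (res 𝒜 Qm.gr) n

end Final

end Groth.Agent.H85.GrLCH1M
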