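import Mathlib
import Groth.Agent.H85.GrLCAinv
import Groth.Agent.H85.GrLCTop
import Groth.Agent.H85.GrBCRing
import Groth.Agent.H98.GrPieces

/-!
# `a(R) = -r` forces `dim_k R_1 ≤ r` for a standard graded Cohen–Macaulay ring (helper85)
-/

set_option autoImplicit false
set_option linter.unusedSectionVars false
set_option linter.unusedVariables false

universe u

namespace Groth.Agent.H85.GrLCPolyFwd

open scoped TensorProduct
open DirectSum Groth.Agent.H98.GrStar Groth.Agent.H85.GrLCRegSeq Groth.Agent.H85.GrLCRS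
  Groth.Agent.H85.GrLCBridge Groth.Agent.H85.GrLCAinv

variable {R : Type u} [CommRing R]
  (𝒜 : ℤ → AddSubgroup R) [GradedRing 𝒜]
  (hpos : ∀ n : ℤ, n < 0 → 𝒜 n = ⊥) (h0 : IsField (GrLC.deg0 𝒜))

include hpos h0 in
/-- the pieces are finite-dimensional -/
theorem finite_sub [IsNoetherianRing R] (n : ℤ) : Module.Finite (GrLC.deg0 𝒜) (sub 𝒜 n) := by
  letI : Field (GrLC.deg0 𝒜) := h0.toField
  letI : SetLike.GradedSMul (sub 𝒜) 𝒜 :=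
    { smul_mem := fun {i j} {a b} ha hb => SetLike.GradedMul.mul_mem (A := 𝒜) ha hb }
  have h := Groth.Agent.H98.finite_pieceSub (k := GrLC.deg0 𝒜) (sub 𝒜) (M := R) 𝒜 (sub_neg 𝒜 hpos)
    (sub_zero 𝒜) n
  have he : Groth.Agent.H98.pieceSub (sub 𝒜) 𝒜 n = sub 𝒜 n := Submodule.ext (fun _ => Iff.rfl)
  rw [he] at h
  exact h

variable [hCM : LocCoh.IsCohenMacaulayRing R] (m : HomogeneousIdeal 𝒜) (hm : GrLC.IsStarLocal 𝒜 m)
  (hmsp : m.toIdeal = Ideal.span (⋃ n ∈ Set.Ioi (0 : ℤ), (𝒜 n : Set R)))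
  (hstd : Ideal.span (⋃ n ∈ Set.Ioi (0 : ℤ), (𝒜 n : Set R)) =
    Ideal.span ((𝒜 1 : AddSubgroup R) : Set R))
  (r : ℕ) (hr : ringKrullDim R = r)

include hpos h0 hm hmsp hstd hr in
theorem finrank_le_of_endDeg (I : GrLC.StarInjRes 𝒜 𝒜)
    (hA : GrLC.endDeg (I.Hgr m r) = (((-(r : ℤ) : ℤ) : WithTop ℤ) : WithBot (WithTop ℤ))) :
    Module.finrank (GrLC.deg0 𝒜) (sub 𝒜 1) ≤ r := by
  classical
  haveI : IsNoetherianRing R := inferInstance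
  have hmne : m.toIdeal ≠ ⊤ := Groth.Agent.H98.Bass0.ne_top_of_isStarLocal 𝒜 hm
  haveI : Nontrivial R := by
    by_contra hnt
    rw [not_nontrivial_iff_subsingleton] at hnt
    exact hmne (Subsingleton.elim _ _)
  have hmirr : m.toIdeal = irrI 𝒜 := hmsp
  -- Step 1: a homogeneous regular sequence of parameters in `R`
  obtain ⟨g, dg, hg, hdeg, hdD, hreg, hrad⟩ := exists_regular_sop 𝒜 hpos h0 m hm hmsp r hr
    {d : ℤ | 0 < d} (fun d hd => hd) (by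
      intro s hprime hirr
      obtain ⟨n, x, hn, hx, hxp⟩ := avoid 𝒜 h0 s hprime (fun p hp => by
        rw [← hmirr]; exact hirr p hp)
      exact ⟨n, hn, x, hx, hxp⟩)
  have hdpos : ∀ i, i < r → 0 < dg i := fun i hi => hdD i hi
  -- Step 2: the top degree of `R ⧸ (g)`
  have hend := endDeg_zero_eq 𝒜 hpos h0 m hm hmsp r hr I g hg dg hdeg hdpos hreg
  rw [hA] at hend
  set σ : ℤ := ∑ l ∈ Finset.range r, dg l with hσ
  obtain ⟨N, hN⟩ : ∃ N, m.toIdeal ^ N ≤ Jid g r :=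
    Ideal.exists_pow_le_of_le_radical_of_fg hrad (IsNoetherian.noetherian _)
  have hsum : (((-(r : ℤ) : ℤ) : WithTop ℤ) : WithBot (WithTop ℤ)) +
      (((σ : ℤ) : WithTop ℤ) : WithBot (WithTop ℤ)) =
      (((σ - r : ℤ) : WithTop ℤ) : WithBot (WithTop ℤ)) := by
    rw [← WithBot.coe_add, ← WithTop.coe_add]
    congr 2
    ring
  rw [hsum] at hend
  have hc : ∀ d : ℤ, σ - r < d → ∀ x ∈ 𝒜 d, x ∈ Jid g r :=
    Groth.Agent.H85.GrLCTop.mem_of_endDeg_zero_le 𝒜 (J 𝒜 g hg r) (res 𝒜 (X 𝒜 g hg r).gr) m N hN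
      (σ - r) (le_of_eq hend)
  -- Step 3: base change to an infinite field
  letI : Field (GrLC.deg0 𝒜) := h0.toField
  haveI hft : Algebra.FiniteType (GrLC.deg0 𝒜) R := finiteType 𝒜 hpos h0
  let K := AlgebraicClosure (GrLC.deg0 𝒜)
  let 𝒜' := Groth.Agent.H85.GrBC.gr (k := GrLC.deg0 𝒜) (sub 𝒜) K
  haveI hCM' : LocCoh.IsCohenMacaulayRing (R ⊗[GrLC.deg0 𝒜] K) :=
    Groth.Agent.H85.GrBC.isCohenMacaulayRing_tensor K
  have hdim' : ringKrullDim (R ⊗[GrLC.deg0 𝒜] K) = r := by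
    rw [Groth.Agent.H85.GrBC.ringKrullDim_tensor K, hr]
  have hpos' : ∀ n : ℤ, n < 0 → 𝒜' n = ⊥ :=
    Groth.Agent.H85.GrBC.gr_neg (sub 𝒜) K (sub_neg 𝒜 hpos)
  have h0' : IsField (GrLC.deg0 𝒜') := Groth.Agent.H85.GrBC.isField_deg0 (sub 𝒜) K (sub_zero 𝒜)
  haveI hinf' : Infinite (GrLC.deg0 𝒜') := Groth.Agent.H85.GrBC.infinite_deg0 (sub 𝒜) K
  have hstd' : Ideal.span (⋃ n ∈ Set.Ioi (0 : ℤ), (𝒜' n : Set (R ⊗[GrLC.deg0 𝒜] K))) =
      Ideal.span ((𝒜' 1 : AddSubgroup (R ⊗[GrLC.deg0 𝒜] K)) : Set (R ⊗[GrLC.deg0 𝒜] K)) :=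
    Groth.Agent.H85.GrBC.std_gr (sub 𝒜) K hstd
  let m' : HomogeneousIdeal 𝒜' := irrH 𝒜'
  have hm' : GrLC.IsStarLocal 𝒜' m' := isStarLocal_irrH 𝒜' hpos' h0'
  have hmsp' : m'.toIdeal = Ideal.span (⋃ n ∈ Set.Ioi (0 : ℤ), (𝒜' n : Set (R ⊗[GrLC.deg0 𝒜] K))) :=
    rfl
  let I' : GrLC.StarInjRes 𝒜' 𝒜' := res 𝒜' 𝒜'
  -- Step 4: the image of the regular sequence
  let g' : ℕ → R ⊗[GrLC.deg0 𝒜] K := fun l => Groth.Agent.H85.GrBC.ι K (g l)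
  have hg' : ∀ i, SetLike.IsHomogeneousElem 𝒜' (g' i) := by
    intro i
    obtain ⟨d, hd⟩ := hg i
    exact ⟨d, Groth.Agent.H85.GrBC.ι_mem_gr (sub 𝒜) K hd⟩
  have hdeg' : ∀ i, i < r → g' i ∈ 𝒜' (dg i) := fun i hi =>
    Groth.Agent.H85.GrBC.ι_mem_gr (sub 𝒜) K (hdeg i hi)
  have hreg' : ∀ i, i < r → ∀ a : R ⊗[GrLC.deg0 𝒜] K, g' i * a ∈ Jid g' i → a ∈ Jid g' i :=
    Groth.Agent.H85.GrBC.Jid_reg_ι K g r hreg
  have hJ' : Jid g' r = (Jid g r).map (Groth.Agent.H85.GrBC.ι K) :=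
    (Jid_map (Groth.Agent.H85.GrBC.ι K) g r).symm
  -- Step 5: `a(R ⊗ K) ≤ -r`
  have hend' := endDeg_zero_eq 𝒜' hpos' h0' m' hm' hmsp' r hdim' I' g' hg' dg hdeg' hdpos hreg'
  have hle' : GrLC.endDeg ((res 𝒜' (X 𝒜' g' hg' r).gr).Hgr m' 0) ≤
      (((σ - r : ℤ) : WithTop ℤ) : WithBot (WithTop ℤ)) := by
    refine Groth.Agent.H85.GrLCTop.endDeg_zero_le 𝒜' (J 𝒜' g' hg' r) (res 𝒜' (X 𝒜' g' hg' r).gr)
      m' (σ - r) ?_
    intro d hd x hx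
    rw [J_toIdeal, hJ']
    exact Groth.Agent.H85.GrBC.mem_map_of_mem_gr (sub 𝒜) K (Jid g r) d (hc d hd) hx
  rw [hend'] at hle'
  have ha' : GrLC.endDeg (I'.Hgr m' r) ≤ (((-(r : ℤ) : ℤ) : WithTop ℤ) : WithBot (WithTop ℤ)) := by
    apply le_of_add_le_add _ σ (-(r : ℤ))
    have : σ + -(r : ℤ) = σ - r := by ring
    rw [this]
    exact hle'
  -- Step 6: a regular sequence of linear forms in `R ⊗ K`
  obtain ⟨y, dy, hyh, hydeg, hyD, hyreg, hyrad⟩ := exists_regular_sop 𝒜' hpos' h0' m' hm' hmsp' r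
    hdim' {(1 : ℤ)} (fun d hd => by rw [Set.mem_singleton_iff] at hd; rw [hd]; exact one_pos) (by
      intro s hprime hirr
      obtain ⟨x, hx, hxp⟩ := Groth.Agent.H85.GrLCLinear.avoid_linear 𝒜' h0' hstd' s hprime hirr
      exact ⟨1, rfl, x, hx, hxp⟩)
  have hdy1 : ∀ i, i < r → dy i = 1 := fun i hi => hyD i hi
  have hydpos : ∀ i, i < r → 0 < dy i := fun i hi => by rw [hdy1 i hi]; exact one_pos
  have hy1 : ∀ i, i < r → y i ∈ 𝒜' 1 := fun i hi => by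
    have := hydeg i hi
    rwa [hdy1 i hi] at this
  -- Step 7: `(R ⊗ K)_1 ⊆ (y)`
  have hendy := endDeg_zero_eq 𝒜' hpos' h0' m' hm' hmsp' r hdim' I' y hyh dy hydeg hydpos hyreg
  have hsumy : (∑ l ∈ Finset.range r, dy l) = (r : ℤ) := by
    rw [Finset.sum_congr rfl (fun l hl => hdy1 l (Finset.mem_range.mp hl)), Finset.sum_const,
      Finset.card_range, nsmul_eq_mul, mul_one]
  rw [hsumy] at hendy
  have hley : GrLC.endDeg ((res 𝒜' (X 𝒜' y hyh r).gr).Hgr m' 0) ≤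
      (((0 : ℤ) : WithTop ℤ) : WithBot (WithTop ℤ)) := by
    rw [hendy]
    have := add_le_of_le _ (r : ℤ) (-(r : ℤ)) ha'
    rwa [neg_add_cancel] at this
  obtain ⟨N', hN'⟩ : ∃ N', m'.toIdeal ^ N' ≤ Jid y r :=
    Ideal.exists_pow_le_of_le_radical_of_fg hyrad (IsNoetherian.noetherian _)
  have h1J : ∀ z ∈ 𝒜' 1, z ∈ Jid y r :=
    Groth.Agent.H85.GrLCTop.mem_of_endDeg_zero_le 𝒜' (J 𝒜' y hyh r) (res 𝒜' (X 𝒜' y hyh r).gr) m'
      N' hN' 0 hley 1 one_pos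
  -- Step 8: the dimension count
  haveI := finite_sub 𝒜 hpos h0 1
  refine Groth.Agent.H85.GrBC.finrank_le_of_span (sub 𝒜) K r (fun l : Fin r => y l) ?_
  intro a ha
  have hιa : Groth.Agent.H85.GrBC.ι K a ∈ 𝒜' 1 := Groth.Agent.H85.GrBC.ι_mem_gr (sub 𝒜) K ha
  have h2 := h1J _ hιa
  rw [Groth.Agent.H85.GrLCLinear.Jid_eq_span] at h2
  obtain ⟨c, hc0, hceq⟩ := Groth.Agent.H85.GrLCLinear.exists_deg0_coeff 𝒜' (fun l : Fin r => y l)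
    (fun l => hy1 l l.2) _ hιa h2
  have hγ : ∀ l, ∃ γ : K, c l = (1 : R) ⊗ₜ[GrLC.deg0 𝒜] γ := fun l =>
    Groth.Agent.H85.GrBC.exists_of_mem_gr_zero (sub 𝒜) K (sub_zero 𝒜) (hc0 l)
  choose γ hγ using hγ
  refine ⟨γ, ?_⟩
  rw [← Groth.Agent.H85.GrBC.ι_apply, hceq]
  exact Finset.sum_congr rfl (fun l _ => by rw [hγ l])

end Groth.Agent.H85.GrLCPolyFwd
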