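import Mathlib
import Groth.Agent.H85.GrLCPolyFwd
import Groth.Agent.H85.GrBCRank

/-!
# The Hilbert function of a standard graded Cohen–Macaulay ring of positive dimension is
nondecreasing (helper85)
-/

set_option autoImplicit false
set_option linter.unusedSectionVars false
set_option linter.unusedVariables false

universe u

namespace Groth.Agent.H85.GrLCHilbMono

open scoped TensorProduct
open DirectSum Groth.Agent.H98.GrStar Groth.Agent.H85.GrLCRegSeq Groth.Agent.H85.GrLCRS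
  Groth.Agent.H85.GrLCBridge Groth.Agent.H85.GrLCAinv

variable {R : Type u} [CommRing R] [hCM : LocCoh.IsCohenMacaulayRing R]
  (𝒜 : ℤ → AddSubgroup R) [GradedRing 𝒜]
  (hpos : ∀ n : ℤ, n < 0 → 𝒜 n = ⊥) (h0 : IsField (GrLC.deg0 𝒜))
  (hstd : Ideal.span (⋃ n ∈ Set.Ioi (0 : ℤ), (𝒜 n : Set R)) =
    Ideal.span ((𝒜 1 : AddSubgroup R) : Set R))

include hpos h0 hstd in
theorem finrank_mono (h1 : 1 ≤ ringKrullDim R) (n : ℤ) :
    Module.finrank (GrLC.deg0 𝒜) (sub 𝒜 n) ≤ Module.finrank (GrLC.deg0 𝒜) (sub 𝒜 (n + 1)) := by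
  classical
  haveI : IsNoetherianRing R := inferInstance
  haveI : Nontrivial R := by
    by_contra hnt
    rw [not_nontrivial_iff_subsingleton] at hnt
    rw [ringKrullDim_eq_bot_of_subsingleton] at h1
    exact absurd h1 (by simp)
  letI : Field (GrLC.deg0 𝒜) := h0.toField
  haveI hft : Algebra.FiniteType (GrLC.deg0 𝒜) R := finiteType 𝒜 hpos h0
  obtain ⟨r, hr⟩ := Groth.Agent.H85.GrBC.exists_ringKrullDim_eq_nat (GrLC.deg0 𝒜) R
  have hr1 : 0 < r := by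
    rw [hr] at h1
    have : (1 : ℕ) ≤ r := by exact_mod_cast h1
    exact this
  -- base change to an infinite field
  let K := AlgebraicClosure (GrLC.deg0 𝒜)
  let 𝒜' := Groth.Agent.H85.GrBC.gr (k := GrLC.deg0 𝒜) (sub 𝒜) K
  haveI hCM' : LocCoh.IsCohenMacaulayRing (R ⊗[GrLC.deg0 𝒜] K) :=
    Groth.Agent.H85.GrBC.isCohenMacaulayRing_tensor K
  haveI hN' : IsNoetherianRing (R ⊗[GrLC.deg0 𝒜] K) := inferInstance
  have hdim' : ringKrullDim (R ⊗[GrLC.deg0 𝒜] K) = r := by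
    rw [Groth.Agent.H85.GrBC.ringKrullDim_tensor K, hr]
  have hpos' : ∀ n : ℤ, n < 0 → 𝒜' n = ⊥ :=
    Groth.Agent.H85.GrBC.gr_neg (sub 𝒜) K (sub_neg 𝒜 hpos)
  have h0' : IsField (GrLC.deg0 𝒜') := Groth.Agent.H85.GrBC.isField_deg0 (sub 𝒜) K (sub_zero 𝒜)
  haveI hinf' : Infinite (GrLC.deg0 𝒜') := Groth.Agent.H85.GrBC.infinite_deg0 (sub 𝒜) K
  have hstd' : Ideal.span (⋃ n ∈ Set.Ioi (0 : ℤ), (𝒜' n : Set (R ⊗[GrLC.deg0 𝒜] K))) =
      Ideal.span ((𝒜' 1 : AddSubgroup (R ⊗[GrLC.deg0 𝒜] K)) : Set (R ⊗[GrLC.deg0 𝒜] K)) :=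
    Groth.Agent.H85.GrBC.std_gr (sub 𝒜) K hstd
  let m' : HomogeneousIdeal 𝒜' := irrH 𝒜'
  have hm' : GrLC.IsStarLocal 𝒜' m' := isStarLocal_irrH 𝒜' hpos' h0'
  have hmsp' : m'.toIdeal = Ideal.span (⋃ n ∈ Set.Ioi (0 : ℤ), (𝒜' n : Set (R ⊗[GrLC.deg0 𝒜] K))) :=
    rfl
  -- a linear nonzerodivisor
  obtain ⟨y, dy, hyh, hydeg, hyD, hyreg, hyrad⟩ := exists_regular_sop 𝒜' hpos' h0' m' hm' hmsp' r
    hdim' {(1 : ℤ)} (fun d hd => by rw [Set.mem_singleton_iff] at hd; rw [hd]; exact one_pos) (by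
      intro s hprime hirr
      obtain ⟨x, hx, hxp⟩ := Groth.Agent.H85.GrLCLinear.avoid_linear 𝒜' h0' hstd' s hprime hirr
      exact ⟨1, rfl, x, hx, hxp⟩)
  have hy0 : y 0 ∈ 𝒜' 1 := by
    have := hydeg 0 hr1
    rwa [show dy 0 = 1 from hyD 0 hr1] at this
  have hyreg0 : ∀ a : R ⊗[GrLC.deg0 𝒜] K, y 0 * a = 0 → a = 0 := by
    intro a ha
    have := hyreg 0 hr1 a (by rw [Jid_zero, ha]; exact zero_mem _)
    rwa [Jid_zero, Ideal.mem_bot] at this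
  -- compare dimensions
  haveI := Groth.Agent.H85.GrLCPolyFwd.finite_sub 𝒜 hpos h0 n
  haveI := Groth.Agent.H85.GrLCPolyFwd.finite_sub 𝒜 hpos h0 (n + 1)
  haveI hfin' := Groth.Agent.H85.GrLCPolyFwd.finite_sub 𝒜' hpos' h0' (n + 1)
  rw [← Groth.Agent.H85.GrBC.finrank_gr_eq (sub 𝒜) K (sub_zero 𝒜) n,
    ← Groth.Agent.H85.GrBC.finrank_gr_eq (sub 𝒜) K (sub_zero 𝒜) (n + 1)]
  let μ : sub 𝒜' n →ₗ[GrLC.deg0 𝒜'] sub 𝒜' (n + 1) :=
    { toFun := fun x => ⟨y 0 * x.1, by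
        have := SetLike.GradedMul.mul_mem (A := 𝒜') hy0 x.2
        rwa [add_comm] at this⟩
      map_add' := fun x x' => Subtype.ext (by
        change y 0 * (x.1 + x'.1) = y 0 * x.1 + y 0 * x'.1
        ring)
      map_smul' := fun c x => Subtype.ext (by
        change y 0 * ((c : R ⊗[GrLC.deg0 𝒜] K) * x.1) = (c : R ⊗[GrLC.deg0 𝒜] K) * (y 0 * x.1)
        ring) }
  have hinj : Function.Injective μ := by
    rw [← LinearMap.ker_eq_bot, eq_bot_iff]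
    intro x hx
    rw [LinearMap.mem_ker] at hx
    have h1 : y 0 * x.1 = 0 := congrArg Subtype.val hx
    rw [Submodule.mem_bot]
    exact Subtype.ext (hyreg0 _ h1)
  exact LinearMap.finrank_le_finrank_of_injective hinj

end Groth.Agent.H85.GrLCHilbMono
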