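import Mathlib
import Groth.Agent.H85.GrLCBase
import Groth.Agent.H85.GrLCBridge

/-!
# A regular graded ring defined over a field: `R_1` is spanned by `dim R` elements (helper85)
-/

set_option autoImplicit false
set_option linter.unusedSectionVars false
set_option linter.unusedVariables false

universe u

namespace Groth.Agent.H85.GrLCRegular

open DirectSum

variable {R : Type u} [CommRing R] (𝒜 : ℤ → AddSubgroup R) [GradedRing 𝒜]
  (hpos : ∀ n : ℤ, n < 0 → 𝒜 n = ⊥)

include hpos in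
theorem eq_zero_of_mem_neg {n : ℤ} (hn : n < 0) {x : R} (hx : x ∈ 𝒜 n) : x = 0 := by
  rw [hpos n hn] at hx
  exact (AddSubgroup.mem_bot).mp hx

include hpos in
/-- degree one component of `c * h` when `h` has no components in degrees `≤ 0` -/
theorem decompose_one_mul (c h : R) (hh : ∀ j : ℤ, j ≤ 0 → (decompose 𝒜 h j : R) = 0) :
    (decompose 𝒜 (c * h) 1 : R) = (decompose 𝒜 c 0 : R) * (decompose 𝒜 h 1 : R) := by
  classical
  have hterm : ∀ i : ℤ, (decompose 𝒜 ((decompose 𝒜 c i : R) * h) 1 : R) =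
      (decompose 𝒜 c i : R) * (decompose 𝒜 h (1 - i) : R) := by
    intro i
    have := coe_decompose_mul_add_of_left_mem 𝒜 (a := (decompose 𝒜 c i : R)) (b := h)
      (i := i) (j := 1 - i) (SetLike.coe_mem _)
    rwa [show i + (1 - i) = 1 by ring] at this
  conv_lhs => rw [← sum_support_decompose 𝒜 c, Finset.sum_mul]
  rw [decompose_sum, DFinsupp.finsetSum_apply, AddSubmonoidClass.coe_finsetSum]
  simp only [hterm]
  rw [Finset.sum_eq_single 0]
  · rw [sub_zero]
  · intro i _ hi0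
    rcases lt_or_gt_of_ne hi0 with hi | hi
    · rw [eq_zero_of_mem_neg 𝒜 hpos hi (SetLike.coe_mem (decompose 𝒜 c i)), zero_mul]
    · rw [hh (1 - i) (by omega), mul_zero]
  · intro h0
    rw [DFinsupp.notMem_support_iff] at h0
    rw [h0, ZeroMemClass.coe_zero, zero_mul]

variable (h0 : IsField (GrLC.deg0 𝒜)) (m : HomogeneousIdeal 𝒜) (hm : GrLC.IsStarLocal 𝒜 m)
  (hmsp : m.toIdeal = Ideal.span (⋃ n ∈ Set.Ioi (0 : ℤ), (𝒜 n : Set R)))

include hpos h0 hm in
/-- an element of degree zero in the irrelevant ideal vanishes -/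
theorem eq_zero_of_mem_zero_of_mem {x : R} (hx0 : x ∈ 𝒜 0) (hxm : x ∈ m.toIdeal) : x = 0 := by
  by_contra hne
  have hmne : m.toIdeal ≠ ⊤ := fun h => hm.1.1 (HomogeneousIdeal.toIdeal_injective h)
  let a : GrLC.deg0 𝒜 := ⟨x, hx0⟩
  have ha : a ≠ 0 := fun h => hne (congrArg Subtype.val h)
  obtain ⟨b, hb⟩ := h0.mul_inv_cancel ha
  have hb' : x * (b : R) = 1 := congrArg Subtype.val hb
  apply hmne
  rw [Ideal.eq_top_iff_one, ← hb']
  exact Ideal.mul_mem_right _ _ hxm

include hpos h0 hm in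
theorem decompose_eq_zero_of_mem {h : R} (hh : h ∈ m.toIdeal) (j : ℤ) (hj : j ≤ 0) :
    (decompose 𝒜 h j : R) = 0 := by
  rcases lt_or_eq_of_le hj with hj | hj
  · exact eq_zero_of_mem_neg 𝒜 hpos hj (SetLike.coe_mem _)
  · subst hj
    exact eq_zero_of_mem_zero_of_mem 𝒜 hpos h0 m hm (SetLike.coe_mem _) (m.isHomogeneous 0 hh)

include hpos hmsp in
theorem sub_decompose_zero_mem (x : R) : x - (decompose 𝒜 x 0 : R) ∈ m.toIdeal := by
  classical
  rw [m.isHomogeneous.mem_iff]
  intro i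
  rw [decompose_sub, DirectSum.sub_apply, AddSubgroupClass.coe_sub]
  have hx0mem : (decompose 𝒜 x 0 : R) ∈ 𝒜 0 := SetLike.coe_mem _
  rcases lt_trichotomy i 0 with hi | hi | hi
  · rw [eq_zero_of_mem_neg 𝒜 hpos hi (SetLike.coe_mem (decompose 𝒜 x i)),
      decompose_of_mem_ne 𝒜 hx0mem (Ne.symm (ne_of_lt hi)), sub_zero]
    exact zero_mem _
  · subst hi
    rw [decompose_of_mem_same 𝒜 hx0mem, sub_self]
    exact zero_mem _
  · rw [decompose_of_mem_ne 𝒜 hx0mem (ne_of_lt hi), sub_zero]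
    exact Groth.Agent.H85.GrLCBase.mem_irr_of_pos 𝒜 m hmsp i hi _ (SetLike.coe_mem _)

include hpos h0 hm hmsp in
/-- **regular graded rings**: `R_1` is spanned over `R_0` by `dim R` elements -/
theorem exists_span_of_regular [hreg : IsRegularRing R] (r : ℕ) (hr : ringKrullDim R = r) :
    ∃ v : Fin r → R, (∀ l, v l ∈ 𝒜 1) ∧
      ∀ b ∈ 𝒜 1, ∃ c : Fin r → R, (∀ l, c l ∈ 𝒜 0) ∧ b = ∑ l, c l * v l := by
  classical
  haveI : IsNoetherianRing R := inferInstance
  have hmne : m.toIdeal ≠ ⊤ := fun h => hm.1.1 (HomogeneousIdeal.toIdeal_injective h)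
  haveI hmax : m.toIdeal.IsMaximal := Groth.Agent.H85.GrLCBase.isMaximal_irr 𝒜 hpos h0 m hmne hmsp
  haveI hmprime : m.toIdeal.IsPrime := hmax.isPrime
  let L := Localization.AtPrime m.toIdeal
  haveI hL : IsRegularLocalRing L := hreg.isRegularLocalRing_localization m.toIdeal
  have hht := Groth.Agent.H85.GrLCBase.height_irr_eq 𝒜 m hm r hr
  have hdimL : ringKrullDim L = r := by
    rw [IsLocalization.AtPrime.ringKrullDim_eq_height m.toIdeal L, hht]
    rfl
  have hspanrank : (IsLocalRing.maximalIdeal L).spanFinrank = r := by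
    have := hL.spanFinrank_maximalIdeal
    rw [hdimL] at this
    exact_mod_cast this
  have hfg : (IsLocalRing.maximalIdeal L).FG := IsNoetherian.noetherian _
  obtain ⟨s, hscard, hsspan⟩ := Submodule.FG.exists_span_finset_card_eq_spanFinrank hfg
  rw [hspanrank] at hscard
  -- enumerate s
  let e : Fin r ≃ s := (Fintype.equivFinOfCardEq (by rw [Fintype.card_coe, hscard])).symm
  have hz : ∀ l : Fin r, ∃ (h : R) (u : m.toIdeal.primeCompl),
      IsLocalization.mk' L h u = ((e l : s) : L) := fun l => by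
    obtain ⟨⟨h, u⟩, hhu⟩ := IsLocalization.mk'_surjective m.toIdeal.primeCompl ((e l : s) : L)
    exact ⟨h, u, hhu⟩
  choose h u hhu using hz
  have hhm : ∀ l, h l ∈ m.toIdeal := by
    intro l
    have h1 : ((e l : s) : L) ∈ IsLocalRing.maximalIdeal L := by
      rw [← hsspan]
      exact Submodule.subset_span (e l).2
    rw [← hhu l, IsLocalization.AtPrime.mk'_mem_maximal_iff L m.toIdeal] at h1
    exact h1
  let H : Ideal R := Ideal.span (Set.range h)
  have hHmap : IsLocalRing.maximalIdeal L ≤ H.map (algebraMap R L) := by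
    rw [← hsspan]
    change Ideal.span (s : Set L) ≤ _
    rw [Ideal.span_le]
    intro z hz
    obtain ⟨l, hl⟩ := e.surjective ⟨z, hz⟩
    have hz' : z = ((e l : s) : L) := by rw [hl]
    rw [hz', ← hhu l, IsLocalization.mk'_eq_mul_mk'_one]
    exact Ideal.mul_mem_right _ _ (Ideal.mem_map_of_mem _ (Ideal.subset_span ⟨l, rfl⟩))
  refine ⟨fun l => (decompose 𝒜 (h l) 1 : R), fun l => SetLike.coe_mem _, ?_⟩
  intro b hb
  have hbm : b ∈ m.toIdeal := Groth.Agent.H85.GrLCBase.mem_irr_of_pos 𝒜 m hmsp 1 one_pos b hb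
  have hb1 : algebraMap R L b ∈ IsLocalRing.maximalIdeal L :=
    (IsLocalization.AtPrime.to_map_mem_maximal_iff L m.toIdeal b).mpr hbm
  have hb2 := hHmap hb1
  rw [IsLocalization.mem_map_algebraMap_iff m.toIdeal.primeCompl L] at hb2
  obtain ⟨⟨⟨h', hh'⟩, t⟩, ht⟩ := hb2
  rw [← map_mul, IsLocalization.eq_iff_exists m.toIdeal.primeCompl L] at ht
  obtain ⟨u', hu'⟩ := ht
  -- w b ∈ H with w ∉ m
  set w : R := (u' : R) * (t : R) with hw
  have hwm : w ∉ m.toIdeal := by
    intro hcon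
    rcases hmprime.mem_or_mem hcon with h1 | h1
    · exact u'.2 h1
    · exact t.2 h1
  have hwb : w * b ∈ H := by
    have : w * b = (u' : R) * h' := by
      rw [hw]
      simp only at hu'
      rw [← hu']
      ring
    rw [this]
    exact Ideal.mul_mem_left _ _ hh'
  obtain ⟨c, hc⟩ := (Ideal.mem_span_range_iff_exists_fun).mp hwb
  -- degree one components
  have h1 : (decompose 𝒜 (w * b) 1 : R) = (decompose 𝒜 w 0 : R) * b := by
    have := coe_decompose_mul_add_of_right_mem 𝒜 (a := w) (b := b) (i := 0) (j := 1) hb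
    rwa [zero_add] at this
  have h2 : (decompose 𝒜 (w * b) 1 : R) =
      ∑ l, (decompose 𝒜 (c l) 0 : R) * (decompose 𝒜 (h l) 1 : R) := by
    rw [← hc, decompose_sum, DFinsupp.finsetSum_apply, AddSubmonoidClass.coe_finsetSum]
    refine Finset.sum_congr rfl (fun l _ => ?_)
    exact decompose_one_mul 𝒜 hpos (c l) (h l)
      (fun j hj => decompose_eq_zero_of_mem 𝒜 hpos h0 m hm (hhm l) j hj)
  -- invert w_0
  have hw0 : (decompose 𝒜 w 0 : R) ≠ 0 := by
    intro hcon
    apply hwm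
    have := sub_decompose_zero_mem 𝒜 hpos m hmsp w
    rwa [hcon, sub_zero] at this
  let a : GrLC.deg0 𝒜 := ⟨(decompose 𝒜 w 0 : R), SetLike.coe_mem _⟩
  have ha : a ≠ 0 := fun hh => hw0 (congrArg Subtype.val hh)
  obtain ⟨a', ha'⟩ := h0.mul_inv_cancel ha
  have ha'' : (decompose 𝒜 w 0 : R) * (a' : R) = 1 := congrArg Subtype.val ha'
  refine ⟨fun l => (a' : R) * (decompose 𝒜 (c l) 0 : R), fun l => ?_, ?_⟩
  · have := SetLike.GradedMul.mul_mem (A := 𝒜) a'.2 (SetLike.coe_mem (decompose 𝒜 (c l) 0))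
    rwa [add_zero] at this
  · calc b = (a' : R) * ((decompose 𝒜 w 0 : R) * b) := by
          rw [← mul_assoc, mul_comm (a' : R), ha'', one_mul]
      _ = (a' : R) * ∑ l, (decompose 𝒜 (c l) 0 : R) * (decompose 𝒜 (h l) 1 : R) := by
          rw [← h1, h2]
      _ = ∑ l, (a' : R) * (decompose 𝒜 (c l) 0 : R) * (decompose 𝒜 (h l) 1 : R) := by
          rw [Finset.mul_sum]
          exact Finset.sum_congr rfl (fun l _ => (mul_assoc _ _ _).symm)

end Groth.Agent.H85.GrLCRegular
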