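import Mathlib
import Groth.Agent.H85.StdGraded

/-!
# A standard graded algebra of dimension `r` with `dim_k R_1 ≤ r` is a polynomial ring (helper85)
-/

set_option autoImplicit false
set_option linter.unusedSectionVars false
set_option linter.unusedVariables false

universe u

namespace Groth.Agent.H85.GrPolyIso

open DirectSum Groth.Agent.H85.GradedNN Groth.Agent.H85.StdGraded

variable {k : Type u} [Field k] {R : Type u} [CommRing R] [Algebra k R]
  (𝒜 : ℤ → Submodule k R) [GradedAlgebra 𝒜]
  (hpos : ∀ n : ℤ, n < 0 → 𝒜 n = ⊥) (h0 : 𝒜 0 = Submodule.span k {(1 : R)})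
  (hstd : Ideal.span (⋃ n ∈ Set.Ioi (0 : ℤ), (𝒜 n : Set R)) =
      Ideal.span ((𝒜 1 : Submodule k R) : Set R))

include h0 hstd in
/-- a subalgebra containing `R_1` contains all `R_n` -/
theorem mem_subalgebra_of_mem (S : Subalgebra k R) (hS : ∀ a ∈ 𝒜 1, a ∈ S) :
    ∀ (n : ℕ) (a : R), a ∈ 𝒜 (n : ℤ) → a ∈ S := by
  intro n
  induction n with
  | zero =>
    intro a ha
    rw [Nat.cast_zero, h0, Submodule.mem_span_singleton] at ha
    obtain ⟨c, rfl⟩ := ha
    rw [Algebra.smul_def, mul_one]
    exact Subalgebra.algebraMap_mem _ c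
  | succ n ih =>
    intro a ha
    have ha' : a ∈ 𝒜 ((n : ℤ) + 1) := by exact_mod_cast ha
    have h1 := mem_prodSpan 𝒜 hstd (Nat.cast_nonneg n) ha'
    have key : ∀ z ∈ prodSpan 𝒜 (n : ℤ), z ∈ S := by
      intro z hz
      unfold prodSpan at hz
      induction hz using Submodule.span_induction with
      | mem z hz =>
        obtain ⟨c, hc, w, hw, rfl⟩ := hz
        exact Subalgebra.mul_mem _ (hS c hc) (ih w hw)
      | zero => exact zero_mem _
      | add x y _ _ hx hy => exact add_mem hx hy
      | smul c x _ hx => exact Subalgebra.smul_mem _ hx c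
    exact key a h1

include hpos h0 hstd in
theorem subalgebra_eq_top (S : Subalgebra k R) (hS : ∀ a ∈ 𝒜 1, a ∈ S) : S = ⊤ := by
  classical
  rw [eq_top_iff]
  intro x _
  rw [← DirectSum.sum_support_decompose 𝒜 x]
  refine Subalgebra.sum_mem _ (fun i _ => ?_)
  rcases lt_or_ge i 0 with hi | hi
  · have hz : ∀ y ∈ 𝒜 i, y = 0 := by
      intro y hy
      rw [hpos i hi, Submodule.mem_bot] at hy
      exact hy
    rw [hz _ (SetLike.coe_mem _)]
    exact zero_mem _
  · obtain ⟨n, rfl⟩ := Int.eq_ofNat_of_zero_le hi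
    exact mem_subalgebra_of_mem 𝒜 h0 hstd S hS n _ (SetLike.coe_mem _)

include hpos h0 hstd in
/-- **a standard graded algebra of dimension `r` with `dim_k R_1 ≤ r` is a polynomial ring** on
linear forms -/
theorem exists_bijective_aeval (r : ℕ) (hr : ringKrullDim R = r) [Module.Finite k (𝒜 1)]
    (hfr : Module.finrank k (𝒜 1) ≤ r) :
    ∃ x : Fin r → R, (∀ i, x i ∈ 𝒜 1) ∧ (∀ a ∈ 𝒜 1, a ∈ Ideal.span (Set.range x)) ∧
      Function.Bijective (MvPolynomial.aeval x : MvPolynomial (Fin r) k →ₐ[k] R) := by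
  classical
  set s := Module.finrank k (𝒜 1) with hs
  let b : Module.Basis (Fin s) k (𝒜 1) := Module.finBasis k (𝒜 1)
  let x : Fin r → R := fun i => if h : (i : ℕ) < s then ((b ⟨i, h⟩ : 𝒜 1) : R) else 0
  have hx1 : ∀ i, x i ∈ 𝒜 1 := by
    intro i
    by_cases h : (i : ℕ) < s
    · simp only [x, dif_pos h]
      exact SetLike.coe_mem _
    · simp only [x, dif_neg h]
      exact zero_mem _
  have hbx : ∀ j : Fin s, ((b j : 𝒜 1) : R) ∈ Set.range x := by
    intro j
    refine ⟨⟨j, lt_of_lt_of_le j.2 hfr⟩, ?_⟩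
    simp only [x, dif_pos j.2]
  set φ : MvPolynomial (Fin r) k →ₐ[k] R := MvPolynomial.aeval x with hφ
  have hsurj : Function.Surjective φ := by
    have h1 : φ.range = ⊤ := by
      apply subalgebra_eq_top 𝒜 hpos h0 hstd
      intro a ha
      have h2 : (⟨a, ha⟩ : 𝒜 1) ∈ Submodule.span k (Set.range b) := by
        rw [b.span_eq]; trivial
      have h3 : ∀ z : 𝒜 1, z ∈ Submodule.span k (Set.range b) → (z : R) ∈ φ.range := by
        intro z hz
        induction hz using Submodule.span_induction with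
        | mem z hz =>
          obtain ⟨j, rfl⟩ := hz
          obtain ⟨i, hi⟩ := hbx j
          rw [← hi]
          rw [AlgHom.mem_range]
          exact ⟨MvPolynomial.X i, MvPolynomial.aeval_X x i⟩
        | zero => exact zero_mem _
        | add z w _ _ hz hw => rw [Submodule.coe_add]; exact add_mem hz hw
        | smul c z _ hz => rw [Submodule.coe_smul]; exact Subalgebra.smul_mem _ hz c
      exact h3 _ h2
    intro y
    have : y ∈ φ.range := by rw [h1]; trivial
    exact this
  have hspan : ∀ a ∈ 𝒜 1, a ∈ Ideal.span (Set.range x) := by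
    intro a ha
    have h2 : (⟨a, ha⟩ : 𝒜 1) ∈ Submodule.span k (Set.range b) := by
      rw [b.span_eq]; trivial
    have h3 : ∀ z : 𝒜 1, z ∈ Submodule.span k (Set.range b) →
        (z : R) ∈ Ideal.span (Set.range x) := by
      intro z hz
      induction hz using Submodule.span_induction with
      | mem z hz =>
        obtain ⟨j, rfl⟩ := hz
        exact Ideal.subset_span (hbx j)
      | zero => exact zero_mem _
      | add z w _ _ hz hw => rw [Submodule.coe_add]; exact add_mem hz hw
      | smul c z _ hz =>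
        rw [Submodule.coe_smul, Algebra.smul_def]
        exact Ideal.mul_mem_left _ _ hz
    exact h3 _ h2
  refine ⟨x, hx1, hspan, ?_, hsurj⟩
  -- injectivity by dimension
  rw [injective_iff_map_eq_zero]
  intro p hp
  by_contra hp0
  have hpnzd : p ∈ nonZeroDivisors (MvPolynomial (Fin r) k) := mem_nonZeroDivisors_of_ne_zero hp0
  have h1 := ringKrullDim_quotient_succ_le_of_nonZeroDivisor hpnzd
  have hle : Ideal.span {p} ≤ RingHom.ker (φ : MvPolynomial (Fin r) k →+* R) := by
    rw [Ideal.span_le, Set.singleton_subset_iff]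
    exact hp
  let ψ : MvPolynomial (Fin r) k ⧸ Ideal.span {p} →+* R :=
    Ideal.Quotient.lift (Ideal.span {p}) (φ : MvPolynomial (Fin r) k →+* R) (fun a ha => hle ha)
  have hψ : Function.Surjective ψ := by
    intro y
    obtain ⟨q, rfl⟩ := hsurj y
    exact ⟨Ideal.Quotient.mk _ q, rfl⟩
  have h2 := ringKrullDim_le_of_surjective ψ hψ
  have h3 : ringKrullDim (MvPolynomial (Fin r) k) = r := by
    rw [MvPolynomial.ringKrullDim_of_isNoetherianRing, ringKrullDim_eq_zero_of_field, zero_add,
      Nat.card_fin]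
  rw [h3] at h1
  rw [hr] at h2
  have h4 : ((r : WithBot ℕ∞) + 1) ≤ r := (add_le_add_left h2 1).trans h1
  have h5 : ((r + 1 : ℕ) : WithBot ℕ∞) ≤ (r : ℕ) := by exact_mod_cast h4
  have h6 : r + 1 ≤ r := by exact_mod_cast h5
  omega

end Groth.Agent.H85.GrPolyIso
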