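import Mathlib
import Groth.Agent.H85.GrLCAinv
import Groth.Agent.H85.GrLCRegular
import Groth.Agent.H85.GrPolyIso
import Groth.Agent.H85.GrLCTop

/-!
# `a(R) = -r` for a polynomial ring (helper85)
-/

set_option autoImplicit false
set_option linter.unusedSectionVars false
set_option linter.unusedVariables false

universe u

namespace Groth.Agent.H85.GrLCPolyBack

open DirectSum Groth.Agent.H98.GrStar Groth.Agent.H85.GrLCRegSeq Groth.Agent.H85.GrLCRS
  Groth.Agent.H85.GrLCBridge Groth.Agent.H85.GrLCAinv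

variable {R : Type u} [CommRing R] [hCM : LocCoh.IsCohenMacaulayRing R]
  (𝒜 : ℤ → AddSubgroup R) [GradedRing 𝒜]
  (hpos : ∀ n : ℤ, n < 0 → 𝒜 n = ⊥) (h0 : IsField (GrLC.deg0 𝒜))
  (m : HomogeneousIdeal 𝒜) (hm : GrLC.IsStarLocal 𝒜 m)
  (hmsp : m.toIdeal = Ideal.span (⋃ n ∈ Set.Ioi (0 : ℤ), (𝒜 n : Set R)))
  (hstd : Ideal.span (⋃ n ∈ Set.Ioi (0 : ℤ), (𝒜 n : Set R)) =
    Ideal.span ((𝒜 1 : AddSubgroup R) : Set R))
  (r : ℕ) (hr : ringKrullDim R = r)

include hpos h0 hm hmsp hstd hr in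
/-- if `dim_{R_0} R_1 ≤ r = dim R` then `R` is a polynomial ring on linear
forms: there is a homogeneous regular sequence of `r` linear forms generating the irrelevant ideal -/
theorem exists_linear_regular_of_finrank [hfin : Module.Finite (GrLC.deg0 𝒜) (sub 𝒜 1)]
    (hfr : Module.finrank (GrLC.deg0 𝒜) (sub 𝒜 1) ≤ r) :
    ∃ g : ℕ → R, (∀ l, g l ∈ 𝒜 1) ∧
      (∀ i, i < r → ∀ a : R, g i * a ∈ Jid g i → a ∈ Jid g i) ∧ m.toIdeal ≤ Jid g r ∧
      Nonempty (R ≃+* MvPolynomial (Fin r) (GrLC.deg0 𝒜)) := by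
  classical
  haveI : IsNoetherianRing R := inferInstance
  letI : Field (GrLC.deg0 𝒜) := h0.toField
  obtain ⟨x, hx1, hxspan, hbij⟩ :=
    Groth.Agent.H85.GrPolyIso.exists_bijective_aeval (k := GrLC.deg0 𝒜) (sub 𝒜) (sub_neg 𝒜 hpos)
      (sub_zero 𝒜) hstd r hr hfr
  let φ : MvPolynomial (Fin r) (GrLC.deg0 𝒜) ≃+* R :=
    RingEquiv.ofBijective (MvPolynomial.aeval x : MvPolynomial (Fin r) (GrLC.deg0 𝒜) →ₐ[_] R) hbij
  have hφX : ∀ i : Fin r, φ (MvPolynomial.X i) = x i := fun i => MvPolynomial.aeval_X x i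
  let g : ℕ → R := fun l => φ (xs r l)
  have hgx : ∀ (l : ℕ) (h : l < r), g l = x ⟨l, h⟩ := by
    intro l h
    change φ (xs r l) = _
    have : xs (k := GrLC.deg0 𝒜) r l = MvPolynomial.X ⟨l, h⟩ := by simp only [xs, dif_pos h]
    rw [this, hφX]
  have hg0 : ∀ l, ¬ l < r → g l = 0 := by
    intro l h
    change φ (xs r l) = _
    have : xs (k := GrLC.deg0 𝒜) r l = 0 := by simp only [xs, dif_neg h]
    rw [this, map_zero]
  have hg1 : ∀ l, g l ∈ 𝒜 1 := by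
    intro l
    by_cases h : l < r
    · rw [hgx l h]; exact hx1 _
    · rw [hg0 l h]; exact zero_mem _
  refine ⟨g, hg1, Jid_reg_of_ringEquiv φ (xs r) r (xs_reg r), ?_, ⟨φ.symm⟩⟩
  rw [hmsp, hstd, Ideal.span_le]
  intro b hb
  have h1 := hxspan b hb
  rw [Groth.Agent.H85.GrLCLinear.Jid_eq_span]
  have hrange : Set.range (fun l : Fin r => g l) = Set.range x := by
    congr 1
    funext l
    exact hgx l l.2
  rw [hrange]
  exact h1

include hpos h0 hm hmsp hstd hr in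
/-- if `R_1` is spanned over `R_0` by `r = dim R` elements then `R` is a polynomial ring on linear
forms: there is a homogeneous regular sequence of `r` linear forms generating the irrelevant ideal -/
theorem exists_linear_regular_of_span (v : Fin r → R) (hv : ∀ l, v l ∈ 𝒜 1)
    (hvspan : ∀ b ∈ 𝒜 1, ∃ c : Fin r → R, (∀ l, c l ∈ 𝒜 0) ∧ b = ∑ l, c l * v l) :
    ∃ g : ℕ → R, (∀ l, g l ∈ 𝒜 1) ∧
      (∀ i, i < r → ∀ a : R, g i * a ∈ Jid g i → a ∈ Jid g i) ∧ m.toIdeal ≤ Jid g r ∧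
      Nonempty (R ≃+* MvPolynomial (Fin r) (GrLC.deg0 𝒜)) := by
  classical
  haveI : IsNoetherianRing R := inferInstance
  letI : Field (GrLC.deg0 𝒜) := h0.toField
  -- dim R_1 ≤ r
  have hle : sub 𝒜 1 ≤ Submodule.span (GrLC.deg0 𝒜) (Set.range v) := by
    intro b hb
    obtain ⟨c, hc0, hc⟩ := hvspan b hb
    rw [hc]
    refine Submodule.sum_mem _ (fun l _ => ?_)
    have : c l * v l = (⟨c l, hc0 l⟩ : GrLC.deg0 𝒜) • v l := rfl
    rw [this]
    exact Submodule.smul_mem _ _ (Submodule.subset_span ⟨l, rfl⟩)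
  haveI hfd : FiniteDimensional (GrLC.deg0 𝒜) (Submodule.span (GrLC.deg0 𝒜) (Set.range v)) :=
    FiniteDimensional.span_of_finite _ (Set.finite_range v)
  haveI hfin : Module.Finite (GrLC.deg0 𝒜) (sub 𝒜 1) := Submodule.finiteDimensional_of_le hle
  have hfr : Module.finrank (GrLC.deg0 𝒜) (sub 𝒜 1) ≤ r := by
    calc Module.finrank (GrLC.deg0 𝒜) (sub 𝒜 1)
        ≤ Module.finrank (GrLC.deg0 𝒜) (Submodule.span (GrLC.deg0 𝒜) (Set.range v)) :=
          Submodule.finrank_mono hle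
      _ ≤ Fintype.card (Fin r) := finrank_range_le_card v
      _ = r := Fintype.card_fin r
  exact exists_linear_regular_of_finrank 𝒜 hpos h0 m hm hmsp hstd r hr hfr

include hpos h0 hm hmsp hstd hr in
/-- if there is a regular sequence of `r = dim R` linear forms generating the irrelevant ideal then
`a(R) = -r` -/
theorem endDeg_eq_neg_of_linear_regular (I : GrLC.StarInjRes 𝒜 𝒜) (g : ℕ → R)
    (hg1 : ∀ l, g l ∈ 𝒜 1)
    (hreg : ∀ i, i < r → ∀ a : R, g i * a ∈ Jid g i → a ∈ Jid g i) (hmJ : m.toIdeal ≤ Jid g r) :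
    GrLC.endDeg (I.Hgr m r) = (((-(r : ℤ) : ℤ) : WithTop ℤ) : WithBot (WithTop ℤ)) := by
  classical
  haveI : IsNoetherianRing R := inferInstance
  have hmne : m.toIdeal ≠ ⊤ := Groth.Agent.H98.Bass0.ne_top_of_isStarLocal 𝒜 hm
  have hg : ∀ i, SetLike.IsHomogeneousElem 𝒜 (g i) := fun i => ⟨1, hg1 i⟩
  have hend := endDeg_zero_eq 𝒜 hpos h0 m hm hmsp r hr I g hg (fun _ => 1) (fun i _ => hg1 i)
    (fun _ _ => one_pos) hreg
  have hsum : (∑ l ∈ Finset.range r, (1 : ℤ)) = (r : ℤ) := by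
    rw [Finset.sum_const, Finset.card_range, nsmul_eq_mul, mul_one]
  rw [hsum] at hend
  have hJm : Jid g r ≤ m.toIdeal := Jid_le g m.toIdeal r (fun l _ =>
    Groth.Agent.H85.GrLCBase.mem_irr_of_pos 𝒜 m hmsp 1 one_pos (g l) (hg1 l))
  -- the end of `*H^0` is zero
  have hle : GrLC.endDeg ((res 𝒜 (X 𝒜 g hg r).gr).Hgr m 0) ≤
      (((0 : ℤ) : WithTop ℤ) : WithBot (WithTop ℤ)) := by
    refine Groth.Agent.H85.GrLCTop.endDeg_zero_le 𝒜 (J 𝒜 g hg r) (res 𝒜 (X 𝒜 g hg r).gr) m 0 ?_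
    intro d hd x hx
    exact hmJ (Groth.Agent.H85.GrLCBase.mem_irr_of_pos 𝒜 m hmsp d hd x hx)
  have hge : (((0 : ℤ) : WithTop ℤ) : WithBot (WithTop ℤ)) ≤
      GrLC.endDeg ((res 𝒜 (X 𝒜 g hg r).gr).Hgr m 0) := by
    apply le_endDeg
    refine Groth.Agent.H85.GrLCTop.Hgr_zero_ne_bot_of_notMem 𝒜 (J 𝒜 g hg r)
      (res 𝒜 (X 𝒜 g hg r).gr) m 1 ?_ 0 1 (SetLike.GradedOne.one_mem (A := 𝒜)) ?_
    · rw [pow_one]; exact hmJ
    · intro h1
      exact hmne ((Ideal.eq_top_iff_one _).mpr (hJm h1))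
  have heq := le_antisymm hle hge
  rw [hend] at heq
  have := eq_of_add_eq _ _ _ heq
  rw [this, zero_sub]

end Groth.Agent.H85.GrLCPolyBack
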