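import Groth.Agent.H85.GradedHSOP

/-!
# Finiteness over a homogeneous system of parameters

If `x₁, …, x_m` are homogeneous elements of positive degree in a finitely generated,
nonnegatively graded `k`-algebra `R` with `R₀ = k` such that the radical of `(x₁, …, x_m)` contains
the irrelevant ideal, then `R` is a finite module over `k[X₁, …, X_m]` via `Xᵢ ↦ xᵢ`.
-/

set_option autoImplicit false

namespace Groth.Agent.H85.GradedNN

open DirectSum MvPolynomial

variable {k : Type*} [Field k] {R : Type*} [CommRing R] [Algebra k R]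
  (𝒜 : ℤ → Submodule k R) [GradedAlgebra 𝒜]
  (hpos : ∀ n : ℤ, n < 0 → 𝒜 n = ⊥) (h0 : 𝒜 0 = Submodule.span k {(1 : R)})

include hpos h0 in
theorem exists_posHom_generators [Algebra.FiniteType k R] :
    ∃ G : Finset R, (∀ z ∈ G, PosHom 𝒜 z) ∧ Algebra.adjoin k (G : Set R) = ⊤ := by
  classical
  obtain ⟨F, hF⟩ := (inferInstance : Algebra.FiniteType k R).out
  refine ⟨F.biUnion (fun a => ((decompose 𝒜 a).support.filter (fun n => 0 < n)).image
    (fun n => (decompose 𝒜 a n : R))), ?_, ?_⟩
  · intro z hz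
    rw [Finset.mem_biUnion] at hz
    obtain ⟨a, -, hz⟩ := hz
    rw [Finset.mem_image] at hz
    obtain ⟨n, hn, rfl⟩ := hz
    rw [Finset.mem_filter] at hn
    exact ⟨n, hn.2, SetLike.coe_mem _⟩
  · rw [eq_top_iff, ← hF]
    apply Algebra.adjoin_le
    intro a ha
    rw [← DirectSum.sum_support_decompose 𝒜 a]
    refine Subalgebra.sum_mem _ fun n hn => ?_
    rcases lt_trichotomy n 0 with h | h | h
    · rw [eq_zero_of_mem_of_neg 𝒜 hpos h (SetLike.coe_mem _)]; exact zero_mem _
    · subst h
      obtain ⟨c, hc⟩ := exists_smul_one_of_mem_zero 𝒜 h0 (SetLike.coe_mem (decompose 𝒜 a 0))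
      rw [← hc]; exact Subalgebra.smul_mem _ (one_mem _) c
    · apply Algebra.subset_adjoin
      exact Finset.mem_coe.mpr (Finset.mem_biUnion.mpr ⟨a, ha, Finset.mem_image.mpr
        ⟨n, Finset.mem_filter.mpr ⟨hn, h⟩, rfl⟩⟩)

include hpos h0 in
theorem exists_homogeneous_span_mod [Algebra.FiniteType k R] (X : Ideal R)
    (hrad : irr 𝒜 ≤ X.radical) :
    ∃ B : Finset R, (∀ b ∈ B, ∃ n, b ∈ 𝒜 n) ∧
      ∀ a : R, ∃ b' ∈ Submodule.span k (B : Set R), a - b' ∈ X := by
  classical
  obtain ⟨G, hG, hGtop⟩ := exists_posHom_generators 𝒜 hpos h0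
  have hfin : Module.Finite k (R ⧸ X) := by
    have h1 : (Algebra.adjoin k ((Ideal.Quotient.mkₐ k X) '' (G : Set R))).toSubmodule.FG := by
      refine fg_adjoin_of_finite (G.finite_toSet.image _) ?_
      rintro _ ⟨z, hz, rfl⟩
      obtain ⟨N, hN⟩ := hrad (hG z hz).mem_irr
      refine ⟨Polynomial.X ^ N, Polynomial.monic_X_pow N, ?_⟩
      have : (Ideal.Quotient.mk X z) ^ N = 0 := by
        rw [← map_pow]; exact Ideal.Quotient.eq_zero_iff_mem.mpr hN
      simp [this]
    have h2 : Algebra.adjoin k ((Ideal.Quotient.mkₐ k X) '' (G : Set R)) = ⊤ := by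
      rw [← AlgHom.map_adjoin, hGtop, Algebra.map_top, AlgHom.range_eq_top]
      exact Ideal.Quotient.mkₐ_surjective k X
    rw [h2] at h1
    exact ⟨by simpa using h1⟩
  obtain ⟨S0, hS0⟩ := hfin.fg_top
  choose lift hlift using fun q : R ⧸ X => Ideal.Quotient.mkₐ_surjective k X q
  refine ⟨S0.biUnion (fun q => (decompose 𝒜 (lift q)).support.image
    (fun n => (decompose 𝒜 (lift q) n : R))), ?_, ?_⟩
  · intro b hb
    rw [Finset.mem_biUnion] at hb
    obtain ⟨q, -, hb⟩ := hb
    rw [Finset.mem_image] at hb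
    obtain ⟨n, -, rfl⟩ := hb
    exact ⟨n, SetLike.coe_mem _⟩
  · intro a
    set B := S0.biUnion (fun q => (decompose 𝒜 (lift q)).support.image
      (fun n => (decompose 𝒜 (lift q) n : R))) with hBdef
    have key : ∀ q ∈ Submodule.span k (S0 : Set (R ⧸ X)),
        ∃ b' ∈ Submodule.span k (B : Set R), Ideal.Quotient.mkₐ k X b' = q := by
      intro q hq
      induction hq using Submodule.span_induction with
      | mem q hq =>
        refine ⟨lift q, ?_, hlift q⟩
        rw [← DirectSum.sum_support_decompose 𝒜 (lift q)]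
        refine Submodule.sum_mem _ fun n hn => Submodule.subset_span ?_
        exact Finset.mem_coe.mpr (Finset.mem_biUnion.mpr ⟨q, hq, Finset.mem_image.mpr ⟨n, hn, rfl⟩⟩)
      | zero => exact ⟨0, zero_mem _, map_zero _⟩
      | add u v _ _ hu hv =>
        obtain ⟨bu, hbu, rfl⟩ := hu
        obtain ⟨bv, hbv, rfl⟩ := hv
        exact ⟨bu + bv, add_mem hbu hbv, map_add _ _ _⟩
      | smul c u _ hu =>
        obtain ⟨bu, hbu, rfl⟩ := hu
        exact ⟨c • bu, Submodule.smul_mem _ c hbu, map_smul _ _ _⟩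
    obtain ⟨b', hb', hq⟩ := key (Ideal.Quotient.mkₐ k X a) (by rw [hS0]; trivial)
    refine ⟨b', hb', ?_⟩
    rw [← Ideal.Quotient.eq_zero_iff_mem, map_sub]
    have : Ideal.Quotient.mk X b' = Ideal.Quotient.mk X a := hq
    rw [this, sub_self]

include hpos h0 in
/-- `R` is finite over `k[X₁, …, X_m]` when `(x₁, …, x_m)` is primary to the irrelevant ideal. -/
theorem finite_of_irr_le_radical [Algebra.FiniteType k R] {m : ℕ} (x : Fin m → R)
    (hx : ∀ j, PosHom 𝒜 (x j)) (hrad : irr 𝒜 ≤ (Ideal.span (Set.range x)).radical) :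
    (aeval x : MvPolynomial (Fin m) k →ₐ[k] R).toRingHom.Finite := by
  classical
  obtain ⟨B, hBhom, hB⟩ := exists_homogeneous_span_mod 𝒜 hpos h0 _ hrad
  let : Algebra (MvPolynomial (Fin m) k) R :=
    (aeval x : MvPolynomial (Fin m) k →ₐ[k] R).toRingHom.toAlgebra
  have : IsScalarTower k (MvPolynomial (Fin m) k) R :=
    IsScalarTower.of_algebraMap_eq' (aeval x : MvPolynomial (Fin m) k →ₐ[k] R).comp_algebraMap.symm
  show Module.Finite (MvPolynomial (Fin m) k) R
  set M : Submodule (MvPolynomial (Fin m) k) R := Submodule.span _ (B : Set R) with hM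
  have hXsmul : ∀ j (a : R), x j * a = (X j : MvPolynomial (Fin m) k) • a := by
    intro j a
    rw [Algebra.smul_def]
    show _ = aeval x (X j) * a
    rw [aeval_X]
  have hkB : ∀ b' ∈ Submodule.span k (B : Set R), ∀ n, (decompose 𝒜 b' n : R) ∈ M := by
    intro b' hb' n
    induction hb' using Submodule.span_induction with
    | mem b hb =>
      obtain ⟨e, he⟩ := hBhom b hb
      by_cases hen : e = n
      · subst hen; rw [decompose_of_mem_same 𝒜 he]; exact Submodule.subset_span hb
      · rw [decompose_of_mem_ne 𝒜 he hen]; exact zero_mem _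
    | zero => simp
    | add u v _ _ hu hv =>
      rw [decompose_add, DirectSum.add_apply, Submodule.coe_add]; exact add_mem hu hv
    | smul c u _ hu =>
      rw [decompose_smul, DirectSum.smul_apply, Submodule.coe_smul,
        ← algebraMap_smul (MvPolynomial (Fin m) k) c]
      exact Submodule.smul_mem _ _ hu
  have key : ∀ n : ℕ, ∀ a ∈ 𝒜 (n : ℤ), a ∈ M := by
    intro n
    induction n using Nat.strong_induction_on with
    | _ n ih =>
      intro a ha
      obtain ⟨b', hb', hab⟩ := hB a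
      rw [Ideal.mem_span_range_iff_exists_fun] at hab
      obtain ⟨c, hc⟩ := hab
      have ha' : a = b' + ∑ j, c j * x j := by rw [hc]; ring
      have h1 : a = (decompose 𝒜 a n : R) := (decompose_of_mem_same 𝒜 ha).symm
      rw [h1, ha', decompose_add, DirectSum.add_apply, Submodule.coe_add, decompose_sum,
        DFinsupp.finsetSum_apply, AddSubmonoidClass.coe_finsetSum]
      refine add_mem (hkB b' hb' n) (Submodule.sum_mem _ fun j _ => ?_)
      obtain ⟨d, hd, hxd⟩ := hx j
      have h2 : (decompose 𝒜 (c j * x j) (((n : ℤ) - d) + d) : R) =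
          (decompose 𝒜 (c j) ((n : ℤ) - d) : R) * x j :=
        coe_decompose_mul_add_of_right_mem 𝒜 hxd
      rw [sub_add_cancel] at h2
      rw [h2, mul_comm, hXsmul]
      apply Submodule.smul_mem
      by_cases hneg : (n : ℤ) - d < 0
      · rw [eq_zero_of_mem_of_neg 𝒜 hpos hneg (SetLike.coe_mem _)]; exact zero_mem _
      · push Not at hneg
        have hcast : ((n : ℤ) - d) = ((n - d.toNat : ℕ) : ℤ) := by omega
        have hmem : (decompose 𝒜 (c j) ((n : ℤ) - d) : R) ∈ 𝒜 ((n - d.toNat : ℕ) : ℤ) := by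
          rw [← hcast]; exact SetLike.coe_mem _
        exact ih (n - d.toNat) (by omega) _ hmem
  refine ⟨⟨B, ?_⟩⟩
  rw [eq_top_iff]
  rintro a -
  rw [← DirectSum.sum_support_decompose 𝒜 a]
  refine Submodule.sum_mem _ fun n _ => ?_
  by_cases hn : n < 0
  · rw [eq_zero_of_mem_of_neg 𝒜 hpos hn (SetLike.coe_mem _)]; exact zero_mem _
  · push Not at hn
    have hcast : n = (n.toNat : ℤ) := by omega
    have hmem : (decompose 𝒜 a n : R) ∈ 𝒜 (n.toNat : ℤ) := by
      rw [← hcast]; exact SetLike.coe_mem _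
    exact key n.toNat _ hmem

end Groth.Agent.H85.GradedNN
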