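import Groth.Agent.H85.GradedNoether
import Groth.Agent.H98.Segre

/-!
# Graded Noether normalization for modules

`R` a finitely generated nonnegatively graded algebra over a field `k` with `R₀ = k`, `M` a finitely
generated graded `R`-module of dimension `d`.  Then there are homogeneous `x₁, …, x_d ∈ R` of a
common positive degree such that `M` is finitely generated over `k[x₁, …, x_d]`, faithfully.
-/

set_option autoImplicit false

namespace Groth.Agent.H85.GradedNN

open DirectSum MvPolynomial

variable {k : Type*} [Field k] {R : Type*} [CommRing R] [Algebra k R]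
  (𝒜 : ℤ → Submodule k R) [GradedAlgebra 𝒜]
  {M : Type*} [AddCommGroup M] [Module R M]
  (ℳ : ℤ → AddSubgroup M) [DirectSum.Decomposition ℳ] [SetLike.GradedSMul 𝒜 ℳ]

/-- components of `a • u` for homogeneous `a` -/
theorem decompose_smul_of_mem {i : ℤ} {a : R} (ha : a ∈ 𝒜 i) (u : M) (j : ℤ) :
    (decompose ℳ (a • u) (j + i) : M) = a • (decompose ℳ u j : M) := by
  have := Groth.Agent.H98.decompose_map_shift ℳ ℳ (DistribSMul.toAddMonoidHom M a) i
    (fun l x hx => by
      have h := SetLike.GradedSMul.smul_mem (A := 𝒜) (B := ℳ) ha hx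
      rw [vadd_eq_add, add_comm] at h
      exact h) u j
  simpa using this

/-- components of `r • g` for homogeneous `g` -/
theorem decompose_smul_of_mem_right {j : ℤ} {g : M} (hg : g ∈ ℳ j) (r : R) (i : ℤ) :
    (decompose ℳ (r • g) (i + j) : M) = (decompose 𝒜 r i : R) • g := by
  have := Groth.Agent.H98.decompose_map_shift 𝒜 ℳ ((smulAddHom R M).flip g) j
    (fun l a ha => by
      have h := SetLike.GradedSMul.smul_mem (A := 𝒜) (B := ℳ) ha hg
      rw [vadd_eq_add] at h
      exact h) r i
  simpa using this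

include ℳ in
theorem annihilator_isHomogeneous : (Module.annihilator R M).IsHomogeneous 𝒜 := by
  intro i r hr
  rw [Module.mem_annihilator] at hr ⊢
  intro m
  induction m using DirectSum.Decomposition.inductionOn ℳ with
  | zero => simp
  | @homogeneous j m =>
    have h1 := decompose_smul_of_mem_right 𝒜 ℳ m.2 r i
    rw [hr (m : M)] at h1
    simpa using h1.symm
  | add a b ha hb => rw [smul_add, ha, hb, add_zero]

theorem chainBound_annihilator [Module.Finite R M] (d : ℕ) (h : Module.supportDim R M ≤ d) :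
    ChainBound (Module.annihilator R M) d := by
  intro l hl
  rw [Module.supportDim_eq_ringKrullDim_quotient_annihilator, ringKrullDim_quotient] at h
  let l' : LTSeries (PrimeSpectrum.zeroLocus (R := R) (Module.annihilator R M : Set R)) :=
    ⟨l.length, fun i => ⟨l i, fun a ha => (l.head_le i) (hl ha)⟩, fun i => l.step i⟩
  have h1 : (l'.length : WithBot ℕ∞) ≤ Order.krullDim _ := Order.LTSeries.length_le_krullDim l'
  have h2 := h1.trans h
  have h3 : l'.length = l.length := rfl
  rw [h3] at h2
  exact_mod_cast h2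

theorem exists_homogeneous_generators_module [Module.Finite R M] :
    ∃ G : Finset M, (∀ g ∈ G, ∃ n, g ∈ ℳ n) ∧ Submodule.span R (G : Set M) = ⊤ := by
  classical
  obtain ⟨F, hF⟩ := (inferInstance : Module.Finite R M).fg_top
  refine ⟨F.biUnion (fun a => (decompose ℳ a).support.image (fun n => (decompose ℳ a n : M))),
    ?_, ?_⟩
  · intro g hg
    rw [Finset.mem_biUnion] at hg
    obtain ⟨a, -, hg⟩ := hg
    rw [Finset.mem_image] at hg
    obtain ⟨n, -, rfl⟩ := hg
    exact ⟨n, SetLike.coe_mem _⟩
  · rw [eq_top_iff, ← hF]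
    apply Submodule.span_le.mpr
    intro a ha
    rw [SetLike.mem_coe, ← DirectSum.sum_support_decompose ℳ a]
    refine Submodule.sum_mem _ fun n hn => Submodule.subset_span ?_
    exact Finset.mem_coe.mpr (Finset.mem_biUnion.mpr ⟨a, ha, Finset.mem_image.mpr ⟨n, hn, rfl⟩⟩)

section

variable (hpos : ∀ n : ℤ, n < 0 → 𝒜 n = ⊥) (h0 : 𝒜 0 = Submodule.span k {(1 : R)})

include hpos in
/-- a finitely generated graded module vanishes in low degrees -/
theorem eq_zero_of_lt (G : Finset M) (e : M → ℤ) (hG : ∀ g ∈ G, g ∈ ℳ (e g))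
    (hspan : Submodule.span R (G : Set M) = ⊤) (n₀ : ℤ) (hn₀ : ∀ g ∈ G, n₀ ≤ e g)
    {n : ℤ} (hn : n < n₀) {u : M} (hu : u ∈ ℳ n) : u = 0 := by
  classical
  have hu' : u ∈ Submodule.span R (G : Set M) := by rw [hspan]; trivial
  rw [Submodule.mem_span_finset] at hu'
  obtain ⟨f, -, hf⟩ := hu'
  have h1 : u = (decompose ℳ u n : M) := (decompose_of_mem_same ℳ hu).symm
  rw [h1, ← hf, decompose_sum, DFinsupp.finsetSum_apply, AddSubmonoidClass.coe_finsetSum]
  refine Finset.sum_eq_zero fun g hg => ?_
  have h2 := decompose_smul_of_mem_right 𝒜 ℳ (hG g hg) (f g) (n - e g)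
  rw [sub_add_cancel] at h2
  rw [h2]
  have h3 : (decompose 𝒜 (f g) (n - e g) : R) = 0 :=
    eq_zero_of_mem_of_neg 𝒜 hpos (by have := hn₀ g hg; omega) (SetLike.coe_mem _)
  rw [h3, zero_smul]

include hpos h0 in
/-- **graded Nakayama**: `M` is generated over `k[X₁, …, X_m]` by finitely many homogeneous
elements when `(x) + ann M` is primary to the irrelevant ideal -/
theorem exists_finite_generators_of_irr_le_radical [Algebra.FiniteType k R] [Module.Finite R M]
    {m : ℕ} (x : Fin m → R) (hx : ∀ j, PosHom 𝒜 (x j))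
    (hrad : irr 𝒜 ≤ (Module.annihilator R M ⊔ Ideal.span (Set.range x)).radical) :
    ∃ B : Finset M, (∀ b ∈ B, ∃ n, b ∈ ℳ n) ∧
      ∀ u : M, ∃ c : M → MvPolynomial (Fin m) k, u = ∑ b ∈ B, aeval x (c b) • b := by
  classical
  obtain ⟨BR, hBRhom, hBR⟩ := exists_homogeneous_span_mod 𝒜 hpos h0 _ hrad
  obtain ⟨G, hGhom, hGspan⟩ := exists_homogeneous_generators_module (R := R) ℳ
  choose! e he using hGhom
  choose! eR heR using hBRhom
  -- the candidate generators
  set B : Finset M := (BR ×ˢ G).image (fun p => p.1 • p.2) with hB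
  have hBhom : ∀ b ∈ B, ∃ n, b ∈ ℳ n := by
    intro b hb
    rw [hB, Finset.mem_image] at hb
    obtain ⟨⟨a, g⟩, hag, rfl⟩ := hb
    rw [Finset.mem_product] at hag
    refine ⟨eR a + e g, ?_⟩
    have := SetLike.GradedSMul.smul_mem (A := 𝒜) (B := ℳ) (heR a hag.1) (he g hag.2)
    rwa [vadd_eq_add] at this
  refine ⟨B, hBhom, ?_⟩
  -- the set of elements generated
  let M' : AddSubgroup M :=
    { carrier := {u | ∃ c : M → MvPolynomial (Fin m) k, u = ∑ b ∈ B, aeval x (c b) • b}
      zero_mem' := ⟨0, by simp⟩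
      add_mem' := by
        rintro u v ⟨c, rfl⟩ ⟨c', rfl⟩
        refine ⟨c + c', ?_⟩
        simp [add_smul, Finset.sum_add_distrib]
      neg_mem' := by
        rintro u ⟨c, rfl⟩
        refine ⟨-c, ?_⟩
        simp [Finset.sum_neg_distrib] }
  have hM'smul : ∀ (p : MvPolynomial (Fin m) k) (u : M), u ∈ M' → aeval x p • u ∈ M' := by
    rintro p u ⟨c, rfl⟩
    refine ⟨fun b => p * c b, ?_⟩
    rw [Finset.smul_sum]
    refine Finset.sum_congr rfl fun b _ => ?_
    rw [map_mul, mul_smul]
  have hM'B : ∀ b ∈ B, b ∈ M' := by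
    intro b hb
    refine ⟨fun b' => if b' = b then 1 else 0, ?_⟩
    rw [Finset.sum_eq_single b]
    · simp
    · intro b' _ hb'; simp [hb']
    · intro h; exact absurd hb h
  have hM'k : ∀ (c : k) (u : M), u ∈ M' → algebraMap k R c • u ∈ M' := by
    intro c u hu
    have := hM'smul (C c) u hu
    rwa [aeval_C] at this
  -- components of `k`-combinations of `B`
  have hcomp : ∀ (a : R), a ∈ Submodule.span k (BR : Set R) → ∀ g ∈ G, ∀ n,
      (decompose ℳ (a • g) n : M) ∈ M' := by
    intro a ha g hg n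
    induction ha using Submodule.span_induction with
    | mem a ha =>
      have hmem : a • g ∈ ℳ (eR a + e g) := by
        have := SetLike.GradedSMul.smul_mem (A := 𝒜) (B := ℳ) (heR a ha) (he g hg)
        rwa [vadd_eq_add] at this
      by_cases hn : eR a + e g = n
      · subst hn
        rw [decompose_of_mem_same ℳ hmem]
        exact hM'B _ (Finset.mem_image.mpr ⟨(a, g), Finset.mem_product.mpr ⟨ha, hg⟩, rfl⟩)
      · rw [decompose_of_mem_ne ℳ hmem hn]
        exact M'.zero_mem
    | zero => simp [M'.zero_mem]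
    | add a b _ _ ha hb =>
      rw [add_smul, decompose_add, DirectSum.add_apply, AddSubgroup.coe_add]
      exact M'.add_mem ha hb
    | smul c a _ ha =>
      have h1 : (c • a) • g = algebraMap k R c • (a • g) := by
        rw [Algebra.smul_def, mul_smul]
      have h2 : algebraMap k R c ∈ 𝒜 0 := by
        rw [Algebra.algebraMap_eq_smul_one]
        exact Submodule.smul_mem _ _ SetLike.GradedOne.one_mem
      have h3 := decompose_smul_of_mem 𝒜 ℳ h2 (a • g) n
      rw [add_zero] at h3
      rw [h1, h3]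
      exact hM'k c _ ha
  -- lower bound for the degrees
  obtain ⟨n₀, hn₀⟩ : ∃ n₀ : ℤ, ∀ g ∈ G, n₀ ≤ e g := by
    by_cases hGe : G.Nonempty
    · exact ⟨(G.image e).min' (hGe.image e), fun g hg =>
        Finset.min'_le _ _ (Finset.mem_image_of_mem e hg)⟩
    · rw [Finset.not_nonempty_iff_eq_empty] at hGe
      exact ⟨0, fun g hg => by simp [hGe] at hg⟩
  -- induction on the degree
  have key : ∀ N : ℕ, ∀ n : ℤ, n < n₀ + N → ∀ u ∈ ℳ n, u ∈ M' := by
    intro N
    induction N with
    | zero =>
      intro n hn u hu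
      rw [eq_zero_of_lt 𝒜 ℳ hpos G e he hGspan n₀ hn₀ (by simpa using hn) hu]
      exact M'.zero_mem
    | succ N ih =>
      intro n hn u hu
      -- write `u` in terms of generators
      have hu' : u ∈ Submodule.span R (G : Set M) := by rw [hGspan]; trivial
      rw [Submodule.mem_span_finset] at hu'
      obtain ⟨f, -, hf⟩ := hu'
      have h1 : u = (decompose ℳ u n : M) := (decompose_of_mem_same ℳ hu).symm
      rw [h1, ← hf, decompose_sum, DFinsupp.finsetSum_apply, AddSubmonoidClass.coe_finsetSum]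
      refine M'.sum_mem fun g hg => ?_
      obtain ⟨b', hb', hab⟩ := hBR (f g)
      obtain ⟨a₁, ha₁, a₂, ha₂, hsum⟩ := Submodule.mem_sup.mp hab
      rw [Ideal.mem_span_range_iff_exists_fun] at ha₂
      obtain ⟨c, hc⟩ := ha₂
      have hfg : f g • g = b' • g + ∑ j, x j • (c j • g) := by
        have h2 : f g = b' + (a₁ + a₂) := by rw [hsum]; ring
        rw [h2, add_smul, add_smul, Module.mem_annihilator.mp ha₁ g, zero_add, ← hc,
          Finset.sum_smul]
        congr 1
        refine Finset.sum_congr rfl fun j _ => ?_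
        rw [mul_comm, mul_smul]
      rw [hfg, decompose_add, DirectSum.add_apply, AddSubgroup.coe_add, decompose_sum,
        DFinsupp.finsetSum_apply, AddSubmonoidClass.coe_finsetSum]
      refine M'.add_mem (hcomp b' hb' g hg n) (M'.sum_mem fun j _ => ?_)
      obtain ⟨d, hd, hxd⟩ := hx j
      have h3 := decompose_smul_of_mem 𝒜 ℳ hxd (c j • g) (n - d)
      rw [sub_add_cancel] at h3
      rw [h3]
      have h4 := hM'smul (X j) _ (ih (n - d) (by push_cast at hn; omega)
        (decompose ℳ (c j • g) (n - d) : M) (SetLike.coe_mem _))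
      rwa [aeval_X] at h4
  intro u
  have : u ∈ M' := by
    rw [← DirectSum.sum_support_decompose ℳ u]
    refine M'.sum_mem fun n _ => ?_
    exact key (n - n₀ + 1).toNat n (by omega) _ (SetLike.coe_mem _)
  exact this

end

section Faithful

/-- a module finitely generated over `k[x₁, …, x_d]` with `d = dim M` is faithful over it -/
theorem eq_zero_of_aeval_mem_annihilator [Module.Finite R M] {d : ℕ} (x : Fin d → R)
    (B : Finset M)
    (hB : ∀ u : M, ∃ c : M → MvPolynomial (Fin d) k, u = ∑ b ∈ B, aeval x (c b) • b)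
    (hdim : Module.supportDim R M = d) (p : MvPolynomial (Fin d) k)
    (hp : aeval x p ∈ Module.annihilator R M) : p = 0 := by
  classical
  set φ : MvPolynomial (Fin d) k →ₐ[k] R := aeval x with hφ
  letI : Module (MvPolynomial (Fin d) k) M := Module.compHom M φ.toRingHom
  have hsmul : ∀ (q : MvPolynomial (Fin d) k) (u : M), q • u = φ q • u := fun _ _ => rfl
  haveI : Module.Finite (MvPolynomial (Fin d) k) M := by
    refine ⟨⟨B, ?_⟩⟩
    rw [eq_top_iff]
    rintro u -
    obtain ⟨c, rfl⟩ := hB u
    refine Submodule.sum_mem _ fun b hb => ?_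
    rw [← hsmul]
    exact Submodule.smul_mem _ _ (Submodule.subset_span hb)
  set I := Module.annihilator R M with hI
  let x' : Fin d → R ⧸ I := fun i => Ideal.Quotient.mk I (x i)
  have hcomp : (aeval x' : MvPolynomial (Fin d) k →ₐ[k] R ⧸ I) = (Ideal.Quotient.mkₐ k I).comp φ := by
    apply MvPolynomial.algHom_ext
    intro i
    simp [x', hφ]
  have hint : (aeval x' : MvPolynomial (Fin d) k →ₐ[k] R ⧸ I).toRingHom.IsIntegral := by
    intro rbar
    obtain ⟨r, rfl⟩ := Ideal.Quotient.mk_surjective rbar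
    let f : Module.End (MvPolynomial (Fin d) k) M :=
      { toFun := fun u => r • u
        map_add' := fun u v => smul_add r u v
        map_smul' := fun q u => by
          simp only [RingHom.id_apply]
          rw [hsmul, hsmul, smul_comm] }
    obtain ⟨P, hPmonic, hP⟩ := LinearMap.exists_monic_and_aeval_eq_zero (MvPolynomial (Fin d) k) f
    refine ⟨P, hPmonic, ?_⟩
    have hfpow : ∀ (i : ℕ) (u : M), (f ^ i) u = r ^ i • u := by
      intro i
      induction i with
      | zero => intro u; simp
      | succ i ih =>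
        intro u
        rw [pow_succ, Module.End.mul_apply, ih, pow_succ, mul_smul]
        rfl
    have hmem : Polynomial.eval₂ φ.toRingHom r P ∈ I := by
      rw [hI, Module.mem_annihilator]
      intro u
      have h1 : (Polynomial.aeval f P) u = 0 := by rw [hP]; rfl
      rw [Polynomial.aeval_eq_sum_range, LinearMap.sum_apply] at h1
      rw [Polynomial.eval₂_eq_sum_range, Finset.sum_smul, ← h1]
      refine Finset.sum_congr rfl fun i _ => ?_
      rw [LinearMap.smul_apply, hfpow, hsmul, mul_smul]
      rfl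
    have h2 := Polynomial.hom_eval₂ P φ.toRingHom (Ideal.Quotient.mk I) r
    have h3 : (aeval x' : MvPolynomial (Fin d) k →ₐ[k] R ⧸ I).toRingHom =
        (Ideal.Quotient.mk I).comp φ.toRingHom := by
      rw [hcomp]; rfl
    rw [h3, ← h2]
    exact Ideal.Quotient.eq_zero_iff_mem.mpr hmem
  have hdim' : ringKrullDim (R ⧸ I) = d := by
    rw [← hdim, Module.supportDim_eq_ringKrullDim_quotient_annihilator]
  have hind := algebraicIndependent_of_isIntegral x' hint hdim'
  rw [algebraicIndependent_iff_injective_aeval] at hind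
  apply hind
  rw [map_zero, hcomp, AlgHom.comp_apply]
  exact Ideal.Quotient.eq_zero_iff_mem.mpr hp

end Faithful

section Main

variable (hpos : ∀ n : ℤ, n < 0 → 𝒜 n = ⊥) (h0 : 𝒜 0 = Submodule.span k {(1 : R)})

include hpos h0 in
/-- **Graded Noether normalization for modules.** -/
theorem exists_graded_noether_module [Algebra.FiniteType k R] [Module.Finite R M] (d : ℕ)
    (hd : Module.supportDim R M = d) :
    ∃ D : ℕ, 0 < D ∧ ∀ c : ℕ, 0 < c → ∃ (x : Fin d → R) (B : Finset M),
      (∀ i, x i ∈ 𝒜 ((c * D : ℕ) : ℤ)) ∧ (∀ b ∈ B, ∃ n, b ∈ ℳ n) ∧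
      (∀ u : M, ∃ c : M → MvPolynomial (Fin d) k, u = ∑ b ∈ B, aeval x (c b) • b) ∧
      (∀ p : MvPolynomial (Fin d) k, aeval x p ∈ Module.annihilator R M → p = 0) := by
  classical
  haveI : Nontrivial M := by
    by_contra hnt
    rw [not_nontrivial_iff_subsingleton] at hnt
    rw [Module.supportDim_eq_bot_of_subsingleton] at hd
    exact WithBot.bot_ne_coe hd
  haveI : Nontrivial R := Module.nontrivial R M
  haveI : IsNoetherianRing R := Algebra.FiniteType.isNoetherianRing k R
  have hcb : ChainBound (Module.annihilator R M) d := chainBound_annihilator d hd.le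
  obtain ⟨x', hx', hrad'⟩ := exists_hsop 𝒜 hpos h0 d _ (annihilator_isHomogeneous 𝒜 ℳ) hcb
  choose dg hdg hxd using hx'
  set D : ℕ := ∏ i, (dg i).toNat with hD
  have hDpos : 0 < D := Finset.prod_pos fun i _ => by have := hdg i; omega
  refine ⟨D, hDpos, fun c hc => ?_⟩
  have hdvd : ∀ i, (dg i).toNat ∣ D := fun i => Finset.dvd_prod_of_mem _ (Finset.mem_univ i)
  set e : Fin d → ℕ := fun i => c * (D / (dg i).toNat) with he
  have hepos : ∀ i, 0 < e i := by
    intro i
    have h1 : 0 < (dg i).toNat := by have := hdg i; omega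
    exact Nat.mul_pos hc (Nat.div_pos (Nat.le_of_dvd hDpos (hdvd i)) h1)
  set x : Fin d → R := fun i => x' i ^ e i with hx
  have hxdeg : ∀ i, x i ∈ 𝒜 ((c * D : ℕ) : ℤ) := by
    intro i
    have h1 := SetLike.pow_mem_graded (e i) (hxd i)
    have h2 : e i • dg i = ((c * D : ℕ) : ℤ) := by
      rw [nsmul_eq_mul, he]
      have h3 : ((dg i).toNat : ℤ) = dg i := Int.toNat_of_nonneg (hdg i).le
      have h4 : D / (dg i).toNat * (dg i).toNat = D := Nat.div_mul_cancel (hdvd i)
      rw [← h3]
      push_cast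
      rw [mul_assoc]
      congr 1
      exact_mod_cast h4
    rw [h2] at h1
    exact h1
  have hxpos : ∀ i, PosHom 𝒜 (x i) := fun i =>
    ⟨((c * D : ℕ) : ℤ), by exact_mod_cast Nat.mul_pos hc hDpos, hxdeg i⟩
  have hrad : irr 𝒜 ≤ (Module.annihilator R M ⊔ Ideal.span (Set.range x)).radical := by
    refine hrad'.trans ?_
    rw [← Ideal.radical_idem (Module.annihilator R M ⊔ Ideal.span (Set.range x))]
    apply Ideal.radical_mono
    rw [sup_le_iff]
    refine ⟨le_sup_left.trans Ideal.le_radical, ?_⟩
    rw [Ideal.span_le]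
    rintro _ ⟨i, rfl⟩
    refine ⟨e i, ?_⟩
    exact Ideal.mem_sup_right (Ideal.subset_span ⟨i, rfl⟩)
  obtain ⟨B, hBhom, hB⟩ := exists_finite_generators_of_irr_le_radical 𝒜 ℳ hpos h0 x hxpos hrad
  exact ⟨x, B, hxdeg, hBhom, hB, eq_zero_of_aeval_mem_annihilator x B hB hd⟩

end Main

end Groth.Agent.H85.GradedNN
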