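import Groth.Agent.H85.GradedFinite
import Groth.Agent.H54.Dim

/-!
# Graded Noether normalization

For a finitely generated nonnegatively `ℤ`-graded algebra `R` over a field `k` with `R₀ = k` and
`dim R = r`, there are algebraically independent homogeneous elements `x₁, …, x_r` of a common
positive degree such that `R` is integral over `k[x₁, …, x_r]`.
-/

set_option autoImplicit false

namespace Groth.Agent.H85.GradedNN

open DirectSum MvPolynomial

variable {k : Type*} [Field k] {R : Type*} [CommRing R] [Algebra k R]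

/-- if `R` is integral over `k[x₁, …, x_r]` and `dim R = r` then the `xᵢ` are algebraically
independent -/
theorem algebraicIndependent_of_isIntegral {r : ℕ} (x : Fin r → R)
    (hint : (aeval x : MvPolynomial (Fin r) k →ₐ[k] R).toRingHom.IsIntegral)
    (hdim : ringKrullDim R = r) : AlgebraicIndependent k x := by
  rw [algebraicIndependent_iff_injective_aeval]
  by_contra hinj
  rw [injective_iff_map_eq_zero] at hinj
  push Not at hinj
  obtain ⟨f, hf, hf0⟩ := hinj
  set φ : MvPolynomial (Fin r) k →ₐ[k] R := aeval x with hφ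
  have hker : ∀ a ∈ Ideal.span {f}, φ.toRingHom a = 0 := by
    intro a ha
    rw [Ideal.mem_span_singleton] at ha
    obtain ⟨b, rfl⟩ := ha
    show φ (f * b) = 0
    rw [map_mul, hf, zero_mul]
  let g : MvPolynomial (Fin r) k ⧸ Ideal.span {f} →+* R :=
    Ideal.Quotient.lift (Ideal.span {f}) φ.toRingHom hker
  have hcomp : g.comp (Ideal.Quotient.mk (Ideal.span {f})) = φ.toRingHom := by
    ext a <;> simp [g]
  have hg : g.IsIntegral := by
    apply RingHom.IsIntegral.tower_top (Ideal.Quotient.mk (Ideal.span {f})) g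
    rw [hcomp]; exact hint
  have h1 : ringKrullDim R ≤ ringKrullDim (MvPolynomial (Fin r) k ⧸ Ideal.span {f}) := by
    letI : Algebra (MvPolynomial (Fin r) k ⧸ Ideal.span {f}) R := g.toAlgebra
    haveI : Algebra.IsIntegral (MvPolynomial (Fin r) k ⧸ Ideal.span {f}) R := ⟨hg⟩
    exact Groth.Agent.H54.ringKrullDim_le_of_isIntegral
  have h2 : ringKrullDim (MvPolynomial (Fin r) k ⧸ Ideal.span {f}) + 1 ≤
      ringKrullDim (MvPolynomial (Fin r) k) :=
    ringKrullDim_quotient_succ_le_of_nonZeroDivisor (mem_nonZeroDivisors_of_ne_zero hf0)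
  rw [Groth.Agent.H54.ringKrullDim_mvPolynomial_fin_field] at h2
  rw [hdim] at h1
  have h3 : ((r : ℕ) : WithBot ℕ∞) + 1 ≤ (r : WithBot ℕ∞) := (add_le_add_left h1 1).trans h2
  have h4 : ((r + 1 : ℕ) : WithBot ℕ∞) ≤ ((r : ℕ) : WithBot ℕ∞) := by
    push_cast
    exact h3
  have h5 : r + 1 ≤ r := by exact_mod_cast h4
  omega

/-- the endomorphism `Xᵢ ↦ Xᵢ ^ eᵢ` of the polynomial ring is integral -/
theorem isIntegral_aeval_X_pow {m : ℕ} (e : Fin m → ℕ) (he : ∀ i, 0 < e i) :
    (aeval (fun i => (X i : MvPolynomial (Fin m) k) ^ e i) :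
      MvPolynomial (Fin m) k →ₐ[k] MvPolynomial (Fin m) k).toRingHom.IsIntegral := by
  set ε : MvPolynomial (Fin m) k →ₐ[k] MvPolynomial (Fin m) k :=
    aeval (fun i => (X i : MvPolynomial (Fin m) k) ^ e i) with hε
  intro p
  induction p using MvPolynomial.induction_on with
  | C a =>
    have : (C a : MvPolynomial (Fin m) k) = ε.toRingHom (C a) := by
      show _ = ε (C a)
      rw [hε, aeval_C]; rfl
    rw [this]
    exact RingHom.isIntegralElem_map _
  | add p q hp hq => exact RingHom.IsIntegralElem.add _ hp hq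
  | mul_X p i hp =>
    refine RingHom.IsIntegralElem.mul _ hp ?_
    refine ⟨Polynomial.X ^ e i - Polynomial.C (X i), Polynomial.monic_X_pow_sub_C _ (he i).ne', ?_⟩
    rw [Polynomial.eval₂_sub, Polynomial.eval₂_pow, Polynomial.eval₂_X, Polynomial.eval₂_C]
    show X i ^ e i - ε (X i) = 0
    rw [hε, aeval_X, sub_self]

/-- replacing the `xᵢ` by positive powers preserves integrality -/
theorem isIntegral_aeval_pow {m : ℕ} (x : Fin m → R) (e : Fin m → ℕ) (he : ∀ i, 0 < e i)
    (hint : (aeval x : MvPolynomial (Fin m) k →ₐ[k] R).toRingHom.IsIntegral) :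
    (aeval (fun i => x i ^ e i) : MvPolynomial (Fin m) k →ₐ[k] R).toRingHom.IsIntegral := by
  have hcomp : (aeval (fun i => x i ^ e i) : MvPolynomial (Fin m) k →ₐ[k] R) =
      (aeval x : MvPolynomial (Fin m) k →ₐ[k] R).comp
        (aeval (fun i => (X i : MvPolynomial (Fin m) k) ^ e i)) := by
    apply MvPolynomial.algHom_ext
    intro i
    simp
  rw [hcomp]
  exact RingHom.IsIntegral.trans _ _ (isIntegral_aeval_X_pow e he) hint

variable (𝒜 : ℤ → Submodule k R) [GradedAlgebra 𝒜]
  (hpos : ∀ n : ℤ, n < 0 → 𝒜 n = ⊥) (h0 : 𝒜 0 = Submodule.span k {(1 : R)})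

include hpos h0 in
/-- **Graded Noether normalization**, with all parameters of the same degree `c * D` for any
`c > 0`. -/
theorem exists_graded_noether [Algebra.FiniteType k R] (r : ℕ) (hdim : ringKrullDim R = r) :
    ∃ D : ℕ, 0 < D ∧ ∀ c : ℕ, 0 < c → ∃ x : Fin r → R, (∀ i, x i ∈ 𝒜 ((c * D : ℕ) : ℤ)) ∧
      (aeval x : MvPolynomial (Fin r) k →ₐ[k] R).toRingHom.IsIntegral ∧
      AlgebraicIndependent k x := by
  classical
  haveI : Nontrivial R := by
    by_contra hnt
    rw [not_nontrivial_iff_subsingleton] at hnt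
    rw [ringKrullDim_eq_bot_of_subsingleton] at hdim
    exact WithBot.bot_ne_coe hdim
  haveI : IsNoetherianRing R := Algebra.FiniteType.isNoetherianRing k R
  have hcb : ChainBound (R := R) ⊥ r := chainBound_bot r hdim.le
  obtain ⟨x', hx', hrad⟩ := exists_hsop 𝒜 hpos h0 r ⊥ (Ideal.IsHomogeneous.bot 𝒜) hcb
  rw [bot_sup_eq] at hrad
  have hint' := (finite_of_irr_le_radical 𝒜 hpos h0 x' hx' hrad).to_isIntegral
  choose d hd hxd using hx'
  set D : ℕ := ∏ i, (d i).toNat with hD
  have hDpos : 0 < D := Finset.prod_pos fun i _ => by have := hd i; omega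
  refine ⟨D, hDpos, fun c hc => ?_⟩
  have hdvd : ∀ i, (d i).toNat ∣ D := fun i => Finset.dvd_prod_of_mem _ (Finset.mem_univ i)
  set e : Fin r → ℕ := fun i => c * (D / (d i).toNat) with he
  have hepos : ∀ i, 0 < e i := by
    intro i
    have h1 : 0 < (d i).toNat := by have := hd i; omega
    exact Nat.mul_pos hc (Nat.div_pos (Nat.le_of_dvd hDpos (hdvd i)) h1)
  have hint := isIntegral_aeval_pow x' e hepos hint'
  refine ⟨fun i => x' i ^ e i, fun i => ?_, hint, algebraicIndependent_of_isIntegral _ hint hdim⟩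
  have h1 := SetLike.pow_mem_graded (e i) (hxd i)
  have h2 : e i • d i = ((c * D : ℕ) : ℤ) := by
    rw [nsmul_eq_mul, he]
    have h3 : ((d i).toNat : ℤ) = d i := Int.toNat_of_nonneg (hd i).le
    have h4 : D / (d i).toNat * (d i).toNat = D := Nat.div_mul_cancel (hdvd i)
    rw [← h3]
    push_cast
    rw [mul_assoc]
    congr 1
    exact_mod_cast h4
  rw [h2] at h1
  exact h1

end Groth.Agent.H85.GradedNN
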