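import Mathlib

/-!
# `H^3(Q, ℤ) = 0 ⇒ H^2(Q, M) = 0` for suitable divisible `M` with trivial action

Pure-algebra core (explicit cocycles) used for S19224.
-/

namespace Groth.Agent.H85.H2Units

open Finset

variable {Q : Type*} [Group Q] [Fintype Q] {M : Type*} [AddCommGroup M]

/-- Norm trick: for a 2-cocycle `f` with trivial action, `|Q| • f (g,h) = c h - c (g h) + c g`
with `c g = ∑ x, f (g, x)`. -/
theorem card_nsmul_cocycle (f : Q × Q → M)
    (hf : ∀ g h j : Q, f (g * h, j) + f (g, h) = f (h, j) + f (g, h * j)) (g h : Q) :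
    Fintype.card Q • f (g, h) = (∑ x, f (h, x)) - (∑ x, f (g * h, x)) + ∑ x, f (g, x) := by
  have h1 : ∑ j, (f (g * h, j) + f (g, h)) = ∑ j, (f (h, j) + f (g, h * j)) :=
    Finset.sum_congr rfl (fun j _ => hf g h j)
  rw [Finset.sum_add_distrib, Finset.sum_add_distrib, Finset.sum_const, Finset.card_univ] at h1
  have h2 : ∑ j, f (g, h * j) = ∑ j, f (g, j) :=
    Fintype.sum_equiv (Equiv.mulLeft h) _ _ (fun j => rfl)
  rw [h2] at h1
  calc Fintype.card Q • f (g, h)
      = (∑ x, f (g * h, x) + Fintype.card Q • f (g, h)) - ∑ x, f (g * h, x) := by abel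
    _ = (∑ x, f (h, x) + ∑ x, f (g, x)) - ∑ x, f (g * h, x) := by rw [h1]
    _ = _ := by abel

theorem core (n : ℕ) (hn : Fintype.card Q = n)
    (hdiv : ∀ a : M, ∃ b : M, n • b = a)
    (ζ' : M) (hζ : n • (n • ζ') = 0)
    (hord : ∀ a : ℤ, a • (n • ζ') = 0 → (n : ℤ) ∣ a)
    (hgen : ∀ t : M, n • t = 0 → ∃ a : ℤ, t = a • (n • ζ'))
    (H3 : ∀ (F : Q × Q → ℤ) (G : Q × Q × Q → ℤ),
      (∀ g h j, F (h, j) - F (g * h, j) + F (g, h * j) - F (g, h) = n * G (g, h, j)) →
      ∃ E : Q × Q → ℤ, ∀ g h j, E (h, j) - E (g * h, j) + E (g, h * j) - E (g, h) = G (g, h, j))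
    (f : Q × Q → M)
    (hf : ∀ g h j : Q, f (g * h, j) + f (g, h) = f (h, j) + f (g, h * j)) :
    ∃ x : Q → M, ∀ g h, f (g, h) = x h - x (g * h) + x g := by
  have hnpos : 0 < n := by rw [← hn]; exact Fintype.card_pos
  have hnZ : (n : ℤ) ≠ 0 := by exact_mod_cast hnpos.ne'
  set ζ : M := n • ζ' with hζdef
  -- Step 2
  choose d hd using fun g => hdiv (∑ x, f (g, x))
  set f' : Q × Q → M := fun gh => f gh - (d gh.2 - d (gh.1 * gh.2) + d gh.1) with hf'def
  have hf'0 : ∀ gh : Q × Q, n • f' gh = 0 := by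
    rintro ⟨g, h⟩
    have := card_nsmul_cocycle f hf g h
    rw [hn] at this
    simp only [hf'def, smul_sub, smul_add, hd, this]
    abel
  have hf'c : ∀ g h j : Q, f' (g * h, j) + f' (g, h) = f' (h, j) + f' (g, h * j) := by
    intro g h j
    have := hf g h j
    simp only [hf'def, mul_assoc]
    calc f (g * h, j) - (d j - d (g * (h * j)) + d (g * h)) + (f (g, h) - (d h - d (g * h) + d g))
        = (f (g * h, j) + f (g, h)) - (d j - d (g * (h * j)) + d h + d g) := by abel
      _ = (f (h, j) + f (g, h * j)) - (d j - d (g * (h * j)) + d h + d g) := by rw [this]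
      _ = _ := by abel
  -- Step 3
  choose F hF using fun gh : Q × Q => hgen (f' gh) (hf'0 gh)
  have hFdvd : ∀ g h j : Q, (n : ℤ) ∣ F (h, j) - F (g * h, j) + F (g, h * j) - F (g, h) := by
    intro g h j
    apply hord
    have := hf'c g h j
    rw [hF, hF, hF, hF] at this
    rw [sub_smul, add_smul, sub_smul]
    calc F (h, j) • ζ - F (g * h, j) • ζ + F (g, h * j) • ζ - F (g, h) • ζ
        = (F (h, j) • ζ + F (g, h * j) • ζ) - (F (g * h, j) • ζ + F (g, h) • ζ) := by abel
      _ = 0 := by rw [this]; abel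
  set G : Q × Q × Q → ℤ := fun t =>
    (F (t.2.1, t.2.2) - F (t.1 * t.2.1, t.2.2) + F (t.1, t.2.1 * t.2.2) - F (t.1, t.2.1)) / n with hGdef
  have hFG : ∀ g h j, F (h, j) - F (g * h, j) + F (g, h * j) - F (g, h) = n * G (g, h, j) := by
    intro g h j
    simp only [hGdef]
    rw [Int.mul_ediv_cancel' (hFdvd g h j)]
  -- Step 4
  obtain ⟨E, hE⟩ := H3 F G hFG
  set F' : Q × Q → ℤ := fun gh => F gh - n * E gh with hF'def
  have hF'c : ∀ g h j : Q, F' (g * h, j) + F' (g, h) = F' (h, j) + F' (g, h * j) := by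
    intro g h j
    have h1 := hFG g h j
    have h2 := hE g h j
    simp only [hF'def]
    linear_combination (-1 : ℤ) * h1 + (n : ℤ) * h2
  have hF'ζ : ∀ gh : Q × Q, F' gh • ζ = f' gh := by
    intro gh
    simp only [hF'def]
    rw [sub_smul, mul_comm, mul_smul, natCast_zsmul, hζ, smul_zero, sub_zero, ← hF]
  -- Step 5
  have h5 := card_nsmul_cocycle F' hF'c
  rw [hn] at h5
  set e : Q → M := fun g => (∑ x, F' (g, x)) • ζ' with hedef
  have he : ∀ g h, f' (g, h) = e h - e (g * h) + e g := by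
    intro g h
    simp only [hedef]
    rw [← sub_smul, ← add_smul, ← h5 g h, ← hF'ζ, nsmul_eq_mul, mul_comm, mul_smul, natCast_zsmul]
  refine ⟨fun g => d g + e g, fun g h => ?_⟩
  have h6 := he g h
  simp only [hf'def] at h6
  show f (g, h) = (d h + e h) - (d (g * h) + e (g * h)) + (d g + e g)
  calc f (g, h) = (f (g, h) - (d h - d (g * h) + d g)) + (d h - d (g * h) + d g) := by abel
    _ = (e h - e (g * h) + e g) + (d h - d (g * h) + d g) := by rw [h6]
    _ = _ := by abel

open CategoryTheory groupCohomology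

theorem exists_of_subsingleton_H3 {Q : Type} [Group Q] (A : Rep ℤ Q)
    (hA : Subsingleton (groupCohomology A 3))
    (htf : ∀ (m : ℕ) (a : A), m ≠ 0 → m • a = 0 → a = 0)
    (n : ℕ) (hn : n ≠ 0) (F : Q × Q → A) (G : Q × Q × Q → A)
    (h : (d₂₃ A).hom F = n • G) : ∃ E : Q × Q → A, (d₂₃ A).hom E = G := by
  have hex : ((inhomogeneousCochains A).sc' 2 3 4).Exact := by
    have h1 : (inhomogeneousCochains A).ExactAt 3 := by
      rw [HomologicalComplex.exactAt_iff_isZero_homology]
      have : Subsingleton ((inhomogeneousCochains A).homology 3) := hA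
      exact ModuleCat.isZero_of_subsingleton _
    exact ((inhomogeneousCochains A).exactAt_iff' 2 3 4 (by simp) (by simp)).1 h1
  rw [ShortComplex.moduleCat_exact_iff] at hex
  have hex' : ∀ x : (inhomogeneousCochains A).X 3, ((inhomogeneousCochains A).d 3 4).hom x = 0 →
      ∃ y : (inhomogeneousCochains A).X 2, ((inhomogeneousCochains A).d 2 3).hom y = x := hex
  have hx : ((inhomogeneousCochains A).d 3 4).hom ((cochainsIso₃ A).inv.hom G) = 0 := by
    have h2 : n • (((inhomogeneousCochains A).d 3 4).hom ((cochainsIso₃ A).inv.hom G)) = 0 := by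
      rw [← map_nsmul, ← map_nsmul, ← h]
      have h4 := congrArg (fun φ => φ.hom F) (eq_d₂₃_comp_inv A)
      simp only [ModuleCat.hom_comp, LinearMap.comp_apply] at h4
      rw [← h4]
      have h5 := congrArg (fun φ => φ.hom ((cochainsIso₂ A).inv.hom F))
        ((inhomogeneousCochains A).d_comp_d 2 3 4)
      simpa only [ModuleCat.hom_comp, LinearMap.comp_apply, ModuleCat.hom_zero,
        LinearMap.zero_apply] using h5
    funext g
    exact htf n _ hn (congrFun h2 g)
  obtain ⟨y, hy⟩ := hex' _ hx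
  refine ⟨(cochainsIso₂ A).hom.hom y, ?_⟩
  have h3 := congrArg (fun φ => φ.hom y) (comp_d₂₃_eq A)
  simp only [ModuleCat.hom_comp, LinearMap.comp_apply] at h3
  rw [h3, hy]
  have h6 := congrArg (fun φ => φ.hom G) (cochainsIso₃ A).inv_hom_id
  simpa only [ModuleCat.hom_comp, LinearMap.comp_apply, ModuleCat.hom_id,
    LinearMap.id_apply] using h6


theorem main (Q : Type) [Group Q] [Finite Q]
    (hQ : Subsingleton (groupCohomology (Rep.trivial ℤ Q ℤ) 3)) (k : Type) [Field k]
    [IsSepClosed k] (p : ℕ) [CharP k p] (hp : ¬ p ∣ Nat.card Q) :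
    Subsingleton (groupCohomology (Rep.trivial ℤ Q (Additive kˣ)) 2) := by
  classical
  have := Fintype.ofFinite Q
  set n := Nat.card Q with hn
  have hcard : Fintype.card Q = n := (Nat.card_eq_fintype_card).symm
  have hnpos : 0 < n := Nat.card_pos
  have : NeZero (n : k) := ⟨fun h0 => hp ((CharP.cast_eq_zero_iff k p n).1 h0)⟩
  obtain ⟨ζ0, hζ0⟩ := HasEnoughRootsOfUnity.exists_primitiveRoot k (n ^ 2)
  have hζ0u : IsUnit ζ0 := hζ0.isUnit (by positivity)
  obtain ⟨ζu, rfl⟩ := hζ0u
  have hζu : IsPrimitiveRoot ζu (n ^ 2) := IsPrimitiveRoot.coe_units_iff.1 hζ0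
  have hζn : IsPrimitiveRoot (ζu ^ n) n := hζu.pow (by positivity) (sq n)
  have H3 : ∀ (F : Q × Q → ℤ) (G : Q × Q × Q → ℤ),
      (∀ g h j, F (h, j) - F (g * h, j) + F (g, h * j) - F (g, h) = n * G (g, h, j)) →
      ∃ E : Q × Q → ℤ, ∀ g h j, E (h, j) - E (g * h, j) + E (g, h * j) - E (g, h) = G (g, h, j) := by
    intro F G hFG
    obtain ⟨E, hE⟩ := exists_of_subsingleton_H3 (Rep.trivial ℤ Q ℤ) hQ
      (fun m a hm h => by
        have h' : (m : ℤ) * a = 0 := by simpa using h
        rcases mul_eq_zero.1 h' with h1 | h1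
        · exact absurd (by exact_mod_cast h1) hm
        · exact h1) n hnpos.ne' F G (by
        funext ⟨g, h, j⟩
        have := hFG g h j
        simpa [d₂₃_hom_apply] using this)
    refine ⟨E, fun g h j => ?_⟩
    have := congrFun hE (g, h, j)
    simpa [d₂₃_hom_apply] using this
  refine subsingleton_of_forall_eq 0 (fun x => ?_)
  induction x using H2_induction_on with
  | h f =>
    rw [H2π_eq_zero_iff]
    have hf := (mem_cocycles₂_iff (A := Rep.trivial ℤ Q (Additive kˣ)) f).1 f.2
    obtain ⟨x, hx⟩ := core (M := Additive kˣ) n hcard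
      (fun a => by
        obtain ⟨z, hz⟩ := IsSepClosed.exists_pow_nat_eq ((Additive.toMul a : kˣ) : k) n
        have hz0 : z ≠ 0 := by
          rintro rfl
          rw [zero_pow hnpos.ne'] at hz
          exact (Additive.toMul a).ne_zero hz.symm
        refine ⟨Additive.ofMul (Units.mk0 z hz0), ?_⟩
        rw [← ofMul_pow]
        apply Additive.toMul.injective
        apply Units.ext
        simpa using hz)
      (Additive.ofMul ζu)
      (by
        rw [← ofMul_pow, ← ofMul_pow]
        rw [hζn.pow_eq_one]; rfl)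
      (fun a ha => by
        rw [← ofMul_pow, ← ofMul_zpow] at ha
        exact (hζn.zpow_eq_one_iff_dvd a).1 (Additive.ofMul.injective ha))
      (fun t ht => by
        rw [← ofMul_toMul t, ← ofMul_pow] at ht
        have ht' : (Additive.toMul t) ^ n = 1 := Additive.ofMul.injective ht
        have h1 : ((Additive.toMul t : kˣ) : k) ^ n = 1 := by
          rw [← Units.val_pow_eq_pow_val, ht']; rfl
        have hζn' : IsPrimitiveRoot ((ζu ^ n : kˣ) : k) n := IsPrimitiveRoot.coe_units_iff.2 hζn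
        obtain ⟨i, -, hi⟩ := hζn'.eq_pow_of_pow_eq_one h1
        refine ⟨(i : ℤ), ?_⟩
        rw [← ofMul_pow, ← ofMul_zpow, zpow_natCast]
        apply Additive.toMul.injective
        apply Units.ext
        rw [← hi]
        simp)
      H3 (fun gh => f gh) (fun g h j => hf g h j)
    refine ⟨x, ?_⟩
    funext ⟨g, h⟩
    have := hx g h
    simp only [d₁₂, ModuleCat.hom_ofHom, LinearMap.coe_mk, AddHom.coe_mk]
    exact this.symm

end Groth.Agent.H85.H2Units
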