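import Groth.Agent.H85.Det3

set_option autoImplicit false
set_option linter.unusedSectionVars false

noncomputable section

open scoped Isocrystal Pointwise
open Filter Topology Module

universe u v v'

namespace Groth.Agent.H85

variable {p : ℕ} [Fact p.Prime] {k : Type u} [Field k] [CharP k p] [PerfectRing k p]

local notation "W" => WittVector p k
local notation "L" => FractionRing (WittVector p k)

variable {N : Type v} [AddCommGroup N] [Module (WittVector p k) N] [Module (FractionRing (WittVector p k)) N]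
  [IsScalarTower (WittVector p k) (FractionRing (WittVector p k)) N]

variable {h : ℕ}

/-- an isoclinic lattice equation computes the first slope -/
theorem hasSlope_of_img_eq [Nontrivial N] {G : N → N} (hG : IsSemi (p := p) (k := k) G)
    (hsurj : Function.Surjective G) {M : Submodule W N} (hM : M.IsLattice L) {r : ℤ} {s : ℕ}
    (hs : 0 < s) (heq : img (G^[s]) M = Isoc.pPow r M) :
    HasSlope (p := p) (k := k) G ((r : ℝ) / s) := by
  obtain ⟨o, ho, lam, hlam⟩ := exists_ord_tendsto hG hsurj hM
  have hos : ∀ j : ℕ, o (s * j) = j * r := by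
    intro j
    have h1 : OrdG M (G^[s * j]) (j * r) := ordG_of_eq hM (iso_common hG heq j)
    exact (ho (s * j)).unique h1
  have hmul : Tendsto (fun j : ℕ => s * j) atTop atTop :=
    (strictMono_mul_left_of_pos hs).tendsto_atTop
  have h1 : Tendsto (fun j : ℕ => (o (s * j) : ℝ) / ((s * j : ℕ) : ℝ)) atTop (𝓝 lam) :=
    hlam.comp hmul
  have h2 : Tendsto (fun _ : ℕ => (r : ℝ) / s) atTop (𝓝 lam) := by
    refine h1.congr' ?_
    filter_upwards [eventually_ge_atTop 1] with j hj
    have hj' : (j : ℝ) ≠ 0 := by exact_mod_cast (by omega : j ≠ 0)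
    have hs' : (s : ℝ) ≠ 0 := by exact_mod_cast (by omega : s ≠ 0)
    rw [hos]
    push_cast
    field_simp
  have h3 : (r : ℝ) / s = lam := tendsto_nhds_unique tendsto_const_nhds h2
  exact ⟨M, hM, o, fun n _ => ho n, h3 ▸ hlam⟩

/-- an isoclinic lattice equation computes the order of the determinant -/
theorem orddet_of_img_eq [Module.Finite L N] {G : N → N} (hG : IsSemi (p := p) (k := k) G)
    (b : Basis (Fin h) L N) {d : ℤ} (hd : Isoc.IsOrdP (detC b G) d) {M : Submodule W N}
    (hM : M.IsLattice L) {r : ℤ} {s : ℕ} (heq : img (G^[s]) M = Isoc.pPow r M) :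
    r * h = s * d := by
  obtain ⟨b', rfl⟩ := exists_basis_of_lattice hM b
  have h1 := isOrdP_detC_of_img_eq_pPow (hG.iterate s) b' heq
  have h2 : Isoc.IsOrdP (detC b' (G^[s])) (s * d) :=
    isOrdP_detC_iterate hG b' (isOrdP_detC_basis_change hG b b' hd) s
  exact isOrdP_unique h1 h2

/-- a lattice with `G^s M ⊆ p^r M` and `r h = s d` satisfies `G^s M = p^r M` -/
theorem img_eq_of_le_of_orddet [Module.Finite L N] {G : N → N} (hG : IsSemi (p := p) (k := k) G)
    (b : Basis (Fin h) L N) {d : ℤ} (hd : Isoc.IsOrdP (detC b G) d) {M : Submodule W N}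
    (hM : M.IsLattice L) {r : ℤ} {s : ℕ} (hle : img (G^[s]) M ≤ Isoc.pPow r M)
    (hrs : r * h = s * d) : img (G^[s]) M = Isoc.pPow r M := by
  obtain ⟨b', rfl⟩ := exists_basis_of_lattice hM b
  have hd' := isOrdP_detC_basis_change hG b b' hd
  have hG' := twistIter_isSemi (p := p) (k := k) hG (-r) s
  have h1 : img (twistIter p k G (-r) s) (stdLat (p := p) (k := k) b') ≤ stdLat b' := by
    rw [img_twistIter, pPow_le_iff, neg_neg]
    exact hle
  have h2 : Isoc.IsOrdP (detC b' (twistIter p k G (-r) s)) 0 := by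
    have := isOrdP_detC_twistIter hG b' hd' (-r) s
    convert this using 1
    linarith
  have h3 := img_eq_of_isOrdP_detC_zero hG' b' h1 h2
  rw [img_twistIter] at h3
  have h4 := congrArg (Isoc.pPow r) h3
  rwa [pPow_pPow, add_neg_cancel, pPow_zero] at h4

end Groth.Agent.H85
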