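import Groth.Agent.H85.Equivariant

set_option autoImplicit false
set_option linter.unusedSectionVars false

noncomputable section

open scoped Isocrystal Pointwise
open Filter Topology

universe u v v'

namespace Groth.Agent.H85

variable {p : ℕ} [Fact p.Prime] {k : Type u} [Field k] [CharP k p] [PerfectRing k p]

local notation "W" => WittVector p k
local notation "L" => FractionRing (WittVector p k)

variable {N : Type v} [AddCommGroup N] [Module (WittVector p k) N] [Module (FractionRing (WittVector p k)) N]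
  [IsScalarTower (WittVector p k) (FractionRing (WittVector p k)) N]
variable {N' : Type v'} [AddCommGroup N'] [Module (WittVector p k) N'] [Module (FractionRing (WittVector p k)) N']
  [IsScalarTower (WittVector p k) (FractionRing (WittVector p k)) N']

/-- `G` is isoclinic of slope `μ` (lattice form), for a function `G` -/
def IsoG (G : N → N) (μ : ℚ) : Prop :=
  ∃ M : Submodule W N, M.IsLattice L ∧ ∃ (r : ℤ) (s : ℕ), 0 < s ∧ (r : ℚ) / s = μ ∧
    img (G^[s]) M = Isoc.pPow r M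

theorem isIsoclinic_iff {τ : L →+* L} (F : N →ₛₗ[τ] N) (μ : ℚ) :
    Isoc.IsIsoclinic F μ ↔ IsoG (p := p) (k := k) (⇑F) μ := Iff.rfl

/-- internal form: `G` is isoclinic of slope `μ` on the subspace `P` -/
def IsoInt (G : N → N) (P : Submodule L N) (μ : ℚ) : Prop :=
  ∃ M : Submodule W N, M.FG ∧ Submodule.span L (M : Set N) = P ∧
    ∃ (r : ℤ) (s : ℕ), 0 < s ∧ (r : ℚ) / s = μ ∧ img (G^[s]) M = Isoc.pPow r M

theorem isoG_iff_isoInt_top (G : N → N) (μ : ℚ) :
    IsoG (p := p) (k := k) G μ ↔ IsoInt (p := p) (k := k) G ⊤ μ := by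
  constructor
  · rintro ⟨M, hM, r, s, hs, hrs, h⟩
    exact ⟨M, hM.fg, hM.span_eq_top, r, s, hs, hrs, h⟩
  · rintro ⟨M, hM, hsp, r, s, hs, hrs, h⟩
    exact ⟨M, ⟨hM, hsp⟩, r, s, hs, hrs, h⟩

/-- transport along an injective equivariant map -/
theorem isoG_iff_isoInt_range (φ : N' →ₗ[FractionRing (WittVector p k)] N) (hφ : Function.Injective φ)
    {G' : N' → N'} {G : N → N} (hG' : IsSemi (p := p) (k := k) G') (hG : IsSemi (p := p) (k := k) G)
    (hcomm : ∀ x, φ (G' x) = G (φ x)) (μ : ℚ) :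
    IsoG (p := p) (k := k) G' μ ↔ IsoInt (p := p) (k := k) G (LinearMap.range φ) μ := by
  constructor
  · rintro ⟨M', hM', r, s, hs, hrs, h⟩
    refine ⟨mapW φ M', mapW_fg φ hM'.fg, ?_, r, s, hs, hrs, ?_⟩
    · rw [span_mapW, hM'.span_eq_top, Submodule.map_top]
    · rw [← mapW_img φ (hG'.iterate s) (hG.iterate s) (comm_iterate φ hcomm s), h, mapW_pPow]
  · rintro ⟨M, hM, hsp, r, s, hs, hrs, h⟩
    have hMle : (M : Set N) ⊆ LinearMap.range φ := by
      rw [← hsp]; exact Submodule.subset_span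
    let M' : Submodule W N' := M.comap (φ.restrictScalars W)
    have hmap : mapW φ M' = M := by
      apply le_antisymm
      · exact Submodule.map_comap_le _ _
      · intro y hy
        obtain ⟨x, rfl⟩ := hMle hy
        exact (mem_mapW φ).mpr ⟨x, hy, rfl⟩
    refine ⟨M', ⟨?_, ?_⟩, r, s, hs, hrs, ?_⟩
    · refine Submodule.fg_of_fg_map_injective (φ.restrictScalars W) hφ ?_
      change (mapW φ M').FG
      rw [hmap]; exact hM
    · apply Submodule.map_injective_of_injective (f := φ) hφ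
      rw [← span_mapW, hmap, hsp, Submodule.map_top]
    · apply mapW_injective φ hφ
      rw [mapW_img φ (hG'.iterate s) (hG.iterate s) (comm_iterate φ hcomm s), mapW_pPow, hmap, h]

theorem IsoInt.bot {G : N → N} (hG : IsSemi (p := p) (k := k) G) (μ : ℚ) :
    IsoInt (p := p) (k := k) G ⊥ μ := by
  refine ⟨⊥, Submodule.fg_bot, by simp, μ.num, μ.den, μ.den_pos, ?_, ?_⟩
  · exact_mod_cast Rat.num_div_den μ
  · rw [img_bot (hG.iterate _), pPow_bot]

/-- bring two isoclinic data to a common denominator -/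
theorem iso_common {G : N → N} (hG : IsSemi (p := p) (k := k) G) {M : Submodule W N} {r : ℤ} {s : ℕ}
    (h : img (G^[s]) M = Isoc.pPow r M) (t : ℕ) :
    img (G^[s * t]) M = Isoc.pPow (t * r) M := by
  rw [Function.iterate_mul]
  exact img_iterate_eq (hG.iterate s) h t

theorem IsoInt.sup {G : N → N} (hG : IsSemi (p := p) (k := k) G) {P₁ P₂ : Submodule L N} {μ : ℚ}
    (h₁ : IsoInt (p := p) (k := k) G P₁ μ) (h₂ : IsoInt (p := p) (k := k) G P₂ μ) :
    IsoInt (p := p) (k := k) G (P₁ ⊔ P₂) μ := by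
  obtain ⟨M₁, hM₁, hsp₁, r₁, s₁, hs₁, hrs₁, e₁⟩ := h₁
  obtain ⟨M₂, hM₂, hsp₂, r₂, s₂, hs₂, hrs₂, e₂⟩ := h₂
  have hs₁' : (s₁ : ℚ) ≠ 0 := by exact_mod_cast hs₁.ne'
  have hs₂' : (s₂ : ℚ) ≠ 0 := by exact_mod_cast hs₂.ne'
  have hcross : (s₂ : ℤ) * r₁ = (s₁ : ℤ) * r₂ := by
    have : (r₁ : ℚ) / s₁ = (r₂ : ℚ) / s₂ := hrs₁.trans hrs₂.symm
    rw [div_eq_div_iff hs₁' hs₂'] at this
    have h' : ((r₁ * s₂ : ℤ) : ℚ) = ((r₂ * s₁ : ℤ) : ℚ) := by push_cast; exact this
    have := Int.cast_injective h'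
    linarith
  refine ⟨M₁ ⊔ M₂, hM₁.sup hM₂, ?_, s₂ * r₁, s₁ * s₂, Nat.mul_pos hs₁ hs₂, ?_, ?_⟩
  · apply le_antisymm
    · rw [Submodule.span_le]
      intro x hx
      obtain ⟨a, ha, b, hb, rfl⟩ := Submodule.mem_sup.mp hx
      exact Submodule.add_mem _ (Submodule.mem_sup_left (hsp₁ ▸ Submodule.subset_span ha))
        (Submodule.mem_sup_right (hsp₂ ▸ Submodule.subset_span hb))
    · rw [← hsp₁, ← hsp₂]
      exact sup_le (Submodule.span_mono (by exact_mod_cast (le_sup_left : M₁ ≤ M₁ ⊔ M₂)))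
        (Submodule.span_mono (by exact_mod_cast (le_sup_right : M₂ ≤ M₁ ⊔ M₂)))
  · rw [← hrs₁]
    push_cast
    field_simp
  · rw [img_sup (hG.iterate _), pPow_sup, iso_common hG e₁ s₂]
    have : s₁ * s₂ = s₂ * s₁ := Nat.mul_comm _ _
    rw [this, iso_common hG e₂ s₁, hcross]

end Groth.Agent.H85
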