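import Groth.Agent.H85.Isoclinic

set_option autoImplicit false
set_option linter.unusedSectionVars false

noncomputable section

open scoped Isocrystal Pointwise
open Filter Topology

universe u v v'

namespace Groth.Agent.H85

variable {p : ℕ} [Fact p.Prime] {k : Type u} [Field k] [CharP k p] [PerfectRing k p]

local notation "W" => WittVector p k
local notation "L" => FractionRing (WittVector p k)

variable {N : Type v} [AddCommGroup N] [Module (WittVector p k) N] [Module (FractionRing (WittVector p k)) N]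
  [IsScalarTower (WittVector p k) (FractionRing (WittVector p k)) N]
variable {N' : Type v'} [AddCommGroup N'] [Module (WittVector p k) N'] [Module (FractionRing (WittVector p k)) N']
  [IsScalarTower (WittVector p k) (FractionRing (WittVector p k)) N']

theorem exists_pow_smul_mem_of_mem_span {M : Submodule W N} {x : N}
    (hx : x ∈ Submodule.span L (M : Set N)) : ∃ n : ℕ, ((p : L) ^ n) • x ∈ M := by
  induction hx using Submodule.span_induction with
  | mem z hz => exact ⟨0, by simpa using hz⟩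
  | zero => exact ⟨0, by simp⟩
  | add a b _ _ ha hb =>
    obtain ⟨n, hn⟩ := ha
    obtain ⟨m, hm⟩ := hb
    refine ⟨max n m, ?_⟩
    rw [smul_add]
    exact M.add_mem (pow_smul_mem_of_le (le_max_left n m) hn) (pow_smul_mem_of_le (le_max_right n m) hm)
  | smul c a _ ha =>
    obtain ⟨n, hn⟩ := ha
    obtain ⟨m, w, hw⟩ := exists_pow_mul_eq_algebraMap c
    refine ⟨n + m, ?_⟩
    have : ((p : L) ^ (n + m)) • c • a = w • (((p : L) ^ n) • a) := by
      rw [← algebraMap_smul L w, ← hw, smul_smul, smul_smul]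
      congr 1
      ring
    rw [this]
    exact M.smul_mem _ hn

/-! ### sub-objects -/

theorem iterate_mem_of_stable {G : N → N} {P : Submodule L N} (hP : ∀ x ∈ P, G x ∈ P) (n : ℕ) :
    ∀ x ∈ P, G^[n] x ∈ P := by
  induction n with
  | zero => intro x hx; exact hx
  | succ n ih =>
    intro x hx
    rw [Function.iterate_succ_apply']
    exact hP _ (ih x hx)

theorem IsoInt.of_stable_le {G : N → N} (hG : IsSemi (p := p) (k := k) G) (hinj : Function.Injective G)
    {P₀ P : Submodule L N} [Module.Finite L P] {μ : ℚ} (h : IsoInt (p := p) (k := k) G P₀ μ)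
    (hle : P ≤ P₀) (hP : ∀ x ∈ P, G x ∈ P) : IsoInt (p := p) (k := k) G P μ := by
  obtain ⟨M, hM, hsp, r, s, hs, hrs, e⟩ := h
  have hGs := hG.iterate s
  have hinjs : Function.Injective (G^[s]) := hinj.iterate s
  have hPs : ∀ x ∈ P, G^[s] x ∈ P := iterate_mem_of_stable hP s
  refine ⟨M ⊓ P.restrictScalars W, hM.of_le inf_le_left, ?_, r, s, hs, hrs, ?_⟩
  · apply le_antisymm
    · rw [Submodule.span_le]
      intro x hx
      exact hx.2
    · intro x hx
      have hx0 : x ∈ Submodule.span L (M : Set N) := by rw [hsp]; exact hle hx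
      obtain ⟨n, hn⟩ := exists_pow_smul_mem_of_mem_span hx0
      have h1 : ((p : L) ^ n) • x ∈ Submodule.span L ((M ⊓ P.restrictScalars W : Submodule W N) : Set N) :=
        Submodule.subset_span ⟨hn, P.smul_mem _ hx⟩
      have h2 := Submodule.smul_mem _ (((p : L) ^ n)⁻¹) h1
      rwa [smul_smul, inv_mul_cancel₀ (pow_ne_zero _ pL_ne_zero), one_smul] at h2
  · ext y
    rw [mem_img hGs, mem_pPow]
    constructor
    · rintro ⟨x, ⟨hxM, hxP⟩, rfl⟩
      have h1 : G^[s] x ∈ Isoc.pPow r M := e ▸ apply_mem_img _ hxM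
      rw [mem_pPow] at h1
      exact ⟨h1, P.smul_mem _ (hPs x hxP)⟩
    · rintro ⟨hyM, hyP⟩
      have h1 : y ∈ Isoc.pPow r M := (mem_pPow M).mpr hyM
      rw [← e, mem_img hGs] at h1
      obtain ⟨x, hxM, rfl⟩ := h1
      have hyP' : G^[s] x ∈ P := by
        have := P.smul_mem ((p : L) ^ r) hyP
        rwa [smul_smul, ← zpow_add₀ pL_ne_zero, add_neg_cancel, zpow_zero, one_smul] at this
      exact ⟨x, ⟨hxM, mem_of_apply_mem hGs hinjs P hPs hyP'⟩, rfl⟩

/-! ### quotients -/

theorem IsoG.of_surjective (φ : N →ₗ[FractionRing (WittVector p k)] N') (hφ : Function.Surjective φ)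
    {G : N → N} {G' : N' → N'} (hG : IsSemi (p := p) (k := k) G) (hG' : IsSemi (p := p) (k := k) G')
    (hcomm : ∀ x, φ (G x) = G' (φ x)) {μ : ℚ} (h : IsoG (p := p) (k := k) G μ) :
    IsoG (p := p) (k := k) G' μ := by
  obtain ⟨M, hM, r, s, hs, hrs, e⟩ := h
  refine ⟨mapW φ M, ⟨mapW_fg φ hM.fg, ?_⟩, r, s, hs, hrs, ?_⟩
  · rw [span_mapW, hM.span_eq_top, Submodule.map_top, LinearMap.range_eq_top.mpr hφ]
  · rw [← mapW_img φ (hG.iterate s) (hG'.iterate s) (comm_iterate φ hcomm s), e, mapW_pPow]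

/-! ### morphisms between isoclinic objects of different slopes -/

theorem twistIter_bijective {G : N → N} (hbij : Function.Bijective G) (m : ℤ) (n : ℕ) :
    Function.Bijective (twistIter p k G m n) := by
  have h1 : Function.Bijective (G^[n]) := hbij.iterate n
  have h2 : Function.Bijective (fun x : N => ((p : L) ^ m) • x) :=
    (MulAction.bijective₀ (zpow_ne_zero m (pL_ne_zero (p := p) (k := k))))
  exact h2.comp h1

theorem hom_eq_zero_of_slope_ne {G₁ : N → N} {G₂ : N' → N'}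
    (hG₁ : IsSemi (p := p) (k := k) G₁) (hG₂ : IsSemi (p := p) (k := k) G₂)
    (hbij₂ : Function.Bijective G₂) {μ₁ μ₂ : ℚ} (h₁ : IsoG (p := p) (k := k) G₁ μ₁)
    (h₂ : IsoG (p := p) (k := k) G₂ μ₂) (hne : μ₁ ≠ μ₂)
    (f : N →ₗ[FractionRing (WittVector p k)] N') (hf : ∀ x, f (G₁ x) = G₂ (f x)) : f = 0 := by
  obtain ⟨M₁, hM₁, r₁, s₁, hs₁, hrs₁, e₁⟩ := h₁
  obtain ⟨M₂, hM₂, r₂, s₂, hs₂, hrs₂, e₂⟩ := h₂
  have hs₁' : (s₁ : ℚ) ≠ 0 := by exact_mod_cast hs₁.ne'
  have hs₂' : (s₂ : ℚ) ≠ 0 := by exact_mod_cast hs₂.ne'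
  have hcross : (s₂ : ℤ) * r₁ ≠ (s₁ : ℤ) * r₂ := by
    intro h
    apply hne
    rw [← hrs₁, ← hrs₂, div_eq_div_iff hs₁' hs₂']
    have : ((s₂ * r₁ : ℤ) : ℚ) = ((s₁ * r₂ : ℤ) : ℚ) := by rw [h]
    push_cast at this
    linarith
  have E₁ : img (G₁^[s₁ * s₂]) M₁ = Isoc.pPow (s₂ * r₁) M₁ := iso_common hG₁ e₁ s₂
  have E₂ : img (G₂^[s₁ * s₂]) M₂ = Isoc.pPow (s₁ * r₂) M₂ := by
    rw [Nat.mul_comm]; exact iso_common hG₂ e₂ s₁
  set s := s₁ * s₂ with hs
  set a₁ : ℤ := s₂ * r₁ with ha₁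
  set a₂ : ℤ := s₁ * r₂ with ha₂
  -- the image of M₁
  set K : Submodule W N' := mapW f M₁ with hK
  have hKfg : K.FG := mapW_fg f hM₁.fg
  have EK : img (G₂^[s]) K = Isoc.pPow a₁ K := by
    rw [hK, ← mapW_img f (hG₁.iterate s) (hG₂.iterate s) (comm_iterate f hf s), E₁, mapW_pPow]
  -- the normalised operator
  have hH₀ : IsSemi (p := p) (k := k) (twistIter p k G₂ (-a₂) s) := twistIter_isSemi hG₂ _ _
  have hH₀M : img (twistIter p k G₂ (-a₂) s) M₂ = M₂ := by
    rw [img_twistIter, E₂, pPow_pPow, neg_add_cancel, pPow_zero]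
  have hH₀K : img (twistIter p k G₂ (-a₂) s) K = Isoc.pPow (a₁ - a₂) K := by
    rw [img_twistIter, EK, pPow_pPow, neg_add_eq_sub]
  have hKbot : K = ⊥ := by
    rcases lt_or_gt_of_ne (sub_ne_zero.mpr hcross) with hlt | hgt
    · exact eq_bot_of_img_eq_pPow_neg hH₀ hM₂ hKfg hH₀M hlt hH₀K
    · obtain ⟨H, hl, hr⟩ := Function.bijective_iff_has_inverse.mp (twistIter_bijective (p := p) (k := k) hbij₂ (-a₂) s)
      have hH : IsSemi (p := p) (k := k) H := hH₀.invFun hl hr
      have hcomp : H ∘ twistIter p k G₂ (-a₂) s = id := funext hl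
      have hHM : img H M₂ = M₂ := by
        conv_lhs => rw [← hH₀M]
        rw [← img_comp hH₀, hcomp, img_id]
      have hHK : img H K = Isoc.pPow (-(a₁ - a₂)) K := by
        have h1 : img H (Isoc.pPow (a₁ - a₂) K) = K := by
          rw [← hH₀K, ← img_comp hH₀, hcomp, img_id]
        rw [img_pPow hH] at h1
        conv_rhs => rw [← h1]
        rw [pPow_pPow, neg_add_cancel, pPow_zero]
      exact eq_bot_of_img_eq_pPow_neg hH hM₂ hKfg hHM (by omega) hHK
  -- conclude
  have hker : Submodule.span L (M₁ : Set N) ≤ LinearMap.ker f := by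
    rw [Submodule.span_le]
    intro x hx
    have : f x ∈ K := (mem_mapW f).mpr ⟨x, hx, rfl⟩
    rw [hKbot] at this
    exact (Submodule.mem_bot W).mp this
  rw [hM₁.span_eq_top] at hker
  exact LinearMap.ker_eq_top.mp (top_le_iff.mp hker)

end Groth.Agent.H85
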