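import Groth.Agent.H85.Semi
import Mathlib.RingTheory.Nakayama

set_option autoImplicit false
set_option linter.unusedSectionVars false

noncomputable section

open scoped Isocrystal Pointwise

universe u v

namespace Groth.Agent.H85

variable {p : ℕ} [Fact p.Prime] {k : Type u} [Field k] [CharP k p] [PerfectRing k p]

local notation "W" => WittVector p k
local notation "L" => FractionRing (WittVector p k)

variable {N : Type v} [AddCommGroup N] [Module (WittVector p k) N] [Module (FractionRing (WittVector p k)) N]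
  [IsScalarTower (WittVector p k) (FractionRing (WittVector p k)) N]

variable {M M₁ M₂ : Submodule (WittVector p k) N}

theorem pL_smul_eq (x : N) : (p : L) • x = (p : W) • x := by
  rw [← algebraMap_smul L (p : W) x, algebraMap_p]

theorem pL_pow_smul_eq (n : ℕ) (x : N) : ((p : L) ^ n) • x = ((p : W) ^ n) • x := by
  rw [← algebraMap_smul L ((p : W) ^ n) x, map_pow, algebraMap_p]

theorem pow_smul_mem_of_le {n m : ℕ} (h : n ≤ m) {x : N} (hx : ((p : L) ^ n) • x ∈ M) :
    ((p : L) ^ m) • x ∈ M := by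
  obtain ⟨d, rfl⟩ := Nat.exists_eq_add_of_le h
  rw [add_comm, pow_add, mul_smul, pL_pow_smul_eq d]
  exact M.smul_mem _ hx

theorem exists_pow_smul_mem (hM : Submodule.span L (M : Set N) = ⊤) (x : N) :
    ∃ n : ℕ, ((p : L) ^ n) • x ∈ M := by
  have hx : x ∈ Submodule.span L (M : Set N) := by rw [hM]; trivial
  induction hx using Submodule.span_induction with
  | mem z hz => exact ⟨0, by simpa using hz⟩
  | zero => exact ⟨0, by simp⟩
  | add a b _ _ ha hb =>
    obtain ⟨n, hn⟩ := ha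
    obtain ⟨m, hm⟩ := hb
    refine ⟨max n m, ?_⟩
    rw [smul_add]
    exact M.add_mem (pow_smul_mem_of_le (le_max_left n m) hn) (pow_smul_mem_of_le (le_max_right n m) hm)
  | smul c a _ ha =>
    obtain ⟨n, hn⟩ := ha
    obtain ⟨m, w, hw⟩ := exists_pow_mul_eq_algebraMap c
    refine ⟨n + m, ?_⟩
    have : ((p : L) ^ (n + m)) • c • a = w • (((p : L) ^ n) • a) := by
      rw [← algebraMap_smul L w, ← hw, smul_smul, smul_smul]
      congr 1
      ring
    rw [this]
    exact M.smul_mem _ hn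

theorem exists_pPow_le (hM₁ : M₁.FG) (hM₂ : Submodule.span L (M₂ : Set N) = ⊤) :
    ∃ n : ℕ, Isoc.pPow (n : ℤ) M₁ ≤ M₂ := by
  classical
  obtain ⟨S, rfl⟩ := hM₁
  choose f hf using fun x : N => exists_pow_smul_mem (M := M₂) hM₂ x
  refine ⟨S.sup f, ?_⟩
  intro y hy
  obtain ⟨x, hx, rfl⟩ := (mem_pPow_iff_exists _).mp hy
  clear hy
  rw [zpow_natCast]
  induction hx using Submodule.span_induction with
  | mem z hz => exact pow_smul_mem_of_le (Finset.le_sup hz) (hf z)
  | zero => rw [smul_zero]; exact M₂.zero_mem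
  | add a b _ _ ha hb => rw [smul_add]; exact M₂.add_mem ha hb
  | smul w a _ ha => rw [smul_comm]; exact M₂.smul_mem _ ha

theorem exists_le_pPow (hM₁ : M₁.FG) (hM₂ : Submodule.span L (M₂ : Set N) = ⊤) :
    ∃ n : ℕ, M₁ ≤ Isoc.pPow (-(n : ℤ)) M₂ := by
  obtain ⟨n, hn⟩ := exists_pPow_le hM₁ hM₂
  exact ⟨n, (pPow_le_iff _).mp hn⟩

theorem lattice_ne_bot [Nontrivial N] (hM : Submodule.span L (M : Set N) = ⊤) : M ≠ ⊥ := by
  rintro rfl
  rw [Submodule.bot_coe, Submodule.span_zero_singleton] at hM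
  exact bot_ne_top hM

theorem pPow_one_eq_smul (M : Submodule W N) : Isoc.pPow 1 M = (Ideal.span {(p : W)}) • M := by
  rw [Submodule.ideal_span_singleton_smul]
  ext x
  rw [mem_pPow_iff_exists, Submodule.mem_smul_pointwise_iff_exists]
  simp only [zpow_one, pL_smul_eq]

theorem eq_bot_of_le_pPow_one (hM : M.FG) (h : M ≤ Isoc.pPow 1 M) : M = ⊥ := by
  rw [pPow_one_eq_smul] at h
  apply Submodule.eq_bot_of_le_smul_of_le_jacobson_bot _ _ hM h
  rw [IsLocalRing.jacobson_eq_maximalIdeal _ bot_ne_top, Ideal.span_le]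
  rintro _ rfl
  exact (WittVector.irreducible (k := k) p).not_isUnit

theorem le_of_pPow_le_pPow [Nontrivial N] (hM : M.IsLattice L) {r s : ℤ}
    (h : Isoc.pPow r M ≤ Isoc.pPow s M) : s ≤ r := by
  by_contra hlt
  rw [not_le] at hlt
  apply lattice_ne_bot (M := Isoc.pPow r M) (pPow_isLattice hM r).span_eq_top
  apply eq_bot_of_le_pPow_one (pPow_isLattice hM r).fg
  refine h.trans ?_
  rw [pPow_pPow]
  exact pPow_anti _ (by omega)

theorem pPow_le_pPow_iff_le [Nontrivial N] (hM : M.IsLattice L) {r s : ℤ} :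
    Isoc.pPow r M ≤ Isoc.pPow s M ↔ s ≤ r :=
  ⟨le_of_pPow_le_pPow hM, pPow_anti _⟩

/-! ### Orders -/

/-- `ord_M(G) = r` -/
def OrdG (M : Submodule W N) (G : N → N) (r : ℤ) : Prop :=
  img G M ≤ Isoc.pPow r M ∧ ¬ img G M ≤ Isoc.pPow (r + 1) M

theorem isOrd_iff {τ : L →+* L} (F : N →ₛₗ[τ] N) (s : ℕ) (r : ℤ) :
    Isoc.IsOrd M F s r ↔ OrdG M ((⇑F)^[s]) r := Iff.rfl

theorem OrdG.le_of {G : N → N} {r s : ℤ} (h : OrdG M G r) (h' : img G M ≤ Isoc.pPow s M) : s ≤ r := by
  by_contra hlt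
  rw [not_le] at hlt
  exact h.2 (h'.trans (pPow_anti _ (by omega)))

theorem OrdG.unique {G : N → N} {r s : ℤ} (h : OrdG M G r) (h' : OrdG M G s) : r = s :=
  le_antisymm (h'.le_of h.1) (h.le_of h'.1)

theorem exists_ordG [Nontrivial N] {G : N → N} (hG : IsSemi (p := p) (k := k) G)
    (hsurj : Function.Surjective G) (hM : M.IsLattice L) : ∃ r : ℤ, OrdG M G r := by
  have hGM := img_isLattice hG hsurj hM
  obtain ⟨n, hn⟩ := exists_le_pPow hGM.fg hM.span_eq_top
  obtain ⟨m, hm⟩ := exists_pPow_le hM.fg hGM.span_eq_top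
  have hbdd : ∀ z : ℤ, img G M ≤ Isoc.pPow z M → z ≤ m := by
    intro z hz
    exact le_of_pPow_le_pPow hM (hm.trans hz)
  obtain ⟨r, hr, hmax⟩ := Int.exists_greatest_of_bdd ⟨m, hbdd⟩ ⟨-(n : ℤ), hn⟩
  refine ⟨r, hr, fun h => ?_⟩
  have := hmax (r + 1) h
  omega

end Groth.Agent.H85
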