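import Groth.Agent.H66.AInvLower
import Groth.Agent.H66.CoverAvoid
import Groth.Agent.H66.GrRegSeqMod

/-!
# Regular linear forms over *local rings with infinite residue field (helper85)
-/

set_option autoImplicit false
set_option linter.unusedSectionVars false
set_option linter.unusedVariables false

universe u

namespace Groth.Agent.H85.LinAvoid

open DirectSum Groth.Agent.H98.GrStar Groth.Agent.H66.GrVanish Groth.Agent.H66.GrRegFree
  Groth.Agent.H98.Bass0 Groth.Agent.H98.GrHt Groth.Agent.H66.AInvLower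
  Groth.Agent.H66.GrKoszul

variable {R : Type u} [CommRing R] [IsNoetherianRing R] (𝒜 : ℤ → AddSubgroup R) [GradedRing 𝒜]
  (hpos : ∀ n : ℤ, n < 0 → 𝒜 n = ⊥) {m : HomogeneousIdeal 𝒜} (hm : GrLC.IsStarLocal 𝒜 m)

include hm in
/-- degree-zero elements outside the *maximal ideal are invertible in `R_0` -/
theorem exists_inv_of_notMem (r : R) (hr0 : r ∈ 𝒜 0) (hrm : r ∉ m.toIdeal) :
    ∃ s ∈ 𝒜 0, r * s = 1 := by
  have hhomog : (Ideal.span {r}).IsHomogeneous 𝒜 := by
    apply Ideal.homogeneous_span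
    intro x hx
    rw [Set.mem_singleton_iff] at hx
    subst hx
    exact ⟨0, hr0⟩
  have htop : Ideal.span {r} = ⊤ := by
    by_contra hne
    exact hrm (le_of_isStarLocal 𝒜 hm _ hhomog hne (Ideal.subset_span rfl))
  rw [Ideal.span_singleton_eq_top] at htop
  obtain ⟨s, hs⟩ := htop.exists_right_inv
  refine ⟨(decompose 𝒜 s 0 : R), SetLike.coe_mem _, ?_⟩
  have h1 := DirectSum.coe_decompose_mul_add_of_left_mem 𝒜 (i := 0) (j := 0) (a := r) (b := s) hr0
  rw [← h1, hs, add_zero]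
  exact DirectSum.decompose_of_mem_same 𝒜 (SetLike.GradedOne.one_mem (A := 𝒜))

include hm in
theorem isUnit_deg0 (r : GrLC.deg0 𝒜) (hrm : (r : R) ∉ m.toIdeal) : IsUnit r := by
  obtain ⟨s, hs0, hs⟩ := exists_inv_of_notMem 𝒜 hm (r : R) r.2 hrm
  exact IsUnit.of_mul_eq_one (⟨s, hs0⟩ : GrLC.deg0 𝒜) (Subtype.ext hs)

include hpos hm in
theorem sub_decompose_zero_mem (x : R) : x - (decompose 𝒜 x 0 : R) ∈ m.toIdeal := by
  classical
  rw [m.isHomogeneous.mem_iff]
  intro i
  rw [decompose_sub, DirectSum.sub_apply, AddSubgroupClass.coe_sub]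
  have hx0mem : (decompose 𝒜 x 0 : R) ∈ 𝒜 0 := SetLike.coe_mem _
  rcases lt_trichotomy i 0 with hi | hi | hi
  · rw [hpos_elt 𝒜 hpos i hi _ (SetLike.coe_mem (decompose 𝒜 x i)),
      decompose_of_mem_ne 𝒜 hx0mem (Ne.symm (ne_of_lt hi)), sub_zero]
    exact zero_mem _
  · subst hi
    rw [decompose_of_mem_same 𝒜 hx0mem, sub_self]
    exact zero_mem _
  · rw [decompose_of_mem_ne 𝒜 hx0mem (ne_of_lt hi), sub_zero]
    exact mem_of_isCoatom_of_pos 𝒜 (hpos_elt 𝒜 hpos) m hm.1 hi (SetLike.coe_mem _)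

/-- the linear forms lying in an ideal -/
noncomputable def W (P : Ideal R) : Submodule (GrLC.deg0 𝒜) (GrLC.comp 𝒜 𝒜 1) :=
  Submodule.comap (GrLC.comp 𝒜 𝒜 1).subtype (P.restrictScalars (GrLC.deg0 𝒜))

theorem mem_W {P : Ideal R} {y : GrLC.comp 𝒜 𝒜 1} : y ∈ W 𝒜 P ↔ (y : R) ∈ P := Iff.rfl

include hpos hm in
/-- **a finitely generated graded module without `R_+`-torsion admits a regular linear form**, if
the residue field of the *local ring is infinite -/
theorem exists_linear_regular (hinf : Infinite (R ⧸ m.toIdeal))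
    (hhom : (GrSyz.irrel 𝒜).toIdeal = Ideal.span ((𝒜 1 : AddSubgroup R) : Set R))
    (X : GrLC.GMod.{u} 𝒜) [Module.Finite R X.carrier]
    (hX : ∀ z ∈ GrLC.gam (GrSyz.irrel 𝒜).toIdeal X.carrier, z = 0) :
    ∃ y ∈ 𝒜 1, IsSMulRegular X.carrier y := by
  classical
  have hfin : (associatedPrimes R X.carrier).Finite := associatedPrimes.finite R X.carrier
  let S : Finset (Submodule (GrLC.deg0 𝒜) (GrLC.comp 𝒜 𝒜 1)) := hfin.toFinset.image (W 𝒜)
  -- degree-zero representatives of residue classes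
  let t : R ⧸ m.toIdeal → GrLC.deg0 𝒜 := fun c =>
    ⟨(decompose 𝒜 (Quotient.out c) 0 : R), SetLike.coe_mem _⟩
  have ht : ∀ c, Ideal.Quotient.mk m.toIdeal ((t c : GrLC.deg0 𝒜) : R) = c := by
    intro c
    have h1 : Ideal.Quotient.mk m.toIdeal (Quotient.out c) = c := Quotient.out_eq c
    rw [← h1, eq_comm, Ideal.Quotient.eq, h1]
    exact sub_decompose_zero_mem 𝒜 hpos hm _
  obtain ⟨v, hv⟩ := Groth.Agent.H66.CoverAvoid.exists_notMem_of_card_le
    (R := GrLC.deg0 𝒜) (M := GrLC.comp 𝒜 𝒜 1)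
    {r : GrLC.deg0 𝒜 | IsUnit r} (κ := R ⧸ m.toIdeal) (fun _ => (1 : GrLC.deg0 𝒜)) t
    (fun _ => isUnit_one) (by
      intro c c' hcc
      change IsUnit _
      rw [one_mul, one_mul]
      apply isUnit_deg0 𝒜 hm
      intro hmem
      apply hcc
      rw [← ht c, ← ht c', Ideal.Quotient.eq]
      exact hmem) S
    (fun P _ r hr u hu => (Submodule.smul_mem_iff_of_isUnit P hr).1 hu)
    (by
      intro Q hQ
      rw [Finset.mem_image] at hQ
      obtain ⟨P, hP, rfl⟩ := hQ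
      rw [Set.Finite.mem_toFinset] at hP
      intro htop
      have hP' := (isAssociatedPrime_iff (R := R)).1 hP
      obtain ⟨hprime, z, hz⟩ := hP'
      have h1 : ∀ y ∈ 𝒜 1, y ∈ P := by
        intro y hy
        have : (⟨y, hy⟩ : GrLC.comp 𝒜 𝒜 1) ∈ W 𝒜 P := by rw [htop]; trivial
        exact this
      have h2 : (GrSyz.irrel 𝒜).toIdeal ≤ P := by
        rw [hhom, Ideal.span_le]
        exact h1
      have h3 : z ∈ GrLC.gam (GrSyz.irrel 𝒜).toIdeal X.carrier := by
        refine ⟨1, fun r hr => ?_⟩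
        rw [pow_one] at hr
        have := h2 hr
        rw [hz, Submodule.mem_colon_singleton, Submodule.mem_bot] at this
        exact this
      have h4 := hX z h3
      apply hprime.ne_top
      rw [hz, h4, Ideal.eq_top_iff_one, Submodule.mem_colon_singleton, smul_zero]
      exact Submodule.zero_mem _)
    ⟨(Fin.valEmbedding).trans (Infinite.natEmbedding (R ⧸ m.toIdeal))⟩
  refine ⟨(v : R), v.2, ?_⟩
  rw [isSMulRegular_iff_right_eq_zero_of_smul]
  intro x hx
  by_contra hx0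
  have h1 : (v : R) ∈ ⋃ p ∈ associatedPrimes R X.carrier, (p : Set R) := by
    rw [biUnion_associatedPrimes_eq_zero_divisors]
    exact ⟨x, hx0, hx⟩
  rw [Set.mem_iUnion₂] at h1
  obtain ⟨P, hP, hvP⟩ := h1
  exact hv (W 𝒜 P) (Finset.mem_image.2 ⟨P, (Set.Finite.mem_toFinset hfin).2 hP, rfl⟩) hvP

end Groth.Agent.H85.LinAvoid
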