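import Groth.Agent.H85.LinAvoid

/-!
# Regular sequences of linear forms from vanishing of graded local cohomology (helper85)
-/

set_option autoImplicit false
set_option linter.unusedSectionVars false
set_option linter.unusedVariables false

universe u

namespace Groth.Agent.H85.LinRegSeq

open DirectSum Groth.Agent.H98.GrStar Groth.Agent.H66.GrVanish Groth.Agent.H66.GrRegFree
  Groth.Agent.H98.Bass0 Groth.Agent.H98.GrHt Groth.Agent.H66.AInvLower
  Groth.Agent.H66.GrKoszul Groth.Agent.H66.GrRegQuot Groth.Agent.H66.GrRegSeqMod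
  Groth.Agent.H85.LinAvoid

variable {R : Type u} [CommRing R] [IsNoetherianRing R] {𝒜 : ℤ → AddSubgroup R} [GradedRing 𝒜]

/-- graded depth at least `k` with respect to `a` -/
def Depth (a : HomogeneousIdeal 𝒜) (X : GrLC.GMod.{u} 𝒜) (k : ℕ) : Prop :=
  ∀ j : ℕ, j < k → ∀ e : ℤ, VanishAt a X j e

theorem eq_zero_of_mem_gam (a : HomogeneousIdeal 𝒜) (X : GrLC.GMod.{u} 𝒜)
    (h : ∀ e : ℤ, VanishAt a X 0 e) :
    ∀ z ∈ GrLC.gam a.toIdeal X.carrier, z = 0 := by
  classical
  intro z hz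
  rw [← DirectSum.sum_support_decompose X.gr z]
  refine Finset.sum_eq_zero (fun e _ => ?_)
  exact eq_zero_of_vanishAt_zero a X e (h e) _ (SetLike.coe_mem _)
    (gam_isHomogeneous 𝒜 X.gr a e hz)

theorem depth_quotY (a : HomogeneousIdeal 𝒜) (X : GrLC.GMod.{u} 𝒜) [Module.Finite R X.carrier]
    {y : R} (hy : y ∈ 𝒜 1) (hreg : IsSMulRegular X.carrier y) (k : ℕ) (h : Depth a X (k + 1)) :
    Depth a (quotY X hy) k := by
  intro j hj e
  have hK : ∀ m ∈ Submodule.torsionBy R X.carrier y, m ∈ GrLC.gam a.toIdeal X.carrier := by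
    intro m hm
    rw [Submodule.mem_torsionBy_iff] at hm
    have : m = 0 := hreg (hm.trans (smul_zero y).symm)
    rw [this]
    exact Submodule.zero_mem _
  exact vanishAt_quot (ℳ := X.gr) (𝒩 := (quotY X hy).gr) a y hy hK (projY X hy)
    (projY_surjective X hy) (projY_isGrHom X hy) (projY_ker X hy) j e (h j (by omega) e)
    (h (j + 1) (by omega) (e - 1))

variable (𝒜)
variable (hpos : ∀ n : ℤ, n < 0 → 𝒜 n = ⊥) {m : HomogeneousIdeal 𝒜} (hm : GrLC.IsStarLocal 𝒜 m)

include hpos hm in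
/-- **graded depth `≥ k` gives a regular sequence of `k` linear forms** (infinite residue field) -/
theorem exists_regular_sequence (hinf : Infinite (R ⧸ m.toIdeal))
    (hhom : (GrSyz.irrel 𝒜).toIdeal = Ideal.span ((𝒜 1 : AddSubgroup R) : Set R)) :
    ∀ (k : ℕ) (X : GrLC.GMod.{u} 𝒜) [Module.Finite R X.carrier], Depth (GrSyz.irrel 𝒜) X k →
      ∃ y : Fin k → R, (∀ i, y i ∈ 𝒜 1) ∧
        RingTheory.Sequence.IsWeaklyRegular X.carrier (List.ofFn y) := by
  intro k
  induction k with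
  | zero =>
    intro X _ _
    refine ⟨Fin.elim0, fun i => i.elim0, ?_⟩
    rw [List.ofFn_zero]
    exact RingTheory.Sequence.IsWeaklyRegular.nil R X.carrier
  | succ k ih =>
    intro X _ hX
    obtain ⟨y0, hy0, hreg0⟩ := exists_linear_regular 𝒜 hpos hm hinf hhom X
      (eq_zero_of_mem_gam (GrSyz.irrel 𝒜) X (fun e => hX 0 (by omega) e))
    obtain ⟨y', hy', hreg'⟩ := ih (quotY X hy0) (depth_quotY (GrSyz.irrel 𝒜) X hy0 hreg0 k hX)
    refine ⟨Fin.cons y0 y', ?_, ?_⟩
    · intro i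
      refine Fin.cases ?_ (fun j => ?_) i
      · rw [Fin.cons_zero]; exact hy0
      · rw [Fin.cons_succ]; exact hy' j
    · rw [List.ofFn_cons, RingTheory.Sequence.isWeaklyRegular_cons_iff]
      exact ⟨hreg0, hreg'⟩

end Groth.Agent.H85.LinRegSeq
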