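import Groth.Prelude.Def_Flatn
import Mathlib

/-!
# Base change of the representing object of `Mor_S(X, Y)` (helper for S17079)
-/

set_option autoImplicit false
universe u

open CategoryTheory CategoryTheory.Limits AlgebraicGeometry

namespace Groth.Agent.H85.MorSBase

variable {X Y S S' : Scheme.{u}} (gX : X ⟶ S) (gY : Y ⟶ S) (h : S' ⟶ S)

/-- The comparison `T' ×_{S'} (X ×_S S') ⟶ T' ×_S X`. -/
noncomputable def θ (T : Over S') :
    pullback T.hom (pullback.snd gX h) ⟶ pullback (T.hom ≫ h) gX :=
  pullback.lift (pullback.fst _ _) (pullback.snd _ _ ≫ pullback.fst gX h) (by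
    rw [← Category.assoc, pullback.condition, Category.assoc, Category.assoc, pullback.condition])

/-- Its inverse. -/
noncomputable def θinv (T : Over S') :
    pullback (T.hom ≫ h) gX ⟶ pullback T.hom (pullback.snd gX h) :=
  pullback.lift (pullback.fst _ _)
    (pullback.lift (pullback.snd _ _) (pullback.fst _ _ ≫ T.hom) (by
      rw [Category.assoc, pullback.condition]))
    (by rw [pullback.lift_snd])

theorem θ_fst (T : Over S') : θ gX h T ≫ pullback.fst _ _ = pullback.fst _ _ :=
  pullback.lift_fst _ _ _

theorem θ_snd (T : Over S') :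
    θ gX h T ≫ pullback.snd _ _ = pullback.snd _ _ ≫ pullback.fst gX h :=
  pullback.lift_snd _ _ _

theorem θinv_fst (T : Over S') : θinv gX h T ≫ pullback.fst _ _ = pullback.fst _ _ :=
  pullback.lift_fst _ _ _

theorem θinv_snd_fst (T : Over S') :
    θinv gX h T ≫ pullback.snd _ _ ≫ pullback.fst gX h = pullback.snd _ _ := by
  unfold θinv
  rw [← Category.assoc, pullback.lift_snd, pullback.lift_fst]

theorem θinv_snd_snd (T : Over S') :
    θinv gX h T ≫ pullback.snd _ _ ≫ pullback.snd gX h = pullback.fst _ _ ≫ T.hom := by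
  unfold θinv
  rw [← Category.assoc, pullback.lift_snd, pullback.lift_snd]

theorem θ_θinv (T : Over S') : θ gX h T ≫ θinv gX h T = 𝟙 _ := by
  apply pullback.hom_ext
  · rw [Category.assoc, θinv_fst, θ_fst, Category.id_comp]
  · apply pullback.hom_ext
    · rw [Category.assoc, Category.assoc, θinv_snd_fst, θ_snd, Category.id_comp]
    · rw [Category.assoc, Category.assoc, θinv_snd_snd, ← Category.assoc, θ_fst, Category.id_comp,
        pullback.condition]

theorem θinv_θ (T : Over S') : θinv gX h T ≫ θ gX h T = 𝟙 _ := by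
  apply pullback.hom_ext
  · rw [Category.assoc, θ_fst, θinv_fst, Category.id_comp]
  · rw [Category.assoc, θ_snd, θinv_snd_fst, Category.id_comp]


/-- The comparison isomorphism in `Over S`. -/
noncomputable def Θ (T : Over S') :
    (Over.map h).obj ((Over.map (pullback.snd gX h)).obj
        ((Over.pullback (pullback.snd gX h)).obj T)) ≅
      (Over.map gX).obj ((Over.pullback gX).obj ((Over.map h).obj T)) :=
  Over.isoMk ⟨θ gX h T, θinv gX h T, θ_θinv gX h T, θinv_θ gX h T⟩ (by
    change θ gX h T ≫ pullback.snd (T.hom ≫ h) gX ≫ gX =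
      (pullback.snd T.hom (pullback.snd gX h) ≫ pullback.snd gX h) ≫ h
    rw [← Category.assoc, θ_snd, Category.assoc, Category.assoc, pullback.condition])

theorem Θ_hom_left (T : Over S') : (Θ gX h T).hom.left = θ gX h T := rfl

/-- Naturality of `Θ`. -/
theorem Θ_natural {T T' : Over S'} (φ : T ⟶ T') :
    (Θ gX h T).hom ≫ (Over.map gX).map ((Over.pullback gX).map ((Over.map h).map φ)) =
      (Over.map h).map ((Over.map (pullback.snd gX h)).map
        ((Over.pullback (pullback.snd gX h)).map φ)) ≫ (Θ gX h T').hom := by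
  apply Over.OverMorphism.ext
  change θ gX h T ≫ pullback.lift (pullback.fst _ _ ≫ φ.left) (pullback.snd _ _) _ =
    pullback.lift (pullback.fst _ _ ≫ φ.left) (pullback.snd _ _) _ ≫ θ gX h T'
  apply pullback.hom_ext
  · refine Eq.trans (b := pullback.fst _ _ ≫ φ.left) ?_ (Eq.symm ?_)
    · rw [Category.assoc, pullback.lift_fst, ← Category.assoc, θ_fst]
    · rw [Category.assoc, θ_fst, pullback.lift_fst]
  · refine Eq.trans (b := pullback.snd _ _ ≫ pullback.fst gX h) ?_ (Eq.symm ?_)
    · rw [Category.assoc, pullback.lift_snd, θ_snd]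
    · rw [Category.assoc, θ_snd, ← Category.assoc, pullback.lift_snd]

variable {gX gY h}

/-- The bijection on sections. -/
noncomputable def sectionsEquiv {M : Over S} (e : (Flatn.morS gX gY).RepresentableBy M)
    (T : Over S') :
    (T ⟶ Over.mk (pullback.snd M.hom h)) ≃
      (Flatn.morS (pullback.snd gX h) (pullback.snd gY h)).obj (Opposite.op T) :=
  (((Over.mapPullbackAdj h).homEquiv T M).symm.trans
    (e.homEquiv (X := (Over.map h).obj T))).trans
  ((Iso.homCongr (Θ gX h T).symm (Iso.refl (Over.mk gY))).trans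
    ((Over.mapPullbackAdj h).homEquiv _ (Over.mk gY)))


theorem sectionsEquiv_apply {M : Over S} (e : (Flatn.morS gX gY).RepresentableBy M)
    (T : Over S') (x : T ⟶ Over.mk (pullback.snd M.hom h)) :
    sectionsEquiv e T x = (Over.mapPullbackAdj h).homEquiv _ (Over.mk gY)
      ((Θ gX h T).hom ≫ e.homEquiv (((Over.mapPullbackAdj h).homEquiv T M).symm x) ≫ 𝟙 _) :=
  rfl

/-- Base change of the representing object. -/
noncomputable def representableBy {M : Over S} (e : (Flatn.morS gX gY).RepresentableBy M) :
    (Flatn.morS (pullback.snd gX h) (pullback.snd gY h)).RepresentableBy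
      (Over.mk (pullback.snd M.hom h)) where
  homEquiv {T} := sectionsEquiv e T
  homEquiv_comp {T T'} φ t := by
    have h1 : ((Over.mapPullbackAdj h).homEquiv T M).symm (φ ≫ t) =
        (Over.map h).map φ ≫ ((Over.mapPullbackAdj h).homEquiv T' M).symm t :=
      Adjunction.homEquiv_naturality_left_symm _ _ _
    have h2 : e.homEquiv ((Over.map h).map φ ≫ ((Over.mapPullbackAdj h).homEquiv T' M).symm t) =
        (Over.map gX).map ((Over.pullback gX).map ((Over.map h).map φ)) ≫
          e.homEquiv (((Over.mapPullbackAdj h).homEquiv T' M).symm t) :=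
      e.homEquiv_comp _ _
    refine (sectionsEquiv_apply e T (φ ≫ t)).trans ?_
    refine Eq.trans ?_ (Flatn.morS_map _ _ φ _).symm
    rw [sectionsEquiv_apply, h1, h2, ← Adjunction.homEquiv_naturality_left]
    congr 1
    have key : ∀ g : (Over.map gX).obj ((Over.pullback gX).obj ((Over.map h).obj T')) ⟶ Over.mk gY,
        (Θ gX h T).hom ≫ (Over.map gX).map ((Over.pullback gX).map ((Over.map h).map φ)) ≫ g =
        (Over.map h).map ((Over.map (pullback.snd gX h)).map
          ((Over.pullback (pullback.snd gX h)).map φ)) ≫ (Θ gX h T').hom ≫ g ≫ 𝟙 _ := by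
      intro g
      rw [Category.comp_id, ← Category.assoc, Θ_natural, Category.assoc]
    rw [Category.comp_id]
    exact key _

end Groth.Agent.H85.MorSBase
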