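import Mathlib
import Groth.Agent.H84.ResClassMod
import Groth.Agent.S14613

/-!
# Mumford's complex (algebra part): a bounded above cochain complex with finite cohomology over a
Noetherian ring is quasi-isomorphic to a bounded above complex of finite free modules, universally
(after tensoring with any module) if the terms are flat.
-/

set_option autoImplicit false
set_option backward.isDefEq.respectTransparency false
set_option backward.isDefEq.respectTransparency.types false

namespace Groth.Agent.H85.MumfordCx

open CategoryTheory CategoryTheory.Limits Groth.Agent.H84.ResClass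

universe u v

section general

variable {C : Type u} [Category.{v} C] [Abelian C]

theorem embLE_toNat (b : ℤ) (i : ℤ) (hi : i ≤ b) :
    (ComplexShape.embeddingUpIntLE b).f (b - i).toNat = i := by
  rw [ComplexShape.embeddingUpIntLE_f]
  omega

variable {K' K'' : ObjectProperty C}

/-- The homology of the canonical truncation in degree `m` is the cohomology of the complex in
degree `b - m`. -/
noncomputable def truncHomologyIso (P : CochainComplex C ℤ) (b : ℤ) (m : ℕ) :
    (scN (HomologicalComplex.truncLE' P (ComplexShape.embeddingUpIntLE b)) m).leftHomology ≅ P.homology (b - m) := by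
  have hi : (ComplexShape.down ℕ).prev m = m + 1 := by simp
  have hk : (ComplexShape.down ℕ).next m = m - 1 := by cases m <;> simp
  have : QuasiIsoAt (HomologicalComplex.ιTruncLE P (ComplexShape.embeddingUpIntLE b)) (b - m) :=
    HomologicalComplex.quasiIsoAt_ιTruncLE P (ComplexShape.embeddingUpIntLE b) (j := m) rfl
  exact (scN (HomologicalComplex.truncLE' P (ComplexShape.embeddingUpIntLE b)) m).leftHomologyIso ≪≫
    (ShortComplex.homologyMapIso ((HomologicalComplex.truncLE' P (ComplexShape.embeddingUpIntLE b)).isoSc'
      (m + 1) m (m - 1) hi hk)).symm ≪≫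
    ((HomologicalComplex.truncLE' P (ComplexShape.embeddingUpIntLE b)).extendHomologyIso
      (ComplexShape.embeddingUpIntLE b) (j := m) (j' := b - m) rfl).symm ≪≫
    (HomologicalComplex.homologyMapIso (HomologicalComplex.truncLEIso P (ComplexShape.embeddingUpIntLE b))
      (b - m)).symm ≪≫
    asIso (HomologicalComplex.homologyMap (HomologicalComplex.ιTruncLE P (ComplexShape.embeddingUpIntLE b)) (b - m))

theorem exists_resolution_up [K'.IsClosedUnderIsomorphisms] [K''.IsClosedUnderIsomorphisms]
    (hyp : Hyp K' K'') (P : CochainComplex C ℤ) (hP : ∀ i, K' (P.homology i)) (b : ℤ)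
    (hb : ∀ i, b < i → IsZero (P.homology i)) :
    ∃ (Q : CochainComplex C ℤ) (u : Q ⟶ P),
      (∀ i, i ≤ b → K'' (Q.X i)) ∧ (∀ i, b < i → IsZero (Q.X i)) ∧ QuasiIso u := by
  let e := ComplexShape.embeddingUpIntLE b
  have hP₀ : ∀ m, K' ((scN (HomologicalComplex.truncLE' P e) m).leftHomology) := fun m =>
    K'.prop_of_iso (truncHomologyIso P b m).symm (hP (b - m))
  obtain ⟨Q₀, ψ₀, hQ₀, hψ₀⟩ := exists_resolution_nat hyp (HomologicalComplex.truncLE' P e) hP₀
  have hsupp : P.IsSupported e := ⟨fun i' hi' => by
    rw [HomologicalComplex.exactAt_iff_isZero_homology]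
    apply hb
    by_contra hcon
    exact hi' (b - i').toNat (embLE_toNat b i' (by omega))⟩
  have h1 : QuasiIso (HomologicalComplex.ιTruncLE P e) := (HomologicalComplex.quasiIso_ιTruncLE_iff_isSupported P e).mpr hsupp
  have h2 : QuasiIso (HomologicalComplex.extendMap ψ₀ e) :=
    (HomologicalComplex.quasiIso_extendMap_iff ψ₀ e).mpr hψ₀
  refine ⟨Q₀.extend e, HomologicalComplex.extendMap ψ₀ e ≫ (HomologicalComplex.truncLEIso P e).inv ≫ HomologicalComplex.ιTruncLE P e,
    ?_, ?_, ?_⟩
  · intro i hi
    exact K''.prop_of_iso (Q₀.extendXIso e (embLE_toNat b i hi)).symm (hQ₀ _)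
  · intro i hi
    exact Q₀.isZero_extend_X e i
      ((ComplexShape.notMem_range_embeddingUpIntLE_iff b i).mpr hi)
  · infer_instance

end general

section modules

variable (A : Type u) [CommRing A]

/-- Mumford's Lemma 1 (cochain version): a cochain complex of modules over a Noetherian ring with
finite cohomology, vanishing above `b`, is the target of a quasi-isomorphism from a complex of
finite free modules vanishing above `b`. -/
theorem exists_finite_free_qis [IsNoetherianRing A]
    (P : CochainComplex (ModuleCat.{u} A) ℤ) (hP : ∀ i, Module.Finite A (P.homology i)) (b : ℤ)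
    (hb : ∀ i, b < i → IsZero (P.homology i)) :
    ∃ (L : CochainComplex (ModuleCat.{u} A) ℤ) (φ : L ⟶ P),
      (∀ i, Module.Finite A (L.X i) ∧ Module.Free A (L.X i)) ∧ (∀ i, b < i → IsZero (L.X i)) ∧
        QuasiIso φ := by
  obtain ⟨Q, u, h1, h2, h3⟩ := exists_resolution_up (hyp_mod A) P hP b hb
  refine ⟨Q, u, ?_, h2, h3⟩
  intro i
  by_cases hi : i ≤ b
  · exact h1 i hi
  · have hz : IsZero (Q.X i) := h2 i (by omega)
    have : Subsingleton (Q.X i) := ModuleCat.subsingleton_of_isZero hz
    exact ⟨inferInstance, inferInstance⟩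

/-- Mumford's complex: a bounded above complex `C` of flat modules over a Noetherian ring with finite
cohomology receives a quasi-isomorphism from a bounded above complex `L` of finite free modules, and
this stays a quasi-isomorphism after tensoring with any module. -/
theorem exists_finite_free_universal_qis [IsNoetherianRing A]
    (C : CochainComplex (ModuleCat.{u} A) ℤ) (hflat : ∀ i, Module.Flat A (C.X i)) (b : ℤ)
    (hb : ∀ i, b < i → IsZero (C.X i)) (hfin : ∀ i, Module.Finite A (C.homology i)) :
    ∃ (L : CochainComplex (ModuleCat.{u} A) ℤ) (φ : L ⟶ C),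
      (∀ i, Module.Finite A (L.X i) ∧ Module.Free A (L.X i)) ∧ (∀ i, b < i → IsZero (L.X i)) ∧
        QuasiIso φ ∧ ∀ M : ModuleCat.{u} A, QuasiIso
          (((MonoidalCategory.tensorRight M).mapHomologicalComplex (ComplexShape.up ℤ)).map φ) := by
  have hbH : ∀ i, b < i → IsZero (C.homology i) := fun i hi =>
    (HomologicalComplex.exactAt_iff_isZero_homology _ _).mp
      (HomologicalComplex.ExactAt.of_isZero (hb i hi))
  obtain ⟨L, φ, hL, hLb, hφ⟩ := exists_finite_free_qis A C hfin b hbH
  refine ⟨L, φ, hL, hLb, hφ, fun M => ?_⟩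
  have hLflat : ∀ i, Module.Flat A (L.X i) := fun i => by
    have := (hL i).2
    infer_instance
  exact Groth.Agent.S14613.result A L C hLflat hflat ⟨b, hLb⟩ ⟨b, hb⟩ φ M

end modules

end Groth.Agent.H85.MumfordCx
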