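import Groth.Agent.H85.MumfordCx
import Groth.Prelude.Def_ega3

/-!
# Mumford's complex in terms of the prelude functors `CohIII.T`
-/

set_option autoImplicit false

namespace Groth.Agent.H85.MumfordCx

open CategoryTheory CategoryTheory.Limits

universe u

/-- Mumford's complex, in the language of `CohIII.T`: for a bounded above complex `C` of flat
modules over a Noetherian ring `A` with finite cohomology there is a bounded above complex `L` of
finite free modules with `H^p(L ⊗ M) ≅ H^p(C ⊗ M)` for all `M` and `p` (induced by one morphism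
`φ : L ⟶ C`). -/
theorem exists_T_iso (A : Type u) [CommRing A] [IsNoetherianRing A]
    (C : CochainComplex (ModuleCat.{u} A) ℤ) (hflat : ∀ i, Module.Flat A (C.X i)) (b : ℤ)
    (hb : ∀ i, b < i → IsZero (C.X i)) (hfin : ∀ i, Module.Finite A (C.homology i)) :
    ∃ (L : CochainComplex (ModuleCat.{u} A) ℤ) (φ : L ⟶ C),
      (∀ i, Module.Finite A (L.X i) ∧ Module.Free A (L.X i)) ∧ (∀ i, b < i → IsZero (L.X i)) ∧
        QuasiIso φ ∧ ∀ (M : ModuleCat.{u} A) (p : ℤ),
          IsIso (HomologicalComplex.homologyMap
            (((MonoidalCategory.tensorRight M).mapHomologicalComplex (ComplexShape.up ℤ)).map φ) p) ∧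
          Nonempty (CohIII.T L p M ≅ CohIII.T C p M) := by
  obtain ⟨L, φ, h1, h2, h3, h4⟩ := exists_finite_free_universal_qis A C hflat b hb hfin
  refine ⟨L, φ, h1, h2, h3, fun M p => ?_⟩
  have := h4 M
  have hiso : IsIso (HomologicalComplex.homologyMap
      (((MonoidalCategory.tensorRight M).mapHomologicalComplex (ComplexShape.up ℤ)).map φ) p) :=
    (quasiIsoAt_iff_isIso_homologyMap _ p).mp (QuasiIso.quasiIsoAt p)
  exact ⟨hiso, ⟨asIso (HomologicalComplex.homologyMap
      (((MonoidalCategory.tensorRight M).mapHomologicalComplex (ComplexShape.up ℤ)).map φ) p)⟩⟩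

end Groth.Agent.H85.MumfordCx
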