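import Groth.Agent.H85.IsoSlope

set_option autoImplicit false
set_option linter.unusedSectionVars false

noncomputable section

open scoped Isocrystal Pointwise
open Filter Topology Module

universe u v v'

namespace Groth.Agent.H85

variable {p : ℕ} [Fact p.Prime] {k : Type u} [Field k] [CharP k p] [PerfectRing k p]

local notation "W" => WittVector p k
local notation "L" => FractionRing (WittVector p k)

variable {N : Type v} [AddCommGroup N] [Module (WittVector p k) N] [Module (FractionRing (WittVector p k)) N]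
  [IsScalarTower (WittVector p k) (FractionRing (WittVector p k)) N]

variable {h : ℕ}

/-- a Nakayama-type lemma for topologically nilpotent operators -/
theorem le_of_le_sup_img {H : N → N} (hH : IsSemi (p := p) (k := k) H) {M Y D : Submodule W N}
    (hDM : D ≤ M) (hD : D ≤ Y ⊔ img H D) (hY : img H Y ≤ Y) {n : ℕ} (hn : img (H^[n]) M ≤ Y) :
    D ≤ Y := by
  have key : ∀ t : ℕ, D ≤ Y ⊔ img (H^[t + 1]) D := by
    intro t
    induction t with
    | zero => simpa using hD
    | succ t ih =>
      refine hD.trans (sup_le le_sup_left ?_)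
      refine (img_mono H ih).trans ?_
      rw [img_sup hH, ← img_comp (hH.iterate (t + 1)), ← Function.iterate_succ']
      exact sup_le (hY.trans le_sup_left) le_sup_right
  rcases Nat.eq_zero_or_pos n with rfl | hpos
  · rw [Function.iterate_zero, img_id] at hn
    exact hDM.trans hn
  · obtain ⟨n', rfl⟩ : ∃ n', n = n' + 1 := ⟨n - 1, by omega⟩
    exact (key n').trans (sup_le le_rfl ((img_mono _ hDM).trans hn))

theorem iterate_mem_of_img_le {H : N → N} {M : Submodule W N} (hHM : img H M ≤ M) (n : ℕ) {x : N}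
    (hx : x ∈ M) : H^[n] x ∈ M := by
  induction n with
  | zero => exact hx
  | succ n ih =>
    rw [Function.iterate_succ_apply']
    exact hHM (apply_mem_img H ih)

/-- a topologically nilpotent operator on a lattice of rank `h` satisfies `H^h M ⊆ pM` -/
theorem iterate_finrank_mem_pPow_one [Module.Finite L N] (hh : Module.finrank L N = h)
    {H : N → N} (hH : IsSemi (p := p) (k := k) H) {M : Submodule W N} (hHM : img H M ≤ M)
    {n : ℕ} (hn : img (H^[n]) M ≤ Isoc.pPow 1 M) {x : N} (hx : x ∈ M) :
    H^[h] x ∈ Isoc.pPow 1 M := by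
  classical
  have hY : img H (Isoc.pPow 1 M) ≤ Isoc.pPow 1 M := by
    rw [img_pPow hH]
    exact pPow_mono 1 hHM
  have hYM : Isoc.pPow 1 M ≤ M := pPow_one_le M
  obtain ⟨w, hrel, hu⟩ := exists_integral_relation hh (fun i : Fin (h + 1) => H^[i] x)
  let S : Finset (Fin (h + 1)) := Finset.univ.filter fun i => IsUnit (w i)
  have hS : S.Nonempty := by
    obtain ⟨i, hi⟩ := hu
    exact ⟨i, by simp [S, hi]⟩
  set j := S.min' hS with hj
  have hjS : j ∈ S := Finset.min'_mem S hS
  have hju : IsUnit (w j) := by simpa [S] using hjS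
  have hlt : ∀ i : Fin (h + 1), i < j → ¬ IsUnit (w i) := by
    intro i hi hiu
    have : i ∈ S := by simp [S, hiu]
    exact absurd (Finset.min'_le S i this) (not_le.mpr hi)
  -- the module D
  let D : Submodule W N := Isoc.pPow 1 M ⊔ Submodule.span W (Set.range fun i : ℕ => H^[(j : ℕ) + i] x)
  have hDM : D ≤ M := by
    refine sup_le hYM ?_
    rw [Submodule.span_le]
    rintro _ ⟨i, rfl⟩
    exact iterate_mem_of_img_le hHM _ hx
  have hgen : ∀ i : ℕ, H^[(j : ℕ) + i] x ∈ D := fun i =>
    Submodule.mem_sup_right (Submodule.subset_span ⟨i, rfl⟩)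
  have hgen' : ∀ i : ℕ, H^[(j : ℕ) + (i + 1)] x ∈ img H D := by
    intro i
    have : H^[(j : ℕ) + (i + 1)] x = H (H^[(j : ℕ) + i] x) := by
      rw [← Function.iterate_succ_apply' H]
      rfl
    rw [this]
    exact apply_mem_img H (hgen i)
  have hD : D ≤ Isoc.pPow 1 M ⊔ img H D := by
    refine sup_le le_sup_left ?_
    rw [Submodule.span_le]
    rintro _ ⟨i, rfl⟩
    rcases Nat.eq_zero_or_pos i with rfl | hi
    · -- the generator H^j x, via the relation
      change H^[(j : ℕ)] x ∈ Isoc.pPow 1 M ⊔ img H D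
      have h1 := Finset.add_sum_erase Finset.univ (fun i : Fin (h + 1) => w i • H^[i] x)
        (Finset.mem_univ j)
      rw [hrel] at h1
      have h2 : w j • H^[j] x = -∑ i ∈ Finset.univ.erase j, w i • H^[i] x :=
        eq_neg_of_add_eq_zero_left h1
      have h3 : w j • H^[j] x ∈ Isoc.pPow 1 M ⊔ img H D := by
        rw [h2]
        apply Submodule.neg_mem
        apply Submodule.sum_mem
        intro i hi
        have hij : i ≠ j := Finset.ne_of_mem_erase hi
        rcases lt_or_gt_of_ne hij with hlt' | hgt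
        · apply Submodule.mem_sup_left
          obtain ⟨w', hw'⟩ := p_dvd_of_not_isUnit (hlt i hlt')
          rw [hw', mul_smul, mem_pPow_iff_exists]
          refine ⟨w' • H^[i] x, M.smul_mem _ (iterate_mem_of_img_le hHM _ hx), ?_⟩
          rw [zpow_one, pL_smul_eq]
        · apply Submodule.mem_sup_right
          apply Submodule.smul_mem
          have : (i : ℕ) = (j : ℕ) + ((i : ℕ) - (j : ℕ) - 1 + 1) := by
            have : (j : ℕ) < (i : ℕ) := hgt
            omega
          rw [this]
          exact hgen' _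
      obtain ⟨u, hu'⟩ := hju
      have : H^[(j : ℕ)] x = ((u⁻¹ : Wˣ) : W) • (w j • H^[j] x) := by
        rw [smul_smul, ← hu', Units.inv_mul, one_smul]
      rw [this]
      exact Submodule.smul_mem _ _ h3
    · obtain ⟨i', rfl⟩ : ∃ i', i = i' + 1 := ⟨i - 1, by omega⟩
      exact Submodule.mem_sup_right (hgen' i')
  have hDY : D ≤ Isoc.pPow 1 M := le_of_le_sup_img hH hDM hD hY hn
  have hjx : H^[(j : ℕ)] x ∈ Isoc.pPow 1 M := hDY (by simpa using hgen 0)
  have hjh : (j : ℕ) ≤ h := by omega
  have : H^[h] x = H^[h - j] (H^[(j : ℕ)] x) := by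
    rw [← Function.iterate_add_apply]
    congr 1
    omega
  rw [this]
  have hY' : img H (Isoc.pPow 1 M) ≤ Isoc.pPow 1 M := hY
  exact iterate_mem_of_img_le hY' _ hjx

theorem img_iterate_finrank_le [Module.Finite L N] (hh : Module.finrank L N = h)
    {H : N → N} (hH : IsSemi (p := p) (k := k) H) {M : Submodule W N} (hHM : img H M ≤ M)
    {n : ℕ} (hn : img (H^[n]) M ≤ Isoc.pPow 1 M) : img (H^[h]) M ≤ Isoc.pPow 1 M := by
  intro y hy
  obtain ⟨x, hx, rfl⟩ := (mem_img (hH.iterate h)).mp hy
  exact iterate_finrank_mem_pPow_one hh hH hHM hn hx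

end Groth.Agent.H85
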