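import Mathlib
import Groth.Agent.H85.DetIntegral

/-!
# Norms in a pushout of a finite free algebra

For a finite free `K`-algebra `L` with basis `e` and a pushout square `K → R'`, `L → S'`,
the multiplication matrix of `∑ s_j l_j` in the induced basis is `∑ s_j • M(l_j)`.
For `R' = K[X_j]` and integral `l_j` the determinant of the generic matrix has coefficients in
the integrally closed subring.
-/

set_option autoImplicit false
set_option linter.unusedSectionVars false

namespace Groth.Agent.H85.NormPushout

open Module

section general

variable {K L R' S' : Type*} [CommRing K] [CommRing L] [CommRing R'] [CommRing S']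
  [Algebra K L] [Algebra K R'] [Algebra R' S'] [Algebra L S'] [Algebra K S']
  [IsScalarTower K L S'] [IsScalarTower K R' S'] [Algebra.IsPushout K R' L S']
  {ι : Type*} [Fintype ι] [DecidableEq ι] (e : Basis ι K L)

variable (R' S') in
/-- the induced basis of the pushout -/
noncomputable def pb : Basis ι R' S' :=
  IsBaseChange.basis e (Algebra.IsPushout.out (R := K) (S := R') (R' := L) (S' := S'))

theorem pb_apply (i : ι) : pb R' S' e i = algebraMap L S' (e i) :=
  IsBaseChange.basis_apply e _ i

theorem pb_repr_algebraMap (l : L) (i : ι) :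
    (pb R' S' e).repr (algebraMap L S' l) i = algebraMap K R' (e.repr l i) :=
  IsBaseChange.basis_repr_comp_apply e
    (Algebra.IsPushout.out (R := K) (S := R') (R' := L) (S' := S')) l i

theorem leftMulMatrix_algebraMap (l : L) :
    Algebra.leftMulMatrix (pb R' S' e) (algebraMap L S' l) =
      (Algebra.leftMulMatrix e l).map (algebraMap K R') := by
  ext i j
  rw [Algebra.leftMulMatrix_eq_repr_mul, pb_apply, ← map_mul, pb_repr_algebraMap, Matrix.map_apply,
    Algebra.leftMulMatrix_eq_repr_mul]

/-- the matrix `∑ s_j • M(l_j)` -/
noncomputable def nm {J : Type*} (t : Finset J) (s : J → R') (l : J → L) : Matrix ι ι R' :=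
  ∑ j ∈ t, s j • (Algebra.leftMulMatrix e (l j)).map (algebraMap K R')

variable (S') in
theorem leftMulMatrix_sum {J : Type*} (t : Finset J) (s : J → R') (l : J → L) :
    Algebra.leftMulMatrix (pb R' S' e)
      (∑ j ∈ t, algebraMap R' S' (s j) * algebraMap L S' (l j)) = nm e t s l := by
  unfold nm
  rw [map_sum]
  refine Finset.sum_congr rfl (fun j _ => ?_)
  rw [map_mul, AlgHom.commutes, leftMulMatrix_algebraMap, Algebra.algebraMap_eq_smul_one,
    smul_mul_assoc, one_mul]

variable (S') in
theorem norm_eq_det {J : Type*} (t : Finset J) (s : J → R') (l : J → L) :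
    Algebra.norm R' (∑ j ∈ t, algebraMap R' S' (s j) * algebraMap L S' (l j)) =
      (nm e t s l).det := by
  rw [Algebra.norm_eq_matrix_det (pb R' S' e), leftMulMatrix_sum]

theorem map_nm {R'' : Type*} [CommRing R''] [Algebra K R''] (φ : R' →ₐ[K] R'')
    {J : Type*} (t : Finset J) (s : J → R') (l : J → L) :
    (nm e t s l).map φ = nm e t (fun j => φ (s j)) l := by
  unfold nm
  ext a b
  simp only [Matrix.map_apply, Matrix.sum_apply, Matrix.smul_apply, smul_eq_mul, map_sum, map_mul,
    AlgHom.commutes]

theorem det_nm_map {R'' : Type*} [CommRing R''] [Algebra K R''] (φ : R' →ₐ[K] R'')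
    {J : Type*} (t : Finset J) (s : J → R') (l : J → L) :
    φ (nm e t s l).det = (nm e t (fun j => φ (s j)) l).det := by
  rw [← map_nm, ← AlgHom.coe_toRingHom, RingHom.map_det]
  rfl

end general

section poly

attribute [local instance] MvPolynomial.algebraMvPolynomial

variable {A K L : Type*} [CommRing A] [IsDomain A] [IsIntegrallyClosed A]
  [Field K] [Algebra A K] [IsFractionRing A K] [Field L] [Algebra K L] [Algebra A L]
  [IsScalarTower A K L]
  {ι : Type*} [Fintype ι] [DecidableEq ι] (e : Basis ι K L)
  {J : Type*} [Fintype J]

instance isScalarTower_mvPolynomial :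
    IsScalarTower (MvPolynomial J A) (MvPolynomial J K) (MvPolynomial J L) :=
  IsScalarTower.of_algebraMap_eq' (by
    change MvPolynomial.map (algebraMap A L) =
      (MvPolynomial.map (algebraMap K L)).comp (MvPolynomial.map (algebraMap A K))
    ext x
    · simp [IsScalarTower.algebraMap_apply A K L]
    · simp)

/-- The generic norm form `det (∑ X_j M(l_j))` of integral elements has coefficients in `A`. -/
theorem det_nm_X_mem_range (l : J → L) (hl : ∀ j, IsIntegral A (l j)) :
    (nm e Finset.univ (MvPolynomial.X : J → MvPolynomial J K) l).det ∈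
      Set.range (MvPolynomial.map (algebraMap A K) : MvPolynomial J A → MvPolynomial J K) := by
  classical
  -- the generic element of `L[X]`
  set γ : MvPolynomial J L := ∑ j, algebraMap (MvPolynomial J K) (MvPolynomial J L)
    (MvPolynomial.X j) * algebraMap L (MvPolynomial J L) (l j) with hγ
  have hγint : IsIntegral (MvPolynomial J A) γ := by
    refine IsIntegral.sum _ (fun j _ => IsIntegral.mul ?_ ?_)
    · have : algebraMap (MvPolynomial J K) (MvPolynomial J L) (MvPolynomial.X j) =
          algebraMap (MvPolynomial J A) (MvPolynomial J L) (MvPolynomial.X j) := by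
        change MvPolynomial.map _ _ = MvPolynomial.map _ _
        simp
      rw [this]
      exact isIntegral_algebraMap
    · have h1 : IsIntegral A (algebraMap L (MvPolynomial J L) (l j)) :=
        (hl j).map (IsScalarTower.toAlgHom A L (MvPolynomial J L))
      exact h1.tower_top
  have hMint : IsIntegral (MvPolynomial J A)
      (Algebra.leftMulMatrix (pb (MvPolynomial J K) (MvPolynomial J L) e) γ) :=
    hγint.map ((Algebra.leftMulMatrix (pb (MvPolynomial J K) (MvPolynomial J L) e)).restrictScalars
      (MvPolynomial J A))
  rw [hγ, leftMulMatrix_sum] at hMint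
  have hdet := Groth.Agent.H85.DetIntegral.isIntegral_det _ hMint
  rw [MvPolynomial.isIntegral_iff_isIntegral_coeff] at hdet
  rw [MvPolynomial.mem_range_map_iff_coeffs_subset]
  intro c hc
  obtain ⟨d, -, rfl⟩ := MvPolynomial.mem_coeffs_iff.mp hc
  exact IsIntegrallyClosed.isIntegral_iff.mp (hdet d)

end poly

end Groth.Agent.H85.NormPushout
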