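import Mathlib
import Groth.Agent.H85.NormPushout

/-!
# Norm of `B ⊗ R` in `K ⊗ R` for the integral closure `B` of an integrally closed domain `A`
-/

set_option autoImplicit false
set_option linter.unusedSectionVars false

namespace Groth.Agent.H85.NormTensor

open Module TensorProduct Groth.Agent.H85.NormPushout

universe u

variable (k A K L R : Type u) [Field k]
    [CommRing A] [IsDomain A] [IsIntegrallyClosed A] [Algebra k A]
    [Field K] [Algebra A K] [IsFractionRing A K] [Algebra k K] [IsScalarTower k A K]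
    [Field L] [Algebra K L] [FiniteDimensional K L] [Algebra A L] [IsScalarTower A K L]
    [Algebra k L] [IsScalarTower k K L] [IsScalarTower k A L]
    [CommRing R] [Algebra k R]

/-- the `K ⊗ R`-algebra structure of `L ⊗ R` -/
@[reducible] noncomputable def algKR : Algebra (K ⊗[k] R) (L ⊗[k] R) :=
  (Algebra.TensorProduct.map (IsScalarTower.toAlgHom k K L) (AlgHom.id k R)).toRingHom.toAlgebra

attribute [local instance] algKR

theorem algebraMap_tmul (x : K) (r : R) :
    algebraMap (K ⊗[k] R) (L ⊗[k] R) (x ⊗ₜ r) = algebraMap K L x ⊗ₜ r := rfl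

instance : IsScalarTower K (K ⊗[k] R) (L ⊗[k] R) :=
  IsScalarTower.of_algebraMap_eq' (by
    ext x
    change algebraMap K (L ⊗[k] R) x = algebraMap (K ⊗[k] R) (L ⊗[k] R) (algebraMap K (K ⊗[k] R) x)
    rw [Algebra.TensorProduct.algebraMap_apply, Algebra.TensorProduct.algebraMap_apply,
      algebraMap_tmul]
    simp)

instance isPushout : Algebra.IsPushout K (K ⊗[k] R) L (L ⊗[k] R) :=
  Algebra.IsPushout.symm (Algebra.IsPushout.tensorProduct_tensorProduct k R K L (by
    ext r
    change algebraMap (K ⊗[k] R) (L ⊗[k] R) ((1 : K) ⊗ₜ r) = (1 : L) ⊗ₜ r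
    rw [algebraMap_tmul, map_one]))

section repr

variable {k A K L R}

/-- the map `B ⊗ R → L ⊗ R` -/
noncomputable abbrev incl : (integralClosure A L) ⊗[k] R →ₐ[k] L ⊗[k] R :=
  Algebra.TensorProduct.map ((integralClosure A L).val.restrictScalars k) (AlgHom.id k R)

theorem incl_injective : Function.Injective (incl (k := k) (A := A) (L := L) (R := R)) := by
  have h := Module.Flat.rTensor_preserves_injective_linearMap (M := R)
    (((integralClosure A L).val.restrictScalars k).toLinearMap)
    (fun x y hxy => Subtype.ext hxy)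
  intro x y hxy
  apply h
  have e : ∀ z, (LinearMap.rTensor R ((integralClosure A L).val.restrictScalars k).toLinearMap) z =
      incl (k := k) (A := A) (L := L) (R := R) z := by
    intro z
    induction z using TensorProduct.induction_on with
    | zero => simp
    | tmul b r => simp
    | add z w hz hw => rw [map_add, map_add, hz, hw]
  rw [e, e, hxy]

/-- every element of the image of `B ⊗ R` is a combination `∑ (1 ⊗ r_j) • l_j` with the `l_j`
integral. -/
theorem exists_repr (β : (integralClosure A L) ⊗[k] R) :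
    ∃ (J : Type) (_ : Fintype J) (l : J → L) (r : J → R), (∀ j, IsIntegral A (l j)) ∧
      incl β = ∑ j, algebraMap (K ⊗[k] R) (L ⊗[k] R) ((1 : K) ⊗ₜ r j) *
        algebraMap L (L ⊗[k] R) (l j) := by
  induction β using TensorProduct.induction_on with
  | zero => exact ⟨PEmpty, inferInstance, PEmpty.elim, PEmpty.elim, fun j => j.elim, by simp⟩
  | tmul b r =>
    refine ⟨PUnit, inferInstance, fun _ => (b : L), fun _ => r, fun _ => b.2, ?_⟩
    rw [Fintype.sum_unique, algebraMap_tmul, map_one, Algebra.TensorProduct.algebraMap_apply,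
      Algebra.TensorProduct.tmul_mul_tmul]
    simp
  | add z w hz hw =>
    obtain ⟨J₁, _, l₁, r₁, h₁, e₁⟩ := hz
    obtain ⟨J₂, _, l₂, r₂, h₂, e₂⟩ := hw
    refine ⟨J₁ ⊕ J₂, inferInstance, Sum.elim l₁ l₂, Sum.elim r₁ r₂, ?_, ?_⟩
    · rintro (j | j)
      · exact h₁ j
      · exact h₂ j
    · rw [map_add, e₁, e₂, Fintype.sum_sum_type]
      rfl

end repr

section norm

variable {k A K L R}

theorem aeval_map_eq {J : Type*} (r : J → R) (q : MvPolynomial J A) :
    MvPolynomial.aeval (fun j => ((1 : K) ⊗ₜ[k] r j : K ⊗[k] R))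
        (MvPolynomial.map (algebraMap A K) q) =
      Algebra.TensorProduct.map (IsScalarTower.toAlgHom k A K) (AlgHom.id k R)
        (MvPolynomial.aeval (fun j => ((1 : A) ⊗ₜ[k] r j : A ⊗[k] R)) q) := by
  induction q using MvPolynomial.induction_on with
  | C a =>
    rw [MvPolynomial.map_C, MvPolynomial.aeval_C, MvPolynomial.aeval_C,
      Algebra.TensorProduct.algebraMap_apply, Algebra.TensorProduct.algebraMap_apply,
      Algebra.TensorProduct.map_tmul]
    simp
  | add p q hp hq => rw [map_add, map_add, map_add, map_add, hp, hq]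
  | mul_X p j hp =>
    rw [map_mul, map_mul, map_mul, map_mul, hp, MvPolynomial.map_X, MvPolynomial.aeval_X,
      MvPolynomial.aeval_X, Algebra.TensorProduct.map_tmul]
    simp

theorem norm_incl_mem_range (β : (integralClosure A L) ⊗[k] R) :
    Algebra.norm (K ⊗[k] R) (incl β) ∈
      Set.range (Algebra.TensorProduct.map (IsScalarTower.toAlgHom k A K) (AlgHom.id k R)) := by
  classical
  obtain ⟨J, _, l, r, hl, e₁⟩ := exists_repr (K := K) β
  let e := Module.finBasis K L
  rw [e₁, norm_eq_det (L ⊗[k] R) e Finset.univ (fun j => (1 : K) ⊗ₜ[k] r j) l]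
  obtain ⟨q, hq⟩ := det_nm_X_mem_range (A := A) e l hl
  have h := det_nm_map e
    (MvPolynomial.aeval (fun j => ((1 : K) ⊗ₜ[k] r j : K ⊗[k] R)) : MvPolynomial J K →ₐ[K] K ⊗[k] R)
    Finset.univ (MvPolynomial.X : J → MvPolynomial J K) l
  simp only [MvPolynomial.aeval_X] at h
  rw [← h, ← hq, aeval_map_eq]
  exact ⟨_, rfl⟩

end norm

section regular

variable {k A K L R}

theorem algebraMap_AL_ne_zero {a : A} (ha : a ≠ 0) : algebraMap K L (algebraMap A K a) ≠ 0 := by
  intro h
  have h1 : algebraMap A K a = 0 := (algebraMap K L).injective (by rw [h, map_zero])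
  exact ha ((IsFractionRing.injective A K) (by rw [h1, map_zero]))

include K in
/-- `L ⊗ R` is a localisation of `B ⊗ R` at nonzero elements of `A`. -/
theorem exists_mul_mem_range (w : L ⊗[k] R) :
    ∃ a : A, a ≠ 0 ∧ ∃ z : (integralClosure A L) ⊗[k] R,
      incl z = algebraMap L (L ⊗[k] R) (algebraMap A L a) * w := by
  induction w using TensorProduct.induction_on with
  | zero => exact ⟨1, one_ne_zero, 0, by simp⟩
  | tmul x r =>
    have halg : IsAlgebraic A x := by
      have : IsAlgebraic K x := Algebra.IsAlgebraic.isAlgebraic x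
      exact (IsFractionRing.isAlgebraic_iff A K L).mpr this
    obtain ⟨a, ha, hint⟩ := halg.exists_integral_multiple
    refine ⟨a, ha, (⟨a • x, hint⟩ : integralClosure A L) ⊗ₜ[k] r, ?_⟩
    rw [Algebra.TensorProduct.algebraMap_apply, Algebra.TensorProduct.tmul_mul_tmul,
      Algebra.TensorProduct.map_tmul]
    simp [Algebra.smul_def]
  | add w₁ w₂ h₁ h₂ =>
    obtain ⟨a₁, ha₁, z₁, e₁⟩ := h₁
    obtain ⟨a₂, ha₂, z₂, e₂⟩ := h₂
    refine ⟨a₁ * a₂, mul_ne_zero ha₁ ha₂,
      algebraMap A ((integralClosure A L) ⊗[k] R) a₂ * z₁ +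
        algebraMap A ((integralClosure A L) ⊗[k] R) a₁ * z₂, ?_⟩
    have hA : ∀ a : A, incl (k := k) (R := R) (algebraMap A ((integralClosure A L) ⊗[k] R) a) =
        algebraMap L (L ⊗[k] R) (algebraMap A L a) := by
      intro a
      rw [Algebra.TensorProduct.algebraMap_apply, Algebra.TensorProduct.algebraMap_apply,
        Algebra.TensorProduct.map_tmul]
      simp
    rw [map_add, map_mul, map_mul, hA, hA, e₁, e₂, map_mul, map_mul]
    ring

include K in
theorem isRegular_incl_iff (β : (integralClosure A L) ⊗[k] R) :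
    IsRegular β ↔ IsRegular (incl β) := by
  rw [← isLeftRegular_iff_isRegular, ← isLeftRegular_iff_isRegular]
  constructor
  · intro hβ
    have key : ∀ w : L ⊗[k] R, incl β * w = 0 → w = 0 := by
      intro w hw
      obtain ⟨a, ha, z, hz⟩ := exists_mul_mem_range (k := k) (A := A) (K := K) w
      have h1 : incl (β * z) = 0 := by
        rw [map_mul, hz, mul_left_comm, hw, mul_zero]
      have h2 : β * z = 0 := incl_injective (by rw [h1, map_zero])
      have h3 : z = 0 := hβ (by simpa using h2)
      rw [h3, map_zero] at hz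
      have hu : IsUnit (algebraMap L (L ⊗[k] R) (algebraMap A L a)) := by
        rw [IsScalarTower.algebraMap_apply A K L]
        exact (isUnit_iff_ne_zero.mpr (algebraMap_AL_ne_zero (K := K) (L := L) ha)).map _
      exact (hu.mul_right_eq_zero).mp hz.symm
    intro w₁ w₂ h
    have := key (w₁ - w₂) (by simpa [mul_sub] using sub_eq_zero.mpr h)
    exact sub_eq_zero.mp this
  · intro hy z₁ z₂ h
    apply incl_injective
    apply hy
    simpa using congrArg incl h

theorem isLeftRegular_iff_det {S E : Type*} [CommRing S] [CommRing E] [Algebra S E]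
    {ι : Type*} [Fintype ι] [DecidableEq ι] (b : Basis ι S E) (y : E) :
    IsRegular y ↔ IsRegular (Algebra.leftMulMatrix b y).det := by
  rw [isRegular_iff_mem_nonZeroDivisors (r := (Algebra.leftMulMatrix b y).det),
    ← Matrix.nonsingular_iff_det_mem_nonZeroDivisors, ← Matrix.isLeftRegular_iff_nonsingular,
    Matrix.isLeftRegular_iff_mulVec_injective, ← isLeftRegular_iff_isRegular]
  constructor
  · intro hy v₁ v₂ h
    have h1 := Algebra.leftMulMatrix_mulVec_repr b y (b.equivFun.symm v₁)
    have h2 := Algebra.leftMulMatrix_mulVec_repr b y (b.equivFun.symm v₂)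
    have e1 : (⇑(b.repr (b.equivFun.symm v₁)) : ι → S) = v₁ := by
      rw [← Basis.equivFun_apply, LinearEquiv.apply_symm_apply]
    have e2 : (⇑(b.repr (b.equivFun.symm v₂)) : ι → S) = v₂ := by
      rw [← Basis.equivFun_apply, LinearEquiv.apply_symm_apply]
    rw [e1] at h1
    rw [e2] at h2
    have h3 : b.repr (y * b.equivFun.symm v₁) = b.repr (y * b.equivFun.symm v₂) := by
      apply DFunLike.coe_injective
      rw [← h1, ← h2, h]
    have h4 : b.equivFun.symm v₁ = b.equivFun.symm v₂ := hy (b.repr.injective h3)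
    exact b.equivFun.symm.injective h4
  · intro hM w₁ w₂ h
    have h1 := Algebra.leftMulMatrix_mulVec_repr b y w₁
    have h2 := Algebra.leftMulMatrix_mulVec_repr b y w₂
    have h' : y * w₁ = y * w₂ := h
    rw [h'] at h1
    have h3 := hM (h1.trans h2.symm)
    exact b.repr.injective (DFunLike.coe_injective h3)

end regular

section final

theorem main :
    letI : Algebra (K ⊗[k] R) (L ⊗[k] R) :=
      (Algebra.TensorProduct.map (IsScalarTower.toAlgHom k K L) (AlgHom.id k R)).toRingHom.toAlgebra
    Module.Free (K ⊗[k] R) (L ⊗[k] R) ∧ Module.Finite (K ⊗[k] R) (L ⊗[k] R) ∧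
      ∀ b : (integralClosure A L) ⊗[k] R,
        Algebra.norm (K ⊗[k] R)
            (Algebra.TensorProduct.map ((integralClosure A L).val.restrictScalars k) (AlgHom.id k R) b) ∈
          Set.range (Algebra.TensorProduct.map (IsScalarTower.toAlgHom k A K) (AlgHom.id k R)) ∧
        (IsRegular b ↔ IsRegular (Algebra.norm (K ⊗[k] R)
            (Algebra.TensorProduct.map ((integralClosure A L).val.restrictScalars k) (AlgHom.id k R) b))) := by
  classical
  let e := Module.finBasis K L
  let b' := pb (K ⊗[k] R) (L ⊗[k] R) e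
  refine ⟨Module.Free.of_basis b', Module.Finite.of_basis b', fun β => ⟨norm_incl_mem_range β, ?_⟩⟩
  rw [isRegular_incl_iff (K := K), isLeftRegular_iff_det b', Algebra.norm_eq_matrix_det b']

end final

end Groth.Agent.H85.NormTensor
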