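import Groth.Agent.H85.Witt

set_option autoImplicit false
set_option linter.unusedSectionVars false

noncomputable section

open scoped Isocrystal

universe u

namespace Groth.Agent.H85

variable {p : ℕ} [Fact p.Prime] {k : Type u} [Field k] [CharP k p] [PerfectRing k p]

local notation "W" => WittVector p k
local notation "L" => FractionRing (WittVector p k)

theorem pL_ne_zero : (p : L) ≠ 0 := by
  have : ((p : ℕ) : L) ≠ 0 := Nat.cast_ne_zero.mpr (Fact.out : p.Prime).ne_zero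
  exact this

theorem algebraMap_p : algebraMap W L (p : W) = (p : L) := map_natCast _ _

theorem algebraMap_W_injective : Function.Injective (algebraMap W L) :=
  IsFractionRing.injective W L

/-- `c ∈ p^r W`. -/
def MemPW (r : ℤ) (c : L) : Prop := ∃ w : W, c = (p : L) ^ r * algebraMap W L w

theorem memPW_zero (r : ℤ) : MemPW (p := p) (k := k) r 0 := ⟨0, by simp⟩

theorem memPW_algebraMap (w : W) : MemPW (p := p) (k := k) 0 (algebraMap W L w) := ⟨w, by simp⟩

theorem MemPW.add {r : ℤ} {c c' : L} (h : MemPW r c) (h' : MemPW r c') : MemPW r (c + c') := by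
  obtain ⟨w, rfl⟩ := h
  obtain ⟨w', rfl⟩ := h'
  exact ⟨w + w', by rw [map_add, mul_add]⟩

theorem MemPW.neg {r : ℤ} {c : L} (h : MemPW r c) : MemPW r (-c) := by
  obtain ⟨w, rfl⟩ := h
  exact ⟨-w, by rw [map_neg, mul_neg]⟩

theorem MemPW.mul {r s : ℤ} {c c' : L} (h : MemPW r c) (h' : MemPW s c') : MemPW (r + s) (c * c') := by
  obtain ⟨w, rfl⟩ := h
  obtain ⟨w', rfl⟩ := h'
  refine ⟨w * w', ?_⟩
  rw [map_mul, zpow_add₀ pL_ne_zero]; ring

theorem MemPW.mono {r s : ℤ} (hsr : s ≤ r) {c : L} (h : MemPW r c) : MemPW s c := by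
  obtain ⟨w, rfl⟩ := h
  obtain ⟨n, hn⟩ := Int.le.dest hsr
  refine ⟨(p : W) ^ n * w, ?_⟩
  rw [map_mul, map_pow, algebraMap_p, ← hn, zpow_add₀ pL_ne_zero, zpow_natCast]; ring

theorem memPW_sum {ι : Type*} (s : Finset ι) (r : ℤ) (f : ι → L) (h : ∀ i ∈ s, MemPW r (f i)) :
    MemPW r (∑ i ∈ s, f i) := by
  classical
  induction s using Finset.induction_on with
  | empty => simpa using memPW_zero r
  | insert a s ha ih =>
    rw [Finset.sum_insert ha]
    exact (h a (Finset.mem_insert_self a s)).add (ih fun i hi => h i (Finset.mem_insert_of_mem hi))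

theorem memPW_prod {ι : Type*} (s : Finset ι) (r : ℤ) (f : ι → L) (h : ∀ i ∈ s, MemPW r (f i)) :
    MemPW (r * s.card) (∏ i ∈ s, f i) := by
  classical
  induction s using Finset.induction_on with
  | empty => simpa using memPW_algebraMap (p := p) (k := k) 1
  | insert a s ha ih =>
    rw [Finset.prod_insert ha, Finset.card_insert_of_notMem ha]
    have := (h a (Finset.mem_insert_self a s)).mul (ih fun i hi => h i (Finset.mem_insert_of_mem hi))
    convert this using 1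
    push_cast; ring

theorem memPW_pow_smul {r s : ℤ} {c : L} (h : MemPW r c) : MemPW (s + r) ((p : L) ^ s * c) := by
  obtain ⟨w, rfl⟩ := h
  exact ⟨w, by rw [zpow_add₀ pL_ne_zero]; ring⟩

theorem memPW_pow_mul_iff {r s : ℤ} {c : L} : MemPW (s + r) ((p : L) ^ s * c) ↔ MemPW r c := by
  refine ⟨fun h => ?_, memPW_pow_smul⟩
  have := memPW_pow_smul (s := -s) h
  rw [← mul_assoc, ← zpow_add₀ pL_ne_zero] at this
  simpa using this

/-- every element of `L` becomes integral after multiplying by a power of `p`. -/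
theorem exists_pow_mul_eq_algebraMap (c : L) :
    ∃ (n : ℕ) (w : W), (p : L) ^ n * c = algebraMap W L w := by
  obtain ⟨x, y, hy, rfl⟩ := IsFractionRing.div_surjective (A := W) c
  have hy0 : y ≠ 0 := nonZeroDivisors.ne_zero hy
  obtain ⟨m, u, hu⟩ := WittVector.exists_eq_pow_p_mul' y hy0
  refine ⟨m, x * ((u⁻¹ : Wˣ) : W), ?_⟩
  have hyL : algebraMap W L y ≠ 0 := by
    intro h; exact hy0 (algebraMap_W_injective (by rw [h, map_zero]))
  rw [mul_div_assoc', eq_comm, eq_div_iff hyL, hu, map_mul, map_mul, map_pow, algebraMap_p]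
  have : algebraMap W L ((u⁻¹ : Wˣ) : W) * algebraMap W L (u : W) = 1 := by
    rw [← map_mul, Units.inv_mul, map_one]
  linear_combination (algebraMap W L x * (p : L) ^ m) * this

theorem exists_memPW (c : L) : ∃ r : ℤ, MemPW r c := by
  obtain ⟨n, w, h⟩ := exists_pow_mul_eq_algebraMap c
  refine ⟨-n, w, ?_⟩
  rw [← h, ← mul_assoc, zpow_neg, zpow_natCast, inv_mul_cancel₀ (pow_ne_zero _ pL_ne_zero), one_mul]

theorem exists_isOrdP {c : L} (hc : c ≠ 0) : ∃ r : ℤ, Isoc.IsOrdP c r := by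
  obtain ⟨n, w, h⟩ := exists_pow_mul_eq_algebraMap c
  have hw : w ≠ 0 := by
    rintro rfl
    rw [map_zero] at h
    rcases mul_eq_zero.mp h with h | h
    · exact pow_ne_zero _ pL_ne_zero h
    · exact hc h
  obtain ⟨m, u, hu⟩ := WittVector.exists_eq_pow_p_mul' w hw
  refine ⟨(m : ℤ) - n, u, ?_⟩
  have hpn : ((p : L) ^ n) ≠ 0 := pow_ne_zero _ pL_ne_zero
  have : c = ((p : L) ^ n)⁻¹ * algebraMap W L w := by
    rw [← h, ← mul_assoc, inv_mul_cancel₀ hpn, one_mul]
  rw [this, hu, map_mul, map_pow, algebraMap_p, zpow_sub₀ pL_ne_zero, zpow_natCast, zpow_natCast]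
  field_simp

theorem not_isUnit_p_pow {n : ℕ} (hn : 0 < n) : ¬ IsUnit ((p : W) ^ n) := by
  intro h
  have := (WittVector.irreducible (k := k) p).not_isUnit
  exact this (isUnit_of_dvd_unit (dvd_pow_self _ hn.ne') h)

theorem isOrdP_memPW {c : L} {r : ℤ} (h : Isoc.IsOrdP c r) : MemPW r c := by
  obtain ⟨u, hu⟩ := h
  exact ⟨u, hu⟩

theorem isOrdP_ne_zero {c : L} {r : ℤ} (h : Isoc.IsOrdP c r) : c ≠ 0 := by
  obtain ⟨u, rfl⟩ := h
  refine mul_ne_zero (zpow_ne_zero _ pL_ne_zero) ?_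
  intro h0
  have : (u : W) = 0 := algebraMap_W_injective (by rw [h0, map_zero])
  exact u.ne_zero this

theorem isOrdP_le_of_memPW {c : L} {r s : ℤ} (h : Isoc.IsOrdP c r) (hs : MemPW s c) : s ≤ r := by
  by_contra hlt
  rw [not_le] at hlt
  obtain ⟨u, hu⟩ := h
  obtain ⟨w, hw⟩ := hs
  obtain ⟨n, hn⟩ := Int.le.dest (show r + 1 ≤ s by omega)
  -- p^r u = p^s w = p^r p^(n+1) w
  have h1 : algebraMap W L (u : W) = algebraMap W L ((p : W) ^ (n + 1) * w) := by
    have hpr : ((p : L) ^ r) ≠ 0 := zpow_ne_zero _ pL_ne_zero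
    apply mul_left_cancel₀ hpr
    rw [← hu, hw, map_mul, map_pow, algebraMap_p, ← mul_assoc, ← zpow_natCast, ← zpow_add₀ pL_ne_zero]
    congr 2
    push_cast; omega
  have h2 : (u : W) = (p : W) ^ (n + 1) * w := algebraMap_W_injective h1
  have h3 : IsUnit ((p : W) ^ (n + 1)) := isUnit_of_mul_isUnit_left (h2 ▸ u.isUnit)
  exact not_isUnit_p_pow (Nat.succ_pos n) h3

theorem isOrdP_unique {c : L} {r s : ℤ} (h : Isoc.IsOrdP c r) (h' : Isoc.IsOrdP c s) : r = s :=
  le_antisymm (isOrdP_le_of_memPW h' (isOrdP_memPW h)) (isOrdP_le_of_memPW h (isOrdP_memPW h'))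

theorem isOrdP_mul {c c' : L} {r s : ℤ} (h : Isoc.IsOrdP c r) (h' : Isoc.IsOrdP c' s) :
    Isoc.IsOrdP (c * c') (r + s) := by
  obtain ⟨u, rfl⟩ := h
  obtain ⟨v, rfl⟩ := h'
  refine ⟨u * v, ?_⟩
  rw [Units.val_mul, map_mul, zpow_add₀ pL_ne_zero]; ring

theorem isOrdP_inv {c : L} {r : ℤ} (h : Isoc.IsOrdP c r) : Isoc.IsOrdP c⁻¹ (-r) := by
  obtain ⟨u, rfl⟩ := h
  refine ⟨u⁻¹, ?_⟩
  rw [mul_inv, zpow_neg]
  congr 1
  have h1 : algebraMap W L ((u⁻¹ : Wˣ) : W) * algebraMap W L (u : W) = 1 := by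
    rw [← map_mul, Units.inv_mul, map_one]
  exact (eq_inv_of_mul_eq_one_left h1).symm

theorem isOrdP_one : Isoc.IsOrdP (1 : L) 0 := ⟨1, by simp⟩

theorem isOrdP_p_zpow (r : ℤ) : Isoc.IsOrdP ((p : L) ^ r) r := ⟨1, by simp⟩

theorem isOrdP_pow {c : L} {r : ℤ} (h : Isoc.IsOrdP c r) (n : ℕ) : Isoc.IsOrdP (c ^ n) (n * r) := by
  induction n with
  | zero => simpa using isOrdP_one
  | succ n ih =>
    rw [pow_succ]
    have := isOrdP_mul ih h
    convert this using 1
    push_cast; ring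

theorem isOrdP_algebraMap_unit (u : Wˣ) : Isoc.IsOrdP (algebraMap W L (u : W)) 0 := ⟨u, by simp⟩

/-- an element of `p^r W` which has order exactly `r` -/
theorem isOrdP_zero_iff_unit {w : W} : Isoc.IsOrdP (algebraMap W L w) 0 ↔ IsUnit w := by
  constructor
  · rintro ⟨u, hu⟩
    rw [zpow_zero, one_mul] at hu
    rw [algebraMap_W_injective hu]
    exact u.isUnit
  · rintro ⟨u, rfl⟩
    exact isOrdP_algebraMap_unit u

variable (p k) in
/-- A ring automorphism of `L` compatible with a ring automorphism of `W`. -/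
structure Twist where
  ρ : L ≃+* L
  ρW : W ≃+* W
  compat : ∀ w : W, ρ (algebraMap W L w) = algebraMap W L (ρW w)

namespace Twist

variable (p k) in
/-- the identity twist -/
def one : Twist p k := ⟨RingEquiv.refl _, RingEquiv.refl _, fun _ => rfl⟩

/-- composition of twists (first `T₂`, then `T₁`) -/
def comp (T₁ T₂ : Twist p k) : Twist p k :=
  ⟨T₂.ρ.trans T₁.ρ, T₂.ρW.trans T₁.ρW, fun w => by
    simp only [RingEquiv.trans_apply]
    rw [T₂.compat, T₁.compat]⟩

/-- inverse twist -/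
def symm (T : Twist p k) : Twist p k :=
  ⟨T.ρ.symm, T.ρW.symm, fun w => by
    apply T.ρ.injective
    rw [RingEquiv.apply_symm_apply, T.compat, RingEquiv.apply_symm_apply]⟩

variable (p k) in
/-- the twist `σ^a` -/
def frob (a : ℤ) : Twist p k :=
  ⟨(IsFractionRing.ringEquivOfRingEquiv (WittVector.frobeniusEquiv p k ^ a) : L ≃+* L),
    WittVector.frobeniusEquiv p k ^ a,
    fun w => IsFractionRing.ringEquivOfRingEquiv_algebraMap _ w⟩

theorem frob_ρ_apply (a : ℤ) (c : L) : (frob p k a).ρ c = Isoc.frob p k a c := rfl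

theorem map_p (T : Twist p k) : T.ρ (p : L) = p := map_natCast _ _

theorem map_p_zpow (T : Twist p k) (r : ℤ) : T.ρ ((p : L) ^ r) = (p : L) ^ r := by
  rw [map_zpow₀, T.map_p]

theorem memPW_map (T : Twist p k) {r : ℤ} {c : L} (h : MemPW r c) : MemPW r (T.ρ c) := by
  obtain ⟨w, rfl⟩ := h
  exact ⟨T.ρW w, by rw [map_mul, T.map_p_zpow, T.compat]⟩

theorem memPW_map_iff (T : Twist p k) {r : ℤ} {c : L} : MemPW r (T.ρ c) ↔ MemPW r c := by
  refine ⟨fun h => ?_, T.memPW_map⟩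
  have := T.symm.memPW_map h
  simpa [symm] using this

theorem isOrdP_map (T : Twist p k) {r : ℤ} {c : L} (h : Isoc.IsOrdP c r) : Isoc.IsOrdP (T.ρ c) r := by
  obtain ⟨u, rfl⟩ := h
  refine ⟨Units.map T.ρW.toRingHom.toMonoidHom u, ?_⟩
  rw [map_mul, T.map_p_zpow, T.compat]
  rfl

theorem isOrdP_map_iff (T : Twist p k) {r : ℤ} {c : L} : Isoc.IsOrdP (T.ρ c) r ↔ Isoc.IsOrdP c r := by
  refine ⟨fun h => ?_, T.isOrdP_map⟩
  have := T.symm.isOrdP_map h
  simpa [symm] using this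

end Twist

end Groth.Agent.H85
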