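import Mathlib
import Groth.Agent.H84.FrobFixed

/-!
# `p`-linear endomorphisms of finite-dimensional vector spaces over an algebraically closed field

Fitting-type decomposition `V = span(V^F) ⊕ V_nil` (helper for S8604).
-/

set_option autoImplicit false
set_option linter.unusedSectionVars false

namespace Groth.Agent.H85.PLinear

variable {k : Type*} [Field k] (p : ℕ) [Fact p.Prime] [CharP k p]
variable {V : Type*} [AddCommGroup V] [Module k V]
variable (F : V →+ V) (hF : ∀ (a : k) (v : V), F (a • v) = a ^ p • F v)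

/-- Elements with `a ^ p = a` are integers. -/
theorem exists_int_of_pow_eq_self (a : k) (h : a ^ p = a) : ∃ c : ℤ, (c : k) = a := by
  have h1 : a ∈ (⊥ : Subfield k) := (Subfield.mem_bot_iff_pow_eq_self k p).mpr h
  exact (mem_bot_iff_intCast p k).mp h1

include hF in
/-- `F_p`-independent fixed vectors are `k`-independent. -/
theorem linearIndependent_fixed (s : Finset V) (hs : ∀ v ∈ s, F v = v)
    (hind : ∀ c : s → ℤ, (∑ v : s, c v • (v : V)) = 0 → ∀ v : s, (p : ℤ) ∣ c v) :
    LinearIndependent k (fun v : s => (v : V)) := by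
  classical
  rw [linearIndependent_iff']
  have claim : ∀ n : ℕ, ∀ t : Finset s, t.card ≤ n → ∀ g : s → k,
      ∑ i ∈ t, g i • (i : V) = 0 → ∀ i ∈ t, g i = 0 := by
    intro n
    induction n with
    | zero =>
      intro t ht g _ i hi
      rw [Nat.le_zero, Finset.card_eq_zero] at ht
      rw [ht] at hi
      exact absurd hi (Finset.notMem_empty i)
    | succ n ih =>
      intro t ht g hg
      by_contra hcon
      push Not at hcon
      obtain ⟨i0, hi0, hgi0⟩ := hcon
      set g' : s → k := fun i => g i / g i0 with hg'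
      have hg'0 : g' i0 = 1 := div_self hgi0
      have hsum' : ∑ i ∈ t, g' i • (i : V) = 0 := by
        have : ∑ i ∈ t, g' i • (i : V) = (g i0)⁻¹ • ∑ i ∈ t, g i • (i : V) := by
          rw [Finset.smul_sum]
          apply Finset.sum_congr rfl
          intro i _
          rw [smul_smul]
          simp only [hg', div_eq_inv_mul]
        rw [this, hg, smul_zero]
      have hFsum : ∑ i ∈ t, (g' i) ^ p • (i : V) = 0 := by
        have h1 := congrArg F hsum'
        rw [map_sum, map_zero] at h1
        rw [← h1]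
        apply Finset.sum_congr rfl
        intro i _
        rw [hF, hs i i.2]
      have hdiff : ∑ i ∈ t.erase i0, ((g' i) ^ p - g' i) • (i : V) = 0 := by
        have h2 : ∑ i ∈ t, ((g' i) ^ p - g' i) • (i : V) = 0 := by
          simp only [sub_smul, Finset.sum_sub_distrib, hFsum, hsum', sub_zero]
        rw [← Finset.add_sum_erase t _ hi0, hg'0, one_pow, sub_self, zero_smul, zero_add] at h2
        exact h2
      have hcard : (t.erase i0).card ≤ n := by
        rw [Finset.card_erase_of_mem hi0]
        omega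
      have hall : ∀ i ∈ t, (g' i) ^ p = g' i := by
        intro i hi
        by_cases hii : i = i0
        · rw [hii, hg'0, one_pow]
        · have := ih (t.erase i0) hcard (fun i => (g' i) ^ p - g' i) hdiff i
            (Finset.mem_erase.mpr ⟨hii, hi⟩)
          exact sub_eq_zero.mp this
      choose! c hc using fun i (hi : i ∈ t) => exists_int_of_pow_eq_self p (g' i) (hall i hi)
      have hzero : ∑ v : s, (if v ∈ t then c v else 0) • (v : V) = 0 := by
        rw [← hsum', ← Finset.sum_filter_add_sum_filter_not Finset.univ (· ∈ t)]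
        have h3 : ∑ x ∈ Finset.univ.filter (fun x => ¬ x ∈ t),
            (if x ∈ t then c x else 0) • (x : V) = 0 := by
          apply Finset.sum_eq_zero
          intro x hx
          rw [Finset.mem_filter] at hx
          rw [if_neg hx.2, zero_smul]
        rw [h3, add_zero]
        have h4 : Finset.univ.filter (fun x => x ∈ t) = t := by
          ext x; simp
        rw [h4]
        apply Finset.sum_congr rfl
        intro x hx
        rw [if_pos hx, ← hc x hx, Int.cast_smul_eq_zsmul]
      have hdvd := hind _ hzero i0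
      rw [if_pos hi0] at hdvd
      have : (c i0 : k) = 0 := (CharP.intCast_eq_zero_iff k p _).mpr hdvd
      rw [hc i0 hi0, hg'0] at this
      exact one_ne_zero this
  intro t g hg i hi
  exact claim t.card t le_rfl g hg i hi


section fitting

include hF

theorem iterate_smul (m : ℕ) (a : k) (v : V) : (⇑F)^[m] (a • v) = a ^ (p ^ m) • (⇑F)^[m] v := by
  induction m generalizing a v with
  | zero => simp
  | succ m ih =>
    rw [Function.iterate_succ_apply, Function.iterate_succ_apply, hF, ih, ← pow_mul, pow_succ',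
      mul_comm]

omit hF in
theorem iterate_add (m : ℕ) (v w : V) : (⇑F)^[m] (v + w) = (⇑F)^[m] v + (⇑F)^[m] w :=
  iterate_map_add F m v w

omit hF in
theorem iterate_zero (m : ℕ) : (⇑F)^[m] (0 : V) = 0 :=
  iterate_map_zero F m

omit hF in
theorem iterate_add_of_zero {m : ℕ} {v : V} (h : (⇑F)^[m] v = 0) (j : ℕ) :
    (⇑F)^[m + j] v = 0 := by
  rw [Nat.add_comm m j, Function.iterate_add_apply, h, iterate_zero]

/-- The generalised kernel of `F`, a `k`-subspace. -/
def nil : Submodule k V where
  carrier := {v | ∃ m : ℕ, (⇑F)^[m] v = 0}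
  add_mem' := by
    rintro v w ⟨m, hm⟩ ⟨m', hm'⟩
    refine ⟨m + m', ?_⟩
    rw [iterate_add, iterate_add_of_zero F hm m', Nat.add_comm, iterate_add_of_zero F hm' m,
      add_zero]
  zero_mem' := ⟨0, rfl⟩
  smul_mem' := by
    rintro a v ⟨m, hm⟩
    exact ⟨m, by rw [iterate_smul p F hF, hm, smul_zero]⟩

theorem mem_nil {v : V} : v ∈ nil p F hF ↔ ∃ m : ℕ, (⇑F)^[m] v = 0 := Iff.rfl

theorem span_nil : Submodule.span k {v : V | ∃ m : ℕ, (⇑F)^[m] v = 0} = nil p F hF :=
  Submodule.span_eq (nil p F hF)

theorem map_mem_nil {v : V} (h : v ∈ nil p F hF) : F v ∈ nil p F hF := by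
  obtain ⟨m, hm⟩ := h
  refine ⟨m, ?_⟩
  rw [← Function.iterate_succ_apply, Function.iterate_succ_apply', hm, map_zero]

theorem mem_nil_of_map_mem {v : V} (h : F v ∈ nil p F hF) : v ∈ nil p F hF := by
  obtain ⟨m, hm⟩ := h
  exact ⟨m + 1, by rw [Function.iterate_succ_apply]; exact hm⟩

theorem iterate_mem_nil {v : V} (h : v ∈ nil p F hF) (i : ℕ) : (⇑F)^[i] v ∈ nil p F hF := by
  induction i with
  | zero => exact h
  | succ i ih => rw [Function.iterate_succ_apply']; exact map_mem_nil p F hF ih

/-- `F` as a Frobenius-semilinear map. -/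
def semi : V →ₛₗ[frobenius k p] V where
  toFun := F
  map_add' := F.map_add
  map_smul' := fun a v => by rw [hF, frobenius_def]

/-- The induced map on the quotient by the generalised kernel. -/
def semiQ : (V ⧸ nil p F hF) →ₛₗ[frobenius k p] (V ⧸ nil p F hF) :=
  (nil p F hF).mapQ (nil p F hF) (semi p F hF) (fun _ hv => map_mem_nil p F hF hv)

theorem semiQ_mk (v : V) :
    semiQ p F hF (Submodule.Quotient.mk v) = Submodule.Quotient.mk (F v) := rfl

theorem semiQ_injective : Function.Injective (semiQ p F hF) := by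
  rw [injective_iff_map_eq_zero]
  intro x hx
  obtain ⟨v, rfl⟩ := Submodule.Quotient.mk_surjective _ x
  rw [semiQ_mk, Submodule.Quotient.mk_eq_zero] at hx
  rw [Submodule.Quotient.mk_eq_zero]
  exact mem_nil_of_map_mem p F hF hx

/-- Fixed vectors of the quotient lift to fixed vectors. -/
theorem exists_fixed_lift (x : V ⧸ nil p F hF) (hx : semiQ p F hF x = x) :
    ∃ v : V, F v = v ∧ Submodule.Quotient.mk v = x := by
  obtain ⟨v, rfl⟩ := Submodule.Quotient.mk_surjective _ x
  rw [semiQ_mk, Submodule.Quotient.eq] at hx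
  obtain ⟨n, hn⟩ := hx
  set u := F v - v with hu
  refine ⟨v + ∑ i ∈ Finset.range n, (⇑F)^[i] u, ?_, ?_⟩
  · rw [map_add, map_sum]
    have h1 : ∑ i ∈ Finset.range n, F ((⇑F)^[i] u) =
        ∑ i ∈ Finset.range n, (⇑F)^[i] u + (⇑F)^[n] u - u := by
      have h2 : ∀ i, F ((⇑F)^[i] u) = (⇑F)^[i + 1] u :=
        fun i => (Function.iterate_succ_apply' _ _ _).symm
      simp_rw [h2]
      have h3 := Finset.sum_range_succ' (fun i => (⇑F)^[i] u) n
      have h4 := Finset.sum_range_succ (fun i => (⇑F)^[i] u) n
      simp only [Function.iterate_zero, id_eq] at h3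
      rw [h4] at h3
      rw [eq_sub_iff_add_eq]
      exact h3.symm
    rw [h1, hn, add_zero, hu]
    abel
  · rw [Submodule.Quotient.eq]
    have : v + ∑ i ∈ Finset.range n, (⇑F)^[i] u - v = ∑ i ∈ Finset.range n, (⇑F)^[i] u := by abel
    rw [this]
    exact Submodule.sum_mem _ (fun i _ => iterate_mem_nil p F hF ⟨n, hn⟩ i)


variable [IsAlgClosed k] [FiniteDimensional k V]

theorem sup_eq_top : Submodule.span k {v : V | F v = v} ⊔ nil p F hF = ⊤ := by
  have htop := Groth.Agent.H84.span_fixed_eq_top (frobenius k p) p (fun a => by rw [frobenius_def])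
    (Fact.out : p.Prime).two_le (CharP.cast_eq_zero k p) (semiQ p F hF) (semiQ_injective p F hF)
  have hle : Submodule.span k {x : V ⧸ nil p F hF | semiQ p F hF x = x} ≤
      (Submodule.span k {v : V | F v = v}).map (nil p F hF).mkQ := by
    rw [Submodule.span_le]
    intro x hx
    obtain ⟨v, hv, rfl⟩ := exists_fixed_lift p F hF x hx
    exact ⟨v, Submodule.subset_span hv, rfl⟩
  rw [htop, top_le_iff, Submodule.map_mkQ_eq_top] at hle
  rw [sup_comm]
  exact hle

theorem disjoint : Disjoint (Submodule.span k {v : V | F v = v}) (nil p F hF) := by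
  classical
  rw [Submodule.disjoint_def]
  intro w hwW hwN
  obtain ⟨b, hbs, hbspan, hli⟩ := exists_linearIndependent k {v : V | F v = v}
  rw [← hbspan] at hwW
  have hw : w ∈ Submodule.span k (Set.range (Subtype.val : b → V)) := by
    simpa using hwW
  obtain ⟨c, rfl⟩ := (Finsupp.mem_span_range_iff_exists_finsupp).mp hw
  obtain ⟨m, hm⟩ := hwN
  have hpm : p ^ m ≠ 0 := pow_ne_zero _ (Fact.out : p.Prime).ne_zero
  have hfix : ∀ i : b, (⇑F)^[m] (i : V) = i := fun i => Function.iterate_fixed (hbs i.2) m
  have h1 : (⇑F)^[m] (c.sum fun i a => a • (i : V)) =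
      c.sum (fun i a => a ^ (p ^ m) • (i : V)) := by
    let G : AddMonoid.End V := F
    have hpow : ∀ x, (⇑F)^[m] x = (G ^ m) x := fun x => by
      rw [AddMonoid.End.coe_pow]
      rfl
    rw [hpow, Finsupp.sum, map_sum, Finsupp.sum]
    apply Finset.sum_congr rfl
    intro i _
    rw [← hpow, iterate_smul p F hF, hfix]
  rw [h1] at hm
  have h2 : (c.mapRange (fun a => a ^ (p ^ m)) (zero_pow hpm)).sum (fun i a => a • (i : V)) = 0 := by
    rw [Finsupp.sum_mapRange_index (h := fun (i : b) (a : k) => a • (i : V))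
      (fun i => zero_smul k (i : V))]
    exact hm
  have h3 := (linearIndependent_iff.mp hli) _ (by rw [Finsupp.linearCombination_apply]; exact h2)
  have hc : c = 0 := by
    ext i
    have := DFunLike.congr_fun h3 i
    rw [Finsupp.mapRange_apply, Finsupp.zero_apply] at this
    rw [Finsupp.zero_apply]
    exact pow_eq_zero_iff hpm |>.mp this
  rw [hc, Finsupp.sum_zero_index]

theorem main :
    IsCompl (Submodule.span k {v : V | F v = v})
        (Submodule.span k {v : V | ∃ m : ℕ, (⇑F)^[m] v = 0}) ∧
      ∀ (s : Finset V), (∀ v ∈ s, F v = v) →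
        (∀ c : s → ℤ, (∑ v : s, c v • (v : V)) = 0 → ∀ v : s, (p : ℤ) ∣ c v) →
          LinearIndependent k (fun v : s => (v : V)) := by
  refine ⟨?_, fun s hs hind => linearIndependent_fixed p F hF s hs hind⟩
  rw [span_nil p F hF]
  exact ⟨disjoint p F hF, codisjoint_iff.mpr (sup_eq_top p F hF)⟩

end fitting

end Groth.Agent.H85.PLinear
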