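import Mathlib

/-!
# Characteristic polynomials of endomorphisms adjoint up to a scalar under a perfect pairing
(helper for S13059)
-/

set_option autoImplicit false

open Polynomial Matrix

namespace Groth.Agent.H85.PairCharpoly

variable {K : Type*} [Field K]

theorem matrix_identity {n : Type*} [Fintype n] [DecidableEq n] (F G : Matrix n n K) (c : K)
    (hc : c ≠ 0) (h : Fᵀ * G = c • (1 : Matrix n n K)) :
    F.det • G.charpoly.reverse =
      ((-1) ^ Fintype.card n * c ^ Fintype.card n) • (c⁻¹ • F).charpoly := by
  rw [Matrix.reverse_charpoly, Polynomial.smul_eq_C_mul, Polynomial.smul_eq_C_mul]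
  unfold Matrix.charpolyRev Matrix.charpoly Matrix.charmatrix
  have h' : (F.map C)ᵀ * G.map C = (C c : K[X]) • (1 : Matrix n n K[X]) := by
    have := congrArg (fun M : Matrix n n K => M.map (C : K → K[X])) h
    simp only [Matrix.map_mul, Matrix.transpose_map] at this
    rw [this]
    ext i j
    by_cases hij : i = j <;> simp [hij]
  have lhs : C F.det * det (1 - (X : K[X]) • G.map C) =
      det (F.map C - (C c * X) • (1 : Matrix n n K[X])) := by
    have hdet : C F.det = det ((F.map C)ᵀ) := by
      rw [Matrix.det_transpose]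
      exact (RingHom.map_det (C : K →+* K[X]) F)
    rw [hdet, ← Matrix.det_mul, Matrix.mul_sub, Matrix.mul_one, Matrix.mul_smul, h',
      ← Matrix.det_transpose (F.map C - _)]
    congr 1
    rw [Matrix.transpose_sub, Matrix.transpose_smul, Matrix.transpose_one, smul_smul, mul_comm]
  have rhs : C ((-1) ^ Fintype.card n * c ^ Fintype.card n) *
      det (Matrix.scalar n (X : K[X]) - (C : K →+* K[X]).mapMatrix (c⁻¹ • F)) =
      det (F.map C - (C c * X) • (1 : Matrix n n K[X])) := by
    have hsc : C ((-1) ^ Fintype.card n * c ^ Fintype.card n) =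
        det ((-C c : K[X]) • (1 : Matrix n n K[X])) := by
      rw [Matrix.det_smul, Matrix.det_one, mul_one, ← mul_pow, neg_one_mul, map_pow, map_neg]
    rw [hsc, ← Matrix.det_mul]
    congr 1
    rw [Matrix.smul_mul, Matrix.one_mul, smul_sub]
    refine Matrix.ext fun i j => ?_
    by_cases hij : i = j
    · subst hij
      simp only [RingHom.mapMatrix_apply, Matrix.sub_apply, Matrix.smul_apply, Matrix.scalar_apply,
        Matrix.diagonal_apply_eq, Matrix.map_apply, smul_eq_mul, Matrix.one_apply_eq, mul_one,
        map_mul]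
      have : C c * C c⁻¹ = (1 : K[X]) := by rw [← map_mul, mul_inv_cancel₀ hc, map_one]
      linear_combination (C (F i i)) * this
    · simp only [RingHom.mapMatrix_apply, Matrix.sub_apply, Matrix.smul_apply, Matrix.scalar_apply,
        Matrix.diagonal_apply_ne _ hij, Matrix.map_apply, smul_eq_mul, Matrix.one_apply_ne hij,
        mul_zero, map_mul, zero_sub, sub_zero]
      have : C c * C c⁻¹ = (1 : K[X]) := by rw [← map_mul, mul_inv_cancel₀ hc, map_one]
      linear_combination (C (F i j)) * this
  rw [lhs, rhs]

theorem main (V W : Type*) [AddCommGroup V] [Module K V] [FiniteDimensional K V]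
    [AddCommGroup W] [Module K W] [FiniteDimensional K W]
    (B : V →ₗ[K] W →ₗ[K] K) [B.IsPerfPair] (f : V →ₗ[K] V) (g : W →ₗ[K] W)
    (c : K) (hc : c ≠ 0) (hfg : ∀ (v : V) (w : W), B (f v) (g w) = c * B v w) :
    LinearMap.det f • (LinearMap.charpoly g).reverse =
      ((-1) ^ Module.finrank K W * c ^ Module.finrank K W) • (c⁻¹ • f).charpoly := by
  classical
  let bW := Module.finBasis K W
  let bV : Module.Basis (Fin (Module.finrank K W)) K V := bW.dualBasis.map B.toPerfPair.symm
  have hB : ∀ k w, B (bV k) w = bW.repr w k := by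
    intro k w
    simp only [bV, Module.Basis.map_apply]
    rw [LinearMap.apply_symm_toPerfPair_self]
    simp
  have hBv : ∀ v w, B v w = ∑ k, bV.repr v k * bW.repr w k := by
    intro v w
    conv_lhs => rw [← bV.sum_repr v]
    rw [map_sum, LinearMap.sum_apply]
    apply Finset.sum_congr rfl
    intro k _
    rw [map_smul, LinearMap.smul_apply, hB, smul_eq_mul]
  set F := LinearMap.toMatrix bV bV f with hF
  set G := LinearMap.toMatrix bW bW g with hG
  have hFG : Fᵀ * G = c • (1 : Matrix _ _ K) := by
    ext i j
    rw [Matrix.mul_apply]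
    have h1 := hfg (bV i) (bW j)
    rw [hBv (f (bV i)) (g (bW j)), hB] at h1
    simp only [Matrix.transpose_apply, hF, hG, LinearMap.toMatrix_apply, Matrix.smul_apply,
      smul_eq_mul]
    rw [h1]
    simp [Matrix.one_apply, Finsupp.single_apply, eq_comm]
  have := matrix_identity F G c hc hFG
  rw [Fintype.card_fin] at this
  rw [hF, hG, LinearMap.det_toMatrix, LinearMap.charpoly_toMatrix, ← map_smul,
    LinearMap.charpoly_toMatrix] at this
  exact this

end Groth.Agent.H85.PairCharpoly
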