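import Mathlib

/-!
# Algebraic independence of a regular sequence over a ring of coefficients (helper85)

If `y_1, …, y_d` is a weakly regular sequence of a commutative `A`-algebra `R` and `A → R/(y)` is
injective, then `A[T_1, …, T_d] → R`, `T_i ↦ y_i`, is injective.
-/

set_option autoImplicit false
set_option linter.unusedSectionVars false
set_option linter.unusedVariables false

universe u v

namespace Groth.Agent.H85.PolyInj

open Polynomial
open scoped Pointwise

section OneVar

variable {S : Type*} {B : Type*} [CommRing S] [CommRing B]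

/-- if `y` is a nonzerodivisor of `B` and `S → B/yB` is injective then `S[X] → B`, `X ↦ y`, is
injective -/
theorem eval₂_eq_zero (ψ : S →+* B) (y : B) (hreg : ∀ b : B, y * b = 0 → b = 0)
    (hinj : ∀ s : S, ψ s ∈ Ideal.span {y} → s = 0) :
    ∀ (n : ℕ) (F : S[X]), F.natDegree ≤ n → Polynomial.eval₂ ψ y F = 0 → F = 0 := by
  intro n
  induction n with
  | zero =>
    intro F hF h0
    rw [Polynomial.eq_C_of_natDegree_le_zero hF] at h0 ⊢
    rw [Polynomial.eval₂_C] at h0
    have : F.coeff 0 = 0 := hinj _ (by rw [h0]; exact zero_mem _)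
    rw [this, map_zero]
  | succ n ih =>
    intro F hF h0
    have hdec : F = F.divX * X + C (F.coeff 0) := (Polynomial.divX_mul_X_add F).symm
    rw [hdec, Polynomial.eval₂_add, Polynomial.eval₂_mul, Polynomial.eval₂_X,
      Polynomial.eval₂_C] at h0
    have h1 : ψ (F.coeff 0) ∈ Ideal.span {y} := by
      have : ψ (F.coeff 0) = y * (-(Polynomial.eval₂ ψ y F.divX)) := by
        rw [mul_neg, mul_comm, eq_neg_iff_add_eq_zero, add_comm]
        exact h0
      rw [this]
      exact Ideal.mul_mem_right _ _ (Ideal.subset_span rfl)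
    have h2 : F.coeff 0 = 0 := hinj _ h1
    rw [h2, map_zero, add_zero, mul_comm] at h0
    have h3 := hreg _ h0
    have h4 : F.divX.natDegree ≤ n := by
      rw [Polynomial.natDegree_divX_eq_natDegree_tsub_one]
      omega
    have h5 := ih F.divX h4 h3
    rw [hdec, h5, h2, zero_mul, map_zero, add_zero]

theorem eval₂_injective (ψ : S →+* B) (y : B) (hreg : ∀ b : B, y * b = 0 → b = 0)
    (hinj : ∀ s : S, ψ s ∈ Ideal.span {y} → s = 0) :
    Function.Injective (Polynomial.eval₂RingHom ψ y) := by
  rw [injective_iff_map_eq_zero]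
  intro F hF
  exact eval₂_eq_zero ψ y hreg hinj F.natDegree F le_rfl hF

end OneVar

section Main

variable (A : Type v) [CommRing A]

/-- **a weakly regular sequence is algebraically independent over a coefficient ring injecting into
the quotient** -/
theorem aeval_injective : ∀ (d : ℕ) (R : Type u) [CommRing R] [Algebra A R] (y : Fin d → R),
    RingTheory.Sequence.IsWeaklyRegular R (List.ofFn y) →
    (∀ a : A, algebraMap A R a ∈ Ideal.span (Set.range y) → a = 0) →
    Function.Injective (MvPolynomial.aeval y : MvPolynomial (Fin d) A →ₐ[A] R) := by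
  intro d
  induction d with
  | zero =>
    intro R _ _ y _ hA
    rw [injective_iff_map_eq_zero]
    intro p hp
    have hp' : p = MvPolynomial.C (p.coeff 0) := MvPolynomial.eq_C_of_isEmpty p
    rw [hp', MvPolynomial.aeval_C] at hp
    have := hA _ (by rw [hp]; exact zero_mem _)
    rw [hp', this, map_zero]
  | succ d ih =>
    intro R _ _ y hreg hA
    -- the quotient ring
    let I : Ideal R := Ideal.span {y 0}
    let y' : Fin d → R ⧸ I := fun i => Ideal.Quotient.mk I (y i.succ)
    have hofFn : List.ofFn y = y 0 :: List.ofFn (fun i : Fin d => y i.succ) := List.ofFn_succ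
    rw [hofFn, RingTheory.Sequence.isWeaklyRegular_cons_iff] at hreg
    obtain ⟨hreg0, hreg'⟩ := hreg
    have hI : (y 0 • (⊤ : Submodule R R)) = I := by
      rw [← Submodule.ideal_span_singleton_smul, smul_eq_mul, Ideal.mul_top]
    have hreg'' : RingTheory.Sequence.IsWeaklyRegular (R ⧸ I) (List.ofFn y') := by
      have h1 : RingTheory.Sequence.IsWeaklyRegular (R ⧸ I)
          (List.ofFn (fun i : Fin d => y i.succ)) :=
        ((Submodule.quotEquivOfEq _ _ hI).isWeaklyRegular_congr _).1 hreg'
      have h2 := (RingTheory.Sequence.isWeaklyRegular_map_algebraMap_iff (R ⧸ I) (R ⧸ I)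
        (List.ofFn (fun i : Fin d => y i.succ))).2 h1
      rw [List.map_ofFn] at h2
      exact h2
    have hA' : ∀ a : A, algebraMap A (R ⧸ I) a ∈ Ideal.span (Set.range y') → a = 0 := by
      intro a ha
      apply hA
      have h1 : Ideal.span (Set.range y') =
          (Ideal.span (Set.range (fun i : Fin d => y i.succ))).map (Ideal.Quotient.mk I) := by
        rw [Ideal.map_span, ← Set.range_comp]
        rfl
      rw [h1] at ha
      have h2 : algebraMap A (R ⧸ I) a = Ideal.Quotient.mk I (algebraMap A R a) := rfl
      rw [h2, Ideal.mem_map_iff_of_surjective _ Ideal.Quotient.mk_surjective] at ha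
      obtain ⟨z, hz, hza⟩ := ha
      rw [Ideal.Quotient.eq, Ideal.mem_span_singleton'] at hza
      obtain ⟨c, hc⟩ := hza
      have h3 : algebraMap A R a = z - c * y 0 := by rw [hc]; ring
      rw [h3]
      refine sub_mem ?_ (Ideal.mul_mem_left _ _ (Ideal.subset_span ⟨0, rfl⟩))
      refine Ideal.span_mono ?_ hz
      rintro _ ⟨i, rfl⟩
      exact ⟨i.succ, rfl⟩
    have ih' := ih (R ⧸ I) y' hreg'' hA'
    -- the one-variable step
    let ψ : MvPolynomial (Fin d) A →+* R :=
      (MvPolynomial.aeval (fun i : Fin d => y i.succ) : MvPolynomial (Fin d) A →ₐ[A] R)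
    have hψ : ∀ s : MvPolynomial (Fin d) A, ψ s ∈ Ideal.span {y 0} → s = 0 := by
      intro s hs
      have h1 : Ideal.Quotient.mk I (ψ s) = 0 := Ideal.Quotient.eq_zero_iff_mem.2 hs
      have h2 : Ideal.Quotient.mk I (ψ s) = MvPolynomial.aeval y' s := by
        change (Ideal.Quotient.mkₐ A I) (MvPolynomial.aeval (fun i : Fin d => y i.succ) s) = _
        rw [← AlgHom.comp_apply, MvPolynomial.comp_aeval]
        rfl
      rw [h2] at h1
      exact (injective_iff_map_eq_zero _).1 ih' s h1
    have hreg0' : ∀ b : R, y 0 * b = 0 → b = 0 := by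
      intro b hb
      exact hreg0 (by simp [hb])
    have hinj := eval₂_injective ψ (y 0) hreg0' hψ
    have hcomp : ∀ p : MvPolynomial (Fin (d + 1)) A, MvPolynomial.aeval y p =
        Polynomial.eval₂RingHom ψ (y 0) (MvPolynomial.finSuccEquiv A d p) := by
      intro p
      induction p using MvPolynomial.induction_on with
      | C a =>
        have h1 : MvPolynomial.finSuccEquiv A d (MvPolynomial.C a) =
            Polynomial.C (MvPolynomial.C a) := by
          have := (MvPolynomial.finSuccEquiv A d).commutes a
          rw [MvPolynomial.algebraMap_eq] at this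
          rw [this]
          rfl
        rw [h1, Polynomial.coe_eval₂RingHom, Polynomial.eval₂_C]
        simp [ψ]
      | add p q hp hq => rw [map_add, map_add, map_add, hp, hq]
      | mul_X p i hp =>
        rw [map_mul, map_mul, map_mul, hp]
        congr 1
        refine Fin.cases ?_ (fun j => ?_) i
        · rw [MvPolynomial.finSuccEquiv_X_zero, Polynomial.coe_eval₂RingHom, Polynomial.eval₂_X,
            MvPolynomial.aeval_X]
        · rw [MvPolynomial.finSuccEquiv_X_succ, Polynomial.coe_eval₂RingHom, Polynomial.eval₂_C,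
            MvPolynomial.aeval_X]
          simp [ψ]
    intro p q hpq
    rw [hcomp, hcomp] at hpq
    exact (MvPolynomial.finSuccEquiv A d).injective (hinj hpq)

end Main

end Groth.Agent.H85.PolyInj
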