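import Mathlib

/-!
# Dimension drops along weakly regular sequences (no local hypothesis) (helper85)
-/

set_option autoImplicit false
set_option linter.unusedSectionVars false
set_option linter.unusedVariables false

universe u v

namespace Groth.Agent.H85.RegDim

open Module RingTheory.Sequence Ideal
open scoped Pointwise

variable {R : Type u} [CommRing R] [IsNoetherianRing R]

/-- `dim M/(rs)M + |rs| ≤ dim M` for a weakly regular sequence on a finite module -/
theorem supportDim_add_length_le (rs : List R) :
    ∀ (M : Type v) [AddCommGroup M] [Module R M] [Module.Finite R M],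
      IsWeaklyRegular M rs →
      supportDim R (M ⧸ ofList rs • (⊤ : Submodule R M)) + rs.length ≤ supportDim R M := by
  induction rs with
  | nil =>
    intro M _ _ _ _
    have h0 : ofList ([] : List R) • (⊤ : Submodule R M) = ⊥ := by
      rw [ofList_nil, Submodule.bot_smul]
    rw [supportDim_eq_of_equiv (Submodule.quotEquivOfEqBot _ h0)]
    simp
  | cons x rs' ih =>
    intro M _ _ _ hreg
    rw [isWeaklyRegular_cons_iff] at hreg
    obtain ⟨hx, hrs'⟩ := hreg
    rw [supportDim_eq_of_equiv (Submodule.quotOfListConsSMulTopEquivQuotSMulTopInner M x rs')]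
    have h1 := ih (QuotSMulTop x M) hrs'
    have h2 : supportDim R (QuotSMulTop x M) + 1 ≤ supportDim R M :=
      supportDim_quotSMulTop_succ_le_of_notMem_minimalPrimes
        (fun _ => hx.notMem_of_mem_minimalPrimes)
    rw [List.length_cons, Nat.cast_add, Nat.cast_one, ← add_assoc]
    exact le_trans (add_le_add_left h1 1) h2

/-- the quotient of a `d`-dimensional Noetherian ring by a weakly regular sequence of length `d`
is an Artinian module -/
theorem isArtinian_quotient (d : ℕ) (hd : ringKrullDim R = d) (rs : List R) (hlen : rs.length = d)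
    (hreg : IsWeaklyRegular R rs) : IsArtinian R (R ⧸ ofList rs) := by
  have h1 := supportDim_add_length_le rs R hreg
  have h2 : ofList rs • (⊤ : Submodule R R) = ofList rs := by
    rw [smul_eq_mul, Ideal.mul_top]
  rw [h2, supportDim_quotient_eq_ringKrullDim, supportDim_self_eq_ringKrullDim, hd, hlen] at h1
  have h3 : ringKrullDim (R ⧸ ofList rs) ≤ 0 := by
    generalize ringKrullDim (R ⧸ ofList rs) = x at h1
    induction x using WithBot.recBotCoe with
    | bot => exact bot_le
    | coe n =>
      have h4 : (n + (d : ℕ∞) : ℕ∞) ≤ (0 + (d : ℕ∞) : ℕ∞) := by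
        rw [zero_add]
        exact_mod_cast h1
      have h5 : n ≤ 0 := (WithTop.add_le_add_iff_right (ENat.natCast_ne_top d)).1 h4
      exact_mod_cast h5
  haveI : Ring.KrullDimLE 0 (R ⧸ ofList rs) := (Ring.krullDimLE_iff).2 h3
  haveI : IsArtinianRing (R ⧸ ofList rs) := IsNoetherianRing.isArtinianRing_of_krullDimLE_zero
  exact isArtinian_of_surjective_algebraMap (S := R) (R := R ⧸ ofList rs) (M := R ⧸ ofList rs)
    Ideal.Quotient.mk_surjective

end Groth.Agent.H85.RegDim
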