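import Groth.Agent.H85.LinRegSeq
import Groth.Agent.H85.PolyInj
import Groth.Agent.H85.RegDim
import Groth.Agent.H66.GrRegTorsion

/-!
# `a(R) = -dim R` forces a standard graded Cohen–Macaulay ring to be a polynomial ring (helper85)
-/

set_option autoImplicit false
set_option linter.unusedSectionVars false
set_option linter.unusedVariables false

universe u

namespace Groth.Agent.H85.PolyOfAinv

open DirectSum Groth.Agent.H98.GrStar Groth.Agent.H66.GrVanish Groth.Agent.H66.GrRegFree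
  Groth.Agent.H98.Bass0 Groth.Agent.H98.GrHt Groth.Agent.H66.AInvLower
  Groth.Agent.H66.GrKoszul Groth.Agent.H66.GrRegQuot Groth.Agent.H66.GrRegSeqMod
  Groth.Agent.H66.GrRegTorsion Groth.Agent.H85.LinAvoid Groth.Agent.H85.LinRegSeq

section Alg

variable {R : Type u} [CommRing R] (𝒜 : ℤ → AddSubgroup R) [GradedRing 𝒜]
  (hpos : ∀ n : ℤ, n < 0 → 𝒜 n = ⊥) {d : ℕ} (y : Fin d → R) (hy : ∀ i, y i ∈ 𝒜 1)

include hpos hy in
/-- the degree `n + 1` part of `(y)` is `R_n y_1 + ⋯ + R_n y_d` -/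
theorem exists_coeff (n : ℤ) (x : R) (hx : x ∈ 𝒜 (n + 1)) (hxy : x ∈ Ideal.span (Set.range y)) :
    ∃ c : Fin d → R, (∀ i, c i ∈ 𝒜 n) ∧ ∑ i, c i * y i = x := by
  classical
  obtain ⟨c, hc⟩ := (Ideal.mem_span_range_iff_exists_fun).1 hxy
  refine ⟨fun i => (decompose 𝒜 (c i) n : R), fun i => SetLike.coe_mem _, ?_⟩
  have h1 : (decompose 𝒜 x (n + 1) : R) = x := DirectSum.decompose_of_mem_same 𝒜 hx
  rw [← h1, ← hc, decompose_sum, DFinsupp.finsetSum_apply, AddSubmonoidClass.coe_finsetSum]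
  refine Finset.sum_congr rfl (fun i _ => ?_)
  exact (DirectSum.coe_decompose_mul_add_of_right_mem 𝒜 (i := n) (j := 1) (a := c i) (hy i)).symm

include hpos hy in
/-- `R_0 ∩ (y) = 0` -/
theorem eq_zero_of_mem_span (a : R) (ha0 : a ∈ 𝒜 0) (hay : a ∈ Ideal.span (Set.range y)) :
    a = 0 := by
  obtain ⟨c, hc, hsum⟩ := exists_coeff 𝒜 hpos y hy (-1) a (by simpa using ha0) hay
  rw [← hsum]
  refine Finset.sum_eq_zero (fun i _ => ?_)
  have := hc i
  rw [hpos (-1) (by norm_num)] at this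
  rw [AddSubgroup.mem_bot.1 this, zero_mul]

include hpos hy in
/-- if `R_n ⊆ (y)` for all `n > 0` then `R = R_0[y]` -/
theorem aeval_surjective (hgen : ∀ n : ℤ, 0 < n → ∀ x ∈ 𝒜 n, x ∈ Ideal.span (Set.range y)) :
    Function.Surjective
      (MvPolynomial.aeval y : MvPolynomial (Fin d) (GrLC.deg0 𝒜) →ₐ[GrLC.deg0 𝒜] R) := by
  classical
  set φ : MvPolynomial (Fin d) (GrLC.deg0 𝒜) →ₐ[GrLC.deg0 𝒜] R := MvPolynomial.aeval y with hφ
  have key : ∀ (n : ℕ) (x : R), x ∈ 𝒜 (n : ℤ) → x ∈ φ.range := by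
    intro n
    induction n with
    | zero =>
      intro x hx
      have hx0 : x ∈ 𝒜 0 := by exact_mod_cast hx
      refine ⟨MvPolynomial.C (⟨x, hx0⟩ : GrLC.deg0 𝒜), ?_⟩
      change (MvPolynomial.aeval y) (MvPolynomial.C (⟨x, hx0⟩ : GrLC.deg0 𝒜)) = x
      rw [MvPolynomial.aeval_C]
      rfl
    | succ n ih =>
      intro x hx
      have hx' : x ∈ 𝒜 ((n : ℤ) + 1) := by exact_mod_cast hx
      obtain ⟨c, hc, hsum⟩ := exists_coeff 𝒜 hpos y hy (n : ℤ) x hx'
        (hgen _ (by positivity) x hx')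
      rw [← hsum]
      refine Subalgebra.sum_mem _ (fun i _ => ?_)
      refine Subalgebra.mul_mem _ (ih _ (hc i)) ?_
      refine ⟨MvPolynomial.X i, ?_⟩
      change (MvPolynomial.aeval y) (MvPolynomial.X i) = y i
      rw [MvPolynomial.aeval_X]
  intro x
  have hx : x ∈ φ.range := by
    rw [← DirectSum.sum_support_decompose 𝒜 x]
    refine Subalgebra.sum_mem _ (fun i _ => ?_)
    rcases lt_or_ge i 0 with hi | hi
    · have hall : ∀ z ∈ 𝒜 i, z = 0 := fun z hz => by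
        rw [hpos i hi] at hz
        exact AddSubgroup.mem_bot.1 hz
      rw [hall _ (SetLike.coe_mem (decompose 𝒜 x i))]
      exact zero_mem _
    · obtain ⟨n, rfl⟩ := Int.eq_ofNat_of_zero_le hi
      exact key n _ (SetLike.coe_mem _)
  exact hx

end Alg

section Main

variable (R : Type u) [CommRing R] [LocCoh.IsCohenMacaulayRing R] (𝒜 : ℤ → AddSubgroup R)
  [GradedRing 𝒜]

/-- **`a(R) = -dim R` ⇒ polynomial ring** -/
theorem exists_algEquiv (hpos : ∀ n : ℤ, n < 0 → 𝒜 n = ⊥)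
    (hstd : Ideal.span (⋃ n ∈ Set.Ioi (0 : ℤ), (𝒜 n : Set R)) =
      Ideal.span ((𝒜 1 : AddSubgroup R) : Set R))
    [IsArtinianRing (GrLC.deg0 𝒜)] (m : HomogeneousIdeal 𝒜) (hm : GrLC.IsStarLocal 𝒜 m)
    (hinf : Infinite (R ⧸ m.toIdeal)) (d : ℕ) (hd : ringKrullDim R = d)
    (I : GrLC.StarInjRes 𝒜 𝒜)
    (ha : GrLC.endDeg (I.Hgr m d) = (((-(d : ℤ) : ℤ) : WithTop ℤ) : WithBot (WithTop ℤ))) :
    ∃ e : MvPolynomial (Fin d) (GrLC.deg0 𝒜) ≃ₐ[GrLC.deg0 𝒜] R,
      ∀ t : Fin d, e (MvPolynomial.X t) ∈ 𝒜 1 := by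
  haveI : IsNoetherianRing R := inferInstance
  have hpos' := hpos_elt 𝒜 hpos
  have hirr := irrel_toIdeal 𝒜
  have hhom : (GrSyz.irrel 𝒜).toIdeal = Ideal.span ((𝒜 1 : AddSubgroup R) : Set R) :=
    hirr.trans hstd
  let X : GrLC.GMod.{u} 𝒜 := GrLC.GMod.of 𝒜 R 𝒜
  -- vanishing with respect to `m`
  have hv_lt : ∀ (j : ℕ), j < d → ∀ e : ℤ, VanishAt m X j e := by
    intro j hj e E x _
    exact @Subsingleton.elim _ (H_subsingleton_of_cm_pos 𝒜 hpos m hm d hd E j hj) _ _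
  have hv_m : ∀ (j : ℕ) (e : ℤ), (0 : ℤ) - j < e → VanishAt m X j e := by
    intro j e he
    rcases lt_trichotomy j d with hj | hj | hj
    · exact hv_lt j hj e
    · subst hj
      refine vanishAt_of_exists m X j e I (fun x hx => ?_)
      have hbot : I.Hgr m j e = ⊥ := by
        by_contra hne
        have h1 : (((e : ℤ) : WithTop ℤ) : WithBot (WithTop ℤ)) ≤ GrLC.endDeg (I.Hgr m j) :=
          le_iSup₂ (f := fun (n : ℤ) (_ : I.Hgr m j n ≠ ⊥) =>
            ((n : WithTop ℤ) : WithBot (WithTop ℤ))) e hne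
        rw [ha, WithBot.coe_le_coe, WithTop.coe_le_coe] at h1
        omega
      exact AddSubgroup.mem_bot.1 (hbot.le hx)
    · apply Groth.Agent.H66.CMTopShift.vanishAt_of_subsingleton_H
      apply Groth.Agent.H58.LC.gv
      change Module.supportDim R R < _
      rw [Module.supportDim_self_eq_ringKrullDim, hd]
      exact_mod_cast hj
  have hcongr : ∀ (Y : Type u) [AddCommGroup Y] [Module R Y],
      GrLC.gam m.toIdeal Y = GrLC.gam (GrSyz.irrel 𝒜).toIdeal Y :=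
    fun Y _ _ => (gam_irrel_eq 𝒜 hpos hm Y).symm
  have hdepth : Depth (GrSyz.irrel 𝒜) X d := fun j hj e =>
    vanishAt_congr m (GrSyz.irrel 𝒜) hcongr X j e (hv_lt j hj e)
  have hreg0 : StrongReg (GrSyz.irrel 𝒜) X 0 := fun j e he =>
    vanishAt_congr m (GrSyz.irrel 𝒜) hcongr X j e (hv_m j e he)
  -- the regular sequence of linear forms
  haveI : Module.Finite R X.carrier := (inferInstance : Module.Finite R R)
  obtain ⟨y, hy, hreg⟩ := exists_regular_sequence 𝒜 hpos hm hinf hhom d X hdepth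
  -- the quotient
  have hJhom : (Ideal.ofList (List.ofFn y)).IsHomogeneous 𝒜 := by
    apply Ideal.homogeneous_span
    intro x hx
    rw [Set.mem_ofPred_eq, List.mem_ofFn] at hx
    obtain ⟨i, rfl⟩ := hx
    exact ⟨1, hy i⟩
  let J : HomogeneousIdeal 𝒜 := ⟨Ideal.ofList (List.ofFn y), hJhom⟩
  let Y : GrLC.GMod.{u} 𝒜 := quotIdealGMod 𝒜 J
  have hπg : GrLC.IsGrHom X.gr Y.gr (quotMap 𝒜 J) := fun g x hx => ⟨x, hx, rfl⟩
  have hker : LinearMap.ker (quotMap 𝒜 J) =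
      Ideal.ofList (List.ofFn y) • (⊤ : Submodule R X.carrier) := by
    rw [quotMap_ker]
    change Ideal.ofList (List.ofFn y) = Ideal.ofList (List.ofFn y) • (⊤ : Ideal R)
    rw [smul_eq_mul, Ideal.mul_top]
  have hYreg : StrongReg (GrSyz.irrel 𝒜) Y 0 :=
    (strongReg_iff_of_isWeaklyRegular (GrSyz.irrel 𝒜) hpos' hirr hhom (List.ofFn y) X
      (fun z hz => by
        rw [List.mem_ofFn] at hz
        obtain ⟨i, rfl⟩ := hz
        exact hy i) hreg Y (quotMap 𝒜 J) (quotMap_surjective 𝒜 J) hπg hker 0).1 hreg0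
  haveI : IsArtinian R Y.carrier :=
    Groth.Agent.H85.RegDim.isArtinian_quotient d hd (List.ofFn y) (List.length_ofFn) hreg
  have hgam := gam_eq_top_of_isArtinian (GrSyz.irrel 𝒜) hpos' hirr Y
  have hYzero := (strongReg_iff_of_gam_eq_top (GrSyz.irrel 𝒜) Y hgam 0).1 hYreg
  have hspan : Ideal.ofList (List.ofFn y) = Ideal.span (Set.range y) := by
    change Ideal.span {x | x ∈ List.ofFn y} = _
    congr 1
    ext x
    rw [Set.mem_ofPred_eq, List.mem_ofFn]
    rfl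
  have hgen : ∀ n : ℤ, 0 < n → ∀ x ∈ 𝒜 n, x ∈ Ideal.span (Set.range y) := by
    intro n hn x hx
    have h1 := hYzero n hn (quotMap 𝒜 J x) (hπg n x hx)
    rw [← hspan]
    have h2 : x ∈ LinearMap.ker (quotMap 𝒜 J) := h1
    rw [quotMap_ker] at h2
    exact h2
  -- bijectivity
  have hsurj := aeval_surjective 𝒜 hpos y hy hgen
  have hinj := Groth.Agent.H85.PolyInj.aeval_injective (GrLC.deg0 𝒜) d R y hreg
    (fun a ha' => Subtype.ext (eq_zero_of_mem_span 𝒜 hpos y hy (a : R) a.2 ha'))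
  refine ⟨AlgEquiv.ofBijective (MvPolynomial.aeval y) ⟨hinj, hsurj⟩, fun t => ?_⟩
  rw [AlgEquiv.coe_ofBijective, MvPolynomial.aeval_X]
  exact hy t

end Main

end Groth.Agent.H85.PolyOfAinv
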