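import Mathlib

/-!
# Quasisymmetric power series as a degreewise limit (helper for S17171)
-/

set_option autoImplicit false

namespace Groth.Agent.H85.QSymLimit

/-- `mapDomain g e` written as a sum over the sorted support of `e`. -/
theorem mapDomain_eq_sum_sorted {n : ℕ} (g : Fin n → ℕ) (e : Fin n →₀ ℕ) :
    Finsupp.mapDomain g e =
      ∑ t : Fin e.support.card, Finsupp.single (g (e.support.orderEmbOfFin rfl t))
        (e (e.support.orderEmbOfFin rfl t)) := by
  have h1 : Finsupp.mapDomain g e = ∑ x ∈ e.support, Finsupp.single (g x) (e x) := rfl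
  rw [h1]
  conv_lhs => rw [← Finset.map_orderEmbOfFin_univ e.support rfl]
  rw [Finset.sum_map]
  rfl

/-- Part (a): restrictions of a quasisymmetric series are compatible with order embeddings. -/
theorem partA (F : MvPowerSeries ℕ ℤ)
    (hq : ∀ (ℓ : ℕ) (i j : Fin ℓ → ℕ) (a : Fin ℓ → ℕ), StrictMono i → StrictMono j →
      (∀ t, 0 < a t) →
      MvPowerSeries.coeff (∑ t : Fin ℓ, Finsupp.single (i t) (a t)) F =
        MvPowerSeries.coeff (∑ t : Fin ℓ, Finsupp.single (j t) (a t)) F)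
    (n m : ℕ) (φ : Fin n ↪o Fin m) (e : Fin n →₀ ℕ) :
    MvPowerSeries.coeff (Finsupp.mapDomain Fin.val e) F =
      MvPowerSeries.coeff (Finsupp.mapDomain Fin.val (Finsupp.mapDomain φ e)) F := by
  rw [← Finsupp.mapDomain_comp, mapDomain_eq_sum_sorted, mapDomain_eq_sum_sorted]
  apply hq
  · exact fun x y hxy => Fin.val_fin_lt.mpr ((e.support.orderEmbOfFin rfl).strictMono hxy)
  · exact fun x y hxy => Fin.val_fin_lt.mpr (φ.strictMono ((e.support.orderEmbOfFin rfl).strictMono hxy))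
  · intro t
    have := Finset.orderEmbOfFin_mem e.support rfl t
    exact Nat.pos_of_ne_zero (Finsupp.mem_support_iff.mp this)


/-- Restriction of a finitely supported exponent vector on `ℕ` to `Fin N`. -/
noncomputable def restr (N : ℕ) (e' : ℕ →₀ ℕ) : Fin N →₀ ℕ :=
  Finsupp.comapDomain Fin.val e' Fin.val_injective.injOn

/-- A strict bound for the support. -/
def bound (e' : ℕ →₀ ℕ) : ℕ := e'.support.sup id + 1

theorem mapDomain_restr {N : ℕ} {e' : ℕ →₀ ℕ} (h : ∀ x ∈ e'.support, x < N) :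
    Finsupp.mapDomain Fin.val (restr N e') = e' :=
  Finsupp.mapDomain_comapDomain _ Fin.val_injective _ (fun _ hx => ⟨⟨_, h _ hx⟩, rfl⟩)

theorem lt_bound {e' : ℕ →₀ ℕ} : ∀ x ∈ e'.support, x < bound e' :=
  fun x hx => Nat.lt_succ_of_le (Finset.le_sup (f := id) hx)

/-- The limit power series of a family of polynomials. -/
noncomputable def lim (f : (n : ℕ) → MvPolynomial (Fin n) ℤ) : MvPowerSeries ℕ ℤ :=
  fun e' => MvPolynomial.coeff (restr (bound e') e') (f (bound e'))

theorem coeff_lim (f : (n : ℕ) → MvPolynomial (Fin n) ℤ) (e' : ℕ →₀ ℕ) :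
    MvPowerSeries.coeff e' (lim f) = MvPolynomial.coeff (restr (bound e') e') (f (bound e')) :=
  rfl

theorem mapDomain_val_castLE {n M : ℕ} (h : n ≤ M) (e : Fin n →₀ ℕ) :
    Finsupp.mapDomain Fin.val (Finsupp.mapDomain (Fin.castLEOrderEmb h) e) =
      Finsupp.mapDomain Fin.val e := by
  rw [← Finsupp.mapDomain_comp]
  rfl

section
variable (f : (n : ℕ) → MvPolynomial (Fin n) ℤ)
  (hc : ∀ (n m : ℕ) (φ : Fin n ↪o Fin m) (e : Fin n →₀ ℕ),
    MvPolynomial.coeff e (f n) = MvPolynomial.coeff (Finsupp.mapDomain φ e) (f m))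
include hc

theorem coeff_lim_mapDomain (n : ℕ) (e : Fin n →₀ ℕ) :
    MvPowerSeries.coeff (Finsupp.mapDomain Fin.val e) (lim f) = MvPolynomial.coeff e (f n) := by
  rw [coeff_lim]
  set e' := Finsupp.mapDomain Fin.val e with he'
  set N := bound e' with hN
  rw [hc n (max n N) (Fin.castLEOrderEmb (le_max_left n N)) e,
    hc N (max n N) (Fin.castLEOrderEmb (le_max_right n N)) (restr N e')]
  congr 1
  apply Finsupp.mapDomain_injective Fin.val_injective
  rw [mapDomain_val_castLE, mapDomain_val_castLE, mapDomain_restr lt_bound]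

theorem coeff_lim_sum_single (ℓ : ℕ) (i : Fin ℓ → ℕ) (a : Fin ℓ → ℕ) (hi : StrictMono i) :
    MvPowerSeries.coeff (∑ t : Fin ℓ, Finsupp.single (i t) (a t)) (lim f) =
      MvPolynomial.coeff (Finsupp.equivFunOnFinite.symm a) (f ℓ) := by
  set N := Finset.univ.sup i + 1 with hN
  have hlt : ∀ t, i t < N := fun t => Nat.lt_succ_of_le (Finset.le_sup (Finset.mem_univ t))
  let i' : Fin ℓ → Fin N := fun t => ⟨i t, hlt t⟩
  have hi' : StrictMono i' := fun x y hxy => hi hxy
  let ι : Fin ℓ ↪o Fin N := OrderEmbedding.ofStrictMono i' hi'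
  have h1 : Finsupp.mapDomain ι (Finsupp.equivFunOnFinite.symm a) =
      ∑ t : Fin ℓ, Finsupp.single (i' t) (a t) := by
    conv_lhs => rw [← Finsupp.univ_sum_single (Finsupp.equivFunOnFinite.symm a)]
    rw [Finsupp.mapDomain_finsetSum]
    apply Finset.sum_congr rfl
    intro t _
    rw [Finsupp.mapDomain_single]
    rfl
  have h2 : (∑ t : Fin ℓ, Finsupp.single (i t) (a t) : ℕ →₀ ℕ) =
      Finsupp.mapDomain Fin.val (Finsupp.mapDomain ι (Finsupp.equivFunOnFinite.symm a)) := by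
    rw [h1, Finsupp.mapDomain_finsetSum]
    apply Finset.sum_congr rfl
    intro t _
    rw [Finsupp.mapDomain_single]
  rw [h2, coeff_lim_mapDomain f hc, ← hc]

end

/-- Part (b). -/
theorem partB (d : ℕ) (f : (n : ℕ) → MvPolynomial (Fin n) ℤ)
    (hf : ∀ n, (f n).IsHomogeneous d)
    (hc : ∀ (n m : ℕ) (φ : Fin n ↪o Fin m) (e : Fin n →₀ ℕ),
      MvPolynomial.coeff e (f n) = MvPolynomial.coeff (Finsupp.mapDomain φ e) (f m)) :
    ∃! F : MvPowerSeries ℕ ℤ,
      (∀ (ℓ : ℕ) (i j : Fin ℓ → ℕ) (a : Fin ℓ → ℕ), StrictMono i → StrictMono j → (∀ t, 0 < a t) →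
        MvPowerSeries.coeff (∑ t : Fin ℓ, Finsupp.single (i t) (a t)) F =
          MvPowerSeries.coeff (∑ t : Fin ℓ, Finsupp.single (j t) (a t)) F) ∧
      (∀ e : ℕ →₀ ℕ, MvPowerSeries.coeff e F ≠ 0 → e.degree = d) ∧
      (∀ (n : ℕ) (e : Fin n →₀ ℕ),
        MvPowerSeries.coeff (Finsupp.mapDomain Fin.val e) F = MvPolynomial.coeff e (f n)) := by
  refine ⟨lim f, ⟨?_, ?_, ?_⟩, ?_⟩
  · intro ℓ i j a hi hj _
    rw [coeff_lim_sum_single f hc ℓ i a hi, coeff_lim_sum_single f hc ℓ j a hj]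
  · intro e' he'
    rw [coeff_lim] at he'
    have h1 : (restr (bound e') e').degree = d := by
      by_contra hne
      exact he' ((hf (bound e')).coeff_eq_zero hne)
    rw [← mapDomain_restr (lt_bound (e' := e')), Finsupp.degree_mapDomain, h1]
  · exact coeff_lim_mapDomain f hc
  · rintro F' ⟨-, -, hF'⟩
    ext e'
    rw [coeff_lim, ← hF', mapDomain_restr lt_bound]

end Groth.Agent.H85.QSymLimit
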