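import Groth.Prelude.Def_QuadGrp
import Mathlib.Tactic

/-!
# The Clifford algebra of `x₀² + x₁x₂` on `k³`: explicit computations

Used for S17017: every even unit normalises `k³`.
-/

open CliffordAlgebra

namespace Groth.Agent.H85.Quad3

variable (k : Type*) [Field k]

theorem splitForm_three_apply (x : Fin 3 → k) :
    QuadGrp.splitForm k 3 x = x 1 * x 2 + x 0 * x 0 := by
  unfold QuadGrp.splitForm
  simp only [add_apply]
  rw [dif_pos (by norm_num)]
  simp

/-- The standard basis vectors in the Clifford algebra. -/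
noncomputable def e (i : Fin 3) : CliffordAlgebra (QuadGrp.splitForm k 3) :=
  ι (QuadGrp.splitForm k 3) (Pi.single i 1)

theorem e00 : e k 0 * e k 0 = 1 := by
  unfold e
  rw [ι_sq_scalar, splitForm_three_apply]
  simp

theorem e11 : e k 1 * e k 1 = 0 := by
  unfold e
  rw [ι_sq_scalar, splitForm_three_apply]
  simp

theorem e22 : e k 2 * e k 2 = 0 := by
  unfold e
  rw [ι_sq_scalar, splitForm_three_apply]
  simp

theorem e10 : e k 1 * e k 0 = -(e k 0 * e k 1) := by
  unfold e
  rw [eq_neg_iff_add_eq_zero, ι_mul_ι_add_swap, QuadraticMap.polar]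
  simp only [splitForm_three_apply]
  simp

theorem e20 : e k 2 * e k 0 = -(e k 0 * e k 2) := by
  unfold e
  rw [eq_neg_iff_add_eq_zero, ι_mul_ι_add_swap, QuadraticMap.polar]
  simp only [splitForm_three_apply]
  simp

theorem e21 : e k 2 * e k 1 = 1 - e k 1 * e k 2 := by
  unfold e
  rw [eq_sub_iff_add_eq, ι_mul_ι_add_swap, QuadraticMap.polar]
  simp only [splitForm_three_apply]
  simp


theorem e00' (x : CliffordAlgebra (QuadGrp.splitForm k 3)) : e k 0 * (e k 0 * x) = x := by
  rw [← mul_assoc, e00, one_mul]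

theorem e11' (x : CliffordAlgebra (QuadGrp.splitForm k 3)) : e k 1 * (e k 1 * x) = 0 := by
  rw [← mul_assoc, e11, zero_mul]

theorem e22' (x : CliffordAlgebra (QuadGrp.splitForm k 3)) : e k 2 * (e k 2 * x) = 0 := by
  rw [← mul_assoc, e22, zero_mul]

theorem e10' (x : CliffordAlgebra (QuadGrp.splitForm k 3)) :
    e k 1 * (e k 0 * x) = -(e k 0 * (e k 1 * x)) := by
  rw [← mul_assoc, e10, neg_mul, mul_assoc]

theorem e20' (x : CliffordAlgebra (QuadGrp.splitForm k 3)) :
    e k 2 * (e k 0 * x) = -(e k 0 * (e k 2 * x)) := by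
  rw [← mul_assoc, e20, neg_mul, mul_assoc]

theorem e21' (x : CliffordAlgebra (QuadGrp.splitForm k 3)) :
    e k 2 * (e k 1 * x) = x - e k 1 * (e k 2 * x) := by
  rw [← mul_assoc, e21, sub_mul, one_mul, mul_assoc]

theorem ι_eq (v : Fin 3 → k) :
    ι (QuadGrp.splitForm k 3) v = v 0 • e k 0 + v 1 • e k 1 + v 2 • e k 2 := by
  have hv : v = v 0 • Pi.single 0 1 + v 1 • Pi.single 1 1 + v 2 • Pi.single 2 1 := by
    ext i; fin_cases i <;> simp
  conv_lhs => rw [hv]
  simp only [map_add, map_smul, e]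

/-- Normalisation simp set: sorts words in `e 0, e 1, e 2`. -/
macro "cliff_norm" : tactic => `(tactic|
  simp only [mul_add, add_mul, mul_sub, sub_mul, smul_mul_assoc, mul_smul_comm, smul_add, smul_sub,
    smul_neg, neg_mul, mul_neg, mul_one, one_mul, mul_zero, zero_mul, smul_zero, neg_zero, sub_zero,
    zero_sub, add_zero, zero_add, mul_assoc, neg_neg, smul_smul,
    e00, e11, e22, e10, e20, e21, e00', e11', e22', e10', e20', e21'])

/-- The general element `a + b e₀e₁ + c e₀e₂ + d e₁e₂` of the even Clifford algebra. -/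
noncomputable def q (a b c d : k) : CliffordAlgebra (QuadGrp.splitForm k 3) :=
  a • 1 + b • (e k 0 * e k 1) + c • (e k 0 * e k 2) + d • (e k 1 * e k 2)

theorem q_mul (a b c d a' b' c' d' : k) :
    q k a b c d * q k a' b' c' d' =
      q k (a * a' - c * b') (a * b' + b * a' + d * b') (a * c' + c * a' + c * d')
        (a * d' - b * c' + c * b' + d * a' + d * d') := by
  unfold q
  cliff_norm
  module


theorem q_add (a b c d a' b' c' d' : k) :
    q k a b c d + q k a' b' c' d' = q k (a + a') (b + b') (c + c') (d + d') := by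
  unfold q; module

theorem q_smul (r a b c d : k) : r • q k a b c d = q k (r * a) (r * b) (r * c) (r * d) := by
  unfold q; module

theorem ι_mul_ι_eq_q (v w : Fin 3 → k) :
    ∃ a b c d, ι (QuadGrp.splitForm k 3) v * ι (QuadGrp.splitForm k 3) w = q k a b c d := by
  refine ⟨v 0 * w 0 + v 2 * w 1, v 0 * w 1 - v 1 * w 0, v 0 * w 2 - v 2 * w 0,
    v 1 * w 2 - v 2 * w 1, ?_⟩
  rw [ι_eq, ι_eq]
  unfold q
  cliff_norm
  module

theorem exists_q_of_even {x : CliffordAlgebra (QuadGrp.splitForm k 3)}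
    (hx : x ∈ evenOdd (QuadGrp.splitForm k 3) 0) : ∃ a b c d, x = q k a b c d := by
  induction x, hx using even_induction with
  | algebraMap r =>
    refine ⟨r, 0, 0, 0, ?_⟩
    unfold q
    rw [Algebra.algebraMap_eq_smul_one]
    module
  | add x y hx hy ihx ihy =>
    obtain ⟨a, b, c, d, rfl⟩ := ihx
    obtain ⟨a', b', c', d', rfl⟩ := ihy
    exact ⟨_, _, _, _, q_add k _ _ _ _ _ _ _ _⟩
  | ι_mul_ι_mul m₁ m₂ x hx ih =>
    obtain ⟨a, b, c, d, rfl⟩ := ih
    obtain ⟨a', b', c', d', h⟩ := ι_mul_ι_eq_q k m₁ m₂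
    rw [h, q_mul]
    exact ⟨_, _, _, _, rfl⟩

theorem q_mem_even (a b c d : k) : q k a b c d ∈ evenOdd (QuadGrp.splitForm k 3) 0 := by
  unfold q e
  refine Submodule.add_mem _ (Submodule.add_mem _ (Submodule.add_mem _ ?_ ?_) ?_) ?_
  · exact Submodule.smul_mem _ _ (SetLike.one_mem_graded _)
  · exact Submodule.smul_mem _ _ (ι_mul_ι_mem_evenOdd_zero _ _ _)
  · exact Submodule.smul_mem _ _ (ι_mul_ι_mem_evenOdd_zero _ _ _)
  · exact Submodule.smul_mem _ _ (ι_mul_ι_mem_evenOdd_zero _ _ _)

/-- The conjugate `(a+d) - b e₀e₁ - c e₀e₂ - d e₁e₂`. -/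
noncomputable def qbar (a b c d : k) : CliffordAlgebra (QuadGrp.splitForm k 3) :=
  q k (a + d) (-b) (-c) (-d)

theorem q_mul_qbar (a b c d : k) :
    q k a b c d * qbar k a b c d = (a * a + a * d + b * c) • 1 := by
  unfold qbar
  rw [q_mul]
  unfold q
  have h1 : a * (a + d) - c * -b = a * a + a * d + b * c := by ring
  have h2 : a * -b + b * (a + d) + d * -b = 0 := by ring
  have h3 : a * -c + c * (a + d) + c * -d = 0 := by ring
  have h4 : a * -d - b * -c + c * -b + d * (a + d) + d * -d = 0 := by ring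
  rw [h1, h2, h3, h4]
  simp

theorem q_add_qbar (a b c d : k) : q k a b c d + qbar k a b c d = (2 * a + d) • 1 := by
  unfold qbar
  rw [q_add]
  unfold q
  have h1 : a + (a + d) = 2 * a + d := by ring
  rw [h1]
  simp

theorem conj_e0 (a b c d : k) :
    q k a b c d * e k 0 * qbar k a b c d =
      (a * a + a * d - b * c) • e k 0 + (-(2 * b * (a + d))) • e k 1 + (-(2 * a * c)) • e k 2 := by
  unfold qbar q
  cliff_norm
  module

theorem conj_e1 (a b c d : k) :
    q k a b c d * e k 1 * qbar k a b c d =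
      (c * (a + d)) • e k 0 + ((a + d) * (a + d)) • e k 1 + (-(c * c)) • e k 2 := by
  unfold qbar q
  cliff_norm
  module

theorem conj_e2 (a b c d : k) :
    q k a b c d * e k 2 * qbar k a b c d =
      (a * b) • e k 0 + (-(b * b)) • e k 1 + (a * a) • e k 2 := by
  unfold qbar q
  cliff_norm
  module


theorem e_mem_range (i : Fin 3) : e k i ∈ LinearMap.range (ι (QuadGrp.splitForm k 3)) :=
  ⟨_, rfl⟩

theorem conj_mem_range (u : (CliffordAlgebra (QuadGrp.splitForm k 3))ˣ)
    (hu : (u : CliffordAlgebra (QuadGrp.splitForm k 3)) ∈ evenOdd (QuadGrp.splitForm k 3) 0)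
    (v : Fin 3 → k) :
    (u : CliffordAlgebra (QuadGrp.splitForm k 3)) * ι (QuadGrp.splitForm k 3) v *
      (↑u⁻¹ : CliffordAlgebra (QuadGrp.splitForm k 3)) ∈
        LinearMap.range (ι (QuadGrp.splitForm k 3)) := by
  obtain ⟨a, b, c, d, h⟩ := exists_q_of_even k hu
  have key : (u : CliffordAlgebra (QuadGrp.splitForm k 3)) * ι (QuadGrp.splitForm k 3) v *
      qbar k a b c d ∈ LinearMap.range (ι (QuadGrp.splitForm k 3)) := by
    rw [h, ι_eq]
    simp only [mul_add, add_mul, mul_smul_comm, smul_mul_assoc, conj_e0, conj_e1, conj_e2]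
    have h0 := e_mem_range k 0
    have h1 := e_mem_range k 1
    have h2 := e_mem_range k 2
    refine Submodule.add_mem _ (Submodule.add_mem _ ?_ ?_) ?_ <;>
    · refine Submodule.smul_mem _ _ ?_
      refine Submodule.add_mem _ (Submodule.add_mem _ ?_ ?_) ?_ <;>
      exact Submodule.smul_mem _ _ (by assumption)
  by_cases hN : a * a + a * d + b * c = 0
  · have h0 : qbar k a b c d = 0 := by
      have h1 := q_mul_qbar k a b c d
      rw [hN, zero_smul, ← h] at h1
      calc qbar k a b c d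
          = (↑u⁻¹ : CliffordAlgebra (QuadGrp.splitForm k 3)) * (u * qbar k a b c d) := by
            rw [← mul_assoc, Units.inv_mul, one_mul]
        _ = 0 := by rw [h1, mul_zero]
    have hs : (u : CliffordAlgebra (QuadGrp.splitForm k 3)) = (2 * a + d) • 1 := by
      have h1 := q_add_qbar k a b c d
      rw [h0, add_zero, ← h] at h1
      exact h1
    have hcomm : (u : CliffordAlgebra (QuadGrp.splitForm k 3)) * ι (QuadGrp.splitForm k 3) v =
        ι (QuadGrp.splitForm k 3) v * u := by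
      rw [hs, smul_mul_assoc, one_mul, mul_smul_comm, mul_one]
    rw [hcomm, mul_assoc, Units.mul_inv, mul_one]
    exact ⟨_, rfl⟩
  · have hinv : (↑u⁻¹ : CliffordAlgebra (QuadGrp.splitForm k 3)) =
        (a * a + a * d + b * c)⁻¹ • qbar k a b c d := by
      have h1 := q_mul_qbar k a b c d
      rw [← h] at h1
      calc (↑u⁻¹ : CliffordAlgebra (QuadGrp.splitForm k 3))
          = ↑u⁻¹ * ((a * a + a * d + b * c)⁻¹ • ((a * a + a * d + b * c) • 1)) := by
            rw [smul_smul, inv_mul_cancel₀ hN, one_smul, mul_one]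
        _ = (a * a + a * d + b * c)⁻¹ • qbar k a b c d := by
            rw [← h1, mul_smul_comm, ← mul_assoc, Units.inv_mul, one_mul]
    rw [hinv, mul_smul_comm]
    exact Submodule.smul_mem _ _ key

theorem evenUnits_le_GPin' :
    QuadGrp.evenUnits (QuadGrp.splitForm k 3) ≤ QuadGrp.GPin' (QuadGrp.splitForm k 3) := by
  intro u hu
  rw [QuadGrp.mem_GPin']
  have hu' : u⁻¹ ∈ QuadGrp.evenUnits (QuadGrp.splitForm k 3) := inv_mem hu
  rw [QuadGrp.mem_evenUnits] at hu hu'
  apply le_antisymm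
  · intro x hx
    obtain ⟨s, hs, rfl⟩ := (Submodule.mem_smul_pointwise_iff_exists _ _ _).mp hx
    obtain ⟨v, rfl⟩ := hs
    rw [ConjAct.units_smul_def, ConjAct.ofConjAct_toConjAct]
    exact conj_mem_range k u hu v
  · intro x hx
    obtain ⟨v, rfl⟩ := hx
    have h1 := conj_mem_range k u⁻¹ hu' v
    rw [inv_inv] at h1
    have h2 : ι (QuadGrp.splitForm k 3) v =
        ConjAct.toConjAct u • ((↑u⁻¹ : CliffordAlgebra (QuadGrp.splitForm k 3)) *
          ι (QuadGrp.splitForm k 3) v * u) := by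
      rw [ConjAct.units_smul_def, ConjAct.ofConjAct_toConjAct]
      simp only [mul_assoc, Units.mul_inv, mul_one, Units.mul_inv_cancel_left]
    rw [h2]
    exact Submodule.smul_mem_pointwise_smul _ _ _ h1

end Groth.Agent.H85.Quad3
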