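import Groth.Prelude.Def_QuadGrp
import Mathlib.Tactic

/-!
# The Clifford algebra of the split form `Σ x_{2i} x_{2i+1}`: the element `∏ (1 - 2 e_{2i} e_{2i+1})`

Used for S17016.
-/

set_option linter.unusedSectionVars false

open CliffordAlgebra

namespace Groth.Agent.H85.QuadEven

variable (R : Type*) [CommRing R] (m : ℕ)

theorem splitForm_even_apply (x : Fin (m * 2) → R) :
    QuadGrp.splitForm R (m * 2) x =
      ∑ i : Fin m, x (finProdFinEquiv (i, 0)) * x (finProdFinEquiv (i, 1)) := by
  unfold QuadGrp.splitForm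
  have h0 : (m * 2) % 2 = 0 := Nat.mul_mod_left m 2
  rw [dif_neg (by omega)]
  simp only [add_zero, sum_apply, QuadraticMap.linMulLin_apply, LinearMap.proj_apply]
  refine Fintype.sum_equiv (finCongr (Nat.mul_div_cancel m two_pos)) _ _ (fun i => ?_)
  congr 1 <;> congr 1 <;> ext <;> simp [h0, add_comm]

/-- The basis vector `e_{2i+t}` in the Clifford algebra. -/
noncomputable def E (i : Fin m) (t : Fin 2) : CliffordAlgebra (QuadGrp.splitForm R (m * 2)) :=
  ι (QuadGrp.splitForm R (m * 2)) (Pi.single (finProdFinEquiv (i, t)) 1)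

theorem Q_single (a : Fin m × Fin 2) :
    QuadGrp.splitForm R (m * 2) (Pi.single (finProdFinEquiv a) 1) = 0 := by
  rw [splitForm_even_apply]
  apply Finset.sum_eq_zero
  intro k _
  obtain ⟨i, t⟩ := a
  simp only [Pi.single_apply, EmbeddingLike.apply_eq_iff_eq, Prod.mk.injEq]
  fin_cases t <;> simp

theorem polar_single (a b : Fin m × Fin 2) :
    QuadraticMap.polar (QuadGrp.splitForm R (m * 2)) (Pi.single (finProdFinEquiv a) 1)
      (Pi.single (finProdFinEquiv b) 1) = if a.1 = b.1 ∧ a.2 ≠ b.2 then 1 else 0 := by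
  unfold QuadraticMap.polar
  rw [Q_single, Q_single, sub_zero, sub_zero, splitForm_even_apply]
  obtain ⟨i, t⟩ := a
  obtain ⟨i', t'⟩ := b
  simp only [Pi.add_apply, Pi.single_apply, EmbeddingLike.apply_eq_iff_eq, Prod.mk.injEq]
  fin_cases t <;> fin_cases t' <;> simp [Finset.sum_ite_eq, eq_comm]

theorem E_sq (i : Fin m) (t : Fin 2) : E R m i t * E R m i t = 0 := by
  unfold E
  rw [ι_sq_scalar, Q_single, map_zero]

theorem E_pair (i : Fin m) : E R m i 0 * E R m i 1 + E R m i 1 * E R m i 0 = 1 := by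
  unfold E
  rw [ι_mul_ι_add_swap, polar_single]
  simp

theorem E_anti (i i' : Fin m) (h : i ≠ i') (t t' : Fin 2) :
    E R m i t * E R m i' t' = -(E R m i' t' * E R m i t) := by
  unfold E
  rw [eq_neg_iff_add_eq_zero, ι_mul_ι_add_swap, polar_single]
  simp [h]


/-- `f i = 1 - 2 e_{2i} e_{2i+1}`. -/
noncomputable def f (i : Fin m) : CliffordAlgebra (QuadGrp.splitForm R (m * 2)) :=
  1 - 2 * (E R m i 0 * E R m i 1)

section abstract
variable {A : Type*} [Ring A] (a b : A) (haa : a * a = 0) (hbb : b * b = 0)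
  (hab : a * b + b * a = 1)
include haa hbb hab

theorem abs_sq : (1 - 2 * (a * b)) * (1 - 2 * (a * b)) = 1 := by
  have hba : b * a = 1 - a * b := eq_sub_of_add_eq' hab
  have h1 : a * b * (a * b) = a * b := by
    calc a * b * (a * b) = a * (b * a) * b := by noncomm_ring
      _ = a * (1 - a * b) * b := by rw [hba]
      _ = a * b - (a * a) * (b * b) := by noncomm_ring
      _ = a * b := by rw [haa, zero_mul, sub_zero]
  calc (1 - 2 * (a * b)) * (1 - 2 * (a * b))
      = 1 - 4 * (a * b) + 4 * (a * b * (a * b)) := by noncomm_ring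
    _ = 1 := by rw [h1]; noncomm_ring

theorem abs_anti_a : a * (1 - 2 * (a * b)) = -((1 - 2 * (a * b)) * a) := by
  have hba : b * a = 1 - a * b := eq_sub_of_add_eq' hab
  calc a * (1 - 2 * (a * b)) = a - 2 * ((a * a) * b) := by noncomm_ring
    _ = a := by rw [haa, zero_mul, mul_zero, sub_zero]
    _ = -(a - 2 * (a * (1 - a * b))) + 2 * ((a * a) * b) := by noncomm_ring
    _ = -(a - 2 * (a * (b * a))) := by rw [haa, hba, zero_mul, mul_zero, add_zero]
    _ = -((1 - 2 * (a * b)) * a) := by noncomm_ring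

theorem abs_anti_b : b * (1 - 2 * (a * b)) = -((1 - 2 * (a * b)) * b) := by
  have hba : b * a = 1 - a * b := eq_sub_of_add_eq' hab
  calc b * (1 - 2 * (a * b)) = b - 2 * ((b * a) * b) := by noncomm_ring
    _ = b - 2 * ((1 - a * b) * b) := by rw [hba]
    _ = -b + 2 * (a * (b * b)) := by noncomm_ring
    _ = -(b - 2 * (a * (b * b))) := by rw [hbb]; noncomm_ring
    _ = -((1 - 2 * (a * b)) * b) := by noncomm_ring

end abstract

theorem f_sq (i : Fin m) : f R m i * f R m i = 1 :=
  abs_sq _ _ (E_sq R m i 0) (E_sq R m i 1) (E_pair R m i)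

theorem E_f_same (i : Fin m) (t : Fin 2) : E R m i t * f R m i = -(f R m i * E R m i t) := by
  fin_cases t
  · exact abs_anti_a _ _ (E_sq R m i 0) (E_sq R m i 1) (E_pair R m i)
  · exact abs_anti_b _ _ (E_sq R m i 0) (E_sq R m i 1) (E_pair R m i)

theorem E_f_ne (i i' : Fin m) (h : i' ≠ i) (t : Fin 2) :
    E R m i' t * f R m i = f R m i * E R m i' t := by
  unfold f
  have h0 := E_anti R m i' i h t 0
  have h1 := E_anti R m i' i h t 1
  calc E R m i' t * (1 - 2 * (E R m i 0 * E R m i 1))
      = E R m i' t - 2 * ((E R m i' t * E R m i 0) * E R m i 1) := by noncomm_ring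
    _ = E R m i' t + 2 * (E R m i 0 * (E R m i' t * E R m i 1)) := by rw [h0]; noncomm_ring
    _ = E R m i' t - 2 * (E R m i 0 * E R m i 1 * E R m i' t) := by rw [h1]; noncomm_ring
    _ = (1 - 2 * (E R m i 0 * E R m i 1)) * E R m i' t := by noncomm_ring

theorem E_prod_of_notMem (l : List (Fin m)) (i' : Fin m) (h : i' ∉ l) (t : Fin 2) :
    E R m i' t * (l.map (f R m)).prod = (l.map (f R m)).prod * E R m i' t := by
  induction l with
  | nil => simp
  | cons i l ih =>
    rw [List.mem_cons, not_or] at h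
    rw [List.map_cons, List.prod_cons, ← mul_assoc, E_f_ne R m i i' h.1 t, mul_assoc, ih h.2,
      mul_assoc]

theorem E_prod_of_mem (l : List (Fin m)) (hl : l.Nodup) (i' : Fin m) (h : i' ∈ l) (t : Fin 2) :
    E R m i' t * (l.map (f R m)).prod = -((l.map (f R m)).prod * E R m i' t) := by
  induction l with
  | nil => simp at h
  | cons i l ih =>
    rw [List.nodup_cons] at hl
    rw [List.map_cons, List.prod_cons]
    rcases List.mem_cons.mp h with rfl | h'
    · rw [← mul_assoc, E_f_same, neg_mul, mul_assoc, E_prod_of_notMem R m l i' hl.1 t, mul_assoc]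
    · have hne : i' ≠ i := fun h0 => hl.1 (h0 ▸ h')
      rw [← mul_assoc, E_f_ne R m i i' hne t, mul_assoc, ih hl.2 h', mul_neg, mul_assoc]

theorem f_prod_comm (l : List (Fin m)) (i' : Fin m) (h : i' ∉ l) :
    f R m i' * (l.map (f R m)).prod = (l.map (f R m)).prod * f R m i' := by
  have h0 := E_prod_of_notMem R m l i' h 0
  have h1 := E_prod_of_notMem R m l i' h 1
  generalize (l.map (f R m)).prod = P at h0 h1 ⊢
  unfold f
  calc (1 - 2 * (E R m i' 0 * E R m i' 1)) * P
      = P - 2 * (E R m i' 0 * (E R m i' 1 * P)) := by noncomm_ring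
    _ = P - 2 * ((E R m i' 0 * P) * E R m i' 1) := by rw [h1]; noncomm_ring
    _ = P - 2 * (P * E R m i' 0 * E R m i' 1) := by rw [h0]
    _ = P * (1 - 2 * (E R m i' 0 * E R m i' 1)) := by noncomm_ring

theorem prod_sq (l : List (Fin m)) (hl : l.Nodup) :
    (l.map (f R m)).prod * (l.map (f R m)).prod = 1 := by
  induction l with
  | nil => simp
  | cons i l ih =>
    rw [List.nodup_cons] at hl
    rw [List.map_cons, List.prod_cons]
    calc f R m i * (l.map (f R m)).prod * (f R m i * (l.map (f R m)).prod)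
        = f R m i * ((l.map (f R m)).prod * f R m i) * (l.map (f R m)).prod := by noncomm_ring
      _ = f R m i * (f R m i * (l.map (f R m)).prod) * (l.map (f R m)).prod := by
          rw [f_prod_comm R m l i hl.1]
      _ = (f R m i * f R m i) * ((l.map (f R m)).prod * (l.map (f R m)).prod) := by noncomm_ring
      _ = 1 := by rw [f_sq, ih hl.2, mul_one]

theorem main :
    ((List.finRange m).map (f R m)).prod * ((List.finRange m).map (f R m)).prod = 1 ∧
      ∀ j : Fin (m * 2),
        ι (QuadGrp.splitForm R (m * 2)) (Pi.single j 1) * ((List.finRange m).map (f R m)).prod =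
          -(((List.finRange m).map (f R m)).prod *
            ι (QuadGrp.splitForm R (m * 2)) (Pi.single j 1)) := by
  refine ⟨prod_sq R m _ (List.nodup_finRange m), fun j => ?_⟩
  obtain ⟨⟨i, t⟩, rfl⟩ := finProdFinEquiv.surjective j
  exact E_prod_of_mem R m _ (List.nodup_finRange m) i (List.mem_finRange i) t

end Groth.Agent.H85.QuadEven
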