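import Mathlib

/-!
# Rationality of a power series via Hankel windows (helper for S13057, S13058)
-/

set_option autoImplicit false

open Finset

namespace Groth.Agent.H85.RatSeries

variable {L : Type*} [Field L]

/-- The window `(a_i, …, a_{i+N})`. -/
noncomputable def window (f : PowerSeries L) (N i : ℕ) : Fin (N + 1) → L :=
  fun j => PowerSeries.coeff (i + (j : ℕ)) f

/-- Coefficient formula for `f * Q` with `deg Q ≤ N`. -/
theorem coeff_mul_poly (f : PowerSeries L) (Q : Polynomial L) (N : ℕ) (hQ : Q.natDegree ≤ N)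
    (i : ℕ) :
    PowerSeries.coeff (i + N) (f * (Q : PowerSeries L)) =
      ∑ j : Fin (N + 1), Q.coeff (N - j) * window f N i j := by
  rw [PowerSeries.coeff_mul, Finset.Nat.sum_antidiagonal_eq_sum_range_succ_mk,
    Nat.succ_eq_add_one, add_assoc, Finset.sum_range_add]
  have h1 : ∑ x ∈ range i, PowerSeries.coeff x f *
      PowerSeries.coeff (i + N - x) (Q : PowerSeries L) = 0 := by
    apply Finset.sum_eq_zero
    intro x hx
    rw [mem_range] at hx
    rw [Polynomial.coeff_coe, Polynomial.coeff_eq_zero_of_natDegree_lt (by omega), mul_zero]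
  have h2 : ∑ j : Fin (N + 1), Q.coeff (N - j) * window f N i j =
      ∑ j ∈ range (N + 1), Q.coeff (N - j) * PowerSeries.coeff (i + j) f :=
    Fin.sum_univ_eq_sum_range (fun j => Q.coeff (N - j) * PowerSeries.coeff (i + j) f) (N + 1)
  rw [h1, zero_add, h2]
  apply Finset.sum_congr rfl
  intro x hx
  rw [mem_range] at hx
  rw [Polynomial.coeff_coe, mul_comm]
  congr 2
  omega

theorem forward (f : PowerSeries L) (P Q : Polynomial L) (hQ : Q ≠ 0)
    (h : f * (Q : PowerSeries L) = (P : PowerSeries L)) :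
    Submodule.span L {v : Fin (Q.natDegree + 1) → L |
      ∃ i : ℕ, P.natDegree + 1 ≤ i ∧ v = window f Q.natDegree i} ≠ ⊤ := by
  classical
  set N := Q.natDegree with hN
  let φ : (Fin (N + 1) → L) →ₗ[L] L :=
    ∑ j : Fin (N + 1), Q.coeff (N - j) • LinearMap.proj j
  have hφ : ∀ v, φ v = ∑ j : Fin (N + 1), Q.coeff (N - j) * v j := by
    intro v
    simp [φ, LinearMap.sum_apply]
  intro htop
  have hle : Submodule.span L {v : Fin (N + 1) → L |
      ∃ i : ℕ, P.natDegree + 1 ≤ i ∧ v = window f N i} ≤ LinearMap.ker φ := by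
    rw [Submodule.span_le]
    rintro v ⟨i, hi, rfl⟩
    rw [SetLike.mem_coe, LinearMap.mem_ker, hφ, ← coeff_mul_poly f Q N le_rfl i, h,
      Polynomial.coeff_coe, Polynomial.coeff_eq_zero_of_natDegree_lt (by omega)]
  rw [htop, top_le_iff] at hle
  have h0 : φ (Pi.single 0 1) = 0 := by
    rw [← LinearMap.mem_ker, hle]; trivial
  rw [hφ, Finset.sum_eq_single 0] at h0
  · simp only [Fin.val_zero, Nat.sub_zero, Pi.single_eq_same, mul_one] at h0
    exact hQ (Polynomial.leadingCoeff_eq_zero.mp h0)
  · intro j _ hj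
    rw [Pi.single_eq_of_ne hj, mul_zero]
  · intro h; exact absurd (mem_univ _) h

theorem backward (f : PowerSeries L) (M N : ℕ)
    (h : Submodule.span L {v : Fin (N + 1) → L | ∃ i : ℕ, M ≤ i ∧ v = window f N i} ≠ ⊤) :
    ∃ P Q : Polynomial L, Q ≠ 0 ∧ f * (Q : PowerSeries L) = (P : PowerSeries L) := by
  classical
  obtain ⟨φ, hφ0, hφ⟩ := Submodule.exists_le_ker_of_lt_top _ (lt_top_iff_ne_top.mpr h)
  let c : Fin (N + 1) → L := fun j => φ (Pi.single j 1)
  have hφv : ∀ v, φ v = ∑ j, c j * v j := by
    intro v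
    rw [LinearMap.pi_apply_eq_sum_univ φ v]
    apply Finset.sum_congr rfl
    intro j _
    rw [smul_eq_mul, mul_comm]
    congr 2
    ext k
    simp [Pi.single_apply, eq_comm]
  let Q : Polynomial L := ∑ j : Fin (N + 1), Polynomial.C (c j) * Polynomial.X ^ (N - (j : ℕ))
  have hQcoeff : ∀ j : Fin (N + 1), Q.coeff (N - j) = c j := by
    intro j
    simp only [Q, Polynomial.finsetSum_coeff, Polynomial.coeff_C_mul_X_pow]
    rw [Finset.sum_eq_single j]
    · simp
    · intro b _ hb
      rw [if_neg]
      intro hcon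
      apply hb
      ext
      have := b.2; have := j.2
      omega
    · intro h; exact absurd (mem_univ _) h
  have hQdeg : Q.natDegree ≤ N := by
    apply Polynomial.natDegree_sum_le_of_forall_le
    intro j _
    refine (Polynomial.natDegree_C_mul_X_pow_le _ _).trans (Nat.sub_le _ _)
  have hQ0 : Q ≠ 0 := by
    intro hQ
    apply hφ0
    apply LinearMap.ext
    intro v
    rw [hφv, LinearMap.zero_apply]
    apply Finset.sum_eq_zero
    intro j _
    rw [← hQcoeff j, hQ, Polynomial.coeff_zero, zero_mul]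
  refine ⟨PowerSeries.trunc (M + N) (f * (Q : PowerSeries L)), Q, hQ0, ?_⟩
  ext m
  rw [Polynomial.coeff_coe, PowerSeries.coeff_trunc]
  split_ifs with hm
  · rfl
  · obtain ⟨i, rfl⟩ : ∃ i, m = i + N := ⟨m - N, by omega⟩
    rw [coeff_mul_poly f Q N hQdeg i]
    have hi : M ≤ i := by omega
    have hw : window f N i ∈ LinearMap.ker φ := hφ (Submodule.subset_span ⟨i, hi, rfl⟩)
    rw [LinearMap.mem_ker, hφv] at hw
    rw [← hw]
    apply Finset.sum_congr rfl
    intro j _
    rw [hQcoeff]

theorem rational_iff (f : PowerSeries L) :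
    (∃ P Q : Polynomial L, Q ≠ 0 ∧ f * (Q : PowerSeries L) = (P : PowerSeries L)) ↔
      ∃ M N : ℕ, Submodule.span L
          {v : Fin (N + 1) → L | ∃ i : ℕ, M ≤ i ∧
            v = fun j : Fin (N + 1) => PowerSeries.coeff (i + (j : ℕ)) f} ≠ ⊤ := by
  constructor
  · rintro ⟨P, Q, hQ, h⟩
    exact ⟨P.natDegree + 1, Q.natDegree, forward f P Q hQ h⟩
  · rintro ⟨M, N, h⟩
    exact backward f M N h

theorem descent {L' : Type*} [Field L'] [Algebra L L'] (f : PowerSeries L) :
    (∃ P Q : Polynomial L', Q ≠ 0 ∧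
        PowerSeries.map (algebraMap L L') f * (Q : PowerSeries L') = (P : PowerSeries L')) ↔
      ∃ P Q : Polynomial L, Q ≠ 0 ∧ f * (Q : PowerSeries L) = (P : PowerSeries L) := by
  classical
  constructor
  · intro h
    obtain ⟨M, N, hspan⟩ := (rational_iff _).mp h
    apply backward f M N
    intro htop
    apply hspan
    set T := Submodule.span L'
      {v : Fin (N + 1) → L' | ∃ i : ℕ, M ≤ i ∧
        v = fun j : Fin (N + 1) => PowerSeries.coeff (i + (j : ℕ))
          (PowerSeries.map (algebraMap L L') f)} with hT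
    let ι : (Fin (N + 1) → L) →ₗ[L] (Fin (N + 1) → L') :=
      (Algebra.linearMap L L').compLeft (Fin (N + 1))
    have hι : ∀ v : Fin (N + 1) → L, ι v ∈ T := by
      intro v
      have hv : v ∈ Submodule.span L
          {v : Fin (N + 1) → L | ∃ i : ℕ, M ≤ i ∧ v = window f N i} := by
        rw [htop]; trivial
      induction hv using Submodule.span_induction with
      | mem x hx =>
        obtain ⟨i, hi, rfl⟩ := hx
        apply Submodule.subset_span
        refine ⟨i, hi, ?_⟩
        ext j
        simp [ι, window]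
      | zero => rw [map_zero]; exact T.zero_mem
      | add x y _ _ hx hy => rw [map_add]; exact T.add_mem hx hy
      | smul a x _ hx =>
        rw [map_smul, ← algebraMap_smul L' a (ι x)]
        exact T.smul_mem _ hx
    rw [eq_top_iff]
    intro w _
    rw [pi_eq_sum_univ w]
    apply T.sum_mem
    intro j _
    apply T.smul_mem
    have := hι (Pi.single j 1)
    convert this using 1
    ext k
    simp [ι, Pi.single_apply, eq_comm]
  · rintro ⟨P, Q, hQ, h⟩
    refine ⟨P.map (algebraMap L L'), Q.map (algebraMap L L'), ?_, ?_⟩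
    · exact (Polynomial.map_ne_zero_iff (algebraMap L L').injective).mpr hQ
    · rw [Polynomial.polynomial_map_coe, Polynomial.polynomial_map_coe, ← map_mul, h]

end Groth.Agent.H85.RatSeries
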