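import Mathlib
import Groth.Agent.H17.HS.Poly

/-!
# Backward differences of functions `ℤ → ℚ` (helper85)

A function is *polynomial-like* if some iterated backward difference vanishes identically.
Polynomial functions are polynomial-like, the class is closed under sums, differences and shifts,
`f` is polynomial-like as soon as `n ↦ f n - f (n - 1)` is, and a polynomial-like function
vanishing for all large `n` vanishes identically.
-/

set_option autoImplicit false

namespace Groth.Agent.H85.Serre

open Polynomial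

/-- backward difference -/
def bd (f : ℤ → ℚ) : ℤ → ℚ := fun n => f n - f (n - 1)

theorem bd_zero : bd 0 = 0 := by
  funext n
  simp [bd]

theorem bd_add (f g : ℤ → ℚ) : bd (f + g) = bd f + bd g := by
  funext n
  simp only [bd, Pi.add_apply]
  ring

theorem bd_sub (f g : ℤ → ℚ) : bd (f - g) = bd f - bd g := by
  funext n
  simp only [bd, Pi.sub_apply]
  ring

theorem iterate_bd_zero (k : ℕ) : bd^[k] 0 = 0 := by
  induction k with
  | zero => rfl
  | succ k ih => rw [Function.iterate_succ_apply, bd_zero, ih]

theorem iterate_bd_add (k : ℕ) (f g : ℤ → ℚ) : bd^[k] (f + g) = bd^[k] f + bd^[k] g := by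
  induction k generalizing f g with
  | zero => rfl
  | succ k ih => rw [Function.iterate_succ_apply, Function.iterate_succ_apply,
      Function.iterate_succ_apply, bd_add, ih]

theorem iterate_bd_sub (k : ℕ) (f g : ℤ → ℚ) : bd^[k] (f - g) = bd^[k] f - bd^[k] g := by
  induction k generalizing f g with
  | zero => rfl
  | succ k ih => rw [Function.iterate_succ_apply, Function.iterate_succ_apply,
      Function.iterate_succ_apply, bd_sub, ih]

theorem iterate_bd_eq_zero_of_le {k k' : ℕ} (h : k ≤ k') (f : ℤ → ℚ) (hf : bd^[k] f = 0) :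
    bd^[k'] f = 0 := by
  obtain ⟨j, rfl⟩ := Nat.exists_eq_add_of_le h
  rw [add_comm, Function.iterate_add_apply, hf, iterate_bd_zero]

/-- some iterated backward difference vanishes -/
def PolyLike (f : ℤ → ℚ) : Prop := ∃ k : ℕ, bd^[k] f = 0

theorem polyLike_zero : PolyLike 0 := ⟨0, rfl⟩

theorem PolyLike.add {f g : ℤ → ℚ} (hf : PolyLike f) (hg : PolyLike g) : PolyLike (f + g) := by
  obtain ⟨k, hk⟩ := hf
  obtain ⟨l, hl⟩ := hg
  refine ⟨max k l, ?_⟩
  rw [iterate_bd_add, iterate_bd_eq_zero_of_le (le_max_left k l) f hk,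
    iterate_bd_eq_zero_of_le (le_max_right k l) g hl, add_zero]

theorem PolyLike.sub {f g : ℤ → ℚ} (hf : PolyLike f) (hg : PolyLike g) : PolyLike (f - g) := by
  obtain ⟨k, hk⟩ := hf
  obtain ⟨l, hl⟩ := hg
  refine ⟨max k l, ?_⟩
  rw [iterate_bd_sub, iterate_bd_eq_zero_of_le (le_max_left k l) f hk,
    iterate_bd_eq_zero_of_le (le_max_right k l) g hl, sub_zero]

theorem PolyLike.of_bd {f : ℤ → ℚ} (hf : PolyLike (bd f)) : PolyLike f := by
  obtain ⟨k, hk⟩ := hf
  exact ⟨k + 1, by rw [Function.iterate_succ_apply, hk]⟩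

theorem bd_shift (f : ℤ → ℚ) (e : ℤ) : bd (fun n => f (n - e)) = fun n => bd f (n - e) := by
  funext n
  simp only [bd]
  rw [show n - 1 - e = n - e - 1 by ring]

theorem iterate_bd_shift (k : ℕ) (f : ℤ → ℚ) (e : ℤ) :
    bd^[k] (fun n => f (n - e)) = fun n => (bd^[k] f) (n - e) := by
  induction k generalizing f with
  | zero => rfl
  | succ k ih =>
    rw [Function.iterate_succ_apply, bd_shift, ih (bd f), Function.iterate_succ_apply]

theorem PolyLike.shift {f : ℤ → ℚ} (hf : PolyLike f) (e : ℤ) : PolyLike (fun n => f (n - e)) := by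
  obtain ⟨k, hk⟩ := hf
  refine ⟨k, ?_⟩
  rw [iterate_bd_shift, hk]
  rfl

/-- polynomial functions are polynomial-like -/
theorem polyLike_eval : ∀ (d : ℕ) (P : ℚ[X]), P.natDegree ≤ d →
    bd^[d + 1] (fun n : ℤ => P.eval (n : ℚ)) = 0 := by
  intro d
  induction d with
  | zero =>
    intro P hP
    have h0 : P.natDegree = 0 := by omega
    rw [natDegree_eq_zero] at h0
    obtain ⟨c, rfl⟩ := h0
    funext n
    simp [bd]
  | succ d ih =>
    intro P hP
    rw [Function.iterate_succ_apply]
    have hbd : bd (fun n : ℤ => P.eval (n : ℚ)) =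
        fun n : ℤ => (-(P.comp (X + C (-1 : ℚ)) - P)).eval (n : ℚ) := by
      funext n
      simp only [bd, eval_neg, eval_sub, eval_comp, eval_add, eval_X, eval_C]
      push_cast
      ring_nf
    rw [hbd]
    apply ih
    rw [natDegree_neg]
    by_cases h0 : P.natDegree = 0
    · rw [Groth.Agent.H17.HS.shift_sub_eq_zero P (-1) h0]
      simp
    · have := Groth.Agent.H17.HS.natDegree_shift_sub_lt P (-1) (Nat.pos_of_ne_zero h0)
      omega

theorem polyLike_of_poly (P : ℚ[X]) : PolyLike (fun n : ℤ => P.eval (n : ℚ)) :=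
  ⟨P.natDegree + 1, polyLike_eval P.natDegree P le_rfl⟩

/-- a polynomial-like function vanishing for all large arguments vanishes identically -/
theorem eq_zero_of_iterate_bd : ∀ (k : ℕ) (h : ℤ → ℚ), bd^[k] h = 0 →
    ∀ N : ℤ, (∀ n : ℤ, N ≤ n → h n = 0) → ∀ n : ℤ, h n = 0 := by
  intro k
  induction k with
  | zero =>
    intro h hk N hN n
    have : h = 0 := hk
    rw [this]
    rfl
  | succ k ih =>
    intro h hk N hN
    rw [Function.iterate_succ_apply] at hk
    have hbd : ∀ n : ℤ, bd h n = 0 := by
      apply ih (bd h) hk (N + 1)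
      intro n hn
      simp only [bd]
      rw [hN n (by omega), hN (n - 1) (by omega), sub_zero]
    have hstep : ∀ n : ℤ, h (n - 1) = h n := by
      intro n
      have := hbd n
      simp only [bd] at this
      linarith
    have hdown : ∀ j : ℕ, h (N - j) = 0 := by
      intro j
      induction j with
      | zero => simpa using hN N le_rfl
      | succ j ihj =>
        have := hstep (N - j)
        rw [ihj] at this
        rw [← this]
        congr 1
        push_cast
        ring
    intro n
    rcases le_or_gt N n with hn | hn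
    · exact hN n hn
    · have := hdown (N - n).toNat
      rw [Int.toNat_of_nonneg (by omega)] at this
      rwa [sub_sub_cancel] at this

theorem PolyLike.eq_zero {h : ℤ → ℚ} (hh : PolyLike h) (N : ℤ)
    (hN : ∀ n : ℤ, N ≤ n → h n = 0) (n : ℤ) : h n = 0 := by
  obtain ⟨k, hk⟩ := hh
  exact eq_zero_of_iterate_bd k h hk N hN n

end Groth.Agent.H85.Serre
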