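import Mathlib
import Groth.Agent.H98.GrStar.ArtinBounded
import Groth.Agent.H98.GrStar.PieceApps
import Groth.Agent.H98.GrStar.GrLES3

/-!
# The Hilbert function of a finitely generated graded module over a positively graded Noetherian
ring with Artinian degree-zero part (helper85)

Pieces are finitely generated over `R_0`; the Hilbert function `n ↦ ℓ_{R_0}(M_n)` is additive on
short exact sequences of graded modules.
-/

set_option autoImplicit false
set_option linter.unusedSectionVars false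
set_option linter.unusedVariables false

universe u

namespace Groth.Agent.H85.Serre

open DirectSum Groth.Agent.H98.GrStar

variable {R : Type u} [CommRing R] [IsNoetherianRing R]
  {𝒜 : ℤ → AddSubgroup R} [GradedRing 𝒜]

section Finite

variable (hpos : ∀ n : ℤ, n < 0 → ∀ r ∈ 𝒜 n, r = 0)
variable {M : Type u} [AddCommGroup M] [Module R M] (ℳ : ℤ → AddSubgroup M)
  [DirectSum.Decomposition ℳ] [SetLike.GradedSMul 𝒜 ℳ]

include hpos in
/-- the degree-`n` component of `r • z`, for `z` with components only in degrees `≥ n` -/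
theorem decompose_smul_of_mem_geSub (n : ℤ) (r : R) (z : M) (hz : z ∈ geSub 𝒜 hpos ℳ n) :
    (decompose ℳ (r • z) n : M) = (decompose 𝒜 r 0 : R) • (decompose ℳ z n : M) := by
  classical
  rw [decompose_smul_eq_sum 𝒜 ℳ r z n]
  by_cases h0 : (0 : ℤ) ∈ (decompose 𝒜 r).support
  · rw [Finset.sum_eq_single_of_mem 0 h0]
    · rw [sub_zero]
    · intro e _ hne
      rcases lt_or_gt_of_ne hne with he | he
      · rw [decompose_eq_zero_of_neg 𝒜 hpos r he, zero_smul]
      · rw [hz (n - e) (by omega), smul_zero]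
  · rw [DFinsupp.notMem_support_iff] at h0
    rw [h0]
    rw [ZeroMemClass.coe_zero, zero_smul]
    refine Finset.sum_eq_zero (fun e he => ?_)
    have hne : e ≠ 0 := by
      rintro rfl
      rw [DFinsupp.mem_support_iff] at he
      exact he h0
    rcases lt_or_gt_of_ne hne with he' | he'
    · rw [decompose_eq_zero_of_neg 𝒜 hpos r he', zero_smul]
    · rw [hz (n - e) (by omega), smul_zero]

include hpos in
/-- pieces of a finitely generated graded module are finitely generated over `R_0` -/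
theorem finite_comp [Module.Finite R M] (n : ℤ) :
    Module.Finite (GrLC.deg0 𝒜) (GrLC.comp 𝒜 ℳ n) := by
  classical
  haveI : IsNoetherian R M := isNoetherian_of_isNoetherianRing_of_finite R M
  haveI : IsNoetherianRing (GrLC.deg0 𝒜) := deg0_isNoetherianRing 𝒜
  obtain ⟨Z, hZ⟩ := (IsNoetherian.noetherian (geSub 𝒜 hpos ℳ n))
  let S : Submodule (GrLC.deg0 𝒜) M :=
    Submodule.span (GrLC.deg0 𝒜) ((fun z : M => (decompose ℳ z n : M)) '' (Z : Set M))
  have hS : S.FG := ⟨Z.image (fun z : M => (decompose ℳ z n : M)), by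
    rw [Finset.coe_image]⟩
  have key : ∀ y ∈ Submodule.span R (Z : Set M), (decompose ℳ y n : M) ∈ S := by
    intro y hy
    induction hy using Submodule.span_induction with
    | mem z hz => exact Submodule.subset_span ⟨z, hz, rfl⟩
    | zero =>
      rw [DirectSum.decompose_zero]
      exact S.zero_mem
    | add y y' _ _ h h' =>
      rw [DirectSum.decompose_add, DirectSum.add_apply, AddMemClass.coe_add]
      exact S.add_mem h h'
    | smul r y hy h =>
      rw [decompose_smul_of_mem_geSub hpos ℳ n r y (by rw [← hZ]; exact hy)]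
      exact S.smul_mem (⟨(decompose 𝒜 r 0 : R), SetLike.coe_mem _⟩ : GrLC.deg0 𝒜) h
  have hle : GrLC.comp 𝒜 ℳ n ≤ S := by
    intro y hy
    have hy' : y ∈ ℳ n := hy
    have h1 : y ∈ geSub 𝒜 hpos ℳ n := fun j hj =>
      DirectSum.decompose_of_mem_ne ℳ hy' (by omega)
    rw [← hZ] at h1
    have h2 := key y h1
    rwa [DirectSum.decompose_of_mem_same ℳ hy'] at h2
  exact Module.Finite.iff_fg.mpr (Submodule.FG.of_le hS hle)

include hpos in
theorem length_comp_ne_top [IsArtinianRing (GrLC.deg0 𝒜)] [Module.Finite R M] (n : ℤ) :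
    Module.length (GrLC.deg0 𝒜) (GrLC.comp 𝒜 ℳ n) ≠ ⊤ := by
  haveI := finite_comp hpos ℳ n
  exact Module.length_ne_top

/-- the Hilbert function, as an integer -/
noncomputable def hf (n : ℤ) : ℤ :=
  ((Module.length (GrLC.deg0 𝒜) (GrLC.comp 𝒜 ℳ n)).toNat : ℤ)

omit [IsNoetherianRing R] in
theorem hf_shift (e n : ℤ) : hf (𝒜 := 𝒜) (shM 𝒜 ℳ e).gr n = hf (𝒜 := 𝒜) ℳ (n - e) := rfl

end Finite

section Additive

variable (hpos : ∀ n : ℤ, n < 0 → ∀ r ∈ 𝒜 n, r = 0)
variable {M' : Type u} [AddCommGroup M'] [Module R M'] {ℳ' : ℤ → AddSubgroup M'}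
  [DirectSum.Decomposition ℳ'] [SetLike.GradedSMul 𝒜 ℳ']
variable {M : Type u} [AddCommGroup M] [Module R M] {ℳ : ℤ → AddSubgroup M}
  [DirectSum.Decomposition ℳ] [SetLike.GradedSMul 𝒜 ℳ]
variable {M'' : Type u} [AddCommGroup M''] [Module R M''] {ℳ'' : ℤ → AddSubgroup M''}
  [DirectSum.Decomposition ℳ''] [SetLike.GradedSMul 𝒜 ℳ'']
variable (T : GrSES (R := R) ℳ' ℳ ℳ'')

variable (𝒜) in
/-- `M'_n → M_n` -/
noncomputable def uC (n : ℤ) : GrLC.comp 𝒜 ℳ' n →ₗ[GrLC.deg0 𝒜] GrLC.comp 𝒜 ℳ n :=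
  (T.u.restrictScalars (GrLC.deg0 𝒜)).restrict (fun x hx => T.u_gr n x hx)

variable (𝒜) in
/-- `M_n → M''_n` -/
noncomputable def vC (n : ℤ) : GrLC.comp 𝒜 ℳ n →ₗ[GrLC.deg0 𝒜] GrLC.comp 𝒜 ℳ'' n :=
  (T.v.restrictScalars (GrLC.deg0 𝒜)).restrict (fun x hx => T.v_gr n x hx)

omit [IsNoetherianRing R] in
theorem uC_injective (n : ℤ) : Function.Injective (uC 𝒜 T n) := by
  intro x y h
  have h1 : T.u x.1 = T.u y.1 := congrArg Subtype.val h
  exact Subtype.ext (T.inj h1)

omit [IsNoetherianRing R] in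
theorem vC_surjective (n : ℤ) : Function.Surjective (vC 𝒜 T n) := by
  rintro ⟨y, hy⟩
  have hy' : y ∈ ℳ'' n := hy
  obtain ⟨x, hx⟩ := T.surj y
  refine ⟨⟨(decompose ℳ x n : M), SetLike.coe_mem _⟩, Subtype.ext ?_⟩
  change T.v (decompose ℳ x n : M) = y
  rw [← decompose_grHom ℳ ℳ'' T.v T.v_gr x n, hx, DirectSum.decompose_of_mem_same ℳ'' hy']

omit [IsNoetherianRing R] in
theorem exact_uC_vC (n : ℤ) : Function.Exact (uC 𝒜 T n) (vC 𝒜 T n) := by
  intro x
  constructor
  · intro hx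
    have h1 : T.v x.1 = 0 := congrArg Subtype.val hx
    obtain ⟨w, hw⟩ := (T.exact x.1).mp h1
    have hx' : x.1 ∈ ℳ n := x.2
    refine ⟨⟨(decompose ℳ' w n : M'), SetLike.coe_mem _⟩, Subtype.ext ?_⟩
    change T.u (decompose ℳ' w n : M') = x.1
    rw [← decompose_grHom ℳ' ℳ T.u T.u_gr w n, hw, DirectSum.decompose_of_mem_same ℳ hx']
  · rintro ⟨w, rfl⟩
    exact Subtype.ext (T.exact.apply_apply_eq_zero w.1)

include hpos T in
/-- additivity of the Hilbert function -/
theorem hf_add [IsArtinianRing (GrLC.deg0 𝒜)] [Module.Finite R M'] [Module.Finite R M'']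
    (n : ℤ) : hf (𝒜 := 𝒜) ℳ n = hf (𝒜 := 𝒜) ℳ' n + hf (𝒜 := 𝒜) ℳ'' n := by
  unfold hf
  rw [Module.length_eq_add_of_exact (uC 𝒜 T n) (vC 𝒜 T n) (uC_injective (𝒜 := 𝒜) T n) (vC_surjective (𝒜 := 𝒜) T n)
    (exact_uC_vC (𝒜 := 𝒜) T n), ENat.toNat_add (length_comp_ne_top hpos ℳ' n)
      (length_comp_ne_top hpos ℳ'' n)]
  push_cast
  rfl

end Additive

end Groth.Agent.H85.Serre
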