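import Mathlib
import Groth.Agent.H98.GrStar.PieceArtin
import Groth.Agent.H98.GrStar.PieceClass2
import Groth.Agent.H98.GrStar.HighVanish
import Groth.Agent.H58.LCGV
import Groth.Agent.H85.EulerLES

/-!
# Lengths of the pieces of graded local cohomology: additivity of the Euler characteristic
(helper85)

`R` Noetherian positively `ℤ`-graded, `R_0` Artinian, `m` a *maximal ideal.  For finitely generated
graded modules the pieces `*H^i_m(X)_n` have finite length over `R_0`, and the alternating sum of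
their lengths is additive on short exact sequences of graded modules.
-/

set_option autoImplicit false
set_option linter.unusedSectionVars false
set_option linter.unusedVariables false

universe u

namespace Groth.Agent.H85.Serre

open DirectSum Groth.Agent.H98.GrStar Groth.Agent.H98.LCRes

variable {R : Type u} [CommRing R] [IsNoetherianRing R]
  {𝒜 : ℤ → AddSubgroup R} [GradedRing 𝒜]

section PieceMaps

variable {M' : Type u} [AddCommGroup M'] [Module R M'] {ℳ' : ℤ → AddSubgroup M'}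
  [DirectSum.Decomposition ℳ'] [SetLike.GradedSMul 𝒜 ℳ']
variable {M : Type u} [AddCommGroup M] [Module R M] {ℳ : ℤ → AddSubgroup M}
  [DirectSum.Decomposition ℳ] [SetLike.GradedSMul 𝒜 ℳ]
variable {M'' : Type u} [AddCommGroup M''] [Module R M''] {ℳ'' : ℤ → AddSubgroup M''}
  [DirectSum.Decomposition ℳ''] [SetLike.GradedSMul 𝒜 ℳ'']
variable (T : GrSES (R := R) ℳ' ℳ ℳ'') (a : HomogeneousIdeal 𝒜)
  (E' : GrLC.StarInjRes 𝒜 ℳ') (E : GrLC.StarInjRes 𝒜 ℳ) (E'' : GrLC.StarInjRes 𝒜 ℳ'')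

/-- `*H^i(M')_n → *H^i(M)_n` -/
noncomputable def uP (i : ℕ) (n : ℤ) : E'.Hcomp a i n →ₗ[GrLC.deg0 𝒜] E.Hcomp a i n :=
  pieceMap E' E a i i n n (Hmap a T.u E' E i) (Hmap_isGrHom a T.u T.u_gr E' E i n)

/-- `*H^i(M)_n → *H^i(M'')_n` -/
noncomputable def vP (i : ℕ) (n : ℤ) : E.Hcomp a i n →ₗ[GrLC.deg0 𝒜] E''.Hcomp a i n :=
  pieceMap E E'' a i i n n (Hmap a T.v E E'' i) (Hmap_isGrHom a T.v T.v_gr E E'' i n)

/-- `*H^i(M'')_n → *H^{i+1}(M')_n` -/
noncomputable def dP (i : ℕ) (n : ℤ) : E''.Hcomp a i n →ₗ[GrLC.deg0 𝒜] E'.Hcomp a (i + 1) n :=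
  pieceMap E'' E' a i (i + 1) n n (T.Hδ a E' E'' i) (T.Hδ_isGrHom a E' E'' i n)

theorem exact_uP_vP (i : ℕ) (n : ℤ) :
    Function.Exact (uP T a E' E i n) (vP T a E E'' i n) := by
  intro y
  constructor
  · intro hy
    have h0 : Hmap a T.v E E'' i y.1 = 0 := congrArg Subtype.val hy
    obtain ⟨z, hz, hzy⟩ := T.exact_mid_deg a E' E E'' i n y.1 y.2 h0
    exact ⟨⟨z, hz⟩, Subtype.ext hzy⟩
  · rintro ⟨z, rfl⟩
    exact Subtype.ext (T.Hmap_v_Hmap_u a E' E E'' i z.1)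

theorem exact_vP_dP (i : ℕ) (n : ℤ) :
    Function.Exact (vP T a E E'' i n) (dP T a E' E'' i n) := by
  intro y
  constructor
  · intro hy
    have h0 : T.Hδ a E' E'' i y.1 = 0 := congrArg Subtype.val hy
    obtain ⟨z, hz, hzy⟩ := T.exact_right_deg a E' E E'' i n y.1 y.2 h0
    exact ⟨⟨z, hz⟩, Subtype.ext hzy⟩
  · rintro ⟨z, rfl⟩
    exact Subtype.ext (T.Hδ_Hmap_v a E' E E'' i z.1)

theorem exact_dP_uP (i : ℕ) (n : ℤ) :
    Function.Exact (dP T a E' E'' i n) (uP T a E' E (i + 1) n) := by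
  intro y
  constructor
  · intro hy
    have h0 : Hmap a T.u E' E (i + 1) y.1 = 0 := congrArg Subtype.val hy
    obtain ⟨z, hz, hzy⟩ := T.exact_left_deg a E' E E'' i n y.1 y.2 h0
    exact ⟨⟨z, hz⟩, Subtype.ext hzy⟩
  · rintro ⟨z, rfl⟩
    exact Subtype.ext (T.Hmap_u_Hδ a E' E E'' i z.1)

/-- left exactness: `*H^0(M') → *H^0(M)` is injective -/
theorem Hmap_zero_injective (x : E'.H a 0) (hx : Hmap a T.u E' E 0 x = 0) : x = 0 := by
  obtain ⟨φ, hφ, h0, hd⟩ := exists_lift E' E T.u T.u_gr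
  rw [Hmap_eq_mapH a T.u E' E (liftHom E' E a T.u φ h0 hd)] at hx
  obtain ⟨z, rfl⟩ := (toAcycRes E' a).toH_surjective 0 x
  change (toAcycRes E a).toH 0 ((liftHom E' E a T.u φ h0 hd).mapCocyc 0 z) = 0 at hx
  have h1 : (liftHom E' E a T.u φ h0 hd).mapCocyc 0 z ∈
      ((toAcycRes E a).cobdy 0).comap ((toAcycRes E a).cocyc 0).subtype :=
    (Submodule.Quotient.mk_eq_zero _).mp hx
  rw [(toAcycRes E a).cobdy_zero_comap, Submodule.mem_bot] at h1
  have h2 : φ 0 z.1 = 0 := congrArg Subtype.val h1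
  -- `z` comes from `M'`
  have hz : z.1 ∈ LinearMap.ker (E'.d 0) := z.2.2
  rw [E'.exact_zero] at hz
  obtain ⟨m, hm⟩ := hz
  have hm' : z.1 = E'.ε m := hm.symm
  rw [hm', h0] at h2
  have h3 : T.u m = 0 := E.ε_injective (by rw [h2, map_zero])
  have h4 : m = 0 := T.inj (by rw [h3, map_zero])
  have h5 : z = 0 := Subtype.ext (by rw [hm', h4, map_zero]; rfl)
  rw [h5, map_zero]
  rfl

theorem uP_zero_injective (n : ℤ) : Function.Injective (uP T a E' E 0 n) := by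
  rw [injective_iff_map_eq_zero]
  intro y hy
  have h0 : Hmap a T.u E' E 0 y.1 = 0 := congrArg Subtype.val hy
  exact Subtype.ext (Hmap_zero_injective T a E' E y.1 h0)

end PieceMaps

section Indep

variable {M : Type u} [AddCommGroup M] [Module R M] {ℳ : ℤ → AddSubgroup M}
  [DirectSum.Decomposition ℳ] [SetLike.GradedSMul 𝒜 ℳ]

/-- the pieces computed from two resolutions are isomorphic over `R_0` -/
noncomputable def pieceEquiv (a : HomogeneousIdeal 𝒜) (E E₂ : GrLC.StarInjRes 𝒜 ℳ) (i : ℕ) (n : ℤ) :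
    E.Hcomp a i n ≃ₗ[GrLC.deg0 𝒜] E₂.Hcomp a i n where
  toFun := pieceMap E E₂ a i i n n (resEquiv a E E₂ i).toLinearMap (resEquiv_isGrHom a E E₂ i n)
  invFun := pieceMap E₂ E a i i n n (resEquiv a E E₂ i).symm.toLinearMap
    (resEquiv_symm_isGrHom a E E₂ i n)
  map_add' x y := map_add _ x y
  map_smul' r x := map_smul _ r x
  left_inv x := Subtype.ext ((resEquiv a E E₂ i).symm_apply_apply x.1)
  right_inv x := Subtype.ext ((resEquiv a E E₂ i).apply_symm_apply x.1)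

theorem length_Hcomp_eq (a : HomogeneousIdeal 𝒜) (E E₂ : GrLC.StarInjRes 𝒜 ℳ) (i : ℕ) (n : ℤ) :
    Module.length (GrLC.deg0 𝒜) (E.Hcomp a i n) = Module.length (GrLC.deg0 𝒜) (E₂.Hcomp a i n) :=
  (pieceEquiv a E E₂ i n).length_eq

/-- Grothendieck vanishing for graded local cohomology -/
theorem subsingleton_H_of_dim_lt (a : HomogeneousIdeal 𝒜) (E : GrLC.StarInjRes 𝒜 ℳ) (d i : ℕ)
    (hd : ringKrullDim R = d) (hi : d < i) : Subsingleton (E.H a i) := by
  have h1 : Module.supportDim R M < (i : WithBot ℕ∞) := by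
    refine lt_of_le_of_lt (Module.supportDim_le_ringKrullDim R M) ?_
    rw [hd]
    exact_mod_cast hi
  have := Groth.Agent.H58.LC.gv a.toIdeal i M h1
  exact (θ E a i).toEquiv.subsingleton

theorem subsingleton_Hcomp_of_dim_lt (a : HomogeneousIdeal 𝒜) (E : GrLC.StarInjRes 𝒜 ℳ) (d i : ℕ)
    (hd : ringKrullDim R = d) (hi : d < i) (n : ℤ) : Subsingleton (E.Hcomp a i n) := by
  have := subsingleton_H_of_dim_lt a E d i hd hi
  exact ⟨fun x y => Subtype.ext (Subsingleton.elim _ _)⟩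

end Indep

section Lengths

variable [IsArtinianRing (GrLC.deg0 𝒜)] (hpos : ∀ n : ℤ, n < 0 → 𝒜 n = ⊥)
  (m : HomogeneousIdeal 𝒜) (hm : IsCoatom m)
variable {M : Type u} [AddCommGroup M] [Module R M] {ℳ : ℤ → AddSubgroup M}
  [DirectSum.Decomposition ℳ] [SetLike.GradedSMul 𝒜 ℳ]

include hpos hm in
/-- the pieces of `*H^i_m(M)` have finite length over the Artinian ring `R_0` -/
theorem length_Hcomp_ne_top [Module.Finite R M] (E : GrLC.StarInjRes 𝒜 ℳ) (i : ℕ) (n : ℤ) :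
    Module.length (GrLC.deg0 𝒜) (E.Hcomp m i n) ≠ ⊤ := by
  have hpos' : ∀ n : ℤ, n < 0 → ∀ r ∈ 𝒜 n, r = 0 := by
    intro n hn r hr
    rw [hpos n hn] at hr
    exact hr
  haveI : Module.Finite R (GrLC.GMod.of 𝒜 M ℳ).carrier := ‹Module.Finite R M›
  haveI hart : IsArtinian (GrLC.deg0 𝒜) (E.Hcomp m i n) :=
    isArtinian_Hcomp 𝒜 hpos' m hm (GrLC.GMod.of 𝒜 M ℳ) E i n
  haveI : IsNoetherian (GrLC.deg0 𝒜) (E.Hcomp m i n) :=
    IsSemiprimaryRing.isNoetherian_iff_isArtinian.mpr hart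
  exact Module.length_ne_top

/-- the length of a piece of local cohomology, as an integer -/
noncomputable def hl (E : GrLC.StarInjRes 𝒜 ℳ) (i : ℕ) (n : ℤ) : ℤ :=
  ((Module.length (GrLC.deg0 𝒜) (E.Hcomp m i n)).toNat : ℤ)

/-- the Euler characteristic of the pieces of degree `n` of local cohomology -/
noncomputable def chi (E : GrLC.StarInjRes 𝒜 ℳ) (d : ℕ) (n : ℤ) : ℤ :=
  ∑ i ∈ Finset.range (d + 1), (-1 : ℤ) ^ i * hl m E i n

omit [IsArtinianRing (GrLC.deg0 𝒜)] in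
theorem hl_eq (E E₂ : GrLC.StarInjRes 𝒜 ℳ) (i : ℕ) (n : ℤ) : hl m E i n = hl m E₂ i n := by
  unfold hl
  rw [length_Hcomp_eq m E E₂ i n]

omit [IsArtinianRing (GrLC.deg0 𝒜)] in
theorem chi_eq (E E₂ : GrLC.StarInjRes 𝒜 ℳ) (d : ℕ) (n : ℤ) : chi m E d n = chi m E₂ d n := by
  unfold chi
  refine Finset.sum_congr rfl fun i _ => ?_
  rw [hl_eq m E E₂ i n]

end Lengths

section Additive

variable [IsArtinianRing (GrLC.deg0 𝒜)] (hpos : ∀ n : ℤ, n < 0 → 𝒜 n = ⊥)
  (m : HomogeneousIdeal 𝒜) (hm : IsCoatom m)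
variable {M' : Type u} [AddCommGroup M'] [Module R M'] {ℳ' : ℤ → AddSubgroup M'}
  [DirectSum.Decomposition ℳ'] [SetLike.GradedSMul 𝒜 ℳ']
variable {M : Type u} [AddCommGroup M] [Module R M] {ℳ : ℤ → AddSubgroup M}
  [DirectSum.Decomposition ℳ] [SetLike.GradedSMul 𝒜 ℳ]
variable {M'' : Type u} [AddCommGroup M''] [Module R M''] {ℳ'' : ℤ → AddSubgroup M''}
  [DirectSum.Decomposition ℳ''] [SetLike.GradedSMul 𝒜 ℳ'']
variable (T : GrSES (R := R) ℳ' ℳ ℳ'')
  (E' : GrLC.StarInjRes 𝒜 ℳ') (E : GrLC.StarInjRes 𝒜 ℳ) (E'' : GrLC.StarInjRes 𝒜 ℳ'')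

include hpos hm T in
/-- **additivity of the Euler characteristic of graded local cohomology** -/
theorem chi_add [Module.Finite R M'] [Module.Finite R M] [Module.Finite R M''] (d : ℕ)
    (hd : ringKrullDim R = d) (n : ℤ) :
    chi m E d n = chi m E' d n + chi m E'' d n := by
  have h := EulerLES.euler (S := GrLC.deg0 𝒜)
    (fun i => ↥(E'.Hcomp m i n)) (fun i => ↥(E.Hcomp m i n)) (fun i => ↥(E''.Hcomp m i n))
    (fun i => uP T m E' E i n) (fun i => vP T m E E'' i n) (fun i => dP T m E' E'' i n)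
    (uP_zero_injective T m E' E n) (fun i => exact_uP_vP T m E' E E'' i n)
    (fun i => exact_vP_dP T m E' E E'' i n) (fun i => exact_dP_uP T m E' E E'' i n)
    (fun i => length_Hcomp_ne_top hpos m hm E' i n) (fun i => length_Hcomp_ne_top hpos m hm E i n)
    (fun i => length_Hcomp_ne_top hpos m hm E'' i n) d
    (subsingleton_Hcomp_of_dim_lt m E' d (d + 1) hd (Nat.lt_succ_self d) n)
  unfold chi hl
  unfold EulerLES.len at h
  simp only [mul_add, mul_sub, Finset.sum_add_distrib, Finset.sum_sub_distrib] at h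
  linarith

end Additive

end Groth.Agent.H85.Serre
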