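import Mathlib
import Groth.Agent.H98.GrStar.StarLocalPos
import Groth.Agent.H98.GrStar.LCVanish
import Groth.Agent.H85.SerrePieces
import Groth.Agent.H85.SerreHilb

/-!
# The torsion case of the Grothendieck–Serre formula (helper85)

`R` Noetherian positively graded *local with `R_0` Artinian.  Elements of `m ∩ R_0` are nilpotent,
hence a graded module killed by `R_+` is `m`-torsion, and for an `m`-torsion module the
Euler characteristic of the pieces of local cohomology is the Hilbert function.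
-/

set_option autoImplicit false
set_option linter.unusedSectionVars false
set_option linter.unusedVariables false

universe u

namespace Groth.Agent.H85.Serre

open DirectSum Groth.Agent.H98.GrStar

variable {R : Type u} [CommRing R] [IsNoetherianRing R]
  {𝒜 : ℤ → AddSubgroup R} [GradedRing 𝒜]

section Local

variable (hpos : ∀ n : ℤ, n < 0 → ∀ r ∈ 𝒜 n, r = 0)
  (m : HomogeneousIdeal 𝒜) (hm : GrLC.IsStarLocal 𝒜 m)

include hm in
/-- in a *local ring every proper homogeneous ideal lies in the *maximal ideal -/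
theorem le_of_ne_top (J : HomogeneousIdeal 𝒜) (hJ : J ≠ ⊤) : J ≤ m := by
  haveI : WellFoundedGT (HomogeneousIdeal 𝒜) := by
    have h : StrictMono (HomogeneousIdeal.toIdeal : HomogeneousIdeal 𝒜 → Ideal R) :=
      fun I J hIJ => hIJ
    exact h.wellFoundedGT
  haveI : IsCoatomic (HomogeneousIdeal 𝒜) := isCoatomic_of_orderTop_gt_wellFounded wellFounded_gt
  rcases eq_top_or_exists_le_coatom J with h | ⟨c, hc, hJc⟩
  · exact absurd h hJ
  · rw [← hm.2 c hc]
    exact hJc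

include hpos hm in
/-- elements of `m ∩ R_0` are nilpotent when `R_0` is Artinian -/
theorem isNilpotent_of_mem_deg0 [IsArtinianRing (GrLC.deg0 𝒜)] {a : R} (ha0 : a ∈ 𝒜 0)
    (ham : a ∈ m.toIdeal) : IsNilpotent a := by
  classical
  obtain ⟨n, y, hy⟩ := IsArtinian.exists_pow_succ_smul_dvd (⟨a, ha0⟩ : GrLC.deg0 𝒜)
    (1 : GrLC.deg0 𝒜)
  have hy' : a ^ (n + 1) * (y : R) = a ^ n := by
    have := congrArg (Subtype.val) hy
    simpa using this
  have hu0 : 1 - a * (y : R) ∈ 𝒜 0 := by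
    refine sub_mem (SetLike.GradedOne.one_mem (A := 𝒜)) ?_
    have := SetLike.GradedMul.mul_mem (A := 𝒜) ha0 y.2
    rwa [add_zero] at this
  have hau : a ^ n * (1 - a * (y : R)) = 0 := by
    rw [mul_sub, mul_one, ← mul_assoc, ← pow_succ, hy', sub_self]
  let G : HomogeneousIdeal 𝒜 := ⟨geIdeal 𝒜 hpos 1, geIdeal_isHomogeneous 𝒜 hpos 1⟩
  let U : HomogeneousIdeal 𝒜 := ⟨Ideal.span {1 - a * (y : R)},
    Ideal.homogeneous_span 𝒜 {1 - a * (y : R)} (by
      intro x hx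
      rw [Set.mem_singleton_iff] at hx
      subst hx
      exact ⟨0, hu0⟩)⟩
  have hJ : (U ⊔ G).toIdeal = Ideal.span {1 - a * (y : R)} ⊔ geIdeal 𝒜 hpos 1 := rfl
  have hJtop : U ⊔ G = ⊤ := by
    by_contra hne
    have hle := le_of_ne_top m hm (U ⊔ G) hne
    have hum : 1 - a * (y : R) ∈ m.toIdeal := by
      have hmem : 1 - a * (y : R) ∈ (U ⊔ G).toIdeal := by
        rw [hJ]
        exact Submodule.mem_sup_left (Ideal.subset_span rfl)
      exact hle hmem
    have h1 : (1 : R) ∈ m.toIdeal := by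
      have : (1 : R) = (1 - a * (y : R)) + a * (y : R) := by ring
      rw [this]
      exact m.toIdeal.add_mem hum (m.toIdeal.mul_mem_right _ ham)
    apply hm.1.1
    apply HomogeneousIdeal.toIdeal_injective
    rw [HomogeneousIdeal.toIdeal_top]
    exact (Ideal.eq_top_iff_one _).mpr h1
  have h1 : (1 : R) ∈ Ideal.span {1 - a * (y : R)} ⊔ geIdeal 𝒜 hpos 1 := by
    rw [← hJ, hJtop]
    trivial
  obtain ⟨μ, hμ, ρ, hρ, hsum⟩ := Submodule.mem_sup.mp h1
  obtain ⟨t, rfl⟩ := Ideal.mem_span_singleton'.mp hμ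
  have h2 := congrArg (fun z => (decompose 𝒜 z 0 : R)) hsum
  simp only at h2
  rw [DirectSum.decompose_add, DirectSum.add_apply, AddMemClass.coe_add,
    decompose_mul_zero_of_mem 𝒜 t hu0, hρ 0 (by omega), add_zero,
    DirectSum.decompose_of_mem_same 𝒜 (SetLike.GradedOne.one_mem (A := 𝒜))] at h2
  refine ⟨n, ?_⟩
  calc a ^ n = a ^ n * ((decompose 𝒜 t 0 : R) * (1 - a * (y : R))) := by rw [h2, mul_one]
    _ = (decompose 𝒜 t 0 : R) * (a ^ n * (1 - a * (y : R))) := by ring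
    _ = 0 := by rw [hau, mul_zero]

include hpos hm in
/-- a power of the *maximal ideal consists of elements without component in degree `≤ 0` -/
theorem exists_pow_le_geIdeal [IsArtinianRing (GrLC.deg0 𝒜)] :
    ∃ N : ℕ, m.toIdeal ^ N ≤ geIdeal 𝒜 hpos 1 := by
  classical
  let 𝔞 : Ideal R := Ideal.span {a | a ∈ 𝒜 0 ∧ a ∈ m.toIdeal}
  have h𝔞 : 𝔞 ≤ nilradical R := by
    rw [Ideal.span_le]
    rintro a ⟨ha0, ham⟩
    exact isNilpotent_of_mem_deg0 hpos m hm ha0 ham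
  obtain ⟨N, hN⟩ := IsNoetherianRing.isNilpotent_nilradical R
  have h𝔞N : 𝔞 ^ N = ⊥ := by
    rw [eq_bot_iff, ← Ideal.zero_eq_bot, ← hN]
    exact Ideal.pow_right_mono h𝔞 N
  have hm𝔞 : m.toIdeal ≤ 𝔞 ⊔ geIdeal 𝒜 hpos 1 := by
    intro r hr
    have h0 : (decompose 𝒜 r 0 : R) ∈ 𝔞 :=
      Ideal.subset_span ⟨SetLike.coe_mem _, m.isHomogeneous 0 hr⟩
    have h1 : r - (decompose 𝒜 r 0 : R) ∈ geIdeal 𝒜 hpos 1 := by
      intro d hd
      rw [DirectSum.decompose_sub, DirectSum.sub_apply, AddSubgroupClass.coe_sub]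
      rcases lt_or_eq_of_le (show d ≤ 0 by omega) with hd' | hd'
      · rw [decompose_eq_zero_of_neg 𝒜 hpos r hd',
          DirectSum.decompose_of_mem_ne 𝒜 (SetLike.coe_mem (decompose 𝒜 r 0)) (by omega), sub_zero]
      · subst hd'
        rw [DirectSum.decompose_of_mem_same 𝒜 (SetLike.coe_mem (decompose 𝒜 r 0)), sub_self]
    have : r = (decompose 𝒜 r 0 : R) + (r - (decompose 𝒜 r 0 : R)) := by ring
    rw [this]
    exact Submodule.add_mem_sup h0 h1
  refine ⟨N + 1, ?_⟩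
  calc m.toIdeal ^ (N + 1) ≤ (𝔞 ⊔ geIdeal 𝒜 hpos 1) ^ (N + 1) := Ideal.pow_right_mono hm𝔞 _
    _ ≤ 𝔞 ^ N ⊔ geIdeal 𝒜 hpos 1 ^ 1 := Ideal.sup_pow_add_le_pow_sup_pow
    _ = geIdeal 𝒜 hpos 1 := by rw [h𝔞N, pow_one, bot_sup_eq]

variable {M : Type u} [AddCommGroup M] [Module R M] (ℳ : ℤ → AddSubgroup M)
  [DirectSum.Decomposition ℳ] [SetLike.GradedSMul 𝒜 ℳ]

include hpos hm in
/-- a module killed by all homogeneous elements of positive degree is `m`-torsion -/
theorem gam_eq_top_of_killed [IsArtinianRing (GrLC.deg0 𝒜)]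
    (hkill : ∀ j : ℤ, 0 < j → ∀ r ∈ 𝒜 j, ∀ z : M, r • z = 0) :
    GrLC.gam m.toIdeal M = ⊤ := by
  classical
  obtain ⟨N, hN⟩ := exists_pow_le_geIdeal hpos m hm
  rw [eq_top_iff]
  intro z _
  refine ⟨N, fun r hr => ?_⟩
  have hr' := hN hr
  rw [← DirectSum.sum_support_decompose 𝒜 r, Finset.sum_smul]
  refine Finset.sum_eq_zero (fun j _ => ?_)
  by_cases hj : 0 < j
  · exact hkill j hj _ (SetLike.coe_mem _) z
  · rw [hr' j (by omega), zero_smul]

end Local

section Torsion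

variable [IsArtinianRing (GrLC.deg0 𝒜)] (m : HomogeneousIdeal 𝒜)
variable {M : Type u} [AddCommGroup M] [Module R M] {ℳ : ℤ → AddSubgroup M}
  [DirectSum.Decomposition ℳ] [SetLike.GradedSMul 𝒜 ℳ]

omit [IsArtinianRing (GrLC.deg0 𝒜)] in
theorem η0_injective (E : GrLC.StarInjRes 𝒜 ℳ) (a : HomogeneousIdeal 𝒜) (n : ℤ) :
    Function.Injective (η0 E a n) := by
  rw [injective_iff_map_eq_zero]
  intro x hx
  have h1 : E.toH a 0 ⟨E.ε x.1, ε_mem_cocyc E a x.1 x.2.2⟩ = 0 := congrArg Subtype.val hx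
  have h2 : (⟨E.ε x.1, ε_mem_cocyc E a x.1 x.2.2⟩ : E.cocyc a 0) ∈
      (E.cobdy a 0).comap (E.cocyc a 0).subtype := (Submodule.Quotient.mk_eq_zero _).mp h1
  have h3 : E.ε x.1 = 0 := by
    have : E.ε x.1 ∈ (⊥ : Submodule R (E.X 0).carrier) := h2
    exact (Submodule.mem_bot R).mp this
  have h4 : x.1 = 0 := E.ε_injective (by rw [h3, map_zero])
  exact Subtype.ext h4

omit [IsArtinianRing (GrLC.deg0 𝒜)] in
/-- for a torsion module `*H^0_a(M)_n ≅ M_n` -/
theorem hl_zero_of_gam_eq_top (E : GrLC.StarInjRes 𝒜 ℳ) (h : GrLC.gam m.toIdeal M = ⊤) (n : ℤ) :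
    hl m E 0 n = hf (𝒜 := 𝒜) ℳ n := by
  unfold hl hf
  have e1 : gamComp m ℳ n ≃ₗ[GrLC.deg0 𝒜] E.Hcomp m 0 n :=
    LinearEquiv.ofBijective (η0 E m n) ⟨η0_injective E m n, η0_surjective E m n⟩
  have h2 : gamComp m ℳ n = GrLC.comp 𝒜 ℳ n := by
    unfold gamComp
    rw [h, Submodule.restrictScalars_top, inf_top_eq]
  rw [← e1.length_eq, h2]

omit [IsArtinianRing (GrLC.deg0 𝒜)] in
theorem hl_succ_of_gam_eq_top (E : GrLC.StarInjRes 𝒜 ℳ) (h : GrLC.gam m.toIdeal M = ⊤) (i : ℕ)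
    (n : ℤ) : hl m E (i + 1) n = 0 := by
  unfold hl
  have := H_subsingleton_of_gam_eq_top E m h (i + 1) (by omega)
  have : Subsingleton (E.Hcomp m (i + 1) n) := ⟨fun x y => Subtype.ext (Subsingleton.elim _ _)⟩
  rw [Module.length_eq_zero]
  rfl

omit [IsArtinianRing (GrLC.deg0 𝒜)] in
/-- **torsion case**: the Euler characteristic is the Hilbert function -/
theorem chi_of_gam_eq_top (E : GrLC.StarInjRes 𝒜 ℳ) (h : GrLC.gam m.toIdeal M = ⊤) (d : ℕ)
    (n : ℤ) : chi m E d n = hf (𝒜 := 𝒜) ℳ n := by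
  unfold chi
  rw [Finset.sum_range_succ', pow_zero, one_mul, hl_zero_of_gam_eq_top m E h n]
  rw [Finset.sum_eq_zero, zero_add]
  intro i _
  rw [hl_succ_of_gam_eq_top m E h i n, mul_zero]

end Torsion

end Groth.Agent.H85.Serre
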