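import Mathlib
import Groth.Agent.H66.GrSubSES
import Groth.Agent.H85.SerrePieces
import Groth.Agent.H85.SerreHilb
import Groth.Agent.H85.SerreTorsion
import Groth.Agent.H85.SerreDiff

/-!
# The Grothendieck–Serre formula (helper85)

`R` Noetherian, positively graded, standard graded, `R_0` Artinian, *local with *maximal ideal `m`,
`dim R = d`.  For a finitely generated graded module `M` the function
`n ↦ H_M(n) - ∑_{i ≤ d} (-1)^i ℓ(*H^i_m(M)_n)` is polynomial-like (some iterated difference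
vanishes); hence it coincides with the Hilbert polynomial.
-/

set_option autoImplicit false
set_option linter.unusedSectionVars false
set_option linter.unusedVariables false

universe u

namespace Groth.Agent.H85.Serre

open DirectSum Groth.Agent.H98.GrStar Groth.Agent.H66.GrSubSES

variable {R : Type u} [CommRing R] [IsNoetherianRing R]
  {𝒜 : ℤ → AddSubgroup R} [GradedRing 𝒜] [IsArtinianRing (GrLC.deg0 𝒜)]
  (hpos : ∀ n : ℤ, n < 0 → 𝒜 n = ⊥) (m : HomogeneousIdeal 𝒜) (hm : GrLC.IsStarLocal 𝒜 m)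
  (d : ℕ) (hd : ringKrullDim R = d)

/-- `H_X(n) - χ_X(n)` -/
noncomputable def gfun (X : GrLC.GMod.{u} 𝒜) : ℤ → ℚ :=
  fun n => ((hf (𝒜 := 𝒜) X.gr n - chi m (res 𝒜 X.gr) d n : ℤ) : ℚ)

include hpos in
theorem hpos' : ∀ n : ℤ, n < 0 → ∀ r ∈ 𝒜 n, r = 0 := by
  intro n hn r hr
  rw [hpos n hn] at hr
  exact hr

include hpos hm hd in
theorem gfun_add (X' X X'' : GrLC.GMod.{u} 𝒜) [Module.Finite R X'.carrier]
    [Module.Finite R X.carrier] [Module.Finite R X''.carrier]
    (T : GrSES (R := R) X'.gr X.gr X''.gr) :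
    gfun m d X = gfun m d X' + gfun m d X'' := by
  funext n
  simp only [gfun, Pi.add_apply]
  rw [hf_add (hpos' hpos) T n,
    chi_add hpos m hm.1 T (res 𝒜 X'.gr) (res 𝒜 X.gr) (res 𝒜 X''.gr) d hd n]
  push_cast
  ring

theorem gfun_shift (X : GrLC.GMod.{u} 𝒜) (e : ℤ) :
    gfun m d (shM 𝒜 X.gr e) = fun n => gfun m d X (n - e) := by
  funext n
  simp only [gfun]
  rw [hf_shift, chi_eq m (res 𝒜 (shM 𝒜 X.gr e).gr) (shiftDeg (res 𝒜 X.gr) e) d n]
  rfl

include hpos hm in
theorem gfun_of_killed (X : GrLC.GMod.{u} 𝒜)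
    (hkill : ∀ j : ℤ, 0 < j → ∀ r ∈ 𝒜 j, ∀ z : X.carrier, r • z = 0) :
    gfun m d X = 0 := by
  funext n
  simp only [gfun]
  rw [chi_of_gam_eq_top m (res 𝒜 X.gr) (gam_eq_top_of_killed (hpos' hpos) m hm hkill) d n,
    sub_self]
  rfl

section FourTerm

variable (X : GrLC.GMod.{u} 𝒜) {x : R} (hx : x ∈ 𝒜 1)

variable (x) in
/-- multiplication by `x`, as a map `X(-1) → X` -/
noncomputable def mulx : (shM 𝒜 X.gr 1).carrier →ₗ[R] X.carrier :=
  x • (LinearMap.id : X.carrier →ₗ[R] X.carrier)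

omit [IsNoetherianRing R] [IsArtinianRing (GrLC.deg0 𝒜)] in
theorem mulx_apply (z : X.carrier) : mulx X x z = x • z := rfl

omit [IsNoetherianRing R] [IsArtinianRing (GrLC.deg0 𝒜)] in
include hx in
theorem mulx_isGrHom : GrLC.IsGrHom (shM 𝒜 X.gr 1).gr X.gr (mulx X x) :=
  fun k z hz => smul_mem_of_mem_shift (M := X.carrier) (ℳ := X.gr) hx k z hz

/-- the kernel of `x` on `X(-1)` -/
noncomputable def kerG : GrLC.GMod.{u} 𝒜 :=
  subG (shM 𝒜 X.gr 1) (LinearMap.ker (mulx X x))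
    (ker_isHomogeneous (shM 𝒜 X.gr 1).gr X.gr (mulx X x) (mulx_isGrHom X hx))

/-- the image `xX` -/
noncomputable def imG : GrLC.GMod.{u} 𝒜 :=
  subG X (LinearMap.range (mulx X x))
    (range_isHomogeneous (shM 𝒜 X.gr 1).gr X.gr (mulx X x) (mulx_isGrHom X hx))

instance kerG_finite [Module.Finite R X.carrier] : Module.Finite R (kerG X hx).carrier := by
  haveI : IsNoetherian R (shM 𝒜 X.gr 1).carrier :=
    (isNoetherian_of_isNoetherianRing_of_finite R X.carrier : IsNoetherian R X.carrier)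
  exact inferInstanceAs (Module.Finite R ↥(LinearMap.ker (mulx X x)))

instance imG_finite [Module.Finite R X.carrier] : Module.Finite R (imG X hx).carrier := by
  haveI : IsNoetherian R X.carrier := isNoetherian_of_isNoetherianRing_of_finite R X.carrier
  exact inferInstanceAs (Module.Finite R ↥(LinearMap.range (mulx X x)))

instance shM_finite [Module.Finite R X.carrier] (e : ℤ) :
    Module.Finite R (shM 𝒜 X.gr e).carrier :=
  inferInstanceAs (Module.Finite R X.carrier)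

/-- `0 → ker → X(-1) → xX → 0` -/
noncomputable def ses1 : GrSES (R := R) (kerG X hx).gr (shM 𝒜 X.gr 1).gr (imG X hx).gr where
  u := (LinearMap.ker (mulx X x)).subtype
  v := (mulx X x).rangeRestrict
  u_gr := fun _ _ h => h
  v_gr := fun k z hz => mulx_isGrHom X hx k z hz
  inj := Submodule.subtype_injective _
  surj := LinearMap.surjective_rangeRestrict _
  exact := by
    intro z
    constructor
    · intro hz
      have h1 : mulx X x z = 0 := congrArg Subtype.val hz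
      exact ⟨⟨z, h1⟩, rfl⟩
    · rintro ⟨w, rfl⟩
      exact Subtype.ext w.2

/-- `0 → xX → X → X/xX → 0` -/
noncomputable def ses2 : GrSES (R := R) (imG X hx).gr X.gr (quotSMul 𝒜 X hx).gr where
  u := (LinearMap.range (mulx X x)).subtype
  v := Submodule.mkQ (LinearMap.range (x • (LinearMap.id : X.carrier →ₗ[R] X.carrier)))
  u_gr := fun _ _ h => h
  v_gr := quotGMod_isGrHom 𝒜 X.gr _ _ _
  inj := Submodule.subtype_injective _
  surj := Submodule.mkQ_surjective _
  exact := by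
    intro z
    constructor
    · intro hz
      have h1 : z ∈ LinearMap.range (x • (LinearMap.id : X.carrier →ₗ[R] X.carrier)) :=
        (Submodule.Quotient.mk_eq_zero _).mp hz
      exact ⟨⟨z, h1⟩, rfl⟩
    · rintro ⟨w, rfl⟩
      exact (Submodule.Quotient.mk_eq_zero _).mpr w.2

include hpos hm hd in
/-- the difference equation -/
theorem bd_gfun [Module.Finite R X.carrier] :
    bd (gfun m d X) = gfun m d (quotSMul 𝒜 X hx) - gfun m d (kerG X hx) := by
  have h1 := gfun_add hpos m hm d hd (kerG X hx) (shM 𝒜 X.gr 1) (imG X hx) (ses1 X hx)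
  have h2 := gfun_add hpos m hm d hd (imG X hx) X (quotSMul 𝒜 X hx) (ses2 X hx)
  rw [gfun_shift] at h1
  funext n
  have h1n := congrFun h1 n
  have h2n := congrFun h2 n
  simp only [Pi.add_apply] at h1n h2n
  simp only [bd, Pi.sub_apply]
  linarith

end FourTerm

section Induction

variable (T₀ : Finset R) (hT₀ : ∀ j : ℤ, 0 < j → ∀ r ∈ 𝒜 j, r ∈ Ideal.span (T₀ : Set R))

include hpos hm hd hT₀ in
/-- the induction on the number of generators of degree one -/
theorem polyLike_of_finset (S : Finset R) : (∀ y ∈ S, y ∈ 𝒜 1) →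
    ∀ (X : GrLC.GMod.{u} 𝒜) [Module.Finite R X.carrier],
      (∀ y ∈ T₀, y ∉ S → ∀ z : X.carrier, y • z = 0) → PolyLike (gfun m d X) := by
  classical
  induction S using Finset.induction_on with
  | empty =>
    intro _ X _ hX
    have hspan : ∀ r ∈ Ideal.span (T₀ : Set R), ∀ z : X.carrier, r • z = 0 := by
      intro r hr z
      induction hr using Submodule.span_induction with
      | mem y hy => exact hX y hy (by simp) z
      | zero => rw [zero_smul]
      | add a b _ _ ha hb => rw [add_smul, ha, hb, add_zero]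
      | smul c a _ ha => rw [smul_eq_mul, mul_smul, ha, smul_zero]
    have hkill : ∀ j : ℤ, 0 < j → ∀ r ∈ 𝒜 j, ∀ z : X.carrier, r • z = 0 :=
      fun j hj r hr z => hspan r (hT₀ j hj r hr) z
    rw [gfun_of_killed hpos m hm d X hkill]
    exact polyLike_zero
  | insert x S hxS ih =>
    intro hS X _ hX
    have hx : x ∈ 𝒜 1 := hS x (Finset.mem_insert_self x S)
    have hS' : ∀ y ∈ S, y ∈ 𝒜 1 := fun y hy => hS y (Finset.mem_insert_of_mem hy)
    apply PolyLike.of_bd
    rw [bd_gfun hpos m hm d hd X hx]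
    apply PolyLike.sub
    · -- the cokernel
      apply ih hS' (quotSMul 𝒜 X hx)
      intro y hyT hyS z
      obtain ⟨w, rfl⟩ := Submodule.mkQ_surjective
        (LinearMap.range (x • (LinearMap.id : X.carrier →ₗ[R] X.carrier))) z
      change y • Submodule.mkQ (LinearMap.range (x • (LinearMap.id : X.carrier →ₗ[R] X.carrier))) w
        = 0
      rw [← map_smul]
      by_cases hyx : y = x
      · subst hyx
        exact (Submodule.Quotient.mk_eq_zero _).mpr ⟨w, rfl⟩
      · rw [hX y hyT (by rw [Finset.mem_insert]; tauto) w, map_zero]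
    · -- the kernel
      apply ih hS' (kerG X hx)
      intro y hyT hyS z
      apply Subtype.ext
      change y • (z.1 : X.carrier) = 0
      by_cases hyx : y = x
      · subst hyx
        exact z.2
      · exact hX y hyT (by rw [Finset.mem_insert]; tauto) z.1

include hpos hm hd hT₀ in
theorem polyLike_gfun (hT₁ : ∀ y ∈ T₀, y ∈ 𝒜 1) (X : GrLC.GMod.{u} 𝒜) [Module.Finite R X.carrier] :
    PolyLike (gfun m d X) :=
  polyLike_of_finset hpos m hm d hd T₀ hT₀ T₀ hT₁ X (fun y hy hy' => absurd hy hy')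

end Induction

section Final

variable (hstd : Ideal.span (⋃ n ∈ Set.Ioi (0 : ℤ), (𝒜 n : Set R)) =
    Ideal.span ((𝒜 1 : AddSubgroup R) : Set R))

include hstd in
/-- finitely many elements of degree one generate the irrelevant ideal -/
theorem exists_generators : ∃ T₀ : Finset R, (∀ y ∈ T₀, y ∈ 𝒜 1) ∧
    ∀ j : ℤ, 0 < j → ∀ r ∈ 𝒜 j, r ∈ Ideal.span (T₀ : Set R) := by
  have hfg : (Submodule.span R ((𝒜 1 : AddSubgroup R) : Set R)).FG :=
    IsNoetherian.noetherian _
  obtain ⟨T₀, hsub, heq⟩ := (Submodule.fg_span_iff_fg_span_finset_subset _).mp hfg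
  refine ⟨T₀, fun y hy => hsub hy, fun j hj r hr => ?_⟩
  have h1 : r ∈ Ideal.span (⋃ n ∈ Set.Ioi (0 : ℤ), (𝒜 n : Set R)) := by
    apply Ideal.subset_span
    simp only [Set.mem_iUnion, Set.mem_Ioi, SetLike.mem_coe, exists_prop]
    exact ⟨j, hj, hr⟩
  rw [hstd] at h1
  change r ∈ Submodule.span R (T₀ : Set R)
  rw [← heq]
  exact h1

variable {M : Type u} [AddCommGroup M] [Module R M] [Module.Finite R M] (ℳ : ℤ → AddSubgroup M)
  [DirectSum.Decomposition ℳ] [SetLike.GradedSMul 𝒜 ℳ]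

include hpos hm in
/-- the Euler characteristic of local cohomology vanishes in large degrees -/
theorem exists_chi_eq_zero (E : GrLC.StarInjRes 𝒜 ℳ) :
    ∃ N : ℤ, ∀ n : ℤ, N ≤ n → chi m E d n = 0 := by
  classical
  have hirr : ∀ n : ℤ, 0 < n → ∀ r ∈ 𝒜 n, r ∈ m.toIdeal := fun n hn r hr =>
    mem_of_isCoatom_of_pos 𝒜 (hpos' hpos) m hm.1 hn hr
  haveI : Module.Finite R (GrLC.GMod.of 𝒜 M ℳ).carrier := ‹Module.Finite R M›
  have hv : ∀ i : ℕ, ∃ N : ℤ, ∀ n : ℤ, N ≤ n → ∀ x ∈ E.Hgr m i n, x = 0 := fun i =>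
    vanishHigh 𝒜 (hpos' hpos) m hirr i (GrLC.GMod.of 𝒜 M ℳ) E
  choose Nf hNf using hv
  refine ⟨(Finset.range (d + 1)).sup' ⟨0, by simp⟩ Nf, fun n hn => ?_⟩
  unfold chi
  refine Finset.sum_eq_zero (fun i hi => ?_)
  have hle : Nf i ≤ n := le_trans (Finset.le_sup' Nf hi) hn
  have hsub : Subsingleton (E.Hcomp m i n) :=
    ⟨fun x y => Subtype.ext ((hNf i n hle x.1 x.2).trans (hNf i n hle y.1 y.2).symm)⟩
  unfold hl
  rw [Module.length_eq_zero]
  simp

include hpos hm hd hstd in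
/-- **The Grothendieck–Serre formula.** -/
theorem serre_formula (E : GrLC.StarInjRes 𝒜 ℳ) (P : Polynomial ℚ)
    (hP : ∃ N : ℤ, ∀ n : ℤ, N ≤ n → P.eval (n : ℚ) =
      ((Module.length (GrLC.deg0 𝒜) (GrLC.comp 𝒜 ℳ n)).toNat : ℚ)) (n : ℤ) :
    ((Module.length (GrLC.deg0 𝒜) (GrLC.comp 𝒜 ℳ n)).toNat : ℚ) - P.eval (n : ℚ) =
      ∑ i ∈ Finset.range (d + 1), (-1 : ℚ) ^ i *
        ((Module.length (GrLC.deg0 𝒜) (E.Hcomp m i n)).toNat : ℚ) := by
  obtain ⟨T₀, hT₁, hT₀⟩ := exists_generators hstd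
  haveI : Module.Finite R (GrLC.GMod.of 𝒜 M ℳ).carrier := ‹Module.Finite R M›
  have hpl := polyLike_gfun hpos m hm d hd T₀ hT₀ hT₁ (GrLC.GMod.of 𝒜 M ℳ)
  have hh : PolyLike (gfun m d (GrLC.GMod.of 𝒜 M ℳ) - fun k : ℤ => P.eval (k : ℚ)) :=
    hpl.sub (polyLike_of_poly P)
  obtain ⟨N, hN⟩ := hP
  obtain ⟨N', hN'⟩ := exists_chi_eq_zero hpos m hm d ℳ (res 𝒜 ℳ)
  have hzero := hh.eq_zero (max N N') (by
    intro k hk
    simp only [Pi.sub_apply, gfun]
    have h3 : chi m (res 𝒜 (GrLC.GMod.of 𝒜 M ℳ).gr) d k = 0 :=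
      hN' k (le_trans (le_max_right _ _) hk)
    rw [h3, hN k (le_trans (le_max_left _ _) hk), sub_zero]
    unfold hf
    push_cast
    exact sub_self _) n
  simp only [Pi.sub_apply, gfun] at hzero
  have hchi : chi m (res 𝒜 ℳ) d n = chi m E d n := chi_eq m _ _ d n
  have hcast : ((chi m E d n : ℤ) : ℚ) = ∑ i ∈ Finset.range (d + 1), (-1 : ℚ) ^ i *
      ((Module.length (GrLC.deg0 𝒜) (E.Hcomp m i n)).toNat : ℚ) := by
    unfold chi hl
    push_cast
    rfl
  rw [← hcast, ← hchi]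
  have hhf : ((hf (𝒜 := 𝒜) ℳ n : ℤ) : ℚ) =
      ((Module.length (GrLC.deg0 𝒜) (GrLC.comp 𝒜 ℳ n)).toNat : ℚ) := by
    unfold hf
    push_cast
    rfl
  rw [← hhf]
  have h2 : ((hf (𝒜 := 𝒜) (GrLC.GMod.of 𝒜 M ℳ).gr n - chi m (res 𝒜 (GrLC.GMod.of 𝒜 M ℳ).gr) d n : ℤ) : ℚ)
      = ((hf (𝒜 := 𝒜) ℳ n : ℤ) : ℚ) - ((chi m (res 𝒜 ℳ) d n : ℤ) : ℚ) := by
    push_cast
    rfl
  rw [h2] at hzero
  linarith

end Final

end Groth.Agent.H85.Serre
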