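import Mathlib
import Groth.Agent.H85.SerreMain
import Groth.Agent.H85.ExtEuler

/-!
# A relative Grothendieck–Serre formula (helper85)

`R` Noetherian, positively graded, standard graded, `R_0` arbitrary, `a = R_+` the irrelevant
ideal, `J ⊆ R_0` an ideal such that finitely generated `R_0`-modules killed by `J` have finite
length.  For a finitely generated graded module `X` killed by `J` the function
`n ↦ H_X(n) - ∑_{i ≤ d} (-1)^i ℓ(*H^i_a(X)_n)` is polynomial-like, hence equal to the Hilbert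
polynomial.
-/

set_option autoImplicit false
set_option linter.unusedSectionVars false
set_option linter.unusedVariables false

universe u

namespace Groth.Agent.H85.RelSerre

open DirectSum Groth.Agent.H98.GrStar Groth.Agent.H66.GrSubSES Groth.Agent.H85.Serre

variable {R : Type u} [CommRing R] [IsNoetherianRing R]
  {𝒜 : ℤ → AddSubgroup R} [GradedRing 𝒜]

/-- finitely generated `R_0`-modules killed by `J` have finite length -/
def FinLen (J : Ideal (GrLC.deg0 𝒜)) : Prop :=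
  ∀ (N : Type u) [AddCommGroup N] [Module (GrLC.deg0 𝒜) N] [Module.Finite (GrLC.deg0 𝒜) N],
    (∀ r ∈ J, ∀ z : N, r • z = 0) → Module.length (GrLC.deg0 𝒜) N ≠ ⊤

/-- the graded module `X` is killed by `J` -/
def Killed (J : Ideal (GrLC.deg0 𝒜)) (M : Type u) [AddCommGroup M] [Module R M] : Prop :=
  ∀ r ∈ J, ∀ z : M, (r : R) • z = 0

theorem hposE (hpos : ∀ n : ℤ, n < 0 → 𝒜 n = ⊥) : ∀ n : ℤ, n < 0 → ∀ r ∈ 𝒜 n, r = 0 := by
  intro n hn r hr
  rw [hpos n hn] at hr
  exact hr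

section Basic

variable (hpos : ∀ n : ℤ, n < 0 → 𝒜 n = ⊥) (a : HomogeneousIdeal 𝒜)
  (ha : a.toIdeal = Ideal.span (⋃ n ∈ Set.Ioi (0 : ℤ), (𝒜 n : Set R)))
  (J : Ideal (GrLC.deg0 𝒜)) (hJ : FinLen J)

variable {M : Type u} [AddCommGroup M] [Module R M] {ℳ : ℤ → AddSubgroup M}
  [DirectSum.Decomposition ℳ] [SetLike.GradedSMul 𝒜 ℳ]

include hpos hJ in
theorem length_comp_ne_top [Module.Finite R M] (hM : Killed J M) (n : ℤ) :
    Module.length (GrLC.deg0 𝒜) (GrLC.comp 𝒜 ℳ n) ≠ ⊤ := by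
  haveI := finite_comp (hposE hpos) ℳ n
  apply hJ
  intro r hr z
  apply Subtype.ext
  exact hM r hr z.1

/-- an element of `R` killing `M` kills the graded local cohomology of `M` -/
theorem smul_H_eq_zero (E : GrLC.StarInjRes 𝒜 ℳ) (r : R) (hr : ∀ z : M, r • z = 0) (i : ℕ)
    (x : E.H a i) : r • x = 0 := by
  have h1 := Hmap_smul a r (LinearMap.id : M →ₗ[R] M) E E i x
  rw [Hmap_id] at h1
  have h0 : r • (LinearMap.id : M →ₗ[R] M) = (0 : R) • LinearMap.id := by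
    ext z
    simp [hr z]
  rw [← h1, h0, Hmap_smul, zero_smul]

include hpos ha hJ in
theorem length_Hcomp_ne_top [Module.Finite R M] (hM : Killed J M) (E : GrLC.StarInjRes 𝒜 ℳ)
    (i : ℕ) (n : ℤ) : Module.length (GrLC.deg0 𝒜) (E.Hcomp a i n) ≠ ⊤ := by
  haveI : Module.Finite R (GrLC.GMod.of 𝒜 M ℳ).carrier := ‹Module.Finite R M›
  haveI hfin : Module.Finite (GrLC.deg0 𝒜) (E.Hcomp a i n) :=
    finite_Hcomp 𝒜 (hposE hpos) a ha (GrLC.GMod.of 𝒜 M ℳ) E i n
  apply hJ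
  intro r hr z
  apply Subtype.ext
  exact smul_H_eq_zero a E (r : R) (hM r hr) i z.1

end Basic

section Additive

variable (a : HomogeneousIdeal 𝒜)
variable {M' : Type u} [AddCommGroup M'] [Module R M'] {ℳ' : ℤ → AddSubgroup M'}
  [DirectSum.Decomposition ℳ'] [SetLike.GradedSMul 𝒜 ℳ']
variable {M : Type u} [AddCommGroup M] [Module R M] {ℳ : ℤ → AddSubgroup M}
  [DirectSum.Decomposition ℳ] [SetLike.GradedSMul 𝒜 ℳ]
variable {M'' : Type u} [AddCommGroup M''] [Module R M''] {ℳ'' : ℤ → AddSubgroup M''}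
  [DirectSum.Decomposition ℳ''] [SetLike.GradedSMul 𝒜 ℳ'']
variable (T : GrSES (R := R) ℳ' ℳ ℳ'')
  (E' : GrLC.StarInjRes 𝒜 ℳ') (E : GrLC.StarInjRes 𝒜 ℳ) (E'' : GrLC.StarInjRes 𝒜 ℳ'')

include T in
/-- additivity of the Euler characteristic in one degree, with explicit finiteness hypotheses -/
theorem chi_add (d : ℕ) (n : ℤ) (hd : Subsingleton (E'.H a (d + 1)))
    (h' : ∀ i, Module.length (GrLC.deg0 𝒜) (E'.Hcomp a i n) ≠ ⊤)
    (h : ∀ i, Module.length (GrLC.deg0 𝒜) (E.Hcomp a i n) ≠ ⊤)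
    (h'' : ∀ i, Module.length (GrLC.deg0 𝒜) (E''.Hcomp a i n) ≠ ⊤) :
    chi a E d n = chi a E' d n + chi a E'' d n := by
  have hsub : Subsingleton (E'.Hcomp a (d + 1) n) :=
    ⟨fun x y => Subtype.ext (Subsingleton.elim _ _)⟩
  have hE := EulerLES.euler (S := GrLC.deg0 𝒜)
    (fun i => ↥(E'.Hcomp a i n)) (fun i => ↥(E.Hcomp a i n)) (fun i => ↥(E''.Hcomp a i n))
    (fun i => uP T a E' E i n) (fun i => vP T a E E'' i n) (fun i => dP T a E' E'' i n)
    (uP_zero_injective T a E' E n) (fun i => exact_uP_vP T a E' E E'' i n)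
    (fun i => exact_vP_dP T a E' E E'' i n) (fun i => exact_dP_uP T a E' E E'' i n)
    h' h h'' d hsub
  unfold chi hl
  unfold EulerLES.len at hE
  simp only [mul_add, mul_sub, Finset.sum_add_distrib, Finset.sum_sub_distrib] at hE
  linarith

include T in
/-- the middle term has pieces of finite length if the outer terms do -/
theorem length_Hcomp_mid (i : ℕ) (n : ℤ)
    (h' : Module.length (GrLC.deg0 𝒜) (E'.Hcomp a i n) ≠ ⊤)
    (h'' : Module.length (GrLC.deg0 𝒜) (E''.Hcomp a i n) ≠ ⊤) :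
    Module.length (GrLC.deg0 𝒜) (E.Hcomp a i n) ≠ ⊤ :=
  ExtEuler.length_ne_top_of_exact _ _ (exact_uP_vP T a E' E E'' i n) h' h''

end Additive

section Main

variable (hpos : ∀ n : ℤ, n < 0 → 𝒜 n = ⊥) (a : HomogeneousIdeal 𝒜)
  (ha : a.toIdeal = Ideal.span (⋃ n ∈ Set.Ioi (0 : ℤ), (𝒜 n : Set R)))
  (J : Ideal (GrLC.deg0 𝒜)) (hJ : FinLen J)
  (d : ℕ) (hd : ∀ (X : GrLC.GMod.{u} 𝒜) (E : GrLC.StarInjRes 𝒜 X.gr), Subsingleton (E.H a (d + 1)))

include hpos ha hJ hd in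
theorem gfun_add (X' X X'' : GrLC.GMod.{u} 𝒜) [Module.Finite R X'.carrier]
    [Module.Finite R X.carrier] [Module.Finite R X''.carrier]
    (hX' : Killed J X'.carrier) (hX : Killed J X.carrier) (hX'' : Killed J X''.carrier)
    (T : GrSES (R := R) X'.gr X.gr X''.gr) :
    gfun a d X = gfun a d X' + gfun a d X'' := by
  funext n
  simp only [gfun, Pi.add_apply]
  have h1 : hf (𝒜 := 𝒜) X.gr n = hf (𝒜 := 𝒜) X'.gr n + hf (𝒜 := 𝒜) X''.gr n := by
    unfold hf
    rw [Module.length_eq_add_of_exact (uC 𝒜 T n) (vC 𝒜 T n) (uC_injective (𝒜 := 𝒜) T n)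
      (vC_surjective (𝒜 := 𝒜) T n) (exact_uC_vC (𝒜 := 𝒜) T n),
      ENat.toNat_add (length_comp_ne_top hpos J hJ hX' n) (length_comp_ne_top hpos J hJ hX'' n)]
    push_cast
    rfl
  rw [h1, chi_add a T (res 𝒜 X'.gr) (res 𝒜 X.gr) (res 𝒜 X''.gr) d n (hd X' _)
    (fun i => length_Hcomp_ne_top hpos a ha J hJ hX' _ i n)
    (fun i => length_Hcomp_ne_top hpos a ha J hJ hX _ i n)
    (fun i => length_Hcomp_ne_top hpos a ha J hJ hX'' _ i n)]
  push_cast
  ring

theorem gfun_shift (X : GrLC.GMod.{u} 𝒜) (e : ℤ) :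
    gfun a d (shM 𝒜 X.gr e) = fun n => gfun a d X (n - e) := by
  funext n
  simp only [gfun]
  rw [hf_shift, chi_eq a (res 𝒜 (shM 𝒜 X.gr e).gr) (shiftDeg (res 𝒜 X.gr) e) d n]
  rfl

include ha in
/-- a module killed by the positive degrees is `a`-torsion -/
theorem gam_eq_top_of_killed (M : Type u) [AddCommGroup M] [Module R M]
    (hkill : ∀ j : ℤ, 0 < j → ∀ r ∈ 𝒜 j, ∀ z : M, r • z = 0) :
    GrLC.gam a.toIdeal M = ⊤ := by
  rw [eq_top_iff]
  intro z _
  refine ⟨1, fun r hr => ?_⟩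
  rw [pow_one, ha] at hr
  induction hr using Submodule.span_induction with
  | mem y hy =>
    simp only [Set.mem_iUnion, Set.mem_Ioi, SetLike.mem_coe, exists_prop] at hy
    obtain ⟨j, hj, hy⟩ := hy
    exact hkill j hj y hy z
  | zero => rw [zero_smul]
  | add x y _ _ hx hy => rw [add_smul, hx, hy, add_zero]
  | smul c x _ hx => rw [smul_eq_mul, mul_smul, hx, smul_zero]

include ha in
theorem gfun_of_killed (X : GrLC.GMod.{u} 𝒜)
    (hkill : ∀ j : ℤ, 0 < j → ∀ r ∈ 𝒜 j, ∀ z : X.carrier, r • z = 0) :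
    gfun a d X = 0 := by
  funext n
  simp only [gfun]
  rw [chi_of_gam_eq_top a (res 𝒜 X.gr) (gam_eq_top_of_killed a ha X.carrier hkill) d n, sub_self]
  rfl

section FourTerm

variable (X : GrLC.GMod.{u} 𝒜) {x : R} (hx : x ∈ 𝒜 1)

theorem killed_kerG (hX : Killed J X.carrier) : Killed J (kerG X hx).carrier := by
  intro r hr z
  apply Subtype.ext
  exact hX r hr z.1

theorem killed_imG (hX : Killed J X.carrier) : Killed J (imG X hx).carrier := by
  intro r hr z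
  apply Subtype.ext
  exact hX r hr z.1

theorem killed_shM (hX : Killed J X.carrier) (e : ℤ) : Killed J (shM 𝒜 X.gr e).carrier :=
  hX

theorem killed_quotSMul (hX : Killed J X.carrier) : Killed J (quotSMul 𝒜 X hx).carrier := by
  intro r hr z
  obtain ⟨w, rfl⟩ := Submodule.mkQ_surjective
    (LinearMap.range (x • (LinearMap.id : X.carrier →ₗ[R] X.carrier))) z
  change (r : R) • Submodule.mkQ (LinearMap.range (x • (LinearMap.id : X.carrier →ₗ[R] X.carrier))) w
    = 0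
  rw [← map_smul, hX r hr w, map_zero]

include hpos ha hJ hd in
/-- the difference equation -/
theorem bd_gfun [Module.Finite R X.carrier] (hX : Killed J X.carrier) :
    bd (gfun a d X) = gfun a d (quotSMul 𝒜 X hx) - gfun a d (kerG X hx) := by
  have h1 := gfun_add hpos a ha J hJ d hd (kerG X hx) (shM 𝒜 X.gr 1) (imG X hx)
    (killed_kerG J X hx hX) (killed_shM J X hX 1) (killed_imG J X hx hX) (ses1 X hx)
  have h2 := gfun_add hpos a ha J hJ d hd (imG X hx) X (quotSMul 𝒜 X hx)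
    (killed_imG J X hx hX) hX (killed_quotSMul J X hx hX) (ses2 X hx)
  rw [gfun_shift] at h1
  funext n
  have h1n := congrFun h1 n
  have h2n := congrFun h2 n
  simp only [Pi.add_apply] at h1n h2n
  simp only [bd, Pi.sub_apply]
  linarith

end FourTerm

section Induction

variable (T₀ : Finset R) (hT₀ : ∀ j : ℤ, 0 < j → ∀ r ∈ 𝒜 j, r ∈ Ideal.span (T₀ : Set R))

include hpos ha hJ hd hT₀ in
/-- the induction on the number of generators of degree one -/
theorem polyLike_of_finset (S : Finset R) : (∀ y ∈ S, y ∈ 𝒜 1) →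
    ∀ (X : GrLC.GMod.{u} 𝒜) [Module.Finite R X.carrier], Killed J X.carrier →
      (∀ y ∈ T₀, y ∉ S → ∀ z : X.carrier, y • z = 0) → PolyLike (gfun a d X) := by
  classical
  induction S using Finset.induction_on with
  | empty =>
    intro _ X _ _ hX
    have hspan : ∀ r ∈ Ideal.span (T₀ : Set R), ∀ z : X.carrier, r • z = 0 := by
      intro r hr z
      induction hr using Submodule.span_induction with
      | mem y hy => exact hX y hy (by simp) z
      | zero => rw [zero_smul]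
      | add a b _ _ ha hb => rw [add_smul, ha, hb, add_zero]
      | smul c a _ ha => rw [smul_eq_mul, mul_smul, ha, smul_zero]
    have hkill : ∀ j : ℤ, 0 < j → ∀ r ∈ 𝒜 j, ∀ z : X.carrier, r • z = 0 :=
      fun j hj r hr z => hspan r (hT₀ j hj r hr) z
    rw [gfun_of_killed a ha d X hkill]
    exact polyLike_zero
  | insert x S hxS ih =>
    intro hS X _ hXJ hX
    have hx : x ∈ 𝒜 1 := hS x (Finset.mem_insert_self x S)
    have hS' : ∀ y ∈ S, y ∈ 𝒜 1 := fun y hy => hS y (Finset.mem_insert_of_mem hy)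
    apply PolyLike.of_bd
    rw [bd_gfun hpos a ha J hJ d hd X hx hXJ]
    apply PolyLike.sub
    · -- the cokernel
      apply ih hS' (quotSMul 𝒜 X hx) (killed_quotSMul J X hx hXJ)
      intro y hyT hyS z
      obtain ⟨w, rfl⟩ := Submodule.mkQ_surjective
        (LinearMap.range (x • (LinearMap.id : X.carrier →ₗ[R] X.carrier))) z
      change y • Submodule.mkQ (LinearMap.range (x • (LinearMap.id : X.carrier →ₗ[R] X.carrier))) w
        = 0
      rw [← map_smul]
      by_cases hyx : y = x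
      · subst hyx
        exact (Submodule.Quotient.mk_eq_zero _).mpr ⟨w, rfl⟩
      · rw [hX y hyT (by rw [Finset.mem_insert]; tauto) w, map_zero]
    · -- the kernel
      apply ih hS' (kerG X hx) (killed_kerG J X hx hXJ)
      intro y hyT hyS z
      apply Subtype.ext
      change y • (z.1 : X.carrier) = 0
      by_cases hyx : y = x
      · subst hyx
        exact z.2
      · exact hX y hyT (by rw [Finset.mem_insert]; tauto) z.1

include hpos ha hJ hd hT₀ in
theorem polyLike_gfun (hT₁ : ∀ y ∈ T₀, y ∈ 𝒜 1) (X : GrLC.GMod.{u} 𝒜) [Module.Finite R X.carrier]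
    (hXJ : Killed J X.carrier) : PolyLike (gfun a d X) :=
  polyLike_of_finset hpos a ha J hJ d hd T₀ hT₀ T₀ hT₁ X hXJ (fun y hy hy' => absurd hy hy')

end Induction

section Final

variable (hstd : Ideal.span (⋃ n ∈ Set.Ioi (0 : ℤ), (𝒜 n : Set R)) =
    Ideal.span ((𝒜 1 : AddSubgroup R) : Set R))

include hstd in
/-- finitely many elements of degree one generate the irrelevant ideal -/
theorem exists_generators : ∃ T₀ : Finset R, (∀ y ∈ T₀, y ∈ 𝒜 1) ∧
    ∀ j : ℤ, 0 < j → ∀ r ∈ 𝒜 j, r ∈ Ideal.span (T₀ : Set R) := by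
  have hfg : (Submodule.span R ((𝒜 1 : AddSubgroup R) : Set R)).FG :=
    IsNoetherian.noetherian _
  obtain ⟨T₀, hsub, heq⟩ := (Submodule.fg_span_iff_fg_span_finset_subset _).mp hfg
  refine ⟨T₀, fun y hy => hsub hy, fun j hj r hr => ?_⟩
  have h1 : r ∈ Ideal.span (⋃ n ∈ Set.Ioi (0 : ℤ), (𝒜 n : Set R)) := by
    apply Ideal.subset_span
    simp only [Set.mem_iUnion, Set.mem_Ioi, SetLike.mem_coe, exists_prop]
    exact ⟨j, hj, hr⟩
  rw [hstd] at h1
  change r ∈ Submodule.span R (T₀ : Set R)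
  rw [← heq]
  exact h1

variable {M : Type u} [AddCommGroup M] [Module R M] [Module.Finite R M] (ℳ : ℤ → AddSubgroup M)
  [DirectSum.Decomposition ℳ] [SetLike.GradedSMul 𝒜 ℳ]

include hpos ha in
/-- the pieces of local cohomology vanish in large degrees -/
theorem exists_Hcomp_eq_bot (E : GrLC.StarInjRes 𝒜 ℳ) :
    ∃ N : ℤ, ∀ n : ℤ, N ≤ n → ∀ i : ℕ, i ≤ d → Subsingleton (E.Hcomp a i n) := by
  classical
  have hirr : ∀ n : ℤ, 0 < n → ∀ r ∈ 𝒜 n, r ∈ a.toIdeal := fun n hn r hr => by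
    rw [ha]
    apply Ideal.subset_span
    simp only [Set.mem_iUnion, Set.mem_Ioi, SetLike.mem_coe, exists_prop]
    exact ⟨n, hn, hr⟩
  haveI : Module.Finite R (GrLC.GMod.of 𝒜 M ℳ).carrier := ‹Module.Finite R M›
  have hv : ∀ i : ℕ, ∃ N : ℤ, ∀ n : ℤ, N ≤ n → ∀ x ∈ E.Hgr a i n, x = 0 := fun i =>
    vanishHigh 𝒜 (hposE hpos) a hirr i (GrLC.GMod.of 𝒜 M ℳ) E
  choose Nf hNf using hv
  refine ⟨(Finset.range (d + 1)).sup' ⟨0, by simp⟩ Nf, fun n hn i hi => ?_⟩
  have hle : Nf i ≤ n := le_trans (Finset.le_sup' Nf (Finset.mem_range.mpr (by omega))) hn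
  exact ⟨fun x y => Subtype.ext ((hNf i n hle x.1 x.2).trans (hNf i n hle y.1 y.2).symm)⟩

include hpos ha in
theorem exists_chi_eq_zero (E : GrLC.StarInjRes 𝒜 ℳ) :
    ∃ N : ℤ, ∀ n : ℤ, N ≤ n → chi a E d n = 0 := by
  obtain ⟨N, hN⟩ := exists_Hcomp_eq_bot hpos a ha d ℳ E
  refine ⟨N, fun n hn => ?_⟩
  unfold chi
  refine Finset.sum_eq_zero (fun i hi => ?_)
  have hsub := hN n hn i (by rw [Finset.mem_range] at hi; omega)
  unfold hl
  rw [Module.length_eq_zero]
  simp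

include hpos ha hJ hd hstd in
/-- **The relative Grothendieck–Serre formula.** -/
theorem serre_formula (hM : Killed J M) (E : GrLC.StarInjRes 𝒜 ℳ) (P : Polynomial ℚ)
    (hP : ∃ N : ℤ, ∀ n : ℤ, N ≤ n → P.eval (n : ℚ) =
      ((Module.length (GrLC.deg0 𝒜) (GrLC.comp 𝒜 ℳ n)).toNat : ℚ)) (n : ℤ) :
    ((Module.length (GrLC.deg0 𝒜) (GrLC.comp 𝒜 ℳ n)).toNat : ℚ) - P.eval (n : ℚ) =
      ((chi a E d n : ℤ) : ℚ) := by
  obtain ⟨T₀, hT₁, hT₀⟩ := exists_generators hstd
  haveI : Module.Finite R (GrLC.GMod.of 𝒜 M ℳ).carrier := ‹Module.Finite R M›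
  have hpl := polyLike_gfun hpos a ha J hJ d hd T₀ hT₀ hT₁ (GrLC.GMod.of 𝒜 M ℳ) hM
  have hh : PolyLike (gfun a d (GrLC.GMod.of 𝒜 M ℳ) - fun k : ℤ => P.eval (k : ℚ)) :=
    hpl.sub (polyLike_of_poly P)
  obtain ⟨N, hN⟩ := hP
  obtain ⟨N', hN'⟩ := exists_chi_eq_zero hpos a ha d ℳ (res 𝒜 ℳ)
  have hzero := hh.eq_zero (max N N') (by
    intro k hk
    simp only [Pi.sub_apply, gfun]
    have h3 : chi a (res 𝒜 (GrLC.GMod.of 𝒜 M ℳ).gr) d k = 0 :=
      hN' k (le_trans (le_max_right _ _) hk)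
    rw [h3, hN k (le_trans (le_max_left _ _) hk), sub_zero]
    unfold hf
    push_cast
    exact sub_self _) n
  simp only [Pi.sub_apply, gfun] at hzero
  have hchi : chi a (res 𝒜 ℳ) d n = chi a E d n := chi_eq a _ _ d n
  rw [← hchi]
  have hhf : ((hf (𝒜 := 𝒜) ℳ n : ℤ) : ℚ) =
      ((Module.length (GrLC.deg0 𝒜) (GrLC.comp 𝒜 ℳ n)).toNat : ℚ) := by
    unfold hf
    push_cast
    rfl
  rw [← hhf]
  have h2 : ((hf (𝒜 := 𝒜) (GrLC.GMod.of 𝒜 M ℳ).gr n - chi a (res 𝒜 (GrLC.GMod.of 𝒜 M ℳ).gr) d n : ℤ) : ℚ)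
      = ((hf (𝒜 := 𝒜) ℳ n : ℤ) : ℚ) - ((chi a (res 𝒜 ℳ) d n : ℤ) : ℚ) := by
    push_cast
    rfl
  rw [h2] at hzero
  linarith

end Final

end Main

end Groth.Agent.H85.RelSerre
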