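import Mathlib
import Groth.Agent.H85.RelSerre
import Groth.Agent.H66.GrRegFree

/-!
# The difference equation for the Euler characteristic of graded local cohomology of a
"Rees-like" module (helper85)

`X` a finitely generated graded module over a positively graded Noetherian ring, `Y, X₊ ⊆ X`
homogeneous submodules with a degree-one isomorphism `Y ≃ X₊`, `X/X₊` killed by `R₊` and
concentrated in degrees `≤ 0`, `X/Y` killed by an ideal `J ⊆ R_0` such that finitely generated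
`R_0/J`-modules have finite length.  Then `*H^i(X)_n` has finite length for `n ≥ 0` and
`χ_X(n) - χ_X(n+1) = χ_{X/Y}(n)`.
-/

set_option autoImplicit false
set_option linter.unusedSectionVars false
set_option linter.unusedVariables false

universe u

namespace Groth.Agent.H85.ReesAbs

open DirectSum Groth.Agent.H98.GrStar Groth.Agent.H66.GrSubSES Groth.Agent.H85.Serre
  Groth.Agent.H85.RelSerre Groth.Agent.H66.GrRegFree

variable {R : Type u} [CommRing R] [IsNoetherianRing R]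
  {𝒜 : ℤ → AddSubgroup R} [GradedRing 𝒜]

section Transport

variable {M : Type u} [AddCommGroup M] [Module R M] {ℳ : ℤ → AddSubgroup M}
  [DirectSum.Decomposition ℳ] [SetLike.GradedSMul 𝒜 ℳ]
variable {N : Type u} [AddCommGroup N] [Module R N] {𝒩 : ℤ → AddSubgroup N}
  [DirectSum.Decomposition 𝒩] [SetLike.GradedSMul 𝒜 𝒩]

/-- a resolution of `N` is a resolution of an isomorphic graded module `M` -/
def precompRes (E : GrLC.StarInjRes 𝒜 𝒩) (φ : M ≃ₗ[R] N)
    (hφ : GrLC.IsGrHom ℳ 𝒩 φ.toLinearMap) : GrLC.StarInjRes 𝒜 ℳ where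
  X := E.X
  d := E.d
  ε := E.ε ∘ₗ φ.toLinearMap
  d_grHom := E.d_grHom
  ε_grHom := fun g m hm => E.ε_grHom g _ (hφ g m hm)
  ε_injective := E.ε_injective.comp φ.injective
  exact_zero := by
    rw [E.exact_zero, LinearMap.range_comp, LinearEquiv.range, Submodule.map_top]
  exact_succ := E.exact_succ
  starInj := E.starInj

theorem precompRes_Hcomp (E : GrLC.StarInjRes 𝒜 𝒩) (φ : M ≃ₗ[R] N)
    (hφ : GrLC.IsGrHom ℳ 𝒩 φ.toLinearMap) (a : HomogeneousIdeal 𝒜) (i : ℕ) (n : ℤ) :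
    Module.length (GrLC.deg0 𝒜) ((precompRes E φ hφ).Hcomp a i n) =
      Module.length (GrLC.deg0 𝒜) (E.Hcomp a i n) := rfl

/-- a degree-one isomorphism `M ≃ N` identifies `*H^i(M)_n` and `*H^i(N)_{n+1}` -/
theorem length_Hcomp_shift (a : HomogeneousIdeal 𝒜) (EM : GrLC.StarInjRes 𝒜 ℳ)
    (EN : GrLC.StarInjRes 𝒜 𝒩) (φ : M ≃ₗ[R] N)
    (hφ : ∀ (n : ℤ) (y : M), y ∈ ℳ n → φ y ∈ 𝒩 (n + 1)) (i : ℕ) (n : ℤ) :
    Module.length (GrLC.deg0 𝒜) (EM.Hcomp a i n) =
      Module.length (GrLC.deg0 𝒜) (EN.Hcomp a i (n + 1)) := by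
  have hφ' : GrLC.IsGrHom (shM 𝒜 ℳ 1).gr 𝒩 φ.toLinearMap := by
    intro k y hy
    have h1 : y ∈ ℳ (k - 1) := hy
    have h2 := hφ (k - 1) y h1
    rw [sub_add_cancel] at h2
    exact h2
  have h := length_Hcomp_eq a (shiftDeg EM 1) (precompRes EN φ hφ') i (n + 1)
  rw [precompRes_Hcomp] at h
  rw [← h]
  have h3 : Module.length (GrLC.deg0 𝒜) ((shiftDeg EM 1).Hcomp a i (n + 1)) =
      Module.length (GrLC.deg0 𝒜) (EM.Hcomp a i (n + 1 - 1)) := rfl
  rw [h3, add_sub_cancel_right]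

end Transport

section Iso

variable {M' : Type u} [AddCommGroup M'] [Module R M'] {ℳ' : ℤ → AddSubgroup M'}
  [DirectSum.Decomposition ℳ'] [SetLike.GradedSMul 𝒜 ℳ']
variable {M : Type u} [AddCommGroup M] [Module R M] {ℳ : ℤ → AddSubgroup M}
  [DirectSum.Decomposition ℳ] [SetLike.GradedSMul 𝒜 ℳ]
variable {M'' : Type u} [AddCommGroup M''] [Module R M''] {ℳ'' : ℤ → AddSubgroup M''}
  [DirectSum.Decomposition ℳ''] [SetLike.GradedSMul 𝒜 ℳ'']
variable (T : GrSES (R := R) ℳ' ℳ ℳ'') (a : HomogeneousIdeal 𝒜)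
  (E' : GrLC.StarInjRes 𝒜 ℳ') (E : GrLC.StarInjRes 𝒜 ℳ) (E'' : GrLC.StarInjRes 𝒜 ℳ'')

include T E'' in
/-- if the local cohomology of the cokernel vanishes in degree `n`, the sub and the middle term
have the same pieces in degree `n` -/
theorem length_Hcomp_eq_of_vanish (n : ℤ) (hQ : ∀ i, Subsingleton (E''.Hcomp a i n)) (i : ℕ) :
    Module.length (GrLC.deg0 𝒜) (E'.Hcomp a i n) =
      Module.length (GrLC.deg0 𝒜) (E.Hcomp a i n) := by
  have hinj : Function.Injective (uP T a E' E i n) := by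
    cases i with
    | zero => exact uP_zero_injective T a E' E n
    | succ j =>
      rw [injective_iff_map_eq_zero]
      intro y hy
      obtain ⟨z, rfl⟩ := (exact_dP_uP T a E' E E'' j n y).mp hy
      haveI := hQ j
      rw [Subsingleton.elim z 0, map_zero]
  have hsurj : Function.Surjective (uP T a E' E i n) := by
    intro y
    haveI := hQ i
    exact (exact_uP_vP T a E' E E'' i n y).mp (Subsingleton.elim _ _)
  exact (LinearEquiv.ofBijective (uP T a E' E i n) ⟨hinj, hsurj⟩).length_eq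

end Iso

section Conc

variable (a : HomogeneousIdeal 𝒜)
  (ha : a.toIdeal = Ideal.span (⋃ n ∈ Set.Ioi (0 : ℤ), (𝒜 n : Set R)))
variable {M : Type u} [AddCommGroup M] [Module R M] {ℳ : ℤ → AddSubgroup M}
  [DirectSum.Decomposition ℳ] [SetLike.GradedSMul 𝒜 ℳ]

include ha in
/-- a graded module killed by `R₊` has local cohomology `M` in degree zero and nothing else -/
theorem subsingleton_Hcomp_of_killed (E : GrLC.StarInjRes 𝒜 ℳ)
    (hkill : ∀ j : ℤ, 0 < j → ∀ r ∈ 𝒜 j, ∀ z : M, r • z = 0) (n : ℤ)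
    (hn : ∀ z ∈ ℳ n, z = 0) (i : ℕ) : Subsingleton (E.Hcomp a i n) := by
  have hgam := gam_eq_top_of_killed a ha M hkill
  cases i with
  | zero =>
    refine ⟨fun x y => ?_⟩
    obtain ⟨x', rfl⟩ := η0_surjective E a n x
    obtain ⟨y', rfl⟩ := η0_surjective E a n y
    have hx : x' = 0 := Subtype.ext (hn x'.1 x'.2.1)
    have hy : y' = 0 := Subtype.ext (hn y'.1 y'.2.1)
    rw [hx, hy]
  | succ j =>
    have := H_subsingleton_of_gam_eq_top E a hgam (j + 1) (by omega)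
    exact ⟨fun x y => Subtype.ext (Subsingleton.elim _ _)⟩

end Conc

section Quot

variable (X : GrLC.GMod.{u} 𝒜)

/-- the quotient of a graded module by a homogeneous submodule -/
noncomputable def quotG (P : Submodule R X.carrier) (hP : P.IsHomogeneous X.gr) :
    GrLC.GMod.{u} 𝒜 :=
  quotGMod 𝒜 X.gr P.mkQ (Submodule.mkQ_surjective P) (by rw [Submodule.ker_mkQ]; exact hP)

/-- `0 → P → X → X/P → 0` -/
noncomputable def quotSES (P : Submodule R X.carrier) (hP : P.IsHomogeneous X.gr) :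
    GrSES (R := R) (subG X P hP).gr X.gr (quotG X P hP).gr :=
  surjSES X (quotG X P hP) P.mkQ
    (quotGMod_isGrHom 𝒜 X.gr P.mkQ (Submodule.mkQ_surjective P)
      (by rw [Submodule.ker_mkQ]; exact hP))
    (Submodule.mkQ_surjective P) P hP (Submodule.ker_mkQ P)

instance quotG_finite [Module.Finite R X.carrier] (P : Submodule R X.carrier)
    (hP : P.IsHomogeneous X.gr) : Module.Finite R (quotG X P hP).carrier :=
  inferInstanceAs (Module.Finite R (X.carrier ⧸ P))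

instance subG_finite [Module.Finite R X.carrier] (P : Submodule R X.carrier)
    (hP : P.IsHomogeneous X.gr) : Module.Finite R (subG X P hP).carrier := by
  haveI : IsNoetherian R X.carrier := isNoetherian_of_isNoetherianRing_of_finite R X.carrier
  exact inferInstanceAs (Module.Finite R P)

end Quot

section Main

variable (hpos : ∀ n : ℤ, n < 0 → 𝒜 n = ⊥) (a : HomogeneousIdeal 𝒜)
  (ha : a.toIdeal = Ideal.span (⋃ n ∈ Set.Ioi (0 : ℤ), (𝒜 n : Set R)))
  (J : Ideal (GrLC.deg0 𝒜)) (hJ : FinLen J)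
  (d : ℕ) (hd : ∀ (X : GrLC.GMod.{u} 𝒜) (E : GrLC.StarInjRes 𝒜 X.gr) (i : ℕ), d < i →
    Subsingleton (E.H a i))
variable (X : GrLC.GMod.{u} 𝒜) [Module.Finite R X.carrier]
  (Y Mp : Submodule R X.carrier) (hY : Y.IsHomogeneous X.gr) (hMp : Mp.IsHomogeneous X.gr)
  (φ : Y ≃ₗ[R] Mp)
  (hφ : ∀ (n : ℤ) (y : Y), (y : X.carrier) ∈ X.gr n → ((φ y : Mp) : X.carrier) ∈ X.gr (n + 1))
  (hJY : ∀ r ∈ J, ∀ z : X.carrier, (r : R) • z ∈ Y)
  (hkill : ∀ j : ℤ, 0 < j → ∀ r ∈ 𝒜 j, ∀ z : X.carrier, r • z ∈ Mp)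
  (hge : ∀ n : ℤ, 1 ≤ n → ∀ z ∈ X.gr n, z ∈ Mp)

include hJY in
theorem killed_quotG : Killed J (quotG X Y hY).carrier := by
  intro r hr z
  obtain ⟨x, rfl⟩ := Submodule.mkQ_surjective Y z
  change (r : R) • Y.mkQ x = 0
  rw [← map_smul]
  exact (Submodule.Quotient.mk_eq_zero _).mpr (hJY r hr x)

include ha hφ hkill hge hMp hY in
/-- `*H^i(Y)_n ≅ *H^i(X)_{n+1}` for `n ≥ 0` -/
theorem length_Hcomp_sub (E : GrLC.StarInjRes 𝒜 X.gr) (n : ℤ) (hn : 0 ≤ n) (i : ℕ) :
    Module.length (GrLC.deg0 𝒜) ((res 𝒜 (subG X Y hY).gr).Hcomp a i n) =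
      Module.length (GrLC.deg0 𝒜) (E.Hcomp a i (n + 1)) := by
  have hkillQ : ∀ j : ℤ, 0 < j → ∀ r ∈ 𝒜 j, ∀ z : (quotG X Mp hMp).carrier, r • z = 0 := by
    intro j hj r hr z
    obtain ⟨x, rfl⟩ := Submodule.mkQ_surjective Mp z
    change r • Mp.mkQ x = 0
    rw [← map_smul]
    exact (Submodule.Quotient.mk_eq_zero _).mpr (hkill j hj r hr x)
  have hQn : ∀ z ∈ (quotG X Mp hMp).gr (n + 1), z = 0 := by
    rintro z ⟨x, hx, rfl⟩
    exact (Submodule.Quotient.mk_eq_zero _).mpr (hge (n + 1) (by omega) x hx)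
  rw [length_Hcomp_shift a (res 𝒜 (subG X Y hY).gr) (res 𝒜 (subG X Mp hMp).gr) φ
    (fun n y hy => hφ n y hy) i n]
  exact length_Hcomp_eq_of_vanish (quotSES X Mp hMp) a (res 𝒜 (subG X Mp hMp).gr) E
    (res 𝒜 (quotG X Mp hMp).gr) (n + 1)
    (fun i => subsingleton_Hcomp_of_killed a ha (res 𝒜 (quotG X Mp hMp).gr) hkillQ (n + 1) hQn i) i

include hpos ha hJ hd hφ hJY hkill hge hMp hY in
/-- the pieces of non-negative degree of the local cohomology of `X` have finite length -/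
theorem length_Hcomp_ne_top' (E : GrLC.StarInjRes 𝒜 X.gr) :
    ∀ n : ℤ, 0 ≤ n → ∀ i : ℕ, Module.length (GrLC.deg0 𝒜) (E.Hcomp a i n) ≠ ⊤ := by
  obtain ⟨N, hN⟩ := exists_Hcomp_eq_bot hpos a ha d X.gr E
  have hbig : ∀ n : ℤ, N ≤ n → ∀ i : ℕ, Module.length (GrLC.deg0 𝒜) (E.Hcomp a i n) ≠ ⊤ := by
    intro n hn i
    have hsub : Subsingleton (E.Hcomp a i n) := by
      by_cases hi : i ≤ d
      · exact hN n hn i hi
      · have := hd X E i (by omega)
        exact ⟨fun x y => Subtype.ext (Subsingleton.elim _ _)⟩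
    rw [Module.length_eq_zero]
    exact ENat.zero_ne_top
  have key : ∀ k : ℕ, ∀ n : ℤ, 0 ≤ n → N ≤ n + k →
      ∀ i : ℕ, Module.length (GrLC.deg0 𝒜) (E.Hcomp a i n) ≠ ⊤ := by
    intro k
    induction k with
    | zero =>
      intro n _ hn
      exact hbig n (by simpa using hn)
    | succ k ih =>
      intro n hn0 hn i
      have h1 := ih (n + 1) (by omega) (by push_cast at hn; omega) i
      rw [← length_Hcomp_sub a ha X Y Mp hY hMp φ hφ hkill hge E n hn0 i] at h1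
      exact length_Hcomp_mid a (quotSES X Y hY) (res 𝒜 (subG X Y hY).gr) E
        (res 𝒜 (quotG X Y hY).gr) i n h1
        (RelSerre.length_Hcomp_ne_top hpos a ha J hJ (killed_quotG J X Y hY hJY) _ i n)
  intro n hn i
  obtain ⟨k, hk⟩ : ∃ k : ℕ, N ≤ n + k := ⟨(N - n).toNat, by omega⟩
  exact key k n hn hk i

include hpos ha hJ hd hφ hJY hkill hge hMp hY in
/-- **the difference equation** -/
theorem chi_diff (E : GrLC.StarInjRes 𝒜 X.gr) (EG : GrLC.StarInjRes 𝒜 (quotG X Y hY).gr)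
    (n : ℤ) (hn : 0 ≤ n) : chi a E d n = chi a E d (n + 1) + chi a EG d n := by
  have hfin := length_Hcomp_ne_top' hpos a ha J hJ d hd X Y Mp hY hMp φ hφ hJY hkill hge E
  have hsubY : ∀ i, Module.length (GrLC.deg0 𝒜) ((res 𝒜 (subG X Y hY).gr).Hcomp a i n) ≠ ⊤ := by
    intro i
    rw [length_Hcomp_sub a ha X Y Mp hY hMp φ hφ hkill hge E n hn i]
    exact hfin (n + 1) (by omega) i
  have h1 := RelSerre.chi_add a (quotSES X Y hY) (res 𝒜 (subG X Y hY).gr) E EG d n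
    (hd (subG X Y hY) _ (d + 1) (by omega)) hsubY (hfin n hn)
    (fun i => RelSerre.length_Hcomp_ne_top hpos a ha J hJ (killed_quotG J X Y hY hJY) EG i n)
  rw [h1]
  congr 1
  unfold chi
  refine Finset.sum_congr rfl fun i _ => ?_
  unfold hl
  rw [length_Hcomp_sub a ha X Y Mp hY hMp φ hφ hkill hge E n hn i]

variable (hstd : Ideal.span (⋃ n ∈ Set.Ioi (0 : ℤ), (𝒜 n : Set R)) =
    Ideal.span ((𝒜 1 : AddSubgroup R) : Set R))

include hpos ha hJ hd hφ hJY hkill hge hMp hY hstd in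
/-- **the Euler characteristic of `X` is the function solving the difference equation** -/
theorem chi_eq_of_diff (E : GrLC.StarInjRes 𝒜 X.gr) (PG : Polynomial ℚ)
    (hPG : ∃ N : ℤ, ∀ n : ℤ, N ≤ n → PG.eval (n : ℚ) =
      ((Module.length (GrLC.deg0 𝒜) (GrLC.comp 𝒜 (quotG X Y hY).gr n)).toNat : ℚ))
    (f : ℤ → ℚ) (hf0 : ∃ N : ℤ, ∀ n : ℤ, N ≤ n → f n = 0)
    (hfd : ∀ n : ℤ, 0 ≤ n → f n - f (n + 1) =
      ((Module.length (GrLC.deg0 𝒜) (GrLC.comp 𝒜 (quotG X Y hY).gr n)).toNat : ℚ) -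
        PG.eval (n : ℚ)) :
    ∀ n : ℤ, 0 ≤ n → f n = ((chi a E d n : ℤ) : ℚ) := by
  obtain ⟨N₁, hN₁⟩ := hf0
  obtain ⟨N₂, hN₂⟩ := exists_chi_eq_zero hpos a ha d X.gr E
  have hstep : ∀ n : ℤ, 0 ≤ n →
      f n - ((chi a E d n : ℤ) : ℚ) = f (n + 1) - ((chi a E d (n + 1) : ℤ) : ℚ) := by
    intro n hn
    have h1 := chi_diff hpos a ha J hJ d hd X Y Mp hY hMp φ hφ hJY hkill hge E
      (res 𝒜 (quotG X Y hY).gr) n hn
    have h2 := serre_formula hpos a ha J hJ d
      (fun X E => hd X E (d + 1) (by omega)) hstd (quotG X Y hY).gr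
      (killed_quotG J X Y hY hJY) (res 𝒜 (quotG X Y hY).gr) PG hPG n
    have h3 := hfd n hn
    rw [h1]
    push_cast
    linarith
  have key : ∀ k : ℕ, ∀ n : ℤ, 0 ≤ n → max N₁ N₂ ≤ n + k →
      f n - ((chi a E d n : ℤ) : ℚ) = 0 := by
    intro k
    induction k with
    | zero =>
      intro n _ hn
      have hn' : max N₁ N₂ ≤ n := by simpa using hn
      rw [hN₁ n (le_trans (le_max_left _ _) hn'), hN₂ n (le_trans (le_max_right _ _) hn')]
      simp
    | succ k ih =>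
      intro n hn0 hn
      rw [hstep n hn0]
      exact ih (n + 1) (by omega) (by push_cast at hn; omega)
  intro n hn
  obtain ⟨k, hk⟩ : ∃ k : ℕ, max N₁ N₂ ≤ n + k := ⟨(max N₁ N₂ - n).toNat, by omega⟩
  have := key k n hn hk
  linarith

end Main

end Groth.Agent.H85.ReesAbs
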