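import Mathlib

/-!
# Lengths of modules killed by an `m`-primary ideal (helper85)

`A` Noetherian local, `K` an ideal with radical `m`: finitely generated `A`-modules killed by `K`
have finite length; lengths are preserved by semilinear bijections over a surjective ring map;
`ℓ(M/I^{n+1}M) = ℓ(M/IⁿM) + ℓ(IⁿM/I^{n+1}M)`.
-/

set_option autoImplicit false

universe u

namespace Groth.Agent.H85.ReesLen

/-- a semilinear bijection over a surjective ring homomorphism preserves length -/
theorem length_eq_of_semilinear {A S : Type*} [Ring A] [Ring S] (σ : A →+* S)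
    [RingHomSurjective σ] {N N' : Type*} [AddCommGroup N] [Module A N] [AddCommGroup N']
    [Module S N'] (f : N →ₛₗ[σ] N') (hf : Function.Bijective f) :
    Module.length A N = Module.length S N' := by
  rw [Module.length, Module.length, WithBot.unbot_inj,
    Order.krullDim_eq_of_orderIso (Submodule.orderIsoMapComapOfBijective f hf)]

variable {A : Type u} [CommRing A] [IsNoetherianRing A] [IsLocalRing A]

theorem isArtinianRing_quot (K : Ideal A) (hK : K.radical = IsLocalRing.maximalIdeal A) :
    IsArtinianRing (A ⧸ K) := by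
  rw [isArtinianRing_iff_krullDimLE_zero, Ring.krullDimLE_zero_iff]
  intro p hp
  have h1 : (p.comap (Ideal.Quotient.mk K)).IsPrime := Ideal.comap_isPrime _ _
  have h2 : K ≤ p.comap (Ideal.Quotient.mk K) := by
    intro x hx
    rw [Ideal.mem_comap, Ideal.Quotient.eq_zero_iff_mem.mpr hx]
    exact zero_mem _
  have h3 : IsLocalRing.maximalIdeal A ≤ p.comap (Ideal.Quotient.mk K) := by
    rw [← hK]
    exact (Ideal.IsPrime.radical_le_iff h1).mpr h2
  have h4 : p.comap (Ideal.Quotient.mk K) = IsLocalRing.maximalIdeal A :=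
    ((IsLocalRing.maximalIdeal.isMaximal A).eq_of_le h1.ne_top h3).symm
  have h5 : (p.comap (Ideal.Quotient.mk K)).IsMaximal := by
    rw [h4]
    exact IsLocalRing.maximalIdeal.isMaximal A
  have h6 := Ideal.map_comap_of_surjective (Ideal.Quotient.mk K) Ideal.Quotient.mk_surjective p
  rcases Ideal.map_eq_top_or_isMaximal_of_surjective (Ideal.Quotient.mk K)
    Ideal.Quotient.mk_surjective h5 with h7 | h7
  · rw [h6] at h7
    exact absurd h7 hp.ne_top
  · rwa [h6] at h7

/-- finitely generated modules killed by an `m`-primary ideal have finite length -/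
theorem length_ne_top_of_killed (K : Ideal A) (hK : K.radical = IsLocalRing.maximalIdeal A)
    (N : Type*) [AddCommGroup N] [Module A N] [Module.Finite A N]
    (h : ∀ r ∈ K, ∀ z : N, r • z = 0) : Module.length A N ≠ ⊤ := by
  haveI := isArtinianRing_quot K hK
  have htors : Module.IsTorsionBySet A N K := fun z r => h r.1 r.2 z
  letI : Module (A ⧸ K) N := htors.module
  haveI : IsScalarTower A (A ⧸ K) N := htors.isScalarTower
  haveI : Module.Finite (A ⧸ K) N := Module.Finite.of_restrictScalars_finite A (A ⧸ K) N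
  haveI : IsArtinian (A ⧸ K) N := isArtinian_of_fg_of_artinian'
  haveI : IsNoetherian (A ⧸ K) N := isNoetherian_of_isNoetherianRing_of_finite (A ⧸ K) N
  rw [Module.length_eq_of_surjective (S := A) (R := A ⧸ K) (M := N)
    Ideal.Quotient.mk_surjective]
  exact Module.length_ne_top

section Add

variable {B : Type*} [CommRing B] {M : Type*} [AddCommGroup M] [Module B M]

/-- `ℓ(M/N) = ℓ(N'/N) + ℓ(M/N')` for `N ≤ N'` -/
theorem length_quot_add (N N' : Submodule B M) (h : N ≤ N') :
    Module.length B (M ⧸ N) =
      Module.length B (↥N' ⧸ N.comap N'.subtype) + Module.length B (M ⧸ N') := by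
  let f : (↥N' ⧸ N.comap N'.subtype) →ₗ[B] (M ⧸ N) :=
    (N.comap N'.subtype).liftQ (N.mkQ ∘ₗ N'.subtype) (by
      intro x hx
      rw [LinearMap.mem_ker, LinearMap.comp_apply]
      exact (Submodule.Quotient.mk_eq_zero _).mpr hx)
  let g : (M ⧸ N) →ₗ[B] (M ⧸ N') := Submodule.factor h
  have hf : Function.Injective f := by
    rw [injective_iff_map_eq_zero]
    intro x hx
    obtain ⟨y, rfl⟩ := Submodule.mkQ_surjective _ x
    have h1 : N.mkQ (N'.subtype y) = 0 := hx
    have h2 : (y : M) ∈ N := (Submodule.Quotient.mk_eq_zero _).mp h1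
    exact (Submodule.Quotient.mk_eq_zero _).mpr h2
  have hg : Function.Surjective g := Submodule.factor_surjective h
  have hex : Function.Exact f g := by
    intro x
    obtain ⟨y, rfl⟩ := Submodule.mkQ_surjective _ x
    constructor
    · intro hy
      have h1 : N'.mkQ y = 0 := hy
      have h2 : y ∈ N' := (Submodule.Quotient.mk_eq_zero _).mp h1
      exact ⟨(N.comap N'.subtype).mkQ ⟨y, h2⟩, rfl⟩
    · rintro ⟨z, hz⟩
      obtain ⟨w, rfl⟩ := Submodule.mkQ_surjective _ z
      have h1 : N.mkQ (w : M) = N.mkQ y := hz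
      change N'.mkQ y = 0
      have h2 : N'.mkQ (w : M) = N'.mkQ y := by
        have := congrArg (Submodule.factor h) h1
        exact this
      rw [← h2]
      exact (Submodule.Quotient.mk_eq_zero _).mpr w.2
  exact Module.length_eq_add_of_exact f g hf hg hex

end Add

section HS

variable (I : Ideal A) (hI : I.radical = IsLocalRing.maximalIdeal A)
  (M : Type u) [AddCommGroup M] [Module A M] [Module.Finite A M]

include hI in
theorem length_quot_pow_ne_top (n : ℕ) :
    Module.length A (M ⧸ (I ^ n • (⊤ : Submodule A M))) ≠ ⊤ := by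
  by_cases hn : n = 0
  · subst hn
    rw [pow_zero, Ideal.one_eq_top, Submodule.top_smul]
    rw [Module.length_eq_zero]
    exact ENat.zero_ne_top
  · apply length_ne_top_of_killed (I ^ n) (by rw [Ideal.radical_pow I hn, hI])
    intro r hr z
    obtain ⟨y, rfl⟩ := Submodule.mkQ_surjective _ z
    rw [← map_smul]
    exact (Submodule.Quotient.mk_eq_zero _).mpr (Submodule.smul_mem_smul hr trivial)

/-- the graded piece `IⁿM / I^{n+1}M` -/
abbrev grPiece (n : ℕ) : Type u :=
  ↥(I ^ n • (⊤ : Submodule A M)) ⧸
    (I ^ (n + 1) • (⊤ : Submodule A M)).comap (I ^ n • (⊤ : Submodule A M)).subtype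

theorem pow_succ_smul_le (n : ℕ) :
    I ^ (n + 1) • (⊤ : Submodule A M) ≤ I ^ n • (⊤ : Submodule A M) :=
  Submodule.smul_mono_left (Ideal.pow_le_pow_right (Nat.le_succ n))

include hI in
theorem length_grPiece (n : ℕ) :
    ((Module.length A (grPiece I M n)).toNat : ℚ) =
      ((Module.length A (M ⧸ (I ^ (n + 1) • (⊤ : Submodule A M)))).toNat : ℚ) -
        ((Module.length A (M ⧸ (I ^ n • (⊤ : Submodule A M)))).toNat : ℚ) := by
  have h := length_quot_add (I ^ (n + 1) • (⊤ : Submodule A M)) (I ^ n • (⊤ : Submodule A M))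
    (pow_succ_smul_le I M n)
  have h1 := length_quot_pow_ne_top I hI M (n + 1)
  have h2 := length_quot_pow_ne_top I hI M n
  have h3 : Module.length A (grPiece I M n) ≠ ⊤ := by
    intro h4
    rw [h] at h1
    apply h1
    unfold grPiece at h4
    rw [h4, top_add]
  rw [h, ENat.toNat_add h3 h2]
  push_cast
  ring

include hI in
theorem length_grPiece_ne_top (n : ℕ) : Module.length A (grPiece I M n) ≠ ⊤ := by
  have h := length_quot_add (I ^ (n + 1) • (⊤ : Submodule A M)) (I ^ n • (⊤ : Submodule A M))
    (pow_succ_smul_le I M n)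
  have h1 := length_quot_pow_ne_top I hI M (n + 1)
  intro h4
  rw [h] at h1
  apply h1
  unfold grPiece at h4
  rw [h4, top_add]

end HS

end Groth.Agent.H85.ReesLen
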