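import Mathlib
import Groth.Agent.H85.ReesAbs
import Groth.Agent.H85.ReesLen

/-!
# The Hilbert function of a graded quotient, abstractly (helper85)
-/

set_option autoImplicit false
set_option linter.unusedSectionVars false
set_option linter.unusedVariables false

universe u

namespace Groth.Agent.H85.ReesAbs

open DirectSum Groth.Agent.H98.GrStar Groth.Agent.H66.GrSubSES

variable {R : Type u} [CommRing R] [IsNoetherianRing R]
  {𝒜 : ℤ → AddSubgroup R} [GradedRing 𝒜]

section Hilb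

variable (X : GrLC.GMod.{u} 𝒜) (Y : Submodule R X.carrier) (hY : Y.IsHomogeneous X.gr)
variable {A : Type u} [CommRing A] (σ : A →+* GrLC.deg0 𝒜) [RingHomSurjective σ]
  {N : Type u} [AddCommGroup N] [Module A N] (N' : Submodule A N)
  (n : ℤ) (e : N →+ X.carrier)
  (he_smul : ∀ (a : A) (m : N), e (a • m) = ((σ a : GrLC.deg0 𝒜) : R) • e m)
  (he_mem : ∀ m, e m ∈ X.gr n) (he_surj : ∀ x ∈ X.gr n, ∃ m, e m = x)
  (he_Y : ∀ m, e m ∈ Y ↔ m ∈ N')

/-- `N → (X/Y)_n` -/
noncomputable def hilbMap : N →ₛₗ[σ] ↥(GrLC.comp 𝒜 (quotG X Y hY).gr n) where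
  toFun m := ⟨Y.mkQ (e m), ⟨e m, he_mem m, rfl⟩⟩
  map_add' m m' := by
    apply Subtype.ext
    change Y.mkQ (e (m + m')) = Y.mkQ (e m) + Y.mkQ (e m')
    rw [map_add, map_add]
  map_smul' a m := by
    apply Subtype.ext
    change Y.mkQ (e (a • m)) = ((σ a : GrLC.deg0 𝒜) : R) • Y.mkQ (e m)
    rw [he_smul, map_smul]

theorem hilbMap_coe (m : N) :
    ((hilbMap X Y hY σ n e he_smul he_mem m : GrLC.comp 𝒜 (quotG X Y hY).gr n) :
      (quotG X Y hY).carrier) = Y.mkQ (e m) := rfl

include he_surj in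
theorem hilbMap_surjective : Function.Surjective (hilbMap X Y hY σ n e he_smul he_mem) := by
  rintro ⟨_, x, hx, rfl⟩
  obtain ⟨m, rfl⟩ := he_surj x hx
  exact ⟨m, Subtype.ext rfl⟩

include he_Y in
theorem hilbMap_eq_zero_iff (m : N) : hilbMap X Y hY σ n e he_smul he_mem m = 0 ↔ m ∈ N' := by
  rw [← he_Y]
  constructor
  · intro h
    have h1 : Y.mkQ (e m) = 0 := by
      rw [← hilbMap_coe X Y hY σ n e he_smul he_mem m, h]
      rfl
    exact (Submodule.Quotient.mk_eq_zero _).mp h1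
  · intro h
    apply Subtype.ext
    rw [hilbMap_coe]
    exact (Submodule.Quotient.mk_eq_zero _).mpr h

include he_surj he_Y he_smul he_mem in
/-- the Hilbert function of `X/Y` -/
theorem length_comp_quotG :
    Module.length (GrLC.deg0 𝒜) (GrLC.comp 𝒜 (quotG X Y hY).gr n) = Module.length A (N ⧸ N') := by
  have hker : N' ≤ LinearMap.ker (hilbMap X Y hY σ n e he_smul he_mem) := by
    intro m hm
    rw [LinearMap.mem_ker, hilbMap_eq_zero_iff X Y hY σ N' n e he_smul he_mem he_Y]
    exact hm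
  have hinj : Function.Injective (N'.liftQ (hilbMap X Y hY σ n e he_smul he_mem) hker) := by
    rw [← LinearMap.ker_eq_bot]
    apply Submodule.ker_liftQ_eq_bot
    intro m hm
    rw [LinearMap.mem_ker, hilbMap_eq_zero_iff X Y hY σ N' n e he_smul he_mem he_Y] at hm
    exact hm
  have hsurj : Function.Surjective (N'.liftQ (hilbMap X Y hY σ n e he_smul he_mem) hker) := by
    intro y
    obtain ⟨m, rfl⟩ := hilbMap_surjective X Y hY σ n e he_smul he_mem he_surj y
    exact ⟨Submodule.Quotient.mk m, rfl⟩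
  exact (ReesLen.length_eq_of_semilinear σ _ ⟨hinj, hsurj⟩).symm

end Hilb

end Groth.Agent.H85.ReesAbs
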