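import Mathlib
import Groth.Agent.H85.GrConvM
import Groth.Prelude.Def_Rees
import Groth.Prelude.Def_ReesMod
import Groth.Prelude.Def_GrSyz
import Groth.Agent.H85.ReesLen

/-!
# The Rees algebra as a standard graded ring (helper85)
-/

set_option autoImplicit false
set_option linter.unusedSectionVars false
set_option linter.unusedVariables false

universe u

namespace Groth.Agent.H85.ReesGr

open Polynomial Groth.Agent.H98.GrStar Groth.Agent.H85.GrConv

variable {A : Type u} [CommRing A] (I : Ideal A)

/-- the grading of the Rees algebra by additive subgroups -/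
noncomputable abbrev gr : ℤ → AddSubgroup ↥(reesAlgebra I) := selfGr (Rees.degZ (reesAlgebra I))

theorem mem_gr_iff (n : ℤ) (f : reesAlgebra I) :
    f ∈ gr I n ↔ ∀ m : ℕ, (m : ℤ) ≠ n → (f : A[X]).coeff m = 0 := Iff.rfl

theorem hpos : ∀ n : ℤ, n < 0 → gr I n = ⊥ := by
  intro n hn
  rw [eq_bot_iff]
  intro f hf
  rw [AddSubgroup.mem_bot]
  apply Subtype.ext
  apply Polynomial.ext
  intro m
  rw [(mem_gr_iff I n f).mp hf m (by omega)]
  simp

/-- the irrelevant ideal -/
noncomputable abbrev irr : HomogeneousIdeal (gr I) :=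
  homAG _ (GrSyz.irrel (Rees.degZ (reesAlgebra I)))

theorem irr_toIdeal :
    (irr I).toIdeal = Ideal.span (⋃ n ∈ Set.Ioi (0 : ℤ), (gr I n : Set ↥(reesAlgebra I))) := by
  change Ideal.span _ = _
  congr 1
  ext r
  simp only [Set.mem_setOf_eq, Set.mem_iUnion, Set.mem_Ioi, SetLike.mem_coe, exists_prop]
  rfl

/-- a homogeneous element is a monomial -/
theorem eq_monomial_of_mem (m : ℕ) (f : reesAlgebra I) (hf : f ∈ gr I (m : ℤ)) :
    (f : A[X]) = monomial m ((f : A[X]).coeff m) := by
  apply Polynomial.ext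
  intro k
  rw [coeff_monomial]
  split_ifs with h
  · rw [h]
  · exact (mem_gr_iff I m f).mp hf k (by intro h'; exact h (by exact_mod_cast h'.symm))

theorem monomial_mem_span (k : ℕ) : ∀ c ∈ I ^ (k + 1), ∀ h : monomial (k + 1) c ∈ reesAlgebra I,
    (⟨monomial (k + 1) c, h⟩ : reesAlgebra I) ∈
      Ideal.span ((gr I 1 : AddSubgroup ↥(reesAlgebra I)) : Set ↥(reesAlgebra I)) := by
  intro c hc
  rw [pow_succ'] at hc
  induction hc using Submodule.mul_induction_on' with
  | mem_mul_mem b hb c' hc' =>
    intro h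
    have h1 : monomial 1 b ∈ reesAlgebra I := reesAlgebra.monomial_mem.mpr (by simpa using hb)
    have h2 : monomial k c' ∈ reesAlgebra I := reesAlgebra.monomial_mem.mpr hc'
    have h3 : (⟨monomial (k + 1) (b * c'), h⟩ : reesAlgebra I) =
        (⟨monomial k c', h2⟩ : reesAlgebra I) * ⟨monomial 1 b, h1⟩ := by
      apply Subtype.ext
      change monomial (k + 1) (b * c') = monomial k c' * monomial 1 b
      rw [monomial_mul_monomial, mul_comm]
    rw [h3]
    apply Ideal.mul_mem_left
    apply Ideal.subset_span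
    intro m hm
    change (monomial 1 b).coeff m = 0
    rw [coeff_monomial, if_neg]
    intro h'
    apply hm
    rw [← h']
    rfl
  | add x hx y hy ihx ihy =>
    intro h
    have h1 : monomial (k + 1) x ∈ reesAlgebra I := by
      rw [← pow_succ'] at hx
      exact reesAlgebra.monomial_mem.mpr hx
    have h2 : monomial (k + 1) y ∈ reesAlgebra I := by
      rw [← pow_succ'] at hy
      exact reesAlgebra.monomial_mem.mpr hy
    have h3 : (⟨monomial (k + 1) (x + y), h⟩ : reesAlgebra I) =
        ⟨monomial (k + 1) x, h1⟩ + ⟨monomial (k + 1) y, h2⟩ := by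
      apply Subtype.ext
      change monomial (k + 1) (x + y) = monomial (k + 1) x + monomial (k + 1) y
      rw [map_add]
    rw [h3]
    exact add_mem (ihx h1) (ihy h2)

/-- the Rees algebra is standard graded -/
theorem hstd : Ideal.span (⋃ n ∈ Set.Ioi (0 : ℤ), (gr I n : Set ↥(reesAlgebra I))) =
    Ideal.span ((gr I 1 : AddSubgroup ↥(reesAlgebra I)) : Set ↥(reesAlgebra I)) := by
  apply le_antisymm
  · rw [Ideal.span_le]
    intro r hr
    simp only [Set.mem_iUnion, Set.mem_Ioi, SetLike.mem_coe, exists_prop] at hr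
    obtain ⟨n, hn, hr⟩ := hr
    obtain ⟨k, rfl⟩ : ∃ k : ℕ, n = ((k + 1 : ℕ) : ℤ) := ⟨(n - 1).toNat, by omega⟩
    have h1 := eq_monomial_of_mem I (k + 1) r hr
    have h2 : (r : A[X]).coeff (k + 1) ∈ I ^ (k + 1) := r.2 (k + 1)
    have h3 : monomial (k + 1) ((r : A[X]).coeff (k + 1)) ∈ reesAlgebra I :=
      reesAlgebra.monomial_mem.mpr h2
    have h4 : r = ⟨monomial (k + 1) ((r : A[X]).coeff (k + 1)), h3⟩ := Subtype.ext h1
    rw [h4]
    exact monomial_mem_span I k _ h2 h3
  · apply Ideal.span_mono
    intro r hr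
    simp only [Set.mem_iUnion, Set.mem_Ioi, SetLike.mem_coe, exists_prop]
    exact ⟨1, one_pos, hr⟩

section Deg0

/-- the structure map `A → R(I)_0` -/
noncomputable def σ : A →+* GrLC.deg0 (gr I) :=
  (algebraMap A ↥(reesAlgebra I)).codRestrict (GrLC.deg0 (gr I)) (fun a => by
    intro m hm
    change (C a : A[X]).coeff m = 0
    rw [coeff_C, if_neg]
    intro h
    apply hm
    rw [h]
    rfl)

theorem σ_coe (a : A) : (((σ I a : GrLC.deg0 (gr I)) : ↥(reesAlgebra I)) : A[X]) = C a := rfl

theorem σ_surjective : Function.Surjective (σ I) := by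
  intro f
  refine ⟨(f.1 : A[X]).coeff 0, ?_⟩
  apply Subtype.ext
  apply Subtype.ext
  rw [σ_coe]
  have h := eq_monomial_of_mem I 0 f.1 f.2
  rw [h, coeff_monomial, if_pos rfl]
  rfl

instance : RingHomSurjective (σ I) := ⟨σ_surjective I⟩

/-- the ideal `I · R(I)_0` -/
noncomputable def J : Ideal (GrLC.deg0 (gr I)) := Ideal.map (σ I) I

theorem mem_J_iff (r : GrLC.deg0 (gr I)) : r ∈ J I ↔ ∃ a ∈ I, σ I a = r :=
  Ideal.mem_map_iff_of_surjective (σ I) (σ_surjective I)

variable [IsNoetherianRing A] [IsLocalRing A]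

/-- finitely generated `R(I)_0`-modules killed by `I` have finite length -/
theorem finLen_J (hI : I.radical = IsLocalRing.maximalIdeal A)
    (N : Type u) [AddCommGroup N] [Module (GrLC.deg0 (gr I)) N]
    [Module.Finite (GrLC.deg0 (gr I)) N] (h : ∀ r ∈ J I, ∀ z : N, r • z = 0) :
    Module.length (GrLC.deg0 (gr I)) N ≠ ⊤ := by
  letI : Module A N := Module.compHom N (σ I)
  let f : N →ₛₗ[σ I] N :=
    { toFun := id
      map_add' := fun _ _ => rfl
      map_smul' := fun _ _ => rfl }
  have hf : Function.Bijective f := Function.bijective_id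
  rw [← ReesLen.length_eq_of_semilinear (σ I) f hf]
  haveI : Module.Finite A N := by
    obtain ⟨s, hs⟩ := (Module.finite_def (R := GrLC.deg0 (gr I)) (M := N)).mp inferInstance
    refine ⟨⟨s, ?_⟩⟩
    rw [eq_top_iff]
    intro z _
    have h1 : (Submodule.span A (s : Set N)).map f =
        Submodule.span (GrLC.deg0 (gr I)) (f '' (s : Set N)) := Submodule.map_span f _
    have h2 : f '' (s : Set N) = (s : Set N) := Set.image_id _
    rw [h2, hs] at h1
    have h3 : z ∈ (Submodule.span A (s : Set N)).map f := by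
      rw [h1]
      trivial
    obtain ⟨w, hw, rfl⟩ := h3
    exact hw
  apply ReesLen.length_ne_top_of_killed I hI N
  intro r hr z
  exact h (σ I r) ((mem_J_iff I _).mpr ⟨r, hr, rfl⟩) z

end Deg0

section Mod

variable {I} {M : Type u} [AddCommGroup M] [Module A M] (F : I.Filtration M)

instance gsmulRees : SetLike.GradedSMul (gr I) (Rees.mdegZ F) :=
  gradedSMul_selfGr (Rees.degZ (reesAlgebra I)) (Rees.mdegZ F)

/-- the Rees module as a bundled graded module -/
noncomputable abbrev XG : GrLC.GMod.{u} (gr I) := GrLC.GMod.of (gr I) ↥F.submodule (Rees.mdegZ F)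

/-- the coefficient maps -/
def coeffHom (m : ℕ) : ↥F.submodule →+ M where
  toFun x := (x : PolynomialModule A M).coeff m
  map_zero' := by simp
  map_add' x y := by simp

theorem coeffHom_apply (m : ℕ) (x : F.submodule) :
    coeffHom F m x = (x : PolynomialModule A M).coeff m := rfl

theorem coeff_decompose (x : F.submodule) (i : ℤ) (m : ℕ) :
    (((DirectSum.decompose (Rees.mdegZ F) x i : Rees.mdegZ F i) : F.submodule) :
      PolynomialModule A M).coeff m =
      if (m : ℤ) = i then (x : PolynomialModule A M).coeff m else 0 := by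
  classical
  split_ifs with h
  · have hsum := DirectSum.sum_support_decompose (Rees.mdegZ F) x
    have h1 := congrArg (coeffHom F m) hsum
    rw [map_sum] at h1
    rw [← coeffHom_apply F m x, ← h1, Finset.sum_eq_single i]
    · rfl
    · intro j _ hj
      exact (DirectSum.decompose (Rees.mdegZ F) x j).2 m
        (show (m : ℤ) ≠ j by rw [h]; exact Ne.symm hj)
    · intro hi
      rw [DFinsupp.notMem_support_iff] at hi
      rw [hi]
      simp
  · exact (DirectSum.decompose (Rees.mdegZ F) x i).2 m h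

/-- the shifted filtration `n ↦ N_{n+1}` -/
def shiftFilt : I.Filtration M where
  N n := F.N (n + 1)
  mono n := F.mono (n + 1)
  smul_le n := F.smul_le (n + 1)

/-- `Y = ⊕ N_{n+1} Xⁿ` -/
noncomputable def Ysub : Submodule ↥(reesAlgebra I) ↥F.submodule :=
  (shiftFilt F).submodule.comap F.submodule.subtype

theorem mem_Ysub (x : F.submodule) :
    x ∈ Ysub F ↔ ∀ m, (x : PolynomialModule A M).coeff m ∈ F.N (m + 1) := Iff.rfl

/-- `X₊ = ⊕_{n ≥ 1} N_n Xⁿ` -/
def Mp : Submodule ↥(reesAlgebra I) ↥F.submodule where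
  carrier := {x | (x : PolynomialModule A M).coeff 0 = 0}
  zero_mem' := by simp
  add_mem' {x y} hx hy := by
    change ((x + y : F.submodule) : PolynomialModule A M).coeff 0 = 0
    rw [Submodule.coe_add, PolynomialModule.coeff_add, Finsupp.add_apply, hx, hy, add_zero]
  smul_mem' r x hx := by
    change ((r • x : F.submodule) : PolynomialModule A M).coeff 0 = 0
    rw [Submodule.coe_smul, Subalgebra.smul_def, PolynomialModule.smul_apply]
    have hx' : (x : PolynomialModule A M).coeff 0 = 0 := hx
    simp [hx']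

theorem mem_Mp (x : F.submodule) : x ∈ Mp F ↔ (x : PolynomialModule A M).coeff 0 = 0 := Iff.rfl

theorem Ysub_homogeneous : (Ysub F).IsHomogeneous (Rees.mdegZ F) := by
  intro i x hx
  rw [mem_Ysub] at hx ⊢
  intro m
  rw [coeff_decompose]
  split_ifs
  · exact hx m
  · exact zero_mem _

theorem Mp_homogeneous : (Mp F).IsHomogeneous (Rees.mdegZ F) := by
  intro i x hx
  rw [mem_Mp] at hx ⊢
  rw [coeff_decompose]
  split_ifs
  · exact hx
  · rfl

theorem coeff_X_smul (g : PolynomialModule A M) (n : ℕ) :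
    ((X : A[X]) • g).coeff n = if 1 ≤ n then g.coeff (n - 1) else 0 := by
  have h := PolynomialModule.monomial_smul_apply 1 (1 : A) g n
  rw [Polynomial.monomial_one_one_eq_X] at h
  rw [h]
  split_ifs
  · rw [one_smul]
  · rfl

theorem coeff_X_smul_succ (g : PolynomialModule A M) (n : ℕ) :
    ((X : A[X]) • g).coeff (n + 1) = g.coeff n := by
  rw [coeff_X_smul, if_pos (by omega), Nat.add_sub_cancel]

theorem coeff_X_smul_zero (g : PolynomialModule A M) : ((X : A[X]) • g).coeff 0 = 0 := by
  rw [coeff_X_smul, if_neg (by omega)]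

theorem X_smul_mem (y : F.submodule) (hy : y ∈ Ysub F) :
    (X : A[X]) • (y : PolynomialModule A M) ∈ F.submodule := by
  intro n
  cases n with
  | zero => rw [coeff_X_smul_zero]; exact zero_mem _
  | succ k => rw [coeff_X_smul_succ]; exact (mem_Ysub F y).mp hy k

/-- multiplication by the variable, `Y → X₊` -/
noncomputable def mulX : ↥(Ysub F) →ₗ[↥(reesAlgebra I)] ↥(Mp F) where
  toFun y := ⟨⟨(X : A[X]) • ((y : F.submodule) : PolynomialModule A M), X_smul_mem F y.1 y.2⟩,
    coeff_X_smul_zero _⟩
  map_add' y z := by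
    apply Subtype.ext
    apply Subtype.ext
    change (X : A[X]) • (((y + z : Ysub F) : F.submodule) : PolynomialModule A M) =
      (X : A[X]) • ((y : F.submodule) : PolynomialModule A M) +
        (X : A[X]) • ((z : F.submodule) : PolynomialModule A M)
    rw [Submodule.coe_add, Submodule.coe_add, smul_add]
  map_smul' r y := by
    apply Subtype.ext
    apply Subtype.ext
    change (X : A[X]) • (((r • y : Ysub F) : F.submodule) : PolynomialModule A M) =
      ((r • (⟨(X : A[X]) • ((y : F.submodule) : PolynomialModule A M), X_smul_mem F y.1 y.2⟩ :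
        F.submodule) : F.submodule) : PolynomialModule A M)
    rw [Submodule.coe_smul, Submodule.coe_smul, Submodule.coe_smul, Subalgebra.smul_def,
      Subalgebra.smul_def, smul_smul, smul_smul, mul_comm]

theorem mulX_coe (y : Ysub F) :
    (((mulX F y : Mp F) : F.submodule) : PolynomialModule A M) =
      (X : A[X]) • ((y : F.submodule) : PolynomialModule A M) := rfl

theorem mulX_injective : Function.Injective (mulX F) := by
  intro y y' hy
  apply Subtype.ext
  apply Subtype.ext
  apply PolynomialModule.ext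
  apply Finsupp.ext
  intro n
  have h1 : (((mulX F y : Mp F) : F.submodule) : PolynomialModule A M).coeff (n + 1) =
      (((mulX F y' : Mp F) : F.submodule) : PolynomialModule A M).coeff (n + 1) := by
    rw [hy]
  rw [mulX_coe, mulX_coe, coeff_X_smul_succ, coeff_X_smul_succ] at h1
  exact h1

theorem mulX_surjective : Function.Surjective (mulX F) := by
  intro z
  have hinj : Set.InjOn Nat.succ (Nat.succ ⁻¹' ↑((z : F.submodule) : PolynomialModule A M).coeff.support) :=
    fun _ _ _ _ h => Nat.succ_injective h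
  let y₀ : PolynomialModule A M :=
    PolynomialModule.ofCoeff A
      (Finsupp.comapDomain Nat.succ ((z : F.submodule) : PolynomialModule A M).coeff hinj)
  have hy₀ : ∀ n, y₀.coeff n = ((z : F.submodule) : PolynomialModule A M).coeff (n + 1) := by
    intro n
    rfl
  have hmem : y₀ ∈ F.submodule := by
    intro n
    rw [hy₀]
    exact F.mono n ((z : F.submodule).2 (n + 1))
  have hmemY : (⟨y₀, hmem⟩ : F.submodule) ∈ Ysub F := by
    rw [mem_Ysub]
    intro n
    change y₀.coeff n ∈ F.N (n + 1)
    rw [hy₀]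
    exact (z : F.submodule).2 (n + 1)
  refine ⟨⟨⟨y₀, hmem⟩, hmemY⟩, ?_⟩
  apply Subtype.ext
  apply Subtype.ext
  apply PolynomialModule.ext
  apply Finsupp.ext
  intro n
  rw [mulX_coe]
  cases n with
  | zero => rw [coeff_X_smul_zero]; exact ((mem_Mp F z.1).mp z.2).symm
  | succ k => rw [coeff_X_smul_succ]; exact hy₀ k

/-- the degree-one isomorphism `Y ≃ X₊` -/
noncomputable def φ : ↥(Ysub F) ≃ₗ[↥(reesAlgebra I)] ↥(Mp F) :=
  LinearEquiv.ofBijective (mulX F) ⟨mulX_injective F, mulX_surjective F⟩

theorem φ_deg (n : ℤ) (y : Ysub F) (hy : (y : F.submodule) ∈ Rees.mdegZ F n) :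
    ((φ F y : Mp F) : F.submodule) ∈ Rees.mdegZ F (n + 1) := by
  intro m hm
  change (((mulX F y : Mp F) : F.submodule) : PolynomialModule A M).coeff m = 0
  rw [mulX_coe]
  cases m with
  | zero => exact coeff_X_smul_zero _
  | succ k =>
    rw [coeff_X_smul_succ]
    apply hy k
    intro h
    apply hm
    change ((k + 1 : ℕ) : ℤ) = n + 1
    have h' : (k : ℤ) = n := h
    rw [← h']
    push_cast
    rfl

theorem coeff_C_smul (a : A) (g : PolynomialModule A M) (m : ℕ) :
    ((C a : A[X]) • g).coeff m = a • g.coeff m := by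
  have h := PolynomialModule.monomial_smul_apply 0 a g m
  rw [Polynomial.monomial_zero_left] at h
  rw [h, if_pos (Nat.zero_le m), Nat.sub_zero]

theorem hJY : ∀ r ∈ J I, ∀ z : F.submodule, (r : ↥(reesAlgebra I)) • z ∈ Ysub F := by
  intro r hr z
  obtain ⟨a, ha, rfl⟩ := (mem_J_iff I r).mp hr
  rw [mem_Ysub]
  intro m
  rw [Submodule.coe_smul, Subalgebra.smul_def, σ_coe, coeff_C_smul]
  exact F.smul_le m (Submodule.smul_mem_smul ha ((z : F.submodule).2 m))

theorem hkill : ∀ j : ℤ, 0 < j → ∀ r ∈ gr I j, ∀ z : F.submodule, r • z ∈ Mp F := by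
  intro j hj r hr z
  rw [mem_Mp, Submodule.coe_smul, Subalgebra.smul_def, PolynomialModule.smul_apply]
  have h0 : (r : A[X]).coeff 0 = 0 := (mem_gr_iff I j r).mp hr 0 (by
    intro h
    have : (0 : ℤ) = j := h
    omega)
  simp [h0]

theorem hge : ∀ n : ℤ, 1 ≤ n → ∀ z ∈ Rees.mdegZ F n, z ∈ Mp F := by
  intro n hn z hz
  rw [mem_Mp]
  exact hz 0 (by
    intro h
    have : (0 : ℤ) = n := h
    omega)

end Mod

end Groth.Agent.H85.ReesGr
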