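import Mathlib
import Groth.Agent.H85.ReesGr
import Groth.Agent.H85.ReesAbs2

/-!
# The Hilbert–Samuel function and the graded local cohomology of the Rees module (helper85)
-/

set_option autoImplicit false
set_option linter.unusedSectionVars false
set_option linter.unusedVariables false

universe u

namespace Groth.Agent.H85.ReesMain

open Polynomial Groth.Agent.H98.GrStar Groth.Agent.H85.GrConv Groth.Agent.H85.ReesGr
  Groth.Agent.H85.ReesAbs

variable {A : Type u} [CommRing A] [IsNoetherianRing A] {I : Ideal A}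
  {M : Type u} [AddCommGroup M] [Module A M] (F : I.Filtration M)

/-- the associated graded module `X/Y` -/
noncomputable abbrev GG : GrLC.GMod.{u} (gr I) := quotG (XG F) (Ysub F) (Ysub_homogeneous F)

theorem σ_smul (a : A) (x : F.submodule) :
    ((σ I a : GrLC.deg0 (gr I)) : ↥(reesAlgebra I)) • x = a • x := by
  apply Subtype.ext
  rw [Submodule.coe_smul, Subalgebra.smul_def, σ_coe, Submodule.coe_smul_of_tower,
    Polynomial.C_eq_algebraMap, IsScalarTower.algebraMap_smul]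

/-- `N_n → X`, `m ↦ m Xⁿ` -/
noncomputable def eHom (n : ℕ) : ↥(F.N n) →+ ↥F.submodule where
  toFun m := ((Rees.mdegEquiv F n m : Rees.mdeg F n) : F.submodule)
  map_zero' := by rw [map_zero]; rfl
  map_add' m m' := by rw [map_add]; rfl

theorem eHom_apply (n : ℕ) (m : F.N n) :
    eHom F n m = ((Rees.mdegEquiv F n m : Rees.mdeg F n) : F.submodule) := rfl

theorem eHom_smul (n : ℕ) (a : A) (m : F.N n) :
    eHom F n (a • m) = ((σ I a : GrLC.deg0 (gr I)) : ↥(reesAlgebra I)) • eHom F n m := by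
  rw [σ_smul, eHom_apply, eHom_apply, Rees.mdegEquiv_smul]

theorem eHom_mem (n : ℕ) (m : F.N n) : eHom F n m ∈ Rees.mdegZ F n :=
  (Rees.mem_mdegZ_natCast_iff F n _).mpr (Rees.mdegEquiv F n m).2

theorem eHom_surj (n : ℕ) (x : F.submodule) (hx : x ∈ Rees.mdegZ F n) : ∃ m, eHom F n m = x := by
  have hx' : x ∈ Rees.mdeg F n := (Rees.mem_mdegZ_natCast_iff F n x).mp hx
  refine ⟨(Rees.mdegEquiv F n).symm ⟨x, hx'⟩, ?_⟩
  rw [eHom_apply, AddEquiv.apply_symm_apply]

theorem eHom_coeff (n : ℕ) (m : F.N n) (k : ℕ) :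
    ((eHom F n m : F.submodule) : PolynomialModule A M).coeff k = if n = k then (m : M) else 0 := by
  change (PolynomialModule.single A n (m : M)).coeff k = _
  rw [PolynomialModule.coeff_single, Finsupp.single_apply]

theorem eHom_mem_Ysub (n : ℕ) (m : F.N n) :
    eHom F n m ∈ Ysub F ↔ m ∈ (F.N (n + 1)).comap (F.N n).subtype := by
  rw [mem_Ysub]
  constructor
  · intro h
    have := h n
    rwa [eHom_coeff, if_pos rfl] at this
  · intro h k
    rw [eHom_coeff]
    split_ifs with hk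
    · rw [← hk]
      exact h
    · exact zero_mem _

/-- the Hilbert function of the associated graded module -/
theorem length_comp_GG (n : ℕ) :
    Module.length (GrLC.deg0 (gr I)) (GrLC.comp (gr I) (GG F).gr (n : ℤ)) =
      Module.length A (↥(F.N n) ⧸ (F.N (n + 1)).comap (F.N n).subtype) :=
  length_comp_quotG (XG F) (Ysub F) (Ysub_homogeneous F) (σ I)
    ((F.N (n + 1)).comap (F.N n).subtype) (n : ℤ) (eHom F n) (eHom_smul F n) (eHom_mem F n)
    (eHom_surj F n) (eHom_mem_Ysub F n)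

section Final

open Groth.Agent.H85.Serre Groth.Agent.H85.RelSerre

variable [IsLocalRing A] (I) (hI : I.radical = IsLocalRing.maximalIdeal A)
  (M) [Module.Finite A M]

instance finite_XG : Module.Finite ↥(reesAlgebra I) (XG (Rees.powFilt I M)).carrier := by
  haveI : IsNoetherian A M := isNoetherian_of_isNoetherianRing_of_finite A M
  have hstab := Ideal.stableFiltration_stable I (⊤ : Submodule A M)
  have hfg : (Rees.powFilt I M).submodule.FG :=
    (Ideal.Filtration.submodule_fg_iff_stable _ (fun i => IsNoetherian.noetherian _)).mpr hstab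
  exact Module.Finite.iff_fg.mpr hfg

/-- the irrelevant ideal of the Rees algebra has finite cohomological dimension -/
theorem exists_cd : ∃ d : ℕ, ∀ (X : GrLC.GMod.{u} (gr I)) (E : GrLC.StarInjRes (gr I) X.gr)
    (i : ℕ), d < i → Subsingleton (E.H (irr I) i) := by
  obtain ⟨d, hd⟩ := Groth.Agent.H58.LC.exists_cdLE (irr I).toIdeal
  refine ⟨d, fun X E i hi => ?_⟩
  have := hd X.carrier i hi
  exact (θ E (irr I) i).toEquiv.subsingleton

/-- the difference of the Hilbert–Samuel polynomial and function -/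
noncomputable def fHS (P : Polynomial ℚ) (k : ℤ) : ℚ :=
  P.eval (k : ℚ) - ((Module.length A (M ⧸ (I ^ k.toNat • (⊤ : Submodule A M)))).toNat : ℚ)

include hI in
theorem length_comp_GG_pow (j : ℕ) :
    ((Module.length (GrLC.deg0 (gr I))
      (GrLC.comp (gr I) (GG (Rees.powFilt I M)).gr (j : ℤ))).toNat : ℚ) =
      ((Module.length A (M ⧸ (I ^ (j + 1) • (⊤ : Submodule A M)))).toNat : ℚ) -
        ((Module.length A (M ⧸ (I ^ j • (⊤ : Submodule A M)))).toNat : ℚ) := by
  rw [length_comp_GG]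
  exact ReesLen.length_grPiece I hI M j

include hI in
/-- **the main theorem**, for a resolution over the additive-subgroup grading -/
theorem main (P : Polynomial ℚ)
    (hP : ∃ N : ℕ, ∀ n : ℕ, N ≤ n →
      P.eval (n : ℚ) = ((Module.length A (M ⧸ (I ^ n • (⊤ : Submodule A M)))).toNat : ℚ))
    (E : GrLC.StarInjRes (gr I) (Rees.mdegZ (Rees.powFilt I M))) :
    ∃ d : ℕ, (∀ i : ℕ, d < i → Subsingleton (E.H (irr I) i)) ∧ ∀ n : ℕ,
      (∀ i : ℕ, Module.length (GrLC.deg0 (gr I)) (E.Hcomp (irr I) i (n : ℤ)) ≠ ⊤) ∧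
      P.eval (n : ℚ) - ((Module.length A (M ⧸ (I ^ n • (⊤ : Submodule A M)))).toNat : ℚ) =
        ((chi (irr I) E d (n : ℤ) : ℤ) : ℚ) := by
  obtain ⟨d, hd⟩ := exists_cd I
  refine ⟨d, fun i hi => hd (XG (Rees.powFilt I M)) E i hi, fun n => ?_⟩
  obtain ⟨N₀, hN₀⟩ := hP
  have hJ : FinLen (J I) := fun N _ _ _ h => finLen_J I hI N h
  refine ⟨fun i => length_Hcomp_ne_top' (hpos I) (irr I) (irr_toIdeal I) (J I) hJ d hd
    (XG (Rees.powFilt I M)) (Ysub _) (Mp _) (Ysub_homogeneous _) (Mp_homogeneous _) (φ _)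
    (φ_deg _) (hJY _) (hkill _) (hge _) E (n : ℤ) (by omega) i, ?_⟩
  set PG : Polynomial ℚ := P.comp (Polynomial.X + 1) - P with hPGdef
  have hPGeval : ∀ j : ℕ, PG.eval (j : ℚ) = P.eval ((j + 1 : ℕ) : ℚ) - P.eval (j : ℚ) := by
    intro j
    rw [hPGdef, Polynomial.eval_sub, Polynomial.eval_comp]
    simp
  have hPG : ∃ N : ℤ, ∀ k : ℤ, N ≤ k → PG.eval (k : ℚ) =
      ((Module.length (GrLC.deg0 (gr I))
        (GrLC.comp (gr I) (GG (Rees.powFilt I M)).gr k)).toNat : ℚ) := by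
    refine ⟨(N₀ : ℤ), fun k hk => ?_⟩
    obtain ⟨j, rfl⟩ : ∃ j : ℕ, k = (j : ℤ) := ⟨k.toNat, by omega⟩
    have hj : N₀ ≤ j := by exact_mod_cast hk
    rw [length_comp_GG_pow (I := I) hI (M := M) j, ← hN₀ (j + 1) (by omega), ← hN₀ j hj]
    rw [Int.cast_natCast]
    exact hPGeval j
  have hf0 : ∃ N : ℤ, ∀ k : ℤ, N ≤ k → fHS I M P k = 0 := by
    refine ⟨(N₀ : ℤ), fun k hk => ?_⟩
    obtain ⟨j, rfl⟩ : ∃ j : ℕ, k = (j : ℤ) := ⟨k.toNat, by omega⟩
    have hj : N₀ ≤ j := by exact_mod_cast hk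
    unfold fHS
    rw [Int.toNat_natCast, Int.cast_natCast, hN₀ j hj, sub_self]
  have hfd : ∀ k : ℤ, 0 ≤ k → fHS I M P k - fHS I M P (k + 1) =
      ((Module.length (GrLC.deg0 (gr I))
        (GrLC.comp (gr I) (GG (Rees.powFilt I M)).gr k)).toNat : ℚ) - PG.eval (k : ℚ) := by
    intro k hk
    obtain ⟨j, rfl⟩ : ∃ j : ℕ, k = (j : ℤ) := ⟨k.toNat, by omega⟩
    rw [length_comp_GG_pow (I := I) hI (M := M) j, Int.cast_natCast, hPGeval j]
    unfold fHS
    have h1 : ((j : ℤ) + 1).toNat = j + 1 := by omega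
    rw [h1, Int.toNat_natCast]
    push_cast
    ring
  have hmain := chi_eq_of_diff (hpos I) (irr I) (irr_toIdeal I) (J I) hJ d hd
    (XG (Rees.powFilt I M)) (Ysub _) (Mp _) (Ysub_homogeneous _) (Mp_homogeneous _) (φ _)
    (φ_deg _) (hJY _) (hkill _) (hge _) (hstd I) E PG hPG (fHS I M P) hf0 hfd (n : ℤ) (by omega)
  refine Eq.trans ?_ hmain
  unfold fHS
  rw [Int.toNat_natCast, Int.cast_natCast]

end Final

end Groth.Agent.H85.ReesMain
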