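import Mathlib

/-!
# Regular sequences generating the same ideal (Noetherian local ring) are connected by
permutations and changes of the last element (helper for S3140)
-/

set_option autoImplicit false
set_option linter.unusedSectionVars false

open RingTheory.Sequence IsLocalRing

namespace Groth.Agent.H85.RegSeqChain

variable {A : Type*} [CommRing A]

/-- Elements of `K` act as zero on `A ⧸ K • ⊤`. -/
theorem smul_quot_eq_zero (K : Ideal A) {t : A} (ht : t ∈ K)
    (m : A ⧸ (K • ⊤ : Submodule A A)) : t • m = 0 := by
  obtain ⟨a, rfl⟩ := Submodule.Quotient.mk_surjective _ m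
  rw [← Submodule.Quotient.mk_smul, Submodule.Quotient.mk_eq_zero]
  exact Submodule.smul_mem_smul ht Submodule.mem_top

/-- (Z) If `y ∈ K` is regular on `A ⧸ K • ⊤` then `K = ⊤`. -/
theorem eq_top_of_regular_of_mem (K : Ideal A) {y : A} (hy : y ∈ K)
    (hreg : IsSMulRegular (A ⧸ (K • ⊤ : Submodule A A)) y) : (K • ⊤ : Submodule A A) = ⊤ := by
  have h1 : y • (Submodule.Quotient.mk 1 : A ⧸ (K • ⊤ : Submodule A A)) = y • 0 := by
    rw [smul_zero, smul_quot_eq_zero K hy]
  have h2 := hreg h1
  rw [Submodule.Quotient.mk_eq_zero] at h2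
  rw [Submodule.eq_top_iff']
  intro a
  have : a = a • (1 : A) := by simp
  rw [this]
  exact Submodule.smul_mem _ _ h2

/-- (R1') Changing the last element within the same ideal preserves regularity. -/
theorem isSMulRegular_of_mem_sup (K : Ideal A) {x y : A}
    (hx : IsSMulRegular (A ⧸ (K • ⊤ : Submodule A A)) x) (hxy : x ∈ K ⊔ Ideal.span {y}) :
    IsSMulRegular (A ⧸ (K • ⊤ : Submodule A A)) y := by
  rw [isSMulRegular_iff_right_eq_zero_of_smul]
  intro m hm
  obtain ⟨t, ht, z, hz, rfl⟩ := Submodule.mem_sup.mp hxy
  obtain ⟨d, rfl⟩ := Ideal.mem_span_singleton'.mp hz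
  apply hx.right_eq_zero_of_smul
  rw [add_smul, smul_quot_eq_zero K ht, zero_add, mul_smul, hm, smul_zero]

theorem isRegular_change_last (l : List A) {x y : A} (h : IsRegular A (l ++ [x]))
    (hI : Ideal.ofList (l ++ [y]) = Ideal.ofList (l ++ [x])) : IsRegular A (l ++ [y]) := by
  obtain ⟨hw, htop⟩ := h
  rw [isWeaklyRegular_append_iff, isWeaklyRegular_singleton_iff] at hw
  refine ⟨?_, ?_⟩
  · rw [isWeaklyRegular_append_iff, isWeaklyRegular_singleton_iff]
    refine ⟨hw.1, isSMulRegular_of_mem_sup _ hw.2 ?_⟩
    have : x ∈ Ideal.ofList (l ++ [x]) := Ideal.subset_span (by simp)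
    rw [← hI, Ideal.ofList_append, Ideal.ofList_singleton] at this
    exact this
  · rw [hI]; exact htop

section Local

variable [IsLocalRing A] [IsNoetherianRing A]

/-- (R2) In a regular sequence, no element lies in the ideal of the others plus `𝔪 I`. -/
theorem not_mem_of_isRegular (l₁ l₂ : List A) (x : A) (h : IsRegular A (l₁ ++ x :: l₂)) :
    x ∉ Ideal.ofList (l₁ ++ l₂) ⊔ maximalIdeal A • Ideal.ofList (l₁ ++ x :: l₂) := by
  have hperm : (l₁ ++ x :: l₂).Perm ((l₁ ++ l₂) ++ [x]) :=
    List.perm_middle.trans (List.perm_append_singleton _ _).symm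
  have h' := IsLocalRing.isRegular_of_perm h hperm
  obtain ⟨hw, htop⟩ := h'
  rw [isWeaklyRegular_append_iff, isWeaklyRegular_singleton_iff] at hw
  have hfull : Ideal.ofList (l₁ ++ x :: l₂) = Ideal.ofList (l₁ ++ l₂) ⊔ Ideal.span {x} := by
    rw [Ideal.ofList_append, Ideal.ofList_cons, Ideal.ofList_append, sup_left_comm, sup_comm]
  have hle : Ideal.ofList (l₁ ++ l₂) ≤ Ideal.ofList (l₁ ++ l₂ ++ [x]) := by
    rw [Ideal.ofList_append (l₁ ++ l₂)]; exact le_sup_left
  generalize Ideal.ofList (l₁ ++ l₂) = K at hw hfull hle ⊢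
  intro hmem
  rw [hfull, smul_eq_mul, Ideal.mul_sup] at hmem
  obtain ⟨t, ht, s, hs, hts⟩ := Submodule.mem_sup.mp hmem
  obtain ⟨s₁, hs₁, s₂, hs₂, hss⟩ := Submodule.mem_sup.mp hs
  obtain ⟨m, hm, hmx⟩ := Ideal.mem_mul_span_singleton.mp hs₂
  have hs₁K : s₁ ∈ K := (Ideal.mul_le_left : K * maximalIdeal A ≤ K) (by rwa [mul_comm] at hs₁)
  have hunit : IsUnit (1 - m) := by
    by_contra hnu
    have h1 : 1 - m ∈ maximalIdeal A := hnu
    have := Ideal.add_mem _ h1 hm
    rw [sub_add_cancel] at this
    exact (Ideal.ne_top_iff_one _).mp (maximalIdeal.isMaximal A).ne_top this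
  have hxK : x ∈ K := by
    have h2 : (1 - m) * x ∈ K := by
      have : (1 - m) * x = t + s₁ := by
        rw [← hss, ← hmx] at hts
        linear_combination -hts
      rw [this]; exact K.add_mem ht hs₁K
    obtain ⟨w, hw'⟩ := hunit
    have : x = (↑w⁻¹ : A) * ((1 - m) * x) := by
      rw [← mul_assoc, ← hw', Units.inv_mul, one_mul]
    rw [this]; exact K.mul_mem_left _ h2
  have h3 := eq_top_of_regular_of_mem K hxK hw.2
  apply htop
  rw [eq_comm, eq_top_iff]
  exact h3.symm.le.trans (Submodule.smul_mono_left hle)

/-- Exchange lemma. -/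
theorem exchange (J : Ideal A) (r : List A) : ∀ x : A, x ∈ J ⊔ Ideal.ofList r →
    x ∈ J ⊔ maximalIdeal A • Ideal.ofList r ∨
    ∃ r₁ y r₂, r = r₁ ++ y :: r₂ ∧ y ∈ J ⊔ Ideal.span {x} ⊔ Ideal.ofList (r₁ ++ r₂) := by
  induction r with
  | nil =>
    intro x hx
    left
    rw [Ideal.ofList_nil, sup_bot_eq] at hx
    exact Submodule.mem_sup_left hx
  | cons y r' ih =>
    intro x hx
    rw [Ideal.ofList_cons] at hx ⊢
    obtain ⟨j, hj, z, hz, hxz⟩ := Submodule.mem_sup.mp hx
    obtain ⟨z₁, hz₁, s, hs, hzs⟩ := Submodule.mem_sup.mp hz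
    obtain ⟨b, hbz⟩ := Ideal.mem_span_singleton'.mp hz₁
    have hxeq : x = j + (b * y + s) := by rw [hbz, hzs, hxz]
    by_cases hb : IsUnit b
    · right
      refine ⟨[], y, r', rfl, ?_⟩
      obtain ⟨w, hw⟩ := hb
      have hy : y = (↑w⁻¹ : A) * x + (-(↑w⁻¹ : A) * j) + (-(↑w⁻¹ : A) * s) := by
        have h1 : (↑w⁻¹ : A) * ↑w = 1 := Units.inv_mul w
        rw [hxeq, ← hw]
        linear_combination (-y) * h1
      rw [List.nil_append]
      rw [hy]
      refine Ideal.add_mem _ (Ideal.add_mem _ ?_ ?_) ?_
      · exact Submodule.mem_sup_left (Submodule.mem_sup_right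
          (Ideal.mul_mem_left _ _ (Ideal.mem_span_singleton_self _)))
      · exact Submodule.mem_sup_left (Submodule.mem_sup_left (Ideal.mul_mem_left _ _ hj))
      · exact Submodule.mem_sup_right (Ideal.mul_mem_left _ _ hs)
    · have hbm : b ∈ maximalIdeal A := hb
      have hx' : j + s ∈ J ⊔ Ideal.ofList r' :=
        Ideal.add_mem _ (Submodule.mem_sup_left hj) (Submodule.mem_sup_right hs)
      rcases ih (j + s) hx' with h | ⟨r₁, z', r₂, hr, hzmem⟩
      · left
        have h1 : b * y ∈ maximalIdeal A • (Ideal.span {y} ⊔ Ideal.ofList r') :=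
          Submodule.smul_mem_smul hbm (Submodule.mem_sup_left (Ideal.mem_span_singleton_self _))
        have h2 : J ⊔ maximalIdeal A • Ideal.ofList r'
            ≤ J ⊔ maximalIdeal A • (Ideal.span {y} ⊔ Ideal.ofList r') :=
          sup_le_sup_left (Submodule.smul_mono le_rfl le_sup_right) _
        have : x = (j + s) + b * y := by rw [hxeq]; ring
        rw [this]
        exact Ideal.add_mem _ (h2 h) (Submodule.mem_sup_right h1)
      · right
        refine ⟨y :: r₁, z', r₂, by rw [hr]; rfl, ?_⟩
        have hle : J ⊔ Ideal.span {j + s} ⊔ Ideal.ofList (r₁ ++ r₂)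
            ≤ J ⊔ Ideal.span {x} ⊔ Ideal.ofList (y :: r₁ ++ r₂) := by
          rw [List.cons_append, Ideal.ofList_cons]
          refine sup_le (sup_le (le_sup_of_le_left le_sup_left) ?_)
            (le_sup_of_le_right le_sup_right)
          rw [Ideal.span_singleton_le_iff_mem]
          have : j + s = x + (-b) * y := by rw [hxeq]; ring
          rw [this]
          refine Ideal.add_mem _ ?_ ?_
          · exact Submodule.mem_sup_left (Submodule.mem_sup_right
              (Ideal.mem_span_singleton_self _))
          · exact Submodule.mem_sup_right (Submodule.mem_sup_left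
              (Ideal.mul_mem_left _ _ (Ideal.mem_span_singleton_self _)))
        exact hle hzmem

/-- A regular sequence generating `I`. -/
def Good (I : Ideal A) (w : List A) : Prop := IsRegular A w ∧ Ideal.span {x | x ∈ w} = I

/-- Elementary step: a permutation or a change of the last element. -/
def Step (w w' : List A) : Prop :=
  w.Perm w' ∨ (w.length = w'.length ∧ w.dropLast = w'.dropLast)

/-- `u` and `w` are connected by a chain of elementary steps through good sequences. -/
def Conn (I : Ideal A) (u w : List A) : Prop :=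
  ∃ ws : List (List A), ws.head? = some u ∧ ws.getLast? = some w ∧
    (∀ x ∈ ws, Good I x) ∧ List.IsChain Step ws

theorem Conn.refl {I : Ideal A} {u : List A} (h : Good I u) : Conn I u u :=
  ⟨[u], rfl, rfl, by simpa using h, List.isChain_singleton _⟩

theorem Conn.tail {I : Ideal A} {u w w' : List A} (h : Conn I u w) (hs : Step w w')
    (hg : Good I w') : Conn I u w' := by
  obtain ⟨ws, h1, h2, h3, h4⟩ := h
  have hne : ws ≠ [] := by
    rintro rfl
    simp at h1
  refine ⟨ws ++ [w'], ?_, ?_, ?_, ?_⟩
  · rw [List.head?_append_of_ne_nil _ hne, h1]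
  · simp
  · intro x hx
    rcases List.mem_append.mp hx with hx | hx
    · exact h3 x hx
    · rw [List.mem_singleton] at hx
      rw [hx]; exact hg
  · rw [List.isChain_append]
    refine ⟨h4, List.isChain_singleton _, ?_⟩
    intro x hx y hy
    rw [h2] at hx
    simp only [Option.mem_def, Option.some.injEq] at hx
    simp only [List.head?_cons, Option.mem_def, Option.some.injEq] at hy
    rw [← hx, ← hy]; exact hs

theorem ofList_perm {l l' : List A} (h : l.Perm l') : Ideal.ofList l = Ideal.ofList l' :=
  congrArg Ideal.span (Set.ext fun _ => h.mem_iff)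

theorem main (u v : List A) (hu : IsRegular A u) (hv : IsRegular A v)
    (huv : Ideal.ofList u = Ideal.ofList v) : Conn (Ideal.ofList u) u v := by
  set I := Ideal.ofList u with hI
  have hP : ∀ k : ℕ, k ≤ v.length → ∃ r : List A, Conn I u (v.take k ++ r) ∧
      Good I (v.take k ++ r) := by
    intro k
    induction k with
    | zero =>
      intro _
      refine ⟨u, ?_, ?_⟩
      · rw [List.take_zero, List.nil_append]; exact Conn.refl ⟨hu, rfl⟩
      · rw [List.take_zero, List.nil_append]; exact ⟨hu, rfl⟩
    | succ k ih =>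
      intro hk
      obtain ⟨r, hconn, hgood⟩ := ih (by omega)
      have hklt : k < v.length := by omega
      set x := v[k] with hx
      have hvsplit : v = v.take k ++ x :: v.drop (k + 1) := by
        rw [hx, ← List.drop_eq_getElem_cons hklt, List.take_append_drop]
      have hxI : x ∈ Ideal.ofList (v.take k) ⊔ Ideal.ofList r := by
        rw [← Ideal.ofList_append]
        have h1 : Ideal.ofList (v.take k ++ r) = I := hgood.2
        rw [h1, huv]
        exact Ideal.subset_span (List.getElem_mem hklt)
      rcases exchange (Ideal.ofList (v.take k)) r x hxI with hA | ⟨r₁, y, r₂, hr, hy⟩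
      · exfalso
        have hv' : IsRegular A (v.take k ++ x :: v.drop (k + 1)) := by rw [← hvsplit]; exact hv
        apply not_mem_of_isRegular _ _ _ hv'
        rw [← hvsplit]
        have hle1 : Ideal.ofList (v.take k) ≤ Ideal.ofList (v.take k ++ v.drop (k + 1)) := by
          rw [Ideal.ofList_append]; exact le_sup_left
        have hle2 : maximalIdeal A • Ideal.ofList r ≤ maximalIdeal A • Ideal.ofList v := by
          apply Submodule.smul_mono le_rfl
          have h1 : Ideal.ofList (v.take k ++ r) = I := hgood.2
          rw [← huv, ← h1, Ideal.ofList_append]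
          exact le_sup_right
        have hle : Ideal.ofList (v.take k) ⊔ maximalIdeal A • Ideal.ofList r
            ≤ Ideal.ofList (v.take k ++ v.drop (k + 1)) ⊔ maximalIdeal A • Ideal.ofList v :=
          sup_le_sup hle1 hle2
        exact hle hA
      · set L := v.take k ++ (r₁ ++ r₂) with hL
        have hperm1 : (v.take k ++ r).Perm (L ++ [y]) := by
          rw [hr, hL, List.append_assoc]
          exact List.Perm.append_left _
            (List.perm_middle.trans (List.perm_append_singleton _ _).symm)
        have hg1 : Good I (L ++ [y]) :=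
          ⟨IsLocalRing.isRegular_of_perm hgood.1 hperm1, by
            have := ofList_perm hperm1
            rw [← hgood.2]; exact this.symm⟩
        have hJL : Ideal.ofList (v.take k) ≤ Ideal.ofList L := by
          rw [hL, Ideal.ofList_append]; exact le_sup_left
        have hrL : Ideal.ofList (r₁ ++ r₂) ≤ Ideal.ofList L := by
          rw [hL, Ideal.ofList_append (v.take k)]; exact le_sup_right
        have hI1 : Ideal.ofList (L ++ [y]) = I := hg1.2
        have hxI' : x ∈ I := by
          rw [huv]; exact Ideal.subset_span (List.getElem_mem hklt)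
        have hI2 : Ideal.ofList (L ++ [x]) = Ideal.ofList (L ++ [y]) := by
          apply le_antisymm
          · rw [Ideal.ofList_append L [x], hI1, Ideal.ofList_singleton]
            refine sup_le ?_ ((Ideal.span_singleton_le_iff_mem _).mpr hxI')
            rw [← hI1, Ideal.ofList_append L [y]]; exact le_sup_left
          · rw [Ideal.ofList_append L [y], Ideal.ofList_append L [x], Ideal.ofList_singleton,
              Ideal.ofList_singleton]
            refine sup_le le_sup_left ((Ideal.span_singleton_le_iff_mem _).mpr ?_)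
            refine (sup_le (sup_le (hJL.trans le_sup_left) le_sup_right)
              (hrL.trans le_sup_left)) hy
        have hg2 : Good I (L ++ [x]) :=
          ⟨isRegular_change_last L hg1.1 hI2, hI2.trans hI1⟩
        have hstep2 : Step (L ++ [y]) (L ++ [x]) := by
          right
          simp
        have htake : v.take (k + 1) = v.take k ++ [x] := by
          rw [hx, List.take_succ_eq_append_getElem hklt]
        have hperm3 : (L ++ [x]).Perm (v.take (k + 1) ++ (r₁ ++ r₂)) := by
          have e1 : L ++ [x] = v.take k ++ ((r₁ ++ r₂) ++ [x]) := by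
            rw [hL, List.append_assoc]
          have e2 : v.take (k + 1) ++ (r₁ ++ r₂) = v.take k ++ ([x] ++ (r₁ ++ r₂)) := by
            rw [htake, List.append_assoc]
          rw [e1, e2]
          exact List.Perm.append_left _ List.perm_append_comm
        have hg3 : Good I (v.take (k + 1) ++ (r₁ ++ r₂)) :=
          ⟨IsLocalRing.isRegular_of_perm hg2.1 hperm3, by
            have := ofList_perm hperm3
            rw [← hg2.2]; exact this.symm⟩
        refine ⟨r₁ ++ r₂, ?_, hg3⟩
        exact ((hconn.tail (Or.inl hperm1) hg1).tail hstep2 hg2).tail (Or.inl hperm3) hg3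
  obtain ⟨r, hconn, hgood⟩ := hP v.length le_rfl
  rw [List.take_length] at hconn hgood
  have hr : r = [] := by
    cases r with
    | nil => rfl
    | cons y r' =>
      exfalso
      have hw := hgood.1.toIsWeaklyRegular
      rw [isWeaklyRegular_append_iff, isWeaklyRegular_cons_iff] at hw
      have hyI : y ∈ Ideal.ofList v := by
        rw [← huv, ← hgood.2]
        exact Ideal.subset_span (by simp)
      exact hv.top_ne_smul (eq_top_of_regular_of_mem _ hyI hw.2.1).symm
  rw [hr, List.append_nil] at hconn
  exact hconn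

end Local

end Groth.Agent.H85.RegSeqChain
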