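import Groth.Agent.H85.SegreModCM
import Groth.Agent.H85.JidReg

/-!
# Segre products of modules with a one-dimensional factor: basic tools (helper85)

* `JM g M i`: the submodule `(g_0, …, g_{i-1}) M`, comparison with `Jid g i • ⊤` and with
  `IsWeaklyRegular`;
* `HomSub`: homogeneous submodules (elementary form);
* `CondM`: the elementary form of `H^1_{R_+}(M)_n = 0`;
* the action of `x ⊗ y` on `M ⊗ N` is injective when `x`, `y` are regular.
-/

set_option autoImplicit false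
universe u

namespace Groth.Agent.H85.SegMod1

open scoped TensorProduct
open DirectSum Groth.Agent.H98 Groth.Agent.H85.GrLCRegSeq RingTheory.Sequence

section JM

variable {R : Type*} [CommRing R] (g : ℕ → R) (M : Type*) [AddCommGroup M] [Module R M]

/-- the submodules `(g_0, …, g_{i-1}) M` -/
def JM : ℕ → Submodule R M
  | 0 => ⊥
  | i + 1 => JM i ⊔ LinearMap.range (LinearMap.lsmul R M (g i))

theorem JM_zero : JM g M 0 = ⊥ := rfl

theorem JM_succ (i : ℕ) :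
    JM g M (i + 1) = JM g M i ⊔ LinearMap.range (LinearMap.lsmul R M (g i)) := rfl

theorem JM_mono_succ (i : ℕ) : JM g M i ≤ JM g M (i + 1) := le_sup_left

theorem smul_mem_JM_succ (i : ℕ) (v : M) : g i • v ∈ JM g M (i + 1) :=
  Submodule.mem_sup_right ⟨v, rfl⟩

theorem mem_JM_succ (i : ℕ) (b : M) :
    b ∈ JM g M (i + 1) ↔ ∃ v : M, b - g i • v ∈ JM g M i := by
  rw [JM_succ, Submodule.mem_sup]
  constructor
  · rintro ⟨y, hy, z, ⟨v, rfl⟩, rfl⟩
    refine ⟨v, ?_⟩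
    rw [LinearMap.lsmul_apply, add_sub_cancel_right]
    exact hy
  · rintro ⟨v, hv⟩
    exact ⟨b - g i • v, hv, g i • v, ⟨v, rfl⟩, sub_add_cancel _ _⟩

theorem smul_mem_JM (i l : ℕ) (hl : l < i) (v : M) : g l • v ∈ JM g M i := by
  induction i with
  | zero => omega
  | succ i ih =>
    by_cases h : l < i
    · exact JM_mono_succ g M i (ih h)
    · have : l = i := by omega
      subst this
      exact smul_mem_JM_succ g M l v

theorem JM_eq_smul_top (i : ℕ) : JM g M i = Jid g i • (⊤ : Submodule R M) := by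
  induction i with
  | zero => rw [JM_zero, Jid_zero, Submodule.bot_smul]
  | succ i ih =>
    rw [JM_succ, Jid_succ, Submodule.sup_smul, ih, Submodule.ideal_span_singleton_smul]
    congr 1
    ext z
    rw [Submodule.mem_smul_pointwise_iff_exists]
    constructor
    · rintro ⟨v, rfl⟩
      exact ⟨v, trivial, rfl⟩
    · rintro ⟨v, -, rfl⟩
      exact ⟨v, rfl⟩

theorem isWeaklyRegular_of_JM (t : ℕ)
    (hreg : ∀ i, i < t → ∀ p : M, g i • p ∈ JM g M i → p ∈ JM g M i) :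
    IsWeaklyRegular M (List.ofFn (fun l : Fin t => g l)) := by
  refine ⟨fun i hi => ?_⟩
  have hit : i < t := by simpa using hi
  rw [isSMulRegular_quotient_iff_mem_of_smul_mem,
    ofList_take_eq_Jid (fun l : Fin t => g l) g (fun _ _ => rfl) i
      (le_of_lt hit), ← JM_eq_smul_top, List.getElem_ofFn]
  exact hreg i hit

theorem JM_of_isWeaklyRegular (t : ℕ)
    (h : IsWeaklyRegular M (List.ofFn (fun l : Fin t => g l))) :
    ∀ i, i < t → ∀ p : M, g i • p ∈ JM g M i → p ∈ JM g M i := by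
  intro i hit p hp
  have hlen : i < (List.ofFn (fun l : Fin t => g l)).length := by simpa using hit
  have h1 := h.regular_mod_prev i hlen
  rw [isSMulRegular_quotient_iff_mem_of_smul_mem,
    ofList_take_eq_Jid (fun l : Fin t => g l) g (fun _ _ => rfl) i
      (le_of_lt hit), ← JM_eq_smul_top, List.getElem_ofFn] at h1
  exact h1 p hp

end JM

section Hom

variable {k : Type*} [Field k] {R : Type*} [CommRing R] [Algebra k R]
  (𝒜 : ℤ → Submodule k R) [GradedAlgebra 𝒜]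
  {M : Type*} [AddCommGroup M] [Module R M]
  (ℳ : ℤ → AddSubgroup M) [DirectSum.Decomposition ℳ] [SetLike.GradedSMul 𝒜 ℳ]

theorem smul_mem_shift {d : ℤ} {x : R} (hx : x ∈ 𝒜 d) :
    ∀ i, ∀ w ∈ ℳ i, (DistribSMul.toAddMonoidHom M x) w ∈ ℳ (i + d) := by
  intro i w hw
  have := SetLike.GradedSMul.smul_mem (A := 𝒜) (B := ℳ) hx hw
  rw [vadd_eq_add, add_comm] at this
  exact this

theorem smul_mem_add {d : ℤ} {x : R} (hx : x ∈ 𝒜 d) {i : ℤ} {w : M} (hw : w ∈ ℳ i) :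
    x • w ∈ ℳ (i + d) := smul_mem_shift 𝒜 ℳ hx i w hw

theorem decompose_smul {d : ℤ} {x : R} (hx : x ∈ 𝒜 d) (v : M) (m : ℤ) :
    (decompose ℳ (x • v) (m + d) : M) = x • (decompose ℳ v m : M) :=
  decompose_map_shift ℳ ℳ (DistribSMul.toAddMonoidHom M x) d (smul_mem_shift 𝒜 ℳ hx) v m

/-- homogeneous cofactor -/
theorem exists_hom_cofactor {d : ℤ} {x : R} (hx : x ∈ 𝒜 d) {n : ℤ} {u : M}
    (hu : u ∈ ℳ (n + d)) (v : M) (huv : u = x • v) : ∃ v' ∈ ℳ n, u = x • v' := by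
  refine ⟨(decompose ℳ v n : M), SetLike.coe_mem _, ?_⟩
  rw [← decompose_smul 𝒜 ℳ hx v n, ← huv, decompose_of_mem_same ℳ hu]

/-- homogeneous submodules, elementary form -/
def HomSub (W : Submodule R M) : Prop :=
  ∀ (n : ℤ) (u : M), u ∈ W → (decompose ℳ u n : M) ∈ W

theorem homSub_bot : HomSub ℳ (⊥ : Submodule R M) := by
  intro n u hu
  rw [Submodule.mem_bot] at hu
  rw [hu, decompose_zero, DirectSum.zero_apply]
  exact zero_mem _

theorem homSub_sup {W W' : Submodule R M} (h : HomSub ℳ W) (h' : HomSub ℳ W') :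
    HomSub ℳ (W ⊔ W') := by
  intro n u hu
  obtain ⟨a, ha, b, hb, rfl⟩ := Submodule.mem_sup.mp hu
  rw [decompose_add, DirectSum.add_apply, AddSubgroup.coe_add]
  exact Submodule.add_mem _ (Submodule.mem_sup_left (h n a ha)) (Submodule.mem_sup_right (h' n b hb))

theorem homSub_range_lsmul {d : ℤ} {x : R} (hx : x ∈ 𝒜 d) :
    HomSub ℳ (LinearMap.range (LinearMap.lsmul R M x)) := by
  rintro n u ⟨v, rfl⟩
  refine ⟨(decompose ℳ v (n - d) : M), ?_⟩
  rw [LinearMap.lsmul_apply, LinearMap.lsmul_apply, ← decompose_smul 𝒜 ℳ hx v (n - d), sub_add_cancel]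

theorem homSub_JM (g : ℕ → R) (dg : ℕ → ℤ) (t : ℕ) (hg : ∀ i, i < t → g i ∈ 𝒜 (dg i)) :
    ∀ i, i ≤ t → HomSub ℳ (JM g M i) := by
  intro i
  induction i with
  | zero => intro _; exact homSub_bot ℳ
  | succ i ih =>
    intro hi
    rw [JM_succ]
    exact homSub_sup ℳ (ih (by omega)) (homSub_range_lsmul 𝒜 ℳ (hg i (by omega)))

/-- regularity on homogeneous elements implies regularity -/
theorem regular_of_homogeneous {d : ℤ} {x : R} (hx : x ∈ 𝒜 d)
    (h : ∀ n : ℤ, ∀ u ∈ ℳ n, x • u = 0 → u = 0) : ∀ u : M, x • u = 0 → u = 0 := by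
  classical
  intro u hu
  rw [← sum_support_decompose ℳ u]
  refine Finset.sum_eq_zero fun n _ => ?_
  apply h n _ (SetLike.coe_mem _)
  rw [← decompose_smul 𝒜 ℳ hx u n, hu, decompose_zero, DirectSum.zero_apply]
  rfl

/-- elementary form of `H^1_{R_+}(M)_n = 0` -/
def CondM (x : R) (D : ℤ) (n : ℤ) : Prop :=
  ∀ j : ℕ, ∀ u ∈ ℳ (n + ((j : ℤ) + 1) * D), ∃ v : M, u = x • v

theorem condM_iter {x : R} {D : ℤ} (hx : x ∈ 𝒜 D) {n : ℤ} (h : CondM ℳ x D n) :
    ∀ j : ℕ, ∀ u ∈ ℳ (n + ((j : ℤ) + 1) * D), ∃ u' ∈ ℳ n, u = x ^ (j + 1) • u' := by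
  intro j
  induction j with
  | zero =>
    intro u hu
    obtain ⟨v, hv⟩ := h 0 u hu
    have hu' : u ∈ ℳ (n + D) := by
      have : n + (((0 : ℕ) : ℤ) + 1) * D = n + D := by push_cast; ring
      rwa [this] at hu
    obtain ⟨c, hc, huc⟩ := exists_hom_cofactor 𝒜 ℳ hx hu' v hv
    exact ⟨c, hc, by rw [huc, zero_add, pow_one]⟩
  | succ j ih =>
    intro u hu
    obtain ⟨v, hv⟩ := h (j + 1) u hu
    have hu' : u ∈ ℳ ((n + ((j : ℤ) + 1) * D) + D) := by
      have : n + (((j + 1 : ℕ) : ℤ) + 1) * D = (n + ((j : ℤ) + 1) * D) + D := by push_cast; ring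
      rwa [this] at hu
    obtain ⟨c, hc, huc⟩ := exists_hom_cofactor 𝒜 ℳ hx hu' v hv
    obtain ⟨u', hu'', hcu⟩ := ih c hc
    exact ⟨u', hu'', by rw [huc, hcu, smul_smul, ← pow_succ']⟩

theorem pow_smul_regular {x : R} (h : ∀ u : M, x • u = 0 → u = 0) :
    ∀ j : ℕ, ∀ u : M, x ^ j • u = 0 → u = 0 := by
  intro j
  induction j with
  | zero => intro u hu; simpa using hu
  | succ j ih =>
    intro u hu
    rw [pow_succ, mul_smul] at hu
    exact h u (ih _ hu)

end Hom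

section Tensor

variable {k : Type u} [Field k] {R S : Type u} [CommRing R] [CommRing S] [Algebra k R] [Algebra k S]
  {M N : Type u} [AddCommGroup M] [Module R M] [Module k M] [IsScalarTower k R M]
  [AddCommGroup N] [Module S N] [Module k N] [IsScalarTower k S N]

/-- `x ⊗ y` acts injectively on `M ⊗ N` if `x`, `y` are regular on `M`, `N` -/
theorem act_tmul_injective {x : R} {y : S} (hx : ∀ u : M, x • u = 0 → u = 0)
    (hy : ∀ v : N, y • v = 0 → v = 0) :
    Function.Injective (GrSeg.act k R S M N (x ⊗ₜ[k] y)) := by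
  rw [act_tmul_eq_map]
  apply TensorProduct.map_injective_of_flat_flat
  · rw [injective_iff_map_eq_zero]
    intro u hu
    exact hx u hu
  · rw [injective_iff_map_eq_zero]
    intro v hv
    exact hy v hv

/-- the quotient map `N → N ⧸ W` as a `k`-linear map -/
noncomputable def mkQk (W : Submodule S N) : N →ₗ[k] N ⧸ W := W.mkQ.restrictScalars k

theorem mkQk_apply (W : Submodule S N) (v : N) : mkQk (k := k) W v = Submodule.Quotient.mk v := rfl

theorem lTensor_mkQ_act (W : Submodule S N) (τ : R ⊗[k] S) (z : M ⊗[k] N) :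
    LinearMap.lTensor M (mkQk (k := k) W) (GrSeg.act k R S M N τ z) =
      GrSeg.act k R S M (N ⧸ W) τ (LinearMap.lTensor M (mkQk (k := k) W) z) := by
  induction τ using TensorProduct.induction_on with
  | zero => simp
  | add a b ha hb => rw [map_add, LinearMap.add_apply, map_add, ha, hb, map_add, LinearMap.add_apply]
  | tmul r s =>
    induction z using TensorProduct.induction_on with
    | zero => simp
    | add a b ha hb => rw [map_add, map_add, ha, hb, map_add, map_add]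
    | tmul m n =>
      rw [GrSeg.act_tmul, LinearMap.lTensor_tmul, LinearMap.lTensor_tmul, GrSeg.act_tmul]
      rfl

/-- the `k`-span of the tensors `a ⊗ b` with `b ∈ W` -/
def WJ (W : Submodule S N) : Submodule k (M ⊗[k] N) :=
  Submodule.span k {τ : M ⊗[k] N | ∃ a : M, ∃ b ∈ W, τ = a ⊗ₜ[k] b}

theorem ker_lTensor_le_WJ (W : Submodule S N) (z : M ⊗[k] N)
    (hz : LinearMap.lTensor M (mkQk (k := k) W) z = 0) : z ∈ WJ (k := k) (M := M) W := by
  have hex : Function.Exact (W.subtype.restrictScalars k) (mkQk (k := k) W) :=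
    LinearMap.exact_subtype_mkQ W
  have hsurj : Function.Surjective (mkQk (k := k) W) := Submodule.mkQ_surjective W
  have h1 := lTensor_exact M hex hsurj
  obtain ⟨w, rfl⟩ := (h1 z).mp hz
  clear hz
  induction w using TensorProduct.induction_on with
  | zero => rw [map_zero]; exact zero_mem _
  | tmul a b =>
    rw [LinearMap.lTensor_tmul]
    exact Submodule.subset_span ⟨a, b.1, b.2, rfl⟩
  | add u v hu hv => rw [map_add]; exact add_mem hu hv

end Tensor

section Segre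

variable {k : Type u} [Field k] {R S : Type u} [CommRing R] [CommRing S] [Algebra k R] [Algebra k S]
  (𝒜 : ℤ → Submodule k R) [GradedAlgebra 𝒜] (ℬ : ℤ → Submodule k S) [GradedAlgebra ℬ]
  {M N : Type u} [AddCommGroup M] [Module R M] [Module k M] [IsScalarTower k R M]
  [AddCommGroup N] [Module S N] [Module k N] [IsScalarTower k S N]
  (ℳ : ℤ → AddSubgroup M) [DirectSum.Decomposition ℳ] [SetLike.GradedSMul 𝒜 ℳ]
  (𝒩 : ℤ → AddSubgroup N) [DirectSum.Decomposition 𝒩] [SetLike.GradedSMul ℬ 𝒩]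
  {T : Type u} [CommRing T] [Algebra k T] (𝒯 : ℤ → Submodule k T) [GradedAlgebra 𝒯]
  (ψ : T →ₐ[k] R ⊗[k] S)
  {P : Type u} [AddCommGroup P] [Module T P] [Module k P] [IsScalarTower k T P]
  (𝒬 : ℤ → AddSubgroup P) [DirectSum.Decomposition 𝒬] (φ : P →ₗ[k] M ⊗[k] N)
  (hP : GrSeg.IsSegreMod ψ ℳ 𝒩 𝒬 φ)

/-- the projection of `M ⊗ N` onto the bidegree `(n, n)` part -/
noncomputable def Bn (n : ℤ) : M ⊗[k] N →ₗ[k] M ⊗[k] N :=
  bproj ℳ 𝒩 (smul_mem_piece 𝒜 ℳ) (smul_mem_piece ℬ 𝒩) n n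

theorem Bn_tmul (n : ℤ) (a : M) (b : N) :
    Bn 𝒜 ℬ ℳ 𝒩 n (a ⊗ₜ[k] b) = (decompose ℳ a n : M) ⊗ₜ[k] (decompose 𝒩 b n : N) := rfl

theorem Bn_fix (n : ℤ) (τ : M ⊗[k] N) (hτ : τ ∈ GrSeg.segrePiece k ℳ 𝒩 n) :
    Bn 𝒜 ℬ ℳ 𝒩 n τ = τ := by
  unfold GrSeg.segrePiece at hτ
  induction hτ using Submodule.span_induction with
  | mem τ hτ =>
    obtain ⟨a, ha, b, hb, rfl⟩ := hτ
    rw [Bn_tmul, decompose_of_mem_same ℳ ha, decompose_of_mem_same 𝒩 hb]
  | zero => rw [map_zero]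
  | add u v _ _ hu hv => rw [map_add, hu, hv]
  | smul c u _ hu => rw [map_smul, hu]

theorem Bn_ne (m n : ℤ) (hmn : m ≠ n) (τ : M ⊗[k] N) (hτ : τ ∈ GrSeg.segrePiece k ℳ 𝒩 m) :
    Bn 𝒜 ℬ ℳ 𝒩 n τ = 0 := by
  unfold GrSeg.segrePiece at hτ
  induction hτ using Submodule.span_induction with
  | mem τ hτ =>
    obtain ⟨a, ha, b, hb, rfl⟩ := hτ
    rw [Bn_tmul, decompose_of_mem_ne ℳ ha hmn, TensorProduct.zero_tmul]
  | zero => rw [map_zero]
  | add u v _ _ hu hv => rw [map_add, hu, hv, add_zero]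
  | smul c u _ hu => rw [map_smul, hu, smul_zero]

include hP in
theorem exists_pieceM (n : ℤ) (a : M) (b : N) (ha : a ∈ ℳ n) (hb : b ∈ 𝒩 n) :
    ∃ p ∈ 𝒬 n, φ p = a ⊗ₜ[k] b := by
  have h1 : a ⊗ₜ[k] b ∈ (GrSeg.segrePiece k ℳ 𝒩 n : Set (M ⊗[k] N)) :=
    Submodule.subset_span ⟨a, ha, b, hb, rfl⟩
  rw [← hP.image_piece] at h1
  obtain ⟨p, hp, hpφ⟩ := h1
  exact ⟨p, hp, hpφ⟩

include hP in
theorem phi_mem_piece (n : ℤ) (p : P) (hp : p ∈ 𝒬 n) : φ p ∈ GrSeg.segrePiece k ℳ 𝒩 n := by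
  have h1 : φ p ∈ φ '' (𝒬 n : Set P) := ⟨p, hp, rfl⟩
  rw [hP.image_piece n] at h1
  exact h1

include hP in
theorem mem_of_phi_mem_piece (n : ℤ) (p : P) (hp : φ p ∈ GrSeg.segrePiece k ℳ 𝒩 n) : p ∈ 𝒬 n := by
  have h1 : φ p ∈ (GrSeg.segrePiece k ℳ 𝒩 n : Set (M ⊗[k] N)) := hp
  rw [← hP.image_piece n] at h1
  obtain ⟨p', hp', hpφ⟩ := h1
  rw [← hP.injective hpφ]
  exact hp'

include hP in
theorem Bn_phi (p : P) (n : ℤ) : Bn 𝒜 ℬ ℳ 𝒩 n (φ p) = φ (decompose 𝒬 p n : P) := by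
  induction p using DirectSum.Decomposition.inductionOn 𝒬 with
  | zero => simp
  | @homogeneous i m =>
    have hm := phi_mem_piece ℳ 𝒩 ψ 𝒬 φ hP i m m.2
    by_cases hin : i = n
    · subst hin
      rw [Bn_fix 𝒜 ℬ ℳ 𝒩 i _ hm, decompose_of_mem_same 𝒬 m.2]
    · rw [Bn_ne 𝒜 ℬ ℳ 𝒩 i n hin _ hm, decompose_of_mem_ne 𝒬 m.2 hin, map_zero]
  | add m m' hm hm' =>
    rw [map_add, map_add, hm, hm', decompose_add, DirectSum.add_apply, AddSubgroup.coe_add, map_add]

theorem act_mem_piece (i j : ℤ) (τ : R ⊗[k] S) (hτ : τ ∈ GrSeg.segrePiece k 𝒜 ℬ i)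
    (z : M ⊗[k] N) (hz : z ∈ GrSeg.segrePiece k ℳ 𝒩 j) :
    GrSeg.act k R S M N τ z ∈ GrSeg.segrePiece k ℳ 𝒩 (i + j) := by
  unfold GrSeg.segrePiece at hτ
  induction hτ using Submodule.span_induction with
  | mem τ hτ =>
    obtain ⟨a, ha, b, hb, rfl⟩ := hτ
    unfold GrSeg.segrePiece at hz
    induction hz using Submodule.span_induction with
    | mem z hz =>
      obtain ⟨u, hu, v, hv, rfl⟩ := hz
      rw [GrSeg.act_tmul]
      refine Submodule.subset_span ⟨a • u, ?_, b • v, ?_, rfl⟩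
      · exact SetLike.GradedSMul.smul_mem (A := 𝒜) (B := ℳ) ha hu
      · exact SetLike.GradedSMul.smul_mem (A := ℬ) (B := 𝒩) hb hv
    | zero => rw [map_zero]; exact zero_mem _
    | add u v _ _ hu hv => rw [map_add]; exact add_mem hu hv
    | smul c u _ hu => rw [map_smul]; exact Submodule.smul_mem _ c hu
  | zero => rw [map_zero, LinearMap.zero_apply]; exact zero_mem _
  | add u v _ _ hu hv => rw [map_add, LinearMap.add_apply]; exact add_mem hu hv
  | smul c u _ hu => rw [map_smul, LinearMap.smul_apply]; exact Submodule.smul_mem _ c hu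

include hP in
/-- the Segre module is a graded module over the Segre ring -/
theorem segre_gradedSMul (hT : GrSeg.IsSegreRing 𝒜 ℬ 𝒯 ψ) : SetLike.GradedSMul 𝒯 𝒬 := by
  refine ⟨fun {i j t p} ht hp => ?_⟩
  rw [vadd_eq_add]
  apply mem_of_phi_mem_piece ℳ 𝒩 ψ 𝒬 φ hP
  rw [hP.map_smul]
  have h1 : ψ t ∈ (𝒯 i).map ψ.toLinearMap := ⟨t, ht, rfl⟩
  rw [hT.2 i] at h1
  exact act_mem_piece 𝒜 ℬ ℳ 𝒩 i j _ h1 _ (phi_mem_piece ℳ 𝒩 ψ 𝒬 φ hP j p hp)

end Segre

end Groth.Agent.H85.SegMod1
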