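import Groth.Agent.H85.SegMod1A

/-!
# Segre products of modules with a one-dimensional factor: a regular sequence on `M # N`
(helper85)

`x ∈ R_D` homogeneous and `M`-regular, `g_0, …, g_{s-1}` a homogeneous `N`-regular sequence with
`deg g_i = c_i D`.  If `H^1(M)_n = 0` whenever `N_n ≠ 0` (in the elementary form `CondM`), then the
elements `f_i = x^{c_i} ⊗ g_i` of `T = R # S` form a regular sequence on `P = M # N`.
-/

set_option autoImplicit false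
universe u

namespace Groth.Agent.H85.SegMod1

open scoped TensorProduct
open DirectSum Groth.Agent.H98 Groth.Agent.H85.GrLCRegSeq

section Main

variable {k : Type u} [Field k] {R S : Type u} [CommRing R] [CommRing S] [Algebra k R] [Algebra k S]
  (𝒜 : ℤ → Submodule k R) [GradedAlgebra 𝒜] (ℬ : ℤ → Submodule k S) [GradedAlgebra ℬ]
  {M N : Type u} [AddCommGroup M] [Module R M] [Module k M] [IsScalarTower k R M]
  [AddCommGroup N] [Module S N] [Module k N] [IsScalarTower k S N]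
  (ℳ : ℤ → AddSubgroup M) [DirectSum.Decomposition ℳ] [SetLike.GradedSMul 𝒜 ℳ]
  (𝒩 : ℤ → AddSubgroup N) [DirectSum.Decomposition 𝒩] [SetLike.GradedSMul ℬ 𝒩]
  {T : Type u} [CommRing T] [Algebra k T]
  (ψ : T →ₐ[k] R ⊗[k] S)
  {P : Type u} [AddCommGroup P] [Module T P] [Module k P] [IsScalarTower k T P]
  (𝒬 : ℤ → AddSubgroup P) [DirectSum.Decomposition 𝒬] (φ : P →ₗ[k] M ⊗[k] N)
  (hP : GrSeg.IsSegreMod ψ ℳ 𝒩 𝒬 φ)

/-- the `k`-span of the tensors `a ⊗ b` with `a ∈ M_n`, `b ∈ N_n ∩ W` -/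
def WnJ (n : ℤ) (W : Submodule S N) : Submodule k (M ⊗[k] N) :=
  Submodule.span k {τ : M ⊗[k] N | ∃ a ∈ ℳ n, ∃ b ∈ 𝒩 n, b ∈ W ∧ τ = a ⊗ₜ[k] b}

theorem Bn_mem_WnJ (n : ℤ) (W : Submodule S N) (hW : HomSub 𝒩 W) (τ : M ⊗[k] N)
    (hτ : τ ∈ WJ (k := k) (M := M) W) : Bn 𝒜 ℬ ℳ 𝒩 n τ ∈ WnJ ℳ 𝒩 n W := by
  unfold WJ at hτ
  induction hτ using Submodule.span_induction with
  | mem τ hτ =>
    obtain ⟨a, b, hb, rfl⟩ := hτ
    rw [Bn_tmul]
    exact Submodule.subset_span ⟨_, SetLike.coe_mem _, _, SetLike.coe_mem _, hW n b hb, rfl⟩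
  | zero => rw [map_zero]; exact zero_mem _
  | add u v _ _ hu hv => rw [map_add]; exact add_mem hu hv
  | smul c u _ hu => rw [map_smul]; exact Submodule.smul_mem _ c hu

variable {D : ℤ} {x : R} (hx : x ∈ 𝒜 D)
  (g : ℕ → S) (c : ℕ → ℕ) (s : ℕ) (hg : ∀ i, i < s → g i ∈ ℬ ((c i : ℤ) * D))
  (hc : ∀ i, i < s → 1 ≤ c i)
  (f : ℕ → T) (hfψ : ∀ i, i < s → ψ (f i) = (x ^ c i) ⊗ₜ[k] g i)
  (hC : ∀ n : ℤ, CondM ℳ x D n ∨ 𝒩 n = ⊥)

include hP hx hg hc hfψ hC in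
theorem exists_mem_JM_tmul : ∀ i, i ≤ s → ∀ n : ℤ, ∀ b ∈ 𝒩 n, b ∈ JM g N i → ∀ a ∈ ℳ n,
    ∃ p' ∈ JM f P i, φ p' = a ⊗ₜ[k] b := by
  intro i
  induction i with
  | zero =>
    intro _ n b _ hbJ a _
    rw [JM_zero, Submodule.mem_bot] at hbJ
    exact ⟨0, zero_mem _, by rw [hbJ, map_zero, TensorProduct.tmul_zero]⟩
  | succ i ih =>
    intro hi n b hb hbJ a ha
    have his : i < s := hi
    have hJhom : HomSub 𝒩 (JM g N i) :=
      homSub_JM ℬ 𝒩 g (fun l => (c l : ℤ) * D) s hg i (le_of_lt his)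
    obtain ⟨v, hv⟩ := (mem_JM_succ g N i b).mp hbJ
    set u' : N := (decompose 𝒩 (b - g i • v) n : N) with hu'
    set v' : N := (decompose 𝒩 v (n - (c i : ℤ) * D) : N) with hv'
    have hu'J : u' ∈ JM g N i := hJhom n _ hv
    have hu'n : u' ∈ 𝒩 n := SetLike.coe_mem _
    have hv'n : v' ∈ 𝒩 (n - (c i : ℤ) * D) := SetLike.coe_mem _
    have hb_eq : b = u' + g i • v' := by
      have h1 : (decompose 𝒩 (g i • v) n : N) = g i • v' := by
        have h2 := decompose_smul ℬ 𝒩 (hg i his) v (n - (c i : ℤ) * D)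
        rwa [sub_add_cancel] at h2
      rw [hu', decompose_sub, DirectSum.sub_apply, AddSubgroupClass.coe_sub,
        decompose_of_mem_same 𝒩 hb, h1]
      abel
    obtain ⟨t₁, ht₁, ht₁φ⟩ := ih (le_of_lt his) n u' hu'n hu'J a ha
    by_cases hv0 : v' = 0
    · refine ⟨t₁, JM_mono_succ f P i ht₁, ?_⟩
      rw [ht₁φ, hb_eq, hv0, smul_zero, add_zero]
    · have hne : 𝒩 (n - (c i : ℤ) * D) ≠ ⊥ := by
        intro hbot
        rw [hbot] at hv'n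
        exact hv0 ((AddSubgroup.mem_bot).mp hv'n)
      have hcond : CondM ℳ x D (n - (c i : ℤ) * D) := (hC _).resolve_right hne
      obtain ⟨j, hj⟩ : ∃ j : ℕ, c i = j + 1 := ⟨c i - 1, by have := hc i his; omega⟩
      have ha' : a ∈ ℳ ((n - (c i : ℤ) * D) + ((j : ℤ) + 1) * D) := by
        have : (n - (c i : ℤ) * D) + ((j : ℤ) + 1) * D = n := by rw [hj]; push_cast; ring
        rwa [this]
      obtain ⟨a', ha'n, haa'⟩ := condM_iter 𝒜 ℳ hx hcond j a ha'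
      obtain ⟨t₂, -, ht₂φ⟩ := exists_pieceM ℳ 𝒩 ψ 𝒬 φ hP _ a' v' ha'n hv'n
      refine ⟨t₁ + f i • t₂, add_mem (JM_mono_succ f P i ht₁) (smul_mem_JM_succ f P i t₂), ?_⟩
      rw [map_add, hP.map_smul, ht₁φ, hfψ i his, ht₂φ, GrSeg.act_tmul, hb_eq,
        TensorProduct.tmul_add, haa', hj]

include hP hx hg hc hfψ hC in
theorem exists_mem_JM_of_mem_WnJ (i : ℕ) (hi : i ≤ s) (n : ℤ) (τ : M ⊗[k] N)
    (hτ : τ ∈ WnJ ℳ 𝒩 n (JM g N i)) : ∃ p' ∈ JM f P i, φ p' = τ := by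
  unfold WnJ at hτ
  induction hτ using Submodule.span_induction with
  | mem τ hτ =>
    obtain ⟨a, ha, b, hb, hbJ, rfl⟩ := hτ
    exact exists_mem_JM_tmul 𝒜 ℬ ℳ 𝒩 ψ 𝒬 φ hP hx g c s hg hc f hfψ hC i hi n b hb hbJ a ha
  | zero => exact ⟨0, zero_mem _, map_zero _⟩
  | add u v _ _ hu hv =>
    obtain ⟨t₁, ht₁, h₁⟩ := hu
    obtain ⟨t₂, ht₂, h₂⟩ := hv
    exact ⟨t₁ + t₂, add_mem ht₁ ht₂, by rw [map_add, h₁, h₂]⟩
  | smul l u _ hu =>
    obtain ⟨t₁, ht₁, h₁⟩ := hu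
    refine ⟨l • t₁, ?_, by rw [map_smul, h₁]⟩
    rw [← algebraMap_smul T l t₁]
    exact Submodule.smul_mem _ _ ht₁

include hP hx hg hc hfψ hC in
/-- the key lemma: an element of `P` vanishing in `M ⊗ N/(g_0..g_{i-1})N` lies in
`(f_0, …, f_{i-1}) P` -/
theorem mem_JM_of_map_eq_zero (i : ℕ) (hi : i ≤ s) (p : P)
    (h0 : LinearMap.lTensor M (mkQk (k := k) (JM g N i)) (φ p) = 0) : p ∈ JM f P i := by
  classical
  have hJhom : HomSub 𝒩 (JM g N i) :=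
    homSub_JM ℬ 𝒩 g (fun l => (c l : ℤ) * D) s hg i hi
  have h1 := ker_lTensor_le_WJ (JM g N i) (φ p) h0
  rw [← sum_support_decompose 𝒬 p]
  refine Submodule.sum_mem _ fun n _ => ?_
  have h2 := Bn_mem_WnJ 𝒜 ℬ ℳ 𝒩 n (JM g N i) hJhom (φ p) h1
  rw [Bn_phi 𝒜 ℬ ℳ 𝒩 ψ 𝒬 φ hP p n] at h2
  obtain ⟨p', hp', hp'φ⟩ :=
    exists_mem_JM_of_mem_WnJ 𝒜 ℬ ℳ 𝒩 ψ 𝒬 φ hP hx g c s hg hc f hfψ hC i hi n _ h2
  rw [← hP.injective hp'φ]
  exact hp'

include hP hfψ in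
theorem map_eq_zero_of_mem_JM (i : ℕ) (hi : i ≤ s) : ∀ l, l ≤ i → ∀ p ∈ JM f P l,
    LinearMap.lTensor M (mkQk (k := k) (JM g N i)) (φ p) = 0 := by
  intro l
  induction l with
  | zero =>
    intro _ p hp
    rw [JM_zero, Submodule.mem_bot] at hp
    rw [hp, map_zero, map_zero]
  | succ l ih =>
    intro hl p hp
    obtain ⟨q, hq⟩ := (mem_JM_succ f P l p).mp hp
    have h1 := ih (by omega) _ hq
    rw [map_sub, map_sub, sub_eq_zero] at h1
    rw [h1, hP.map_smul, hfψ l (by omega), lTensor_mkQ_act, act_tmul_eq_map]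
    have hz : (Algebra.lsmul k k (N ⧸ JM g N i) (g l)) = 0 := by
      ext vb
      obtain ⟨v, rfl⟩ := Submodule.Quotient.mk_surjective _ vb
      change g l • (Submodule.Quotient.mk v : N ⧸ JM g N i) = 0
      rw [← Submodule.Quotient.mk_smul, Submodule.Quotient.mk_eq_zero]
      exact smul_mem_JM g N i l (by omega) v
    rw [hz, TensorProduct.map_zero_right, LinearMap.zero_apply]

variable (hxreg : ∀ u : M, x • u = 0 → u = 0)
  (hgreg : ∀ i, i < s → ∀ v : N, g i • v ∈ JM g N i → v ∈ JM g N i)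

include hP hx hg hc hfψ hC hxreg hgreg in
/-- **the regular sequence on the Segre product of modules** -/
theorem segre_regular_mod : ∀ i, i < s → ∀ p : P, f i • p ∈ JM f P i → p ∈ JM f P i := by
  intro i his p hfp
  apply mem_JM_of_map_eq_zero 𝒜 ℬ ℳ 𝒩 ψ 𝒬 φ hP hx g c s hg hc f hfψ hC i (le_of_lt his) p
  have h1 := map_eq_zero_of_mem_JM ℳ 𝒩 ψ 𝒬 φ hP g c s f hfψ i (le_of_lt his) i le_rfl _ hfp
  rw [hP.map_smul, hfψ i his, lTensor_mkQ_act] at h1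
  have hxc : ∀ u : M, x ^ c i • u = 0 → u = 0 := pow_smul_regular hxreg _
  have hgi : ∀ vb : N ⧸ JM g N i, g i • vb = 0 → vb = 0 := by
    intro vb hv
    obtain ⟨v, rfl⟩ := Submodule.Quotient.mk_surjective _ vb
    rw [← Submodule.Quotient.mk_smul, Submodule.Quotient.mk_eq_zero] at hv
    exact (Submodule.Quotient.mk_eq_zero _).mpr (hgreg i his v hv)
  exact act_tmul_injective (k := k) hxc hgi (h1.trans (map_zero _).symm)

end Main

end Groth.Agent.H85.SegMod1
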