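import Groth.Agent.H85.SegreGorOneB

/-!
# Segre products with a one-dimensional factor: necessity of `H^1(R) # S = 0` (helper85)

`Cond 𝒜 x D n` is the elementary form of `H^1_{R_+}(R)_n = 0`: every element of `R_{n + (j+1) D}`
is a multiple of the homogeneous parameter `x ∈ R_D`.  If `T = R # S` is Cohen–Macaulay with
`ht T_+ ≥ 2` then `Cond n` holds whenever `S_n ≠ 0`.
-/

set_option autoImplicit false
universe u

namespace Groth.Agent.H85.SegreOneCM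

open scoped TensorProduct
open DirectSum Groth.Agent.H85.GradedNN Groth.Agent.H85.GradedCM Groth.Agent.H85.StdGraded
  Groth.Agent.H85.DepthSocle Groth.Agent.H85.SegreRingFacts Groth.Agent.H85.SegreDimOne
  Groth.Agent.H85.SegreGorOne

section Cond

variable {k : Type*} [Field k] {R : Type*} [CommRing R] [Algebra k R]
  (𝒜 : ℤ → Submodule k R) [GradedAlgebra 𝒜]

/-- elementary form of `H^1_{R_+}(R)_n = 0` -/
def Cond (x : R) (D : ℤ) (n : ℤ) : Prop :=
  ∀ j : ℕ, ∀ r ∈ 𝒜 (n + ((j : ℤ) + 1) * D), r ∈ Ideal.span {x}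

theorem cond_iter {x : R} {D : ℤ} (hx : x ∈ 𝒜 D) {n : ℤ} (h : Cond 𝒜 x D n) :
    ∀ j : ℕ, ∀ r ∈ 𝒜 (n + ((j : ℤ) + 1) * D), ∃ r' ∈ 𝒜 n, r = x ^ (j + 1) * r' := by
  intro j
  induction j with
  | zero =>
    intro r hr
    have h1 := h 0 r hr
    have hr' : r ∈ 𝒜 (n + D) := by
      have : n + (((0 : ℕ) : ℤ) + 1) * D = n + D := by push_cast; ring
      rwa [this] at hr
    obtain ⟨c, hc, hrc⟩ := exists_homogeneous_cofactor 𝒜 hx hr' h1
    exact ⟨c, hc, by rw [hrc, zero_add, pow_one]⟩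
  | succ j ih =>
    intro r hr
    have h1 := h (j + 1) r hr
    have hr' : r ∈ 𝒜 ((n + ((j : ℤ) + 1) * D) + D) := by
      have : n + (((j + 1 : ℕ) : ℤ) + 1) * D = (n + ((j : ℤ) + 1) * D) + D := by push_cast; ring
      rwa [this] at hr
    obtain ⟨c, hc, hrc⟩ := exists_homogeneous_cofactor 𝒜 hx hr' h1
    obtain ⟨r', hr'', hcr⟩ := ih c hc
    exact ⟨r', hr'', by rw [hrc, hcr, ← mul_assoc, ← pow_succ']⟩

end Cond

section Main

variable {k : Type u} [Field k] {R S : Type u} [CommRing R] [CommRing S] [Algebra k R] [Algebra k S]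
  (𝒜 : ℤ → Submodule k R) [GradedAlgebra 𝒜] (ℬ : ℤ → Submodule k S) [GradedAlgebra ℬ]
  {T : Type u} [CommRing T] [Algebra k T] (𝒯 : ℤ → Submodule k T) [GradedAlgebra 𝒯]
  (ψ : T →ₐ[k] R ⊗[k] S) (hψ : Function.Injective ψ)
  (hdegT : ∀ n : ℤ, (𝒯 n).map ψ.toLinearMap =
      Submodule.span k {x : R ⊗[k] S | ∃ a ∈ 𝒜 n, ∃ b ∈ ℬ n, x = a ⊗ₜ[k] b})

include hψ hdegT in
/-- if `R # S` is Cohen–Macaulay with `ht (R # S)_+ ≥ 2` then `H^1(R)_n = 0` whenever `S_n ≠ 0` -/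
theorem cond_of_cm [Nontrivial T] (hposT : ∀ n : ℤ, n < 0 → 𝒯 n = ⊥)
    (h0T : 𝒯 0 = Submodule.span k {(1 : T)})
    {D : ℤ} (hD : 0 < D) {x : R} (hx : x ∈ 𝒜 D) (hxreg : ∀ c : R, x * c = 0 → c = 0)
    {y : S} (hy : y ∈ ℬ D) (hyreg : ∀ c : S, y * c = 0 → c = 0)
    (hbig : ∃ N₀ : ℤ, ∀ m > N₀, ∀ a ∈ 𝒜 m, a ∈ Ideal.span {x})
    (hT : LocCoh.IsCohenMacaulayRing T) (hht : (2 : ℕ∞) ≤ (irr 𝒯).height) (n : ℤ) :
    Cond 𝒜 x D n ∨ ℬ n = ⊥ := by
  classical
  by_contra hcon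
  push Not at hcon
  obtain ⟨N₀, hN₀⟩ := hbig
  -- the largest bad degree
  obtain ⟨n₁, ⟨hn₁c, hn₁b⟩, hmax⟩ := Int.exists_greatest_of_bdd
    (P := fun m => ¬ Cond 𝒜 x D m ∧ ℬ m ≠ ⊥)
    ⟨N₀, fun z ⟨hz, _⟩ => by
      unfold Cond at hz
      push Not at hz
      obtain ⟨j, r, hr, hrx⟩ := hz
      by_contra hlt
      push Not at hlt
      apply hrx
      apply hN₀ _ _ r hr
      have : (0 : ℤ) ≤ ((j : ℤ) + 1) * D := by positivity
      omega⟩
    ⟨n, hcon.1, hcon.2⟩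
  unfold Cond at hn₁c
  push Not at hn₁c
  obtain ⟨j, r, hr, hrx⟩ := hn₁c
  obtain ⟨w, hw, hw0⟩ : ∃ w ∈ ℬ n₁, w ≠ 0 := by
    by_contra h
    push Not at h
    apply hn₁b
    rw [eq_bot_iff]
    intro w hw
    exact (Submodule.mem_bot k).mpr (h w hw)
  -- the regular element `f' = x^(j+1) ⊗ y^(j+1)`
  set D' : ℤ := ((j : ℤ) + 1) * D with hD'
  have hD'pos : 0 < D' := by positivity
  have hx' : x ^ (j + 1) ∈ 𝒜 D' := by
    have := SetLike.pow_mem_graded (j + 1) hx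
    have h2 : (j + 1) • D = D' := by rw [nsmul_eq_mul, hD']; push_cast; ring
    rwa [h2] at this
  have hy' : y ^ (j + 1) ∈ ℬ D' := by
    have := SetLike.pow_mem_graded (j + 1) hy
    have h2 : (j + 1) • D = D' := by rw [nsmul_eq_mul, hD']; push_cast; ring
    rwa [h2] at this
  have hx'reg : ∀ c : R, x ^ (j + 1) * c = 0 → c = 0 := pow_regular hxreg _
  have hy'reg : ∀ c : S, y ^ (j + 1) * c = 0 → c = 0 := pow_regular hyreg _
  obtain ⟨f, hf, hfψ⟩ := exists_piece 𝒜 ℬ 𝒯 ψ hdegT D' _ _ hx' hy'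
  have hf_irr : f ∈ irr 𝒯 := PosHom.mem_irr (𝒜 := 𝒯) ⟨D', hD'pos, hf⟩
  have hfreg : ∀ c : T, f * c = 0 → c = 0 := by
    intro c hc
    apply hψ
    rw [map_zero]
    apply tmul_mul_regular (k := k) hx'reg hy'reg
    rw [← hfψ, ← map_mul, hc, map_zero]
  have hyw : y ^ (j + 1) * w ∈ ℬ (n₁ + D') := by
    have := SetLike.mul_mem_graded hy' hw
    rwa [add_comm] at this
  have hyw0 : y ^ (j + 1) * w ≠ 0 := fun h => hw0 (hy'reg w h)
  obtain ⟨z, hz, hzψ⟩ := exists_piece 𝒜 ℬ 𝒯 ψ hdegT (n₁ + D') r _ hr hyw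
  have hrx' : ∀ c : R, r ≠ x ^ (j + 1) * c := by
    intro c hc
    apply hrx
    rw [hc, pow_succ', mul_assoc]
    exact Ideal.mul_mem_right _ _ (Ideal.mem_span_singleton_self x)
  have hznot : ∀ c : T, z ≠ f * c := by
    intro c hc
    have h1 : r ⊗ₜ[k] (y ^ (j + 1) * w) =
        ((x ^ (j + 1)) ⊗ₜ[k] (1 : S)) * (((1 : R) ⊗ₜ[k] (y ^ (j + 1))) * ψ c) := by
      rw [← hzψ, hc, map_mul, hfψ, ← mul_assoc, Algebra.TensorProduct.tmul_mul_tmul, mul_one,
        one_mul]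
    exact tmul_ne_mul (k := k) hrx' hyw0 _ h1
  have hsoc : ∀ t ∈ irr 𝒯, ∃ c : T, t * z = f * c := by
    intro t ht
    unfold irr Ideal.span at ht
    induction ht using Submodule.span_induction with
    | zero => exact ⟨0, by simp⟩
    | add t₁ t₂ _ _ h₁ h₂ =>
      obtain ⟨c₁, hc₁⟩ := h₁
      obtain ⟨c₂, hc₂⟩ := h₂
      exact ⟨c₁ + c₂, by rw [add_mul, hc₁, hc₂, mul_add]⟩
    | smul r' t _ h₁ =>
      obtain ⟨c₁, hc₁⟩ := h₁
      exact ⟨r' * c₁, by rw [smul_eq_mul, mul_assoc, hc₁, mul_left_comm]⟩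
    | mem t ht =>
      obtain ⟨m, hm, htm⟩ := ht
      have h1 : ψ t ∈ (𝒯 m).map ψ.toLinearMap := ⟨t, htm, rfl⟩
      rw [hdegT m] at h1
      have key : ∀ τ ∈ Submodule.span k {x : R ⊗[k] S | ∃ a ∈ 𝒜 m, ∃ b ∈ ℬ m, x = a ⊗ₜ[k] b},
          ∃ c : T, τ * (r ⊗ₜ[k] (y ^ (j + 1) * w)) = ((x ^ (j + 1)) ⊗ₜ[k] (y ^ (j + 1))) * ψ c := by
        intro τ hτ
        induction hτ using Submodule.span_induction with
        | zero => exact ⟨0, by simp⟩
        | add τ₁ τ₂ _ _ h₁ h₂ =>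
          obtain ⟨c₁, hc₁⟩ := h₁
          obtain ⟨c₂, hc₂⟩ := h₂
          exact ⟨c₁ + c₂, by rw [add_mul, hc₁, hc₂, map_add, mul_add]⟩
        | smul l τ _ h₁ =>
          obtain ⟨c₁, hc₁⟩ := h₁
          exact ⟨l • c₁, by rw [smul_mul_assoc, hc₁, map_smul, mul_smul_comm]⟩
        | mem τ hτ =>
          obtain ⟨a, ha, b, hb, rfl⟩ := hτ
          by_cases hbw : b * w = 0
          · refine ⟨0, ?_⟩
            rw [Algebra.TensorProduct.tmul_mul_tmul, mul_left_comm, hbw, mul_zero,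
              TensorProduct.tmul_zero, map_zero, mul_zero]
          · have hbwmem : b * w ∈ ℬ (m + n₁) := SetLike.mul_mem_graded hb hw
            have hne : ℬ (m + n₁) ≠ ⊥ := by
              intro hbot
              rw [hbot] at hbwmem
              exact hbw ((Submodule.mem_bot k).mp hbwmem)
            have hcond : Cond 𝒜 x D (m + n₁) := by
              by_contra hnc
              have := hmax (m + n₁) ⟨hnc, hne⟩
              omega
            have harmem : a * r ∈ 𝒜 ((m + n₁) + ((j : ℤ) + 1) * D) := by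
              have := SetLike.mul_mem_graded ha hr
              have h2 : m + (n₁ + D') = (m + n₁) + ((j : ℤ) + 1) * D := by rw [hD']; ring
              rwa [h2] at this
            obtain ⟨r', hr', har⟩ := cond_iter 𝒜 hx hcond j _ harmem
            obtain ⟨c, -, hcψ⟩ := exists_piece 𝒜 ℬ 𝒯 ψ hdegT (m + n₁) r' (b * w) hr' hbwmem
            refine ⟨c, ?_⟩
            rw [hcψ, Algebra.TensorProduct.tmul_mul_tmul, Algebra.TensorProduct.tmul_mul_tmul, har]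
            congr 1
            ring
      obtain ⟨c, hc⟩ := key _ h1
      refine ⟨c, hψ ?_⟩
      rw [map_mul, map_mul, hzψ, hfψ, hc]
  haveI hmaxI : (irr 𝒯).IsMaximal := irr_isMaximal 𝒯 hposT h0T
  haveI : (irr 𝒯).IsPrime := hmaxI.isPrime
  have hdepth := depth_le_one_of_socle (irr 𝒯) f hf_irr hfreg z hznot hsoc
  have hCMloc := hT.isCohenMacaulayLocalRing_localization (irr 𝒯)
  have hdep := hCMloc.supportDim_eq_depth
  rw [Module.supportDim_self_eq_ringKrullDim,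
    IsLocalization.AtPrime.ringKrullDim_eq_height (irr 𝒯) (Localization.AtPrime (irr 𝒯)),
    WithBot.coe_inj] at hdep
  rw [hdep] at hht
  have := hht.trans hdepth
  simp at this

end Main

end Groth.Agent.H85.SegreOneCM
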