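import Groth.Agent.H85.SegMod1B
import Groth.Agent.H85.SegreOneCMA

/-!
# Segre products of modules with a one-dimensional factor: necessity (helper85)

If `H^1(M)_n ≠ 0` and `N_n ≠ 0` for some `n` (elementary form `CondM`), there are a homogeneous
`P`-regular element `f ∈ T_+` and `z ∈ P ∖ fP` with `T_+ z ⊆ fP`; hence `depth P ≤ 1`.
-/

set_option autoImplicit false
universe u

namespace Groth.Agent.H85.SegMod1

open scoped TensorProduct
open DirectSum Groth.Agent.H98 Groth.Agent.H85.GrLCRegSeq Groth.Agent.H85.GradedNN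
  Groth.Agent.H85.SegreGorOne

section Tensor

variable {k : Type u} [Field k] {R S : Type u} [CommRing R] [CommRing S] [Algebra k R] [Algebra k S]
  {M N : Type u} [AddCommGroup M] [Module R M] [Module k M] [IsScalarTower k R M]
  [AddCommGroup N] [Module S N] [Module k N] [IsScalarTower k S N]

omit [IsScalarTower k S N] [Module S N] [Module R M] [IsScalarTower k R M] in
theorem tmul_ne_zero' {u : M} {w : N} (hu : u ≠ 0) (hw : w ≠ 0) : u ⊗ₜ[k] w ≠ 0 := by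
  intro h1
  have hinj1 : Function.Injective (LinearMap.toSpanSingleton k M u) := by
    rw [injective_iff_map_eq_zero]
    intro c hc
    rw [LinearMap.toSpanSingleton_apply] at hc
    exact (smul_eq_zero.mp hc).resolve_right hu
  have hinj2 : Function.Injective (LinearMap.toSpanSingleton k N w) := by
    rw [injective_iff_map_eq_zero]
    intro c hc
    rw [LinearMap.toSpanSingleton_apply] at hc
    exact (smul_eq_zero.mp hc).resolve_right hw
  have hL := TensorProduct.map_injective_of_flat_flat _ _ hinj1 hinj2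
  have h2 : TensorProduct.map (LinearMap.toSpanSingleton k M u)
      (LinearMap.toSpanSingleton k N w) ((1 : k) ⊗ₜ[k] (1 : k)) = 0 := by
    rw [TensorProduct.map_tmul, LinearMap.toSpanSingleton_apply, LinearMap.toSpanSingleton_apply,
      one_smul, one_smul]
    exact h1
  have h3 : ((1 : k) ⊗ₜ[k] (1 : k)) = 0 := hL (h2.trans (map_zero _).symm)
  have h4 := congrArg (TensorProduct.lid k k) h3
  simp at h4

/-- `r ⊗ w` is not of the form `(x ⊗ s) τ` if `r ∉ xM` and `w ≠ 0` -/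
theorem tmul_ne_act {x : R} {r : M} {w : N} (hr : ∀ v : M, r ≠ x • v) (hw : w ≠ 0) (s' : S)
    (τ : M ⊗[k] N) : r ⊗ₜ[k] w ≠ GrSeg.act k R S M N (x ⊗ₜ[k] s') τ := by
  intro h
  set W : Submodule R M := LinearMap.range (LinearMap.lsmul R M x) with hW
  let π : M ⊗[k] N →ₗ[k] (M ⧸ W) ⊗[k] N := LinearMap.rTensor N (mkQk (k := k) W)
  have hπ0 : ∀ τ : M ⊗[k] N, π (GrSeg.act k R S M N (x ⊗ₜ[k] s') τ) = 0 := by
    intro τ
    induction τ using TensorProduct.induction_on with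
    | zero => simp
    | tmul m n =>
      rw [GrSeg.act_tmul]
      show (mkQk (k := k) W (x • m)) ⊗ₜ[k] (s' • n) = 0
      have : mkQk (k := k) W (x • m) = 0 := by
        rw [mkQk_apply, Submodule.Quotient.mk_eq_zero]
        exact ⟨m, rfl⟩
      rw [this, TensorProduct.zero_tmul]
    | add a b ha hb => rw [map_add, map_add, ha, hb, add_zero]
  have h1 : (mkQk (k := k) W r) ⊗ₜ[k] w = (0 : (M ⧸ W) ⊗[k] N) := by
    have : π (r ⊗ₜ[k] w) = 0 := by rw [h, hπ0]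
    exact this
  have hr0 : mkQk (k := k) W r ≠ 0 := by
    intro h0
    rw [mkQk_apply, Submodule.Quotient.mk_eq_zero] at h0
    obtain ⟨v, hv⟩ := h0
    exact hr v hv.symm
  exact tmul_ne_zero' (k := k) hr0 hw h1

end Tensor

section Main

variable {k : Type u} [Field k] {R S : Type u} [CommRing R] [CommRing S] [Algebra k R] [Algebra k S]
  (𝒜 : ℤ → Submodule k R) [GradedAlgebra 𝒜] (ℬ : ℤ → Submodule k S) [GradedAlgebra ℬ]
  {M N : Type u} [AddCommGroup M] [Module R M] [Module k M] [IsScalarTower k R M]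
  [AddCommGroup N] [Module S N] [Module k N] [IsScalarTower k S N]
  (ℳ : ℤ → AddSubgroup M) [DirectSum.Decomposition ℳ] [SetLike.GradedSMul 𝒜 ℳ]
  (𝒩 : ℤ → AddSubgroup N) [DirectSum.Decomposition 𝒩] [SetLike.GradedSMul ℬ 𝒩]
  {T : Type u} [CommRing T] [Algebra k T] (𝒯 : ℤ → Submodule k T) [GradedAlgebra 𝒯]
  (ψ : T →ₐ[k] R ⊗[k] S) (hT : GrSeg.IsSegreRing 𝒜 ℬ 𝒯 ψ)
  {P : Type u} [AddCommGroup P] [Module T P] [Module k P] [IsScalarTower k T P]
  (𝒬 : ℤ → AddSubgroup P) [DirectSum.Decomposition 𝒬] (φ : P →ₗ[k] M ⊗[k] N)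
  (hP : GrSeg.IsSegreMod ψ ℳ 𝒩 𝒬 φ)

include hT hP in
/-- if `H^1(M)_n ≠ 0 ≠ N_n` for some `n`, the Segre product has a regular element `f ∈ T_+` and a
socle element modulo `f` -/
theorem exists_socle_of_not_cond {D : ℤ} (hD : 0 < D) {x : R} (hx : x ∈ 𝒜 D)
    (hxreg : ∀ u : M, x • u = 0 → u = 0) {y : S} (hy : y ∈ ℬ D)
    (hyreg : ∀ v : N, y • v = 0 → v = 0)
    (hbig : ∃ N₀ : ℤ, ∀ m > N₀, ∀ u ∈ ℳ m, ∃ v : M, u = x • v)
    (hnot : ¬ ∀ n : ℤ, CondM ℳ x D n ∨ 𝒩 n = ⊥) :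
    ∃ (D' : ℤ) (f : T) (z : P), 0 < D' ∧ f ∈ 𝒯 D' ∧ (∀ p : P, f • p = 0 → p = 0) ∧
      (∀ p : P, z ≠ f • p) ∧ ∀ t ∈ irr 𝒯, ∃ p : P, t • z = f • p := by
  classical
  push Not at hnot
  obtain ⟨n, hcon⟩ := hnot
  obtain ⟨N₀, hN₀⟩ := hbig
  -- the largest bad degree
  obtain ⟨n₁, ⟨hn₁c, hn₁b⟩, hmax⟩ := Int.exists_greatest_of_bdd
    (P := fun m => ¬ CondM ℳ x D m ∧ 𝒩 m ≠ ⊥)
    ⟨N₀, fun z ⟨hz, _⟩ => by
      unfold CondM at hz
      push Not at hz
      obtain ⟨j, r, hr, hrx⟩ := hz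
      by_contra hlt
      push Not at hlt
      obtain ⟨v, hv⟩ := hN₀ _ (by
        have : (0 : ℤ) ≤ ((j : ℤ) + 1) * D := by positivity
        omega) r hr
      exact hrx v hv⟩
    ⟨n, hcon.1, hcon.2⟩
  unfold CondM at hn₁c
  push Not at hn₁c
  obtain ⟨j, r, hr, hrx⟩ := hn₁c
  obtain ⟨w, hw, hw0⟩ : ∃ w ∈ 𝒩 n₁, w ≠ 0 := by
    by_contra h
    push Not at h
    apply hn₁b
    rw [eq_bot_iff]
    intro w hw
    exact (AddSubgroup.mem_bot).mpr (h w hw)
  set D' : ℤ := ((j : ℤ) + 1) * D with hD'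
  have hD'pos : 0 < D' := by positivity
  have hx' : x ^ (j + 1) ∈ 𝒜 D' := by
    have := SetLike.pow_mem_graded (j + 1) hx
    have h2 : (j + 1) • D = D' := by rw [nsmul_eq_mul, hD']; push_cast; ring
    rwa [h2] at this
  have hy' : y ^ (j + 1) ∈ ℬ D' := by
    have := SetLike.pow_mem_graded (j + 1) hy
    have h2 : (j + 1) • D = D' := by rw [nsmul_eq_mul, hD']; push_cast; ring
    rwa [h2] at this
  have hx'reg : ∀ u : M, x ^ (j + 1) • u = 0 → u = 0 := pow_smul_regular hxreg _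
  have hy'reg : ∀ v : N, y ^ (j + 1) • v = 0 → v = 0 := pow_smul_regular hyreg _
  obtain ⟨f, hf, hfψ⟩ := exists_piece 𝒜 ℬ 𝒯 ψ hT.2 D' _ _ hx' hy'
  have hfreg : ∀ p : P, f • p = 0 → p = 0 := by
    intro p hp
    apply hP.injective
    rw [map_zero]
    apply act_tmul_injective (k := k) hx'reg hy'reg
    rw [← hfψ, ← hP.map_smul, hp, map_zero, map_zero]
  have hyw : y ^ (j + 1) • w ∈ 𝒩 (n₁ + D') := smul_mem_add ℬ 𝒩 hy' hw
  have hyw0 : y ^ (j + 1) • w ≠ 0 := fun h => hw0 (hy'reg w h)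
  obtain ⟨z, hz, hzφ⟩ := exists_pieceM ℳ 𝒩 ψ 𝒬 φ hP (n₁ + D') r _ hr hyw
  have hrx' : ∀ v : M, r ≠ x • v := hrx
  have hznot : ∀ p : P, z ≠ f • p := by
    intro p hp
    have h1 : r ⊗ₜ[k] (y ^ (j + 1) • w) =
        GrSeg.act k R S M N (x ⊗ₜ[k] (y ^ (j + 1))) (GrSeg.act k R S M N ((x ^ j) ⊗ₜ[k] (1 : S)) (φ p)) := by
      have h2 : (x ^ (j + 1)) ⊗ₜ[k] (y ^ (j + 1)) =
          (x ⊗ₜ[k] (y ^ (j + 1))) * ((x ^ j) ⊗ₜ[k] (1 : S)) := by
        rw [Algebra.TensorProduct.tmul_mul_tmul, mul_one, ← pow_succ']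
      rw [← hzφ, hp, hP.map_smul, hfψ, h2, act_mul]
      rfl
    exact tmul_ne_act (k := k) hrx' hyw0 _ _ h1
  refine ⟨D', f, z, hD'pos, hf, hfreg, hznot, ?_⟩
  intro t ht
  unfold irr Ideal.span at ht
  induction ht using Submodule.span_induction with
  | zero => exact ⟨0, by simp⟩
  | add t₁ t₂ _ _ h₁ h₂ =>
    obtain ⟨c₁, hc₁⟩ := h₁
    obtain ⟨c₂, hc₂⟩ := h₂
    exact ⟨c₁ + c₂, by rw [add_smul, hc₁, hc₂, smul_add]⟩
  | smul r' t _ h₁ =>
    obtain ⟨c₁, hc₁⟩ := h₁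
    exact ⟨r' • c₁, by rw [smul_eq_mul, mul_smul, hc₁, smul_comm]⟩
  | mem t ht =>
    obtain ⟨m, hm, htm⟩ := ht
    have h1 : ψ t ∈ (𝒯 m).map ψ.toLinearMap := ⟨t, htm, rfl⟩
    rw [hT.2 m] at h1
    have key : ∀ τ ∈ GrSeg.segrePiece k 𝒜 ℬ m,
        ∃ p : P, GrSeg.act k R S M N τ (r ⊗ₜ[k] (y ^ (j + 1) • w)) =
          GrSeg.act k R S M N ((x ^ (j + 1)) ⊗ₜ[k] (y ^ (j + 1))) (φ p) := by
      intro τ hτ
      unfold GrSeg.segrePiece at hτ
      induction hτ using Submodule.span_induction with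
      | zero => exact ⟨0, by simp⟩
      | add τ₁ τ₂ _ _ h₁ h₂ =>
        obtain ⟨c₁, hc₁⟩ := h₁
        obtain ⟨c₂, hc₂⟩ := h₂
        exact ⟨c₁ + c₂, by rw [map_add, LinearMap.add_apply, hc₁, hc₂, map_add, map_add]⟩
      | smul l τ _ h₁ =>
        obtain ⟨c₁, hc₁⟩ := h₁
        exact ⟨l • c₁, by rw [map_smul, LinearMap.smul_apply, hc₁, map_smul, map_smul]⟩
      | mem τ hτ =>
        obtain ⟨a, ha, b, hb, rfl⟩ := hτ
        by_cases hbw : b • w = 0
        · refine ⟨0, ?_⟩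
          rw [GrSeg.act_tmul, smul_comm, hbw, smul_zero, TensorProduct.tmul_zero, map_zero,
            map_zero]
        · have hbwmem : b • w ∈ 𝒩 (m + n₁) :=
            SetLike.GradedSMul.smul_mem (A := ℬ) (B := 𝒩) hb hw
          have hne : 𝒩 (m + n₁) ≠ ⊥ := by
            intro hbot
            rw [hbot] at hbwmem
            exact hbw ((AddSubgroup.mem_bot).mp hbwmem)
          have hcond : CondM ℳ x D (m + n₁) := by
            by_contra hnc
            have := hmax (m + n₁) ⟨hnc, hne⟩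
            omega
          have harmem : a • r ∈ ℳ ((m + n₁) + ((j : ℤ) + 1) * D) := by
            have := SetLike.GradedSMul.smul_mem (A := 𝒜) (B := ℳ) ha hr
            rw [vadd_eq_add] at this
            have h2 : m + (n₁ + D') = (m + n₁) + ((j : ℤ) + 1) * D := by rw [hD']; ring
            rwa [h2] at this
          obtain ⟨r', hr', har⟩ := condM_iter 𝒜 ℳ hx hcond j _ harmem
          obtain ⟨c, -, hcφ⟩ := exists_pieceM ℳ 𝒩 ψ 𝒬 φ hP (m + n₁) r' (b • w) hr' hbwmem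
          refine ⟨c, ?_⟩
          rw [hcφ, GrSeg.act_tmul, GrSeg.act_tmul, har, smul_comm]
    obtain ⟨c, hc⟩ := key _ h1
    refine ⟨c, hP.injective ?_⟩
    rw [hP.map_smul, hP.map_smul, hzφ, hfψ, hc]

end Main

end Groth.Agent.H85.SegMod1
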