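import Groth.Agent.S5761
import Groth.Agent.S13232
import Groth.Agent.S13234
import Groth.Agent.H29.LocTrans
import Groth.Agent.H29.CM
import Groth.Agent.H24.SupportLoc
import Groth.Agent.H72.DepthLocIneq
import Groth.Agent.H85.GrConv
import Groth.Agent.H85.GradedCMUnmixed

/-!
# Cohen–Macaulay criteria for (graded) modules (helper85)

* `depth_le_one_of_socle_mod`: a regular element `f ∈ 𝔪` and `z ∉ fP` with `𝔪 z ⊆ fP` give
  `depth P_𝔪 ≤ 1`;
* `supportDim_localizedModule_le`: `dim P_q ≤ dim P`;
* `isCM_localization_of_isWeaklyRegular`: a regular sequence of length `dim P` in `𝔪` makes `P_𝔪`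
  Cohen–Macaulay;
* `isCM_of_le`: Cohen–Macaulayness passes from `P_m` to `P_q` for `q ≤ m`;
* `cm_all_of_cm_irr`: a graded module over a graded `k`-algebra which is Cohen–Macaulay at the
  irrelevant ideal is Cohen–Macaulay at all primes.
-/

set_option autoImplicit false
universe u

namespace Groth.Agent.H85.SegMod1

open DirectSum Groth.Agent.H85.GradedNN Groth.Agent.H85.GradedCM RingTheory.Sequence
open scoped Pointwise

section Socle

variable {T : Type u} [CommRing T] [IsNoetherianRing T]
  {P : Type u} [AddCommGroup P] [Module T P] [Module.Finite T P]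

/-- if `f ∈ 𝔪` is `P`-regular and `z ∉ fP` satisfies `𝔪 z ⊆ fP`, then `depth P_𝔪 ≤ 1` -/
theorem depth_le_one_of_socle_mod (𝔪 : Ideal T) [hmax : 𝔪.IsMaximal]
    (f : T) (hf𝔪 : f ∈ 𝔪) (hfreg : ∀ p : P, f • p = 0 → p = 0) (z : P) (hz : ∀ p : P, z ≠ f • p)
    (hsoc : ∀ a ∈ 𝔪, ∃ p : P, a • z = f • p) :
    LocCoh.depth (Localization.AtPrime 𝔪) (LocalizedModule 𝔪.primeCompl P) ≤ 1 := by
  haveI : 𝔪.IsPrime := hmax.isPrime
  have hmemf : ∀ w : P, w ∈ f • (⊤ : Submodule T P) ↔ ∃ p : P, w = f • p := by
    intro w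
    rw [Submodule.mem_smul_pointwise_iff_exists]
    constructor
    · rintro ⟨b, -, hb⟩
      exact ⟨b, hb.symm⟩
    · rintro ⟨c, hc⟩
      exact ⟨c, trivial, hc.symm⟩
  have hAss : 𝔪 ∈ associatedPrimes T (QuotSMulTop f P) := by
    rw [AssociatedPrimes.mem_iff, isAssociatedPrime_iff]
    refine ⟨inferInstance, Submodule.Quotient.mk z, ?_⟩
    apply hmax.eq_of_le
    · intro htop
      have h1 : (1 : T) ∈ (⊥ : Submodule T (QuotSMulTop f P)).colon {Submodule.Quotient.mk z} := by
        rw [htop]; trivial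
      rw [Submodule.mem_colon_singleton, Submodule.mem_bot, one_smul,
        Submodule.Quotient.mk_eq_zero, hmemf] at h1
      obtain ⟨c, hc⟩ := h1
      exact hz c hc
    · intro a ha
      rw [Submodule.mem_colon_singleton, Submodule.mem_bot, ← Submodule.Quotient.mk_smul,
        Submodule.Quotient.mk_eq_zero, hmemf]
      exact hsoc a ha
  have h1 := Groth.Agent.H72.DepthLocIneq.depth_localization_le_height_of_mem_associatedPrimes
    (QuotSMulTop f P) 𝔪 𝔪 le_rfl hAss
  have h0 : (𝔪.map (Ideal.Quotient.mk 𝔪)).height = 0 := by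
    rw [Ideal.map_quotient_self]
    exact Ideal.height_bot
  rw [h0] at h1
  have hreg : IsSMulRegular P f := by
    rw [isSMulRegular_iff_right_eq_zero_of_smul]
    exact hfreg
  haveI : Module.Flat T (Localization.AtPrime 𝔪) := IsLocalization.flat _ 𝔪.primeCompl
  have hreg' : IsSMulRegular (LocalizedModule 𝔪.primeCompl P)
      (algebraMap T (Localization.AtPrime 𝔪) f) :=
    hreg.of_flat_of_isBaseChange
      (IsLocalizedModule.isBaseChange 𝔪.primeCompl (Localization.AtPrime 𝔪)
        (LocalizedModule.mkLinearMap 𝔪.primeCompl P))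
  have h2 := Groth.Agent.H72.DepthLocIneq.depth_localization_le_quot_add_one P 𝔪 f hf𝔪 hreg'
  calc LocCoh.depth (Localization.AtPrime 𝔪) (LocalizedModule 𝔪.primeCompl P)
      ≤ LocCoh.depth (Localization.AtPrime 𝔪)
          (LocalizedModule 𝔪.primeCompl (QuotSMulTop f P)) + 1 := h2
    _ ≤ 0 + 1 := by gcongr
    _ = 1 := zero_add 1

end Socle

section Dim

variable {T : Type u} [CommRing T] {P : Type u} [AddCommGroup P] [Module T P]

/-- `dim P_q ≤ dim P` -/
theorem supportDim_localizedModule_le (q : Ideal T) [q.IsPrime] :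
    Module.supportDim (Localization.AtPrime q) (LocalizedModule q.primeCompl P) ≤
      Module.supportDim T P := by
  unfold Module.supportDim
  let f : Module.support (Localization.AtPrime q) (LocalizedModule q.primeCompl P) →
      Module.support T P := fun Q =>
    ⟨PrimeSpectrum.comap (algebraMap T (Localization.AtPrime q)) Q.1,
      (Groth.Agent.H24.mem_support_localizedModule_iff q Q.1).mp Q.2⟩
  apply Order.krullDim_le_of_strictMono f
  apply Monotone.strictMono_of_injective
  · intro Q₁ Q₂ h
    show PrimeSpectrum.comap (algebraMap T (Localization.AtPrime q)) Q₁.1 ≤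
      PrimeSpectrum.comap (algebraMap T (Localization.AtPrime q)) Q₂.1
    exact Ideal.comap_mono h
  · intro Q₁ Q₂ h
    have h' : PrimeSpectrum.comap (algebraMap T (Localization.AtPrime q)) Q₁.1 =
        PrimeSpectrum.comap (algebraMap T (Localization.AtPrime q)) Q₂.1 :=
      congrArg Subtype.val h
    exact Subtype.ext (PrimeSpectrum.localization_comap_injective
      (Localization.AtPrime q) q.primeCompl h')

end Dim

section Reg

variable {T : Type u} [CommRing T] [IsNoetherianRing T]
  {P : Type u} [AddCommGroup P] [Module T P] [Module.Finite T P]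

/-- a regular sequence of length `dim P` inside `𝔪` makes `P_𝔪` Cohen–Macaulay -/
theorem isCM_localization_of_isWeaklyRegular (𝔪 : Ideal T) [𝔪.IsPrime] (s : ℕ)
    (hdim : Module.supportDim T P = s) (rs : List T) (hlen : rs.length = s)
    (hmem : ∀ r ∈ rs, r ∈ 𝔪) (hreg : IsWeaklyRegular P rs)
    (hnt : Nontrivial (LocalizedModule 𝔪.primeCompl P)) :
    LocCoh.IsCohenMacaulayModule (Localization.AtPrime 𝔪) (LocalizedModule 𝔪.primeCompl P) := by
  set A := Localization.AtPrime 𝔪 with hA
  haveI : IsNoetherianRing A := IsLocalization.isNoetherianRing 𝔪.primeCompl A inferInstance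
  haveI : Module.Finite A (LocalizedModule 𝔪.primeCompl P) :=
    Module.Finite.of_isLocalizedModule 𝔪.primeCompl (LocalizedModule.mkLinearMap 𝔪.primeCompl P)
  haveI : Module.Flat T A := IsLocalization.flat _ 𝔪.primeCompl
  have hreg' : IsWeaklyRegular (LocalizedModule 𝔪.primeCompl P) (rs.map (algebraMap T A)) :=
    hreg.of_flat_of_isBaseChange
      (IsLocalizedModule.isBaseChange 𝔪.primeCompl A (LocalizedModule.mkLinearMap 𝔪.primeCompl P))
  have hmem' : ∀ r ∈ rs.map (algebraMap T A), r ∈ IsLocalRing.maximalIdeal A := by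
    intro r hr
    rw [List.mem_map] at hr
    obtain ⟨t, ht, rfl⟩ := hr
    exact (IsLocalization.AtPrime.to_map_mem_maximal_iff A 𝔪 t).mpr (hmem t ht)
  have hdepth := Groth.Agent.H15.le_idealDepth (IsLocalRing.maximalIdeal A)
    (LocalizedModule 𝔪.primeCompl P) hreg' hmem'
  rw [List.length_map, hlen] at hdepth
  have hle := Groth.Agent.H29.CML.depth_le_supportDim (A := A) (LocalizedModule 𝔪.primeCompl P)
  have hdimA := supportDim_localizedModule_le (P := P) 𝔪
  rw [hdim] at hdimA
  unfold LocCoh.IsCohenMacaulayModule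
  apply le_antisymm
  · refine hdimA.trans ?_
    have : ((s : ℕ∞) : WithBot ℕ∞) ≤
        ((LocCoh.depth A (LocalizedModule 𝔪.primeCompl P) : ℕ∞) : WithBot ℕ∞) :=
      WithBot.coe_le_coe.mpr hdepth
    exact this
  · exact hle

theorem cm_congr (p₁ p₂ : Ideal T) [p₁.IsPrime] [h2 : p₂.IsPrime] (h : p₁ = p₂)
    (hcm : LocCoh.IsCohenMacaulayModule (Localization.AtPrime p₁)
      (LocalizedModule p₁.primeCompl P)) :
    LocCoh.IsCohenMacaulayModule (Localization.AtPrime p₂) (LocalizedModule p₂.primeCompl P) := by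
  subst h
  exact hcm

/-- Cohen–Macaulayness passes from `P_m` to `P_q` for `q ≤ m` -/
theorem isCM_of_le {m q : Ideal T} [hm : m.IsPrime] [hq : q.IsPrime] (hqm : q ≤ m)
    (h : LocCoh.IsCohenMacaulayModule (Localization.AtPrime m) (LocalizedModule m.primeCompl P))
    (hnt : Nontrivial (LocalizedModule q.primeCompl P)) :
    LocCoh.IsCohenMacaulayModule (Localization.AtPrime q) (LocalizedModule q.primeCompl P) := by
  have hdisj : Disjoint (m.primeCompl : Set T) (q : Set T) := by
    rw [Set.disjoint_left]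
    intro a ha haq
    exact ha (hqm haq)
  set A := Localization.AtPrime m with hA
  set Q : Ideal A := q.map (algebraMap T A) with hQ
  haveI hQprime : Q.IsPrime :=
    IsLocalization.isPrime_of_isPrime_disjoint m.primeCompl A q hq hdisj
  have hcomap : Q.comap (algebraMap T A) = q :=
    IsLocalization.comap_map_of_isPrime_disjoint m.primeCompl A hq hdisj
  haveI : IsNoetherianRing A := IsLocalization.isNoetherianRing m.primeCompl A inferInstance
  haveI : Module.Finite A (LocalizedModule m.primeCompl P) :=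
    Module.Finite.of_isLocalizedModule m.primeCompl (LocalizedModule.mkLinearMap m.primeCompl P)
  have hdepth := Groth.Agent.H29.LocTrans.depth_localization_localization m.primeCompl P Q
  have hdim := Groth.Agent.H29.LocTrans.supportDim_localization_localization m.primeCompl P Q
  obtain ⟨φ, -⟩ := Groth.Agent.H29.LocTrans.exists_semilinear_localization_localization
    m.primeCompl P Q
  have hnt' : Nontrivial (LocalizedModule (Q.comap (algebraMap T A)).primeCompl P) := by
    have : ∀ (q' : Ideal T) [q'.IsPrime], q' = q →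
        Nontrivial (LocalizedModule q'.primeCompl P) := by
      intro q' _ hq'
      subst hq'
      exact hnt
    exact this _ hcomap
  have hntQ : Nontrivial (LocalizedModule Q.primeCompl (LocalizedModule m.primeCompl P)) :=
    φ.symm.toEquiv.nontrivial
  have hsupp : (⟨Q, hQprime⟩ : PrimeSpectrum A) ∈ Module.support A (LocalizedModule m.primeCompl P) :=
    Module.mem_support_iff.mpr hntQ
  have hcm := Groth.Agent.S5761.result A (LocalizedModule m.primeCompl P) h ⟨Q, hQprime⟩ hsupp
  have hcm' : LocCoh.IsCohenMacaulayModule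
      (Localization.AtPrime (Q.comap (algebraMap T A)))
      (LocalizedModule (Q.comap (algebraMap T A)).primeCompl P) := by
    unfold LocCoh.IsCohenMacaulayModule at hcm ⊢
    rw [← hdim, ← hdepth]
    exact hcm
  exact cm_congr _ q hcomap hcm'

end Reg

section Graded

variable {k : Type u} [Field k] {T : Type u} [CommRing T] [Algebra k T]
  (𝒯 : ℤ → Submodule k T) [GradedAlgebra 𝒯]
  (hposT : ∀ n : ℤ, n < 0 → 𝒯 n = ⊥) (h0T : 𝒯 0 = Submodule.span k {(1 : T)})
  {P : Type u} [AddCommGroup P] [Module T P]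
  (𝒬 : ℤ → AddSubgroup P) [DirectSum.Decomposition 𝒬] [SetLike.GradedSMul 𝒯 𝒬]

open Groth.Agent.H98.GrStar Groth.Agent.H85.GrConv in
include hposT h0T 𝒬 in
/-- **graded local-to-global principle for Cohen–Macaulay modules** -/
theorem cm_all_of_cm_irr [IsNoetherianRing T] [Module.Finite T P] [hirr : (irr 𝒯).IsPrime]
    (h : LocCoh.IsCohenMacaulayModule (Localization.AtPrime (irr 𝒯))
      (LocalizedModule (irr 𝒯).primeCompl P)) :
    ∀ (q : Ideal T) [q.IsPrime], Subsingleton (LocalizedModule q.primeCompl P) ∨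
      LocCoh.IsCohenMacaulayModule (Localization.AtPrime q) (LocalizedModule q.primeCompl P) := by
  classical
  intro q hq
  rcases subsingleton_or_nontrivial (LocalizedModule q.primeCompl P) with hs | hnt
  · exact Or.inl hs
  right
  haveI : SetLike.GradedSMul (selfGr 𝒯) 𝒬 :=
    ⟨fun {_ _ _ _} ha hb => SetLike.GradedSMul.smul_mem (A := 𝒯) (B := 𝒬) ha hb⟩
  set q' : Ideal T := (Ideal.homogeneousCore (selfGr 𝒯) q).toIdeal with hq'
  haveI hq'prime : q'.IsPrime := Ideal.IsPrime.homogeneousCore hq
  have hq'hom : q'.IsHomogeneous 𝒯 := fun i _ hx =>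
    (Ideal.homogeneousCore (selfGr 𝒯) q).isHomogeneous i hx
  have hq'm : q' ≤ irr 𝒯 := le_irr 𝒯 hposT h0T q' hq'hom hq'prime.ne_top
  have hq'q : q' ≤ q := Ideal.toIdeal_homogeneousCore_le (selfGr 𝒯) q
  haveI : (q.map (Ideal.Quotient.mk q')).IsPrime := by
    apply Ideal.map_isPrime_of_surjective Ideal.Quotient.mk_surjective
    rw [Ideal.mk_ker]
    exact hq'q
  obtain ⟨d, hd⟩ : ∃ d : ℕ, (q.map (Ideal.Quotient.mk q')).height = d :=
    (ENat.ne_top_iff_exists.mp Ideal.height_ne_top_of_isPrime).imp fun _ h => h.symm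
  have hdepth := Groth.Agent.S13234.result T (selfGr 𝒯) P 𝒬 q d hd
  have hdim := Groth.Agent.S13232.result T (selfGr 𝒯) P 𝒬 q d hd hnt
  -- `P_{q'}` is nonzero
  have hnt' : Nontrivial (LocalizedModule q'.primeCompl P) := by
    by_contra hcon
    rw [not_nontrivial_iff_subsingleton] at hcon
    have hb : Module.supportDim (Localization.AtPrime q') (LocalizedModule q'.primeCompl P) = ⊥ :=
      Module.supportDim_eq_bot_of_subsingleton _ _
    rw [hb, WithBot.bot_add] at hdim
    exact (Module.supportDim_ne_bot_of_nontrivial (R := Localization.AtPrime q)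
      (M := LocalizedModule q.primeCompl P)) hdim
  have hcm' := isCM_of_le hq'm h hnt'
  unfold LocCoh.IsCohenMacaulayModule at hcm' ⊢
  rw [hdim, hdepth, hcm']
  push_cast
  rfl

end Graded

end Groth.Agent.H85.SegMod1
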