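import Groth.Agent.H85.SegMod1D
import Groth.Agent.H85.SegMod1A
import Groth.Agent.H98.GrStar.SubQuot

/-!
# Homogeneous regular sequences on graded Cohen–Macaulay modules (helper85)

* `localized_quot`: `dim` and `depth` of `(P/xP)_p` for a regular `x ∈ p`;
* the graded structure on `N / yN` for homogeneous `y`;
* `exists_regular_list`: a graded module of dimension `s`, Cohen–Macaulay at the irrelevant ideal,
  has a homogeneous regular sequence of length `s` with degrees positive multiples of a given `D`;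
* for a module of dimension one: the parameter `x`, the bound `M_m ⊆ xM` (`m ≫ 0`) and
  `R_+^K M ⊆ xM`.
-/

set_option autoImplicit false
universe u

namespace Groth.Agent.H85.SegMod1

open DirectSum Groth.Agent.H85.GradedNN Groth.Agent.H85.GradedCM RingTheory.Sequence
  Groth.Agent.H98.GrStar MvPolynomial
open scoped Pointwise

section Arith

theorem wb_le_of_add_one_le {a : WithBot ℕ∞} {s : ℕ} (h : a + 1 ≤ (s : WithBot ℕ∞) + 1) :
    a ≤ s := by
  induction a using WithBot.recBotCoe with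
  | bot => exact bot_le
  | coe e =>
    have h1 : ((e + 1 : ℕ∞) : WithBot ℕ∞) ≤ (((s : ℕ∞) + 1 : ℕ∞) : WithBot ℕ∞) := by
      exact_mod_cast h
    rw [WithBot.coe_le_coe] at h1
    have h2 := (ENat.add_le_add_iff_right ENat.one_ne_top).mp h1
    exact_mod_cast h2

theorem wb_le_of_add_one_le' {a : WithBot ℕ∞} {s : ℕ} (h : (s : WithBot ℕ∞) + 1 ≤ a + 1) :
    (s : WithBot ℕ∞) ≤ a := by
  induction a using WithBot.recBotCoe with
  | bot =>
    rw [WithBot.bot_add] at h
    exact absurd h (by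
      have : ((s : WithBot ℕ∞) + 1) = (((s + 1 : ℕ) : ℕ∞) : WithBot ℕ∞) := by push_cast; rfl
      rw [this]
      exact not_le_of_gt (WithBot.bot_lt_coe _))
  | coe e =>
    have h1 : ((((s : ℕ∞) + 1 : ℕ∞)) : WithBot ℕ∞) ≤ ((e + 1 : ℕ∞) : WithBot ℕ∞) := by
      exact_mod_cast h
    rw [WithBot.coe_le_coe] at h1
    have h2 := (ENat.add_le_add_iff_right ENat.one_ne_top).mp h1
    exact_mod_cast h2

theorem wb_eq_of_add_one_eq {a : WithBot ℕ∞} {s : ℕ} (h : a + 1 = (s : WithBot ℕ∞) + 1) :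
    a = s :=
  le_antisymm (wb_le_of_add_one_le h.le) (wb_le_of_add_one_le' h.ge)

end Arith

section LocQuot

variable {T : Type u} [CommRing T] [IsNoetherianRing T] (P : Type u) [AddCommGroup P] [Module T P]
  [Module.Finite T P]

/-- `dim` and `depth` of `(P/xP)_p` for a regular element `x ∈ p` -/
theorem localized_quot (p : Ideal T) [p.IsPrime] (x : T) (hxp : x ∈ p) (hx : IsSMulRegular P x) :
    Module.supportDim (Localization.AtPrime p) (LocalizedModule p.primeCompl (QuotSMulTop x P)) + 1 =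
      Module.supportDim (Localization.AtPrime p) (LocalizedModule p.primeCompl P) ∧
    LocCoh.depth (Localization.AtPrime p) (LocalizedModule p.primeCompl (QuotSMulTop x P)) + 1 =
      LocCoh.depth (Localization.AtPrime p) (LocalizedModule p.primeCompl P) := by
  set A := Localization.AtPrime p with hA
  haveI : IsNoetherianRing A := IsLocalization.isNoetherianRing p.primeCompl A inferInstance
  haveI : Module.Finite A (LocalizedModule p.primeCompl P) :=
    Module.Finite.of_isLocalizedModule p.primeCompl (LocalizedModule.mkLinearMap p.primeCompl P)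
  haveI : Module.Flat T A := IsLocalization.flat _ p.primeCompl
  have hmem : algebraMap T A x ∈ IsLocalRing.maximalIdeal A :=
    (IsLocalization.AtPrime.to_map_mem_maximal_iff A p x).mpr hxp
  have hreg : IsSMulRegular (LocalizedModule p.primeCompl P) (algebraMap T A x) :=
    hx.of_flat_of_isBaseChange
      (IsLocalizedModule.isBaseChange p.primeCompl A (LocalizedModule.mkLinearMap p.primeCompl P))
  have e := Groth.Agent.H72.DepthLocIneq.quotLocEquiv P p x
  constructor
  · rw [← Module.supportDim_eq_of_equiv e]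
    exact Module.supportDim_quotSMulTop_succ_eq_supportDim hreg hmem
  · exact le_antisymm
      (Groth.Agent.H72.DepthLocIneq.depth_localization_quot_add_one_le P p x hxp hreg)
      (Groth.Agent.H72.DepthLocIneq.depth_localization_le_quot_add_one P p x hxp hreg)

end LocQuot

section GrQuot

variable {k : Type u} [Field k] {S : Type u} [CommRing S] [Algebra k S]
  (ℬ : ℤ → Submodule k S) [GradedAlgebra ℬ]
  {N : Type u} [AddCommGroup N] [Module S N]
  (𝒩 : ℤ → AddSubgroup N) [DirectSum.Decomposition 𝒩] [SetLike.GradedSMul ℬ 𝒩]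

/-- the pieces of `N / yN` -/
def quotGr (y : S) : ℤ → AddSubgroup (QuotSMulTop y N) :=
  imGr 𝒩 (Submodule.mkQ (y • (⊤ : Submodule S N)))

theorem mem_smul_top_iff (y : S) (w : N) : w ∈ y • (⊤ : Submodule S N) ↔ ∃ v : N, w = y • v := by
  rw [Submodule.mem_smul_pointwise_iff_exists]
  constructor
  · rintro ⟨b, -, hb⟩
    exact ⟨b, hb.symm⟩
  · rintro ⟨c, hc⟩
    exact ⟨c, trivial, hc.symm⟩

theorem ker_mkQ_isHomogeneous {d : ℤ} {y : S} (hy : y ∈ ℬ d) :
    (LinearMap.ker (Submodule.mkQ (y • (⊤ : Submodule S N)))).IsHomogeneous 𝒩 := by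
  intro n u hu
  rw [Submodule.ker_mkQ, mem_smul_top_iff] at hu ⊢
  obtain ⟨v, rfl⟩ := hu
  refine ⟨(decompose 𝒩 v (n - d) : N), ?_⟩
  rw [← decompose_smul ℬ 𝒩 hy v (n - d), sub_add_cancel]

/-- the decomposition of `N / yN` -/
@[instance_reducible] noncomputable def quotDecomposition {d : ℤ} {y : S} (hy : y ∈ ℬ d) :
    DirectSum.Decomposition (quotGr 𝒩 y) :=
  (imGr_isInternal 𝒩 _ (Submodule.mkQ_surjective _)
    (ker_mkQ_isHomogeneous ℬ 𝒩 hy)).chooseDecomposition

theorem quotGradedSMul (y : S) : SetLike.GradedSMul ℬ (quotGr 𝒩 y) := by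
  refine ⟨?_⟩
  rintro i j r q hr ⟨v, hv, rfl⟩
  rw [vadd_eq_add]
  refine ⟨r • v, ?_, ?_⟩
  · have := SetLike.GradedSMul.smul_mem (A := ℬ) (B := 𝒩) hr hv
    rwa [vadd_eq_add] at this
  · exact (Submodule.mkQ (y • (⊤ : Submodule S N))).map_smul r v

end GrQuot

section Param

variable {k : Type u} [Field k] {S : Type u} [CommRing S] [Algebra k S]
  (ℬ : ℤ → Submodule k S) [GradedAlgebra ℬ]
  (hposS : ∀ n : ℤ, n < 0 → ℬ n = ⊥) (h0S : ℬ 0 = Submodule.span k {(1 : S)})

include hposS h0S in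
/-- graded Noether normalization of a Cohen–Macaulay module by regular elements -/
theorem exists_regular_nn [Algebra.FiniteType k S] [(irr ℬ).IsPrime]
    {N : Type u} [AddCommGroup N] [Module S N] [Module k N] [IsScalarTower k S N]
    (𝒩 : ℤ → AddSubgroup N) [DirectSum.Decomposition 𝒩] [SetLike.GradedSMul ℬ 𝒩]
    [Module.Finite S N] (s : ℕ)
    (hs : Module.supportDim S N = s)
    (hCM : Subsingleton (LocalizedModule (irr ℬ).primeCompl N) ∨
      LocCoh.IsCohenMacaulayModule (Localization.AtPrime (irr ℬ))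
        (LocalizedModule (irr ℬ).primeCompl N)) :
    ∃ D₁ : ℕ, 0 < D₁ ∧ ∀ c : ℕ, 0 < c → ∃ (y : Fin s → S) (B : Finset N),
      (∀ i, y i ∈ ℬ ((c * D₁ : ℕ) : ℤ)) ∧ (∀ b ∈ B, ∃ n, b ∈ 𝒩 n) ∧
      (∀ u : N, ∃ cf : N → MvPolynomial (Fin s) k, u = ∑ b ∈ B, aeval y (cf b) • b) ∧
      ∀ i, ∀ u : N, y i • u = 0 → u = 0 := by
  obtain ⟨D₁, hD₁, h⟩ := exists_graded_noether_module ℬ 𝒩 hposS h0S s hs
  refine ⟨D₁, hD₁, fun c hc => ?_⟩
  obtain ⟨y, B, hy, hBhom, hB, -⟩ := h c hc
  refine ⟨y, B, hy, hBhom, hB, fun i => ?_⟩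
  apply regular_of_homogeneous ℬ 𝒩 (hy i)
  intro n u hu hyu
  by_contra hu0
  have := eq_zero_of_aeval_smul_eq_zero ℬ 𝒩 hposS h0S s hs hCM y B hB hu hu0 (X i)
    (by rw [aeval_X]; exact hyu)
  exact X_ne_zero i this

include hposS h0S in
/-- **homogeneous regular sequences on graded Cohen–Macaulay modules** -/
theorem exists_regular_list [Algebra.FiniteType k S] [hirr : (irr ℬ).IsPrime] (D : ℕ)
    (hD : 0 < D) :
    ∀ (s : ℕ) (N : Type u) [AddCommGroup N] [Module S N] [Module k N] [IsScalarTower k S N]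
      (𝒩 : ℤ → AddSubgroup N) [DirectSum.Decomposition 𝒩] [SetLike.GradedSMul ℬ 𝒩]
      [Module.Finite S N],
      Module.supportDim S N = s →
      (Subsingleton (LocalizedModule (irr ℬ).primeCompl N) ∨
        LocCoh.IsCohenMacaulayModule (Localization.AtPrime (irr ℬ))
          (LocalizedModule (irr ℬ).primeCompl N)) →
      ∃ gs : List S, gs.length = s ∧ (∀ g ∈ gs, ∃ c : ℕ, 1 ≤ c ∧ g ∈ ℬ ((c * D : ℕ) : ℤ)) ∧
        IsWeaklyRegular N gs := by
  intro s
  induction s with
  | zero =>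
    intro N _ _ _ _ 𝒩 _ _ _ _ _
    exact ⟨[], rfl, by simp, IsWeaklyRegular.nil S N⟩
  | succ s ih =>
    intro N _ _ _ _ 𝒩 _ _ _ hs hCM
    haveI : IsNoetherianRing S := Algebra.FiniteType.isNoetherianRing k S
    obtain ⟨D₁, hD₁, h⟩ := exists_regular_nn ℬ hposS h0S 𝒩 (s + 1) hs hCM
    obtain ⟨y, B, hy, -, -, hyreg⟩ := h D hD
    set y₀ := y 0 with hy₀def
    have hy₀ : y₀ ∈ ℬ ((D * D₁ : ℕ) : ℤ) := hy 0
    have hy₀reg : IsSMulRegular N y₀ := isSMulRegular_iff_right_eq_zero_of_smul.mpr (hyreg 0)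
    have hy₀irr : y₀ ∈ irr ℬ :=
      PosHom.mem_irr (𝒜 := ℬ) ⟨_, by exact_mod_cast Nat.mul_pos hD hD₁, hy₀⟩
    letI : DirectSum.Decomposition (quotGr 𝒩 y₀) := quotDecomposition ℬ 𝒩 hy₀
    haveI : SetLike.GradedSMul ℬ (quotGr 𝒩 y₀) := quotGradedSMul ℬ 𝒩 y₀
    have hle := le_supportDim_localization_irr ℬ 𝒩 hposS h0S (s + 1) hs
    have hge := supportDim_localizedModule_le (P := N) (irr ℬ)
    rw [hs] at hge
    have hdimloc : Module.supportDim (Localization.AtPrime (irr ℬ))
        (LocalizedModule (irr ℬ).primeCompl N) = ((s + 1 : ℕ) : WithBot ℕ∞) := le_antisymm hge hle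
    have hNnt : ¬ Subsingleton (LocalizedModule (irr ℬ).primeCompl N) := by
      intro hsub
      rw [Module.supportDim_eq_bot_of_subsingleton] at hdimloc
      exact WithBot.bot_ne_coe hdimloc
    have hCM' := hCM.resolve_left hNnt
    obtain ⟨h1, h2⟩ := localized_quot N (irr ℬ) y₀ hy₀irr hy₀reg
    have hQloc : Module.supportDim (Localization.AtPrime (irr ℬ))
        (LocalizedModule (irr ℬ).primeCompl (QuotSMulTop y₀ N)) = (s : WithBot ℕ∞) := by
      apply wb_eq_of_add_one_eq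
      rw [h1, hdimloc]
      push_cast
      rfl
    have hdepthN : LocCoh.depth (Localization.AtPrime (irr ℬ))
        (LocalizedModule (irr ℬ).primeCompl N) = ((s + 1 : ℕ) : ℕ∞) := by
      unfold LocCoh.IsCohenMacaulayModule at hCM'
      rw [hdimloc] at hCM'
      exact_mod_cast hCM'.symm
    have hdepthQ : LocCoh.depth (Localization.AtPrime (irr ℬ))
        (LocalizedModule (irr ℬ).primeCompl (QuotSMulTop y₀ N)) = (s : ℕ∞) := by
      rw [hdepthN] at h2
      have h3 : LocCoh.depth (Localization.AtPrime (irr ℬ))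
          (LocalizedModule (irr ℬ).primeCompl (QuotSMulTop y₀ N)) + 1 = (s : ℕ∞) + 1 := by
        rw [h2]; push_cast; rfl
      exact (ENat.add_left_injective_of_ne_top ENat.one_ne_top) h3
    have hQCM : LocCoh.IsCohenMacaulayModule (Localization.AtPrime (irr ℬ))
        (LocalizedModule (irr ℬ).primeCompl (QuotSMulTop y₀ N)) := by
      unfold LocCoh.IsCohenMacaulayModule
      rw [hQloc, hdepthQ]
      rfl
    have hQdim : Module.supportDim S (QuotSMulTop y₀ N) = (s : WithBot ℕ∞) := by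
      apply le_antisymm
      · apply wb_le_of_add_one_le
        have := Module.supportDim_quotSMulTop_succ_le_of_notMem_minimalPrimes (M := N) (x := y₀)
          (fun _ => hy₀reg.notMem_of_mem_minimalPrimes)
        rw [hs] at this
        push_cast at this
        exact this
      · rw [← hQloc]
        exact supportDim_localizedModule_le _
    obtain ⟨gs, hlen, hdeg, hreg⟩ := ih (QuotSMulTop y₀ N) (quotGr 𝒩 y₀) hQdim (Or.inr hQCM)
    refine ⟨y₀ :: gs, by simp [hlen], ?_, (isWeaklyRegular_cons_iff N y₀ gs).mpr ⟨hy₀reg, hreg⟩⟩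
    intro g hg
    rcases List.mem_cons.mp hg with rfl | hg
    · exact ⟨D₁, hD₁, by rw [Nat.mul_comm]; exact hy₀⟩
    · exact hdeg g hg

end Param

section DimOne

variable {k : Type u} [Field k] {R : Type u} [CommRing R] [Algebra k R]
  (𝒜 : ℤ → Submodule k R) [GradedAlgebra 𝒜]
  (hposR : ∀ n : ℤ, n < 0 → 𝒜 n = ⊥) (h0R : 𝒜 0 = Submodule.span k {(1 : R)})
  {M : Type u} [AddCommGroup M] [Module R M] [Module k M] [IsScalarTower k R M]
  (ℳ : ℤ → AddSubgroup M) [DirectSum.Decomposition ℳ] [SetLike.GradedSMul 𝒜 ℳ]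

omit [GradedAlgebra 𝒜] in
theorem aeval_smul_eq (x : Fin 1 → R) (b : M) (p : MvPolynomial (Fin 1) k) :
    ∃ w : M, ∃ a : k, aeval x p • b = x 0 • w + a • b := by
  induction p using MvPolynomial.induction_on with
  | C a => exact ⟨0, a, by rw [aeval_C, algebraMap_smul, smul_zero, zero_add]⟩
  | add p q hp hq =>
    obtain ⟨w₁, a₁, h₁⟩ := hp
    obtain ⟨w₂, a₂, h₂⟩ := hq
    exact ⟨w₁ + w₂, a₁ + a₂, by rw [map_add, add_smul, h₁, h₂, smul_add, add_smul]; abel⟩
  | mul_X p i hp =>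
    refine ⟨aeval x p • b, 0, ?_⟩
    rw [map_mul, aeval_X, Subsingleton.elim i 0, mul_comm, mul_smul, zero_smul, add_zero]

/-- a module finite over `k[x]`: the pieces of large degree lie in `xM` -/
theorem exists_bound_of_nn1 {D : ℤ} (x : Fin 1 → R) (hx : x 0 ∈ 𝒜 D) (B : Finset M)
    (hBhom : ∀ b ∈ B, ∃ n, b ∈ ℳ n)
    (hB : ∀ u : M, ∃ c : M → MvPolynomial (Fin 1) k, u = ∑ b ∈ B, aeval x (c b) • b) :
    ∃ N₀ : ℤ, ∀ m > N₀, ∀ u ∈ ℳ m, ∃ v : M, u = x 0 • v := by
  classical
  choose! deg hdeg using hBhom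
  refine ⟨∑ b ∈ B, |deg b|, fun m hm u hu => ?_⟩
  obtain ⟨c, hc⟩ := hB u
  have key : ∃ w : M, ∃ a : M → k, u = x 0 • w + ∑ b ∈ B, a b • b := by
    choose w a hwa using fun b => aeval_smul_eq x b (c b)
    refine ⟨∑ b ∈ B, w b, a, ?_⟩
    rw [hc, Finset.smul_sum, ← Finset.sum_add_distrib]
    exact Finset.sum_congr rfl fun b _ => hwa b
  obtain ⟨w, a, hwa⟩ := key
  refine ⟨(decompose ℳ w (m - D) : M), ?_⟩
  set G := Groth.Agent.H98.gproj ℳ (Groth.Agent.H98.smul_mem_piece 𝒜 ℳ) m with hG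
  have h1 : G u = u := Groth.Agent.H98.gproj_of_mem_same ℳ _ hu
  have h2 : G (∑ b ∈ B, a b • b) = 0 := by
    rw [map_sum]
    refine Finset.sum_eq_zero fun b hb => ?_
    rw [map_smul]
    have hne : deg b ≠ m := by
      have h3 : |deg b| ≤ ∑ b ∈ B, |deg b| :=
        Finset.single_le_sum (fun i _ => abs_nonneg (deg i)) hb
      have h4 := le_abs_self (deg b)
      omega
    rw [Groth.Agent.H98.gproj_of_mem_ne ℳ _ (hdeg b hb) hne, smul_zero]
  have h3 : G (x 0 • w) = x 0 • (decompose ℳ w (m - D) : M) := by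
    rw [hG, Groth.Agent.H98.gproj_apply, ← decompose_smul 𝒜 ℳ hx w (m - D), sub_add_cancel]
  rw [← h1, hwa, map_add, h2, add_zero, h3]

include hposR h0R ℳ in
/-- a power of the irrelevant ideal carries `M` into `xM` -/
theorem exists_pow_irr_smul [Algebra.FiniteType k R] [Module.Finite R M] [Nontrivial R] {D : ℤ}
    {x : R} (hx : x ∈ 𝒜 D) (hxreg : IsSMulRegular M x) (hdM : Module.supportDim R M = 1) :
    ∃ K : ℕ, ∀ r ∈ irr 𝒜 ^ K, ∀ u : M, ∃ v : M, r • u = x • v := by
  haveI : IsNoetherianRing R := Algebra.FiniteType.isNoetherianRing k R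
  letI : DirectSum.Decomposition (quotGr ℳ x) := quotDecomposition 𝒜 ℳ hx
  haveI : SetLike.GradedSMul 𝒜 (quotGr ℳ x) := quotGradedSMul 𝒜 ℳ x
  have hdimQ : Module.supportDim R (QuotSMulTop x M) ≤ ((0 : ℕ) : WithBot ℕ∞) := by
    apply wb_le_of_add_one_le
    have := Module.supportDim_quotSMulTop_succ_le_of_notMem_minimalPrimes (M := M) (x := x)
      (fun _ => hxreg.notMem_of_mem_minimalPrimes)
    rw [hdM] at this
    simpa using this
  have hcb := chainBound_annihilator (M := QuotSMulTop x M) 0 hdimQ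
  have hhom := Groth.Agent.H85.GradedNN.annihilator_isHomogeneous 𝒜 (quotGr ℳ x)
  have hrad := irr_le_radical_of_chainBound_zero 𝒜 hposR h0R _ hhom hcb
  obtain ⟨K, hK⟩ := Ideal.exists_radical_pow_le_of_fg (Module.annihilator R (QuotSMulTop x M))
    (IsNoetherian.noetherian _)
  refine ⟨K, fun r hr u => ?_⟩
  have h1 : r ∈ Module.annihilator R (QuotSMulTop x M) := hK (Ideal.pow_right_mono hrad K hr)
  rw [Module.mem_annihilator] at h1
  have h2 := h1 (Submodule.Quotient.mk u)
  rw [← Submodule.Quotient.mk_smul, Submodule.Quotient.mk_eq_zero, mem_smul_top_iff] at h2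
  exact h2

end DimOne

end Groth.Agent.H85.SegMod1
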