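import Groth.Agent.H85.SegreOneCMC
import Groth.Agent.H85.GrLCH1

/-!
# Segre products with a one-dimensional factor: main theorem (helper85)

`R`, `S` graded Cohen–Macaulay over `k`, `dim R = 1`, `dim S = s ≥ 1`.  If `s ≥ 2` then `R # S` is
Cohen–Macaulay iff `H^1_{R_+}(R)_n = 0` or `S_n = 0` for every `n`; if `s = 1` then `R # S` is
Cohen–Macaulay.
-/

set_option autoImplicit false
universe u

namespace Groth.Agent.H85.SegreOneCM

open scoped TensorProduct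
open DirectSum Groth.Agent.H85.GradedNN Groth.Agent.H85.GradedCM Groth.Agent.H85.StdGraded
  Groth.Agent.H85.DepthSocle Groth.Agent.H85.SegreRingFacts Groth.Agent.H85.SegreDimOne
  Groth.Agent.H85.SegreGorOne Groth.Agent.H85.GrLCRegSeq Groth.Agent.H85.GrLCRS
  Groth.Agent.H98.GrStar Groth.Agent.H85.GrConv

section Irr

variable {k : Type*} [Field k] {R : Type*} [CommRing R] [Algebra k R]
  (𝒜 : ℤ → Submodule k R) [GradedAlgebra 𝒜]

theorem irr_eq_span_iUnion :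
    irr 𝒜 = Ideal.span (⋃ n ∈ Set.Ioi (0 : ℤ), (𝒜 n : Set R)) := by
  unfold irr
  congr 1
  ext z
  simp only [Set.mem_setOf_eq, Set.mem_iUnion, Set.mem_Ioi, SetLike.mem_coe, exists_prop]
  rfl

end Irr

section H1

variable {k : Type u} [Field k] {R : Type u} [CommRing R] [Algebra k R]
  (𝒜 : ℤ → Submodule k R) [GradedAlgebra 𝒜]

/-- the pieces of `*H^1_{R_+}(R)` in elementary terms -/
theorem Hcomp_one_eq_bot_iff [IsNoetherianRing R] (mR : HomogeneousIdeal 𝒜)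
    (hmR : mR.toIdeal = Ideal.span (⋃ n ∈ Set.Ioi (0 : ℤ), (𝒜 n : Set R)))
    (I : GrLC.StarInjRes 𝒜 𝒜) {D : ℤ} (hD : 0 < D) {x : R} (hx : x ∈ 𝒜 D)
    (hxreg : ∀ c : R, x * c = 0 → c = 0) (hrad : irr 𝒜 ≤ (Ideal.span {x}).radical) (n : ℤ) :
    I.Hcomp mR 1 n = ⊥ ↔ Cond 𝒜 x D n := by
  obtain ⟨N, hN⟩ := Ideal.exists_radical_pow_le_of_fg (Ideal.span {x})
    (IsNoetherian.noetherian _)
  have hN' : (homAG 𝒜 mR).toIdeal ^ N ≤ Ideal.span {x} := by
    rw [homAG_toIdeal, hmR, ← irr_eq_span_iUnion]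
    exact (Ideal.pow_right_mono hrad N).trans hN
  have hxa : x ∈ (homAG 𝒜 mR).toIdeal := by
    rw [homAG_toIdeal, hmR, ← irr_eq_span_iUnion]
    exact PosHom.mem_irr (𝒜 := 𝒜) ⟨D, hD, hx⟩
  have hx' : x ∈ selfGr 𝒜 D := hx
  have key := Groth.Agent.H85.GrLCH1.Hgr_one_ne_bot_iff (selfGr 𝒜) (homAG 𝒜 mR) hx' hxa hxreg N hN'
    (resAG 𝒜 I) n
  rw [Hcomp_eq_bot_iff]
  constructor
  · intro h j r hr
    by_contra hrx
    exact (key.mpr ⟨j, r, hr, hrx⟩) h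
  · intro h
    by_contra hne
    obtain ⟨j, r, hr, hrx⟩ := key.mp hne
    exact hrx (h j r hr)

end H1

section Main

variable {k : Type u} [Field k] {R S : Type u} [CommRing R] [CommRing S] [Algebra k R] [Algebra k S]
  (𝒜 : ℤ → Submodule k R) [GradedAlgebra 𝒜] (ℬ : ℤ → Submodule k S) [GradedAlgebra ℬ]

theorem main (hposR : ∀ n : ℤ, n < 0 → 𝒜 n = ⊥)
    (h0R : 𝒜 0 = Submodule.span k {(1 : R)}) [Algebra.FiniteType k R]
    (hposS : ∀ n : ℤ, n < 0 → ℬ n = ⊥) (h0S : ℬ 0 = Submodule.span k {(1 : S)})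
    [Algebra.FiniteType k S]
    (T : Type u) [CommRing T] [Algebra k T] (𝒯 : ℤ → Submodule k T) [GradedAlgebra 𝒯]
    (ψ : T →ₐ[k] R ⊗[k] S) (hψ : Function.Injective ψ)
    (hdegT : ∀ n : ℤ, (𝒯 n).map ψ.toLinearMap =
      Submodule.span k {x : R ⊗[k] S | ∃ a ∈ 𝒜 n, ∃ b ∈ ℬ n, x = a ⊗ₜ[k] b})
    [LocCoh.IsCohenMacaulayRing R] [LocCoh.IsCohenMacaulayRing S]
    (mR : HomogeneousIdeal 𝒜)
    (hmR : mR.toIdeal = Ideal.span (⋃ n ∈ Set.Ioi (0 : ℤ), (𝒜 n : Set R)))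
    (I : GrLC.StarInjRes 𝒜 𝒜) (hr : ringKrullDim R = 1) (s : ℕ) (hs : ringKrullDim S = s)
    (h1s : 1 ≤ s) :
    (2 ≤ s → (LocCoh.IsCohenMacaulayRing T ↔ ∀ n : ℤ, I.Hcomp mR 1 n = ⊥ ∨ ℬ n = ⊥)) ∧
      (s = 1 → LocCoh.IsCohenMacaulayRing T) := by
  classical
  haveI : Nontrivial R := by
    by_contra hnt
    rw [not_nontrivial_iff_subsingleton] at hnt
    rw [ringKrullDim_eq_bot_of_subsingleton] at hr
    exact absurd hr (by simp)
  haveI : Nontrivial S := by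
    by_contra hnt
    rw [not_nontrivial_iff_subsingleton] at hnt
    rw [ringKrullDim_eq_bot_of_subsingleton] at hs
    exact absurd hs (by simp)
  haveI : IsNoetherianRing R := Algebra.FiniteType.isNoetherianRing k R
  have hs1 : (1 : WithBot ℕ∞) ≤ ringKrullDim S := by
    rw [hs]
    exact_mod_cast h1s
  obtain ⟨x₀, ⟨d₁, hd₁, hx₀⟩, hx₀reg⟩ := exists_posHom_regular 𝒜 hposR h0R (by rw [hr])
  obtain ⟨y₀, ⟨d₂, hd₂, hy₀⟩, hy₀reg⟩ := exists_posHom_regular ℬ hposS h0S hs1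
  set D : ℤ := d₁ * d₂ with hDdef
  have hD : 0 < D := mul_pos hd₁ hd₂
  set x : R := x₀ ^ d₂.toNat with hxdef
  set y : S := y₀ ^ d₁.toNat with hydef
  have hx : x ∈ 𝒜 D := by
    have h1 := SetLike.pow_mem_graded d₂.toNat hx₀
    have h2 : d₂.toNat • d₁ = D := by
      rw [nsmul_eq_mul, Int.toNat_of_nonneg hd₂.le, hDdef, mul_comm]
    rwa [h2] at h1
  have hy : y ∈ ℬ D := by
    have h1 := SetLike.pow_mem_graded d₁.toNat hy₀
    have h2 : d₁.toNat • d₂ = D := by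
      rw [nsmul_eq_mul, Int.toNat_of_nonneg hd₁.le, hDdef]
    rwa [h2] at h1
  have hxreg : ∀ c : R, x * c = 0 → c = 0 := pow_regular hx₀reg _
  have hyreg : ∀ c : S, y * c = 0 → c = 0 := pow_regular hy₀reg _
  -- the Segre product
  have hposT := segre_hpos 𝒜 ℬ 𝒯 ψ hψ hdegT hposR
  have h0T := segre_h0 𝒜 ℬ 𝒯 ψ hψ hdegT h0R h0S
  haveI : Algebra.FiniteType k T := segre_finiteType 𝒜 ℬ 𝒯 ψ hψ hdegT hposR h0R h0S
  haveI : IsNoetherianRing T := Algebra.FiniteType.isNoetherianRing k T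
  have hdimT' : ringKrullDim T = ((1 + s - 1 : ℕ) : WithBot ℕ∞) :=
    Groth.Agent.H85.SegreDim.main 𝒜 ℬ hposR h0R hposS h0S T 𝒯 ψ hψ hdegT 1 s
      (by rw [hr]; rfl) hs le_rfl h1s
  have hdimT : ringKrullDim T = s := by
    rw [hdimT']
    congr 2
    omega
  haveI : Nontrivial T := by
    by_contra hnt
    rw [not_nontrivial_iff_subsingleton] at hnt
    rw [ringKrullDim_eq_bot_of_subsingleton] at hdimT
    exact WithBot.bot_ne_coe hdimT
  -- `R / xR` has dimension zero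
  have hdimx : ringKrullDim (R ⧸ Ideal.span {x}) ≤ 0 := ringKrullDim_quotient_le_zero hxreg hr
  have hbig := exists_bound_piece_le 𝒜 hposR h0R hx hdimx
  have hrad : irr 𝒜 ≤ (Ideal.span {x}).radical := by
    have hcb : ChainBound (Ideal.span {x}) 0 :=
      chainBound_of_ringKrullDim_quotient_le _ 0 (by exact_mod_cast hdimx)
    have hhom : (Ideal.span {x}).IsHomogeneous 𝒜 := by
      apply Ideal.homogeneous_span
      rintro y' hy'
      rw [Set.mem_singleton_iff] at hy'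
      exact ⟨D, hy' ▸ hx⟩
    exact irr_le_radical_of_chainBound_zero 𝒜 hposR h0R _ hhom hcb
  have hH1 : ∀ n : ℤ, I.Hcomp mR 1 n = ⊥ ↔ Cond 𝒜 x D n :=
    fun n => Hcomp_one_eq_bot_iff 𝒜 mR hmR I hD hx hxreg hrad n
  have hxpow : ∀ j : ℕ, x ^ j ∈ 𝒜 ((j : ℤ) * D) := by
    intro j
    have := SetLike.pow_mem_graded j hx
    rwa [nsmul_eq_mul] at this
  constructor
  · intro h2s
    constructor
    · intro hT n
      have hht : (2 : ℕ∞) ≤ (irr 𝒯).height := by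
        have := le_height_irr 𝒯 hposT h0T 2 (by
          rw [hdimT]
          exact_mod_cast h2s)
        exact_mod_cast this
      rcases cond_of_cm 𝒜 ℬ 𝒯 ψ hψ hdegT hposT h0T hD hx hxreg hy hyreg hbig hT hht n with h | h
      · exact Or.inl ((hH1 n).mpr h)
      · exact Or.inr h
    · intro hall
      have hC : ∀ n : ℤ, Cond 𝒜 x D n ∨ ℬ n = ⊥ := fun n =>
        (hall n).imp (hH1 n).mp id
      obtain ⟨g, c, hg, hc, hgreg⟩ := exists_regular_seq ℬ hposS h0S s hs hD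
      have hex : ∀ i : ℕ, ∃ t : T, i < s → (t ∈ 𝒯 ((c i : ℤ) * D) ∧ ψ t = (x ^ c i) ⊗ₜ[k] g i) := by
        intro i
        by_cases hi : i < s
        · obtain ⟨t, ht, htψ⟩ := exists_piece 𝒜 ℬ 𝒯 ψ hdegT _ _ _ (hxpow (c i)) (hg i hi)
          exact ⟨t, fun _ => ⟨ht, htψ⟩⟩
        · exact ⟨0, fun h => absurd h hi⟩
      choose f hf using hex
      have hreg := segre_regular 𝒜 ℬ 𝒯 ψ hψ hdegT hx g c s hg hc f (fun i hi => (hf i hi).2) hC
        hxreg hgreg (fun i hi => (hf i hi).1)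
      refine isCohenMacaulayRing_of_regular 𝒯 hposT h0T s hdimT f (fun i hi => ?_) hreg
      refine PosHom.mem_irr (𝒜 := 𝒯) ⟨(c i : ℤ) * D, ?_, (hf i hi).1⟩
      have : (1 : ℤ) ≤ c i := by exact_mod_cast hc i hi
      positivity
  · intro hs1'
    subst hs1'
    obtain ⟨f₀, hf₀, hf₀ψ⟩ := exists_piece 𝒜 ℬ 𝒯 ψ hdegT D x y hx hy
    have hf₀reg : ∀ c : T, f₀ * c = 0 → c = 0 := by
      intro c hc
      apply hψ
      rw [map_zero]
      apply tmul_mul_regular (k := k) hxreg hyreg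
      rw [← hf₀ψ, ← map_mul, hc, map_zero]
    refine isCohenMacaulayRing_of_regular 𝒯 hposT h0T 1 hdimT (fun _ => f₀)
      (fun i _ => PosHom.mem_irr (𝒜 := 𝒯) ⟨D, hD, hf₀⟩) ?_
    intro i hi t ht
    have hi0 : i = 0 := by omega
    subst hi0
    rw [Jid_zero, Ideal.mem_bot] at ht ⊢
    exact hf₀reg t ht

end Main

end Groth.Agent.H85.SegreOneCM
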