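import Groth.Agent.H85.SegMod1C
import Groth.Agent.H85.SegMod1E
import Groth.Agent.H85.GrLCH1M
import Groth.Agent.H85.GrConvM
import Groth.Agent.H85.SegreOneCMD

/-!
# Segre products of modules with a one-dimensional factor: main theorem (helper85)

`M` a graded Cohen–Macaulay `R`-module of dimension `1`, `N` a graded Cohen–Macaulay `S`-module of
dimension `s ≥ 1`, `P = M # N ≠ 0`.  If `s ≥ 2` then `P` is Cohen–Macaulay iff
`H^1_{R_+}(M)_n = 0` or `N_n = 0` for every `n`; if `s = 1` then `P` is Cohen–Macaulay.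
-/

set_option autoImplicit false
universe u

namespace Groth.Agent.H85.SegMod1

open scoped TensorProduct
open DirectSum Groth.Agent.H98 Groth.Agent.H85.GrLCRegSeq Groth.Agent.H85.GradedNN
  Groth.Agent.H85.GradedCM Groth.Agent.H85.SegreGorOne Groth.Agent.H85.SegreRingFacts
  Groth.Agent.H98.GrStar Groth.Agent.H85.GrConv RingTheory.Sequence

section H1

variable {k : Type u} [Field k] {R : Type u} [CommRing R] [Algebra k R]
  (𝒜 : ℤ → Submodule k R) [GradedAlgebra 𝒜]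
  {M : Type u} [AddCommGroup M] [Module R M]
  (ℳ : ℤ → AddSubgroup M) [DirectSum.Decomposition ℳ] [SetLike.GradedSMul 𝒜 ℳ]

/-- the pieces of `*H^1_{R_+}(M)` in elementary terms -/
theorem Hcomp_one_eq_bot_iff_M [IsNoetherianRing R] (mR : HomogeneousIdeal 𝒜)
    (hmR : mR.toIdeal = Ideal.span (⋃ n ∈ Set.Ioi (0 : ℤ), (𝒜 n : Set R)))
    (EM : GrLC.StarInjRes 𝒜 ℳ) {D : ℤ} (hD : 0 < D) {x : R} (hx : x ∈ 𝒜 D)
    (hxreg : IsSMulRegular M x) (K : ℕ)
    (hK : ∀ r ∈ irr 𝒜 ^ K, ∀ u : M, ∃ v : M, r • u = x • v) (n : ℤ) :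
    EM.Hcomp mR 1 n = ⊥ ↔ CondM ℳ x D n := by
  haveI := gradedSMul_selfGr 𝒜 ℳ
  have hirr : (homAG 𝒜 mR).toIdeal = irr 𝒜 := by
    rw [homAG_toIdeal, hmR, ← Groth.Agent.H85.SegreOneCM.irr_eq_span_iUnion]
  have hxa : x ∈ (homAG 𝒜 mR).toIdeal := by
    rw [hirr]
    exact PosHom.mem_irr (𝒜 := 𝒜) ⟨D, hD, hx⟩
  have hK' : ∀ r ∈ (homAG 𝒜 mR).toIdeal ^ K, ∀ u : M, ∃ v : M, r • u = x • v := by
    rw [hirr]
    exact hK
  have hx' : x ∈ selfGr 𝒜 D := hx
  have key := Groth.Agent.H85.GrLCH1M.Hgr_one_ne_bot_iff (selfGr 𝒜) ℳ (homAG 𝒜 mR) hx' hxa hxreg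
    K hK' (resAGM 𝒜 ℳ EM) n
  rw [Hcomp_eq_bot_iff_M]
  unfold CondM
  constructor
  · intro h j u hu
    by_contra hne
    push Not at hne
    exact (key.mpr ⟨j, u, hu, hne⟩) h
  · intro h
    by_contra hne
    obtain ⟨j, u, hu, hux⟩ := key.mp hne
    obtain ⟨v, hv⟩ := h j u hu
    exact hux v hv

end H1

section List

variable {k : Type u} [Field k] {S : Type u} [CommRing S] [Algebra k S]
  (ℬ : ℤ → Submodule k S)
  {N : Type u} [AddCommGroup N] [Module S N]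

/-- from a regular list to a regular sequence in the `JM` form -/
theorem exists_fun_of_list (D : ℕ) (gs : List S) (s : ℕ) (hlen : gs.length = s)
    (hdeg : ∀ g ∈ gs, ∃ c : ℕ, 1 ≤ c ∧ g ∈ ℬ ((c * D : ℕ) : ℤ)) (hreg : IsWeaklyRegular N gs) :
    ∃ (g : ℕ → S) (c : ℕ → ℕ), (∀ i, i < s → g i ∈ ℬ ((c i : ℤ) * (D : ℤ))) ∧
      (∀ i, i < s → 1 ≤ c i) ∧ ∀ i, i < s → ∀ v : N, g i • v ∈ JM g N i → v ∈ JM g N i := by
  set g : ℕ → S := fun i => gs.getD i 0 with hg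
  have hgi : ∀ i (hi : i < gs.length), g i = gs[i] := fun i hi => List.getD_eq_getElem gs 0 hi
  have hex : ∀ i, ∃ c : ℕ, i < s → (1 ≤ c ∧ g i ∈ ℬ ((c : ℤ) * (D : ℤ))) := by
    intro i
    by_cases hi : i < s
    · have hi' : i < gs.length := by omega
      obtain ⟨c, hc1, hc⟩ := hdeg (gs[i]) (List.getElem_mem hi')
      refine ⟨c, fun _ => ⟨hc1, ?_⟩⟩
      rw [hgi i hi']
      have : ((c * D : ℕ) : ℤ) = (c : ℤ) * (D : ℤ) := by push_cast; rfl
      rwa [this] at hc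
    · exact ⟨1, fun h => absurd h hi⟩
  choose c hc using hex
  have hofn : List.ofFn (fun l : Fin s => g l) = gs := by
    apply List.ext_getElem
    · rw [List.length_ofFn, hlen]
    · intro i h1 h2
      rw [List.getElem_ofFn]
      exact hgi i h2
  refine ⟨g, c, fun i hi => (hc i hi).2, fun i hi => (hc i hi).1, ?_⟩
  apply JM_of_isWeaklyRegular g N s
  rw [hofn]
  exact hreg

end List

section Main

variable {k : Type u} [Field k] {R S : Type u} [CommRing R] [CommRing S] [Algebra k R] [Algebra k S]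
  (𝒜 : ℤ → Submodule k R) [GradedAlgebra 𝒜] (ℬ : ℤ → Submodule k S) [GradedAlgebra ℬ]
  {M N : Type u} [AddCommGroup M] [Module R M] [Module k M] [IsScalarTower k R M]
  [AddCommGroup N] [Module S N] [Module k N] [IsScalarTower k S N]
  (ℳ : ℤ → AddSubgroup M) [DirectSum.Decomposition ℳ] [SetLike.GradedSMul 𝒜 ℳ]
  (𝒩 : ℤ → AddSubgroup N) [DirectSum.Decomposition 𝒩] [SetLike.GradedSMul ℬ 𝒩]

/-- the common part: Cohen–Macaulayness of `P` from a regular sequence of length `dim P` in the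
irrelevant ideal of `T` -/
theorem cm_of_regular {T : Type u} [CommRing T] [Algebra k T] (𝒯 : ℤ → Submodule k T)
    [GradedAlgebra 𝒯] (hposT : ∀ n : ℤ, n < 0 → 𝒯 n = ⊥) (h0T : 𝒯 0 = Submodule.span k {(1 : T)})
    [Algebra.FiniteType k T]
    {P : Type u} [AddCommGroup P] [Module T P] (𝒬 : ℤ → AddSubgroup P)
    [DirectSum.Decomposition 𝒬] [SetLike.GradedSMul 𝒯 𝒬] [Module.Finite T P]
    [hirr : (irr 𝒯).IsPrime] (s : ℕ) (hdimP : Module.supportDim T P = s)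
    (f : ℕ → T) (hf : ∀ i, i < s → f i ∈ irr 𝒯)
    (hreg : ∀ i, i < s → ∀ p : P, f i • p ∈ JM f P i → p ∈ JM f P i) :
    ∀ (q : Ideal T) [q.IsPrime], Subsingleton (LocalizedModule q.primeCompl P) ∨
      LocCoh.IsCohenMacaulayModule (Localization.AtPrime q) (LocalizedModule q.primeCompl P) := by
  haveI : IsNoetherianRing T := Algebra.FiniteType.isNoetherianRing k T
  have hle := le_supportDim_localization_irr 𝒯 𝒬 hposT h0T s hdimP
  have hnt : Nontrivial (LocalizedModule (irr 𝒯).primeCompl P) := by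
    by_contra hcon
    rw [not_nontrivial_iff_subsingleton] at hcon
    rw [Module.supportDim_eq_bot_of_subsingleton] at hle
    exact absurd hle (by simp)
  have hwr := isWeaklyRegular_of_JM f P s hreg
  have hcm := isCM_localization_of_isWeaklyRegular (P := P) (irr 𝒯) s hdimP
    (List.ofFn (fun l : Fin s => f l)) (by simp) (by
      intro r hr
      rw [List.mem_ofFn] at hr
      obtain ⟨l, rfl⟩ := hr
      exact hf l l.2) hwr hnt
  exact cm_all_of_cm_irr 𝒯 hposT h0T 𝒬 hcm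

theorem main (hposR : ∀ n : ℤ, n < 0 → 𝒜 n = ⊥)
    (h0R : 𝒜 0 = Submodule.span k {(1 : R)}) [Algebra.FiniteType k R]
    (hposS : ∀ n : ℤ, n < 0 → ℬ n = ⊥) (h0S : ℬ 0 = Submodule.span k {(1 : S)})
    [Algebra.FiniteType k S]
    (T : Type u) [CommRing T] [Algebra k T] (𝒯 : ℤ → Submodule k T) [GradedAlgebra 𝒯]
    (ψ : T →ₐ[k] R ⊗[k] S) (hT : GrSeg.IsSegreRing 𝒜 ℬ 𝒯 ψ)
    (mR : HomogeneousIdeal 𝒜)
    (hmR : mR.toIdeal = Ideal.span (⋃ n ∈ Set.Ioi (0 : ℤ), (𝒜 n : Set R)))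
    [Module.Finite R M] (EM : GrLC.StarInjRes 𝒜 ℳ) [Module.Finite S N]
    (P : Type u) [AddCommGroup P] [Module T P] [Module k P] [IsScalarTower k T P]
    (𝒬 : ℤ → AddSubgroup P) [DirectSum.Decomposition 𝒬] (φ : P →ₗ[k] M ⊗[k] N)
    (hP : GrSeg.IsSegreMod ψ ℳ 𝒩 𝒬 φ) [Nontrivial P] (s : ℕ) (h1s : 1 ≤ s)
    (hdM : Module.supportDim R M = 1) (hdN : Module.supportDim S N = s)
    (hMcm : ∀ (q : Ideal R) [q.IsPrime], Subsingleton (LocalizedModule q.primeCompl M) ∨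
      LocCoh.IsCohenMacaulayModule (Localization.AtPrime q) (LocalizedModule q.primeCompl M))
    (hNcm : ∀ (q : Ideal S) [q.IsPrime], Subsingleton (LocalizedModule q.primeCompl N) ∨
      LocCoh.IsCohenMacaulayModule (Localization.AtPrime q) (LocalizedModule q.primeCompl N)) :
    (2 ≤ s → ((∀ (q : Ideal T) [q.IsPrime], Subsingleton (LocalizedModule q.primeCompl P) ∨
        LocCoh.IsCohenMacaulayModule (Localization.AtPrime q) (LocalizedModule q.primeCompl P)) ↔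
        ∀ d : ℤ, EM.Hcomp mR 1 d = ⊥ ∨ 𝒩 d = ⊥)) ∧
      (s = 1 → ∀ (q : Ideal T) [q.IsPrime], Subsingleton (LocalizedModule q.primeCompl P) ∨
        LocCoh.IsCohenMacaulayModule (Localization.AtPrime q) (LocalizedModule q.primeCompl P)) := by
  classical
  have hψ : Function.Injective ψ := hT.1
  have hdegT := hT.2
  haveI : Nontrivial M := by
    by_contra hnt
    rw [not_nontrivial_iff_subsingleton] at hnt
    rw [Module.supportDim_eq_bot_of_subsingleton] at hdM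
    exact absurd hdM (by simp)
  haveI : Nontrivial N := by
    by_contra hnt
    rw [not_nontrivial_iff_subsingleton] at hnt
    rw [Module.supportDim_eq_bot_of_subsingleton] at hdN
    exact WithBot.bot_ne_coe hdN
  haveI : Nontrivial R := Module.nontrivial R M
  haveI : Nontrivial S := Module.nontrivial S N
  haveI : Nontrivial T := Module.nontrivial T P
  haveI : IsNoetherianRing R := Algebra.FiniteType.isNoetherianRing k R
  haveI : (irr 𝒜).IsPrime := (irr_isMaximal 𝒜 hposR h0R).isPrime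
  haveI : (irr ℬ).IsPrime := (irr_isMaximal ℬ hposS h0S).isPrime
  -- the Segre ring and module
  have hposT := segre_hpos 𝒜 ℬ 𝒯 ψ hψ hdegT hposR
  have h0T := segre_h0 𝒜 ℬ 𝒯 ψ hψ hdegT h0R h0S
  haveI : Algebra.FiniteType k T := segre_finiteType 𝒜 ℬ 𝒯 ψ hψ hdegT hposR h0R h0S
  haveI : IsNoetherianRing T := Algebra.FiniteType.isNoetherianRing k T
  haveI hmaxT : (irr 𝒯).IsMaximal := irr_isMaximal 𝒯 hposT h0T
  haveI : (irr 𝒯).IsPrime := hmaxT.isPrime
  haveI : IsNoetherian T P := segre_isNoetherian 𝒜 ℬ 𝒯 ψ hT ℳ 𝒩 𝒬 φ hP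
  haveI : Module.Finite T P := Module.IsNoetherian.finite T P
  haveI : SetLike.GradedSMul 𝒯 𝒬 := segre_gradedSMul 𝒜 ℬ ℳ 𝒩 𝒯 ψ 𝒬 φ hP hT
  have hdimP : Module.supportDim T P = (s : WithBot ℕ∞) := by
    have hdM' : Module.supportDim R M = ((1 : ℕ) : WithBot ℕ∞) := by rw [hdM]; rfl
    rcases Groth.Agent.H85.SegreModCM.main_cm 𝒜 ℬ ℳ 𝒩 hposR h0R hposS h0S T 𝒯 ψ hT P 𝒬 φ hP 1 s
      le_rfl h1s hdM' hdN hMcm hNcm with h | h
    · rw [h]
      congr 2
      omega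
    · exact absurd h (not_subsingleton P)
  have hlocdim := le_supportDim_localization_irr 𝒯 𝒬 hposT h0T s hdimP
  -- parameters
  have hdM' : Module.supportDim R M = ((1 : ℕ) : WithBot ℕ∞) := by rw [hdM]; rfl
  obtain ⟨D₁, hD₁, hRM⟩ := exists_regular_nn 𝒜 hposR h0R ℳ 1 hdM' (hMcm (irr 𝒜))
  obtain ⟨D₂, hD₂, hSN⟩ := exists_regular_nn ℬ hposS h0S 𝒩 s hdN (hNcm (irr ℬ))
  obtain ⟨xs, BM, hxs, hBMhom, hBM, hxsreg⟩ := hRM D₂ hD₂
  obtain ⟨ys, BN, hys, -, -, hysreg⟩ := hSN D₁ hD₁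
  set Dn : ℕ := D₂ * D₁ with hDn
  set D : ℤ := (Dn : ℤ) with hDdef
  have hDn0 : 0 < Dn := Nat.mul_pos hD₂ hD₁
  have hD : 0 < D := by
    rw [hDdef]
    exact_mod_cast hDn0
  set x : R := xs 0 with hxdef
  have hx : x ∈ 𝒜 D := hxs 0
  have hxreg : ∀ u : M, x • u = 0 → u = 0 := hxsreg 0
  have hxreg' : IsSMulRegular M x := isSMulRegular_iff_right_eq_zero_of_smul.mpr hxreg
  set y : S := ys ⟨0, h1s⟩ with hydef
  have hy : y ∈ ℬ D := by
    have := hys ⟨0, h1s⟩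
    rwa [Nat.mul_comm] at this
  have hyreg : ∀ v : N, y • v = 0 → v = 0 := hysreg ⟨0, h1s⟩
  have hbig := exists_bound_of_nn1 𝒜 ℳ xs hx BM hBMhom hBM
  obtain ⟨K, hK⟩ := exists_pow_irr_smul 𝒜 hposR h0R ℳ hx hxreg' hdM
  have hH1 : ∀ n : ℤ, EM.Hcomp mR 1 n = ⊥ ↔ CondM ℳ x D n :=
    fun n => Hcomp_one_eq_bot_iff_M 𝒜 ℳ mR hmR EM hD hx hxreg' K hK n
  have hxpow : ∀ j : ℕ, x ^ j ∈ 𝒜 ((j : ℤ) * D) := by
    intro j
    have := SetLike.pow_mem_graded j hx
    rwa [nsmul_eq_mul] at this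
  constructor
  · intro h2s
    constructor
    · intro hPcm n
      by_contra hcon
      have hnot : ¬ ∀ n : ℤ, CondM ℳ x D n ∨ 𝒩 n = ⊥ := by
        intro hall
        apply hcon
        exact (hall n).imp (hH1 n).mpr id
      obtain ⟨D', f, z, hD', hf, hfreg, hznot, hsoc⟩ :=
        exists_socle_of_not_cond 𝒜 ℬ ℳ 𝒩 𝒯 ψ hT 𝒬 φ hP hD hx hxreg hy hyreg hbig hnot
      have hf_irr : f ∈ irr 𝒯 := PosHom.mem_irr (𝒜 := 𝒯) ⟨D', hD', hf⟩
      have hdepth := depth_le_one_of_socle_mod (P := P) (irr 𝒯) f hf_irr hfreg z hznot hsoc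
      rcases hPcm (irr 𝒯) with hsub | hcm
      · rw [Module.supportDim_eq_bot_of_subsingleton] at hlocdim
        exact absurd hlocdim (by simp)
      · unfold LocCoh.IsCohenMacaulayModule at hcm
        rw [hcm] at hlocdim
        have h3 : (s : ℕ∞) ≤ LocCoh.depth (Localization.AtPrime (irr 𝒯))
            (LocalizedModule (irr 𝒯).primeCompl P) := by exact_mod_cast hlocdim
        have h4 := h3.trans hdepth
        have h5 : s ≤ 1 := by exact_mod_cast h4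
        omega
    · intro hall
      have hC : ∀ n : ℤ, CondM ℳ x D n ∨ 𝒩 n = ⊥ := fun n => (hall n).imp (hH1 n).mp id
      obtain ⟨gs, hlen, hdeg, hgsreg⟩ :=
        exists_regular_list ℬ hposS h0S Dn hDn0 s N 𝒩 hdN (hNcm (irr ℬ))
      obtain ⟨g, c, hg, hc, hgreg⟩ := exists_fun_of_list ℬ Dn gs s hlen hdeg hgsreg
      have hex : ∀ i : ℕ, ∃ t : T, i < s →
          (t ∈ 𝒯 ((c i : ℤ) * D) ∧ ψ t = (x ^ c i) ⊗ₜ[k] g i) := by
        intro i
        by_cases hi : i < s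
        · obtain ⟨t, ht, htψ⟩ := exists_piece 𝒜 ℬ 𝒯 ψ hdegT _ _ _ (hxpow (c i)) (hg i hi)
          exact ⟨t, fun _ => ⟨ht, htψ⟩⟩
        · exact ⟨0, fun h => absurd h hi⟩
      choose f hf using hex
      have hreg := segre_regular_mod 𝒜 ℬ ℳ 𝒩 ψ 𝒬 φ hP hx g c s hg hc f
        (fun i hi => (hf i hi).2) hC hxreg hgreg
      refine cm_of_regular 𝒯 hposT h0T 𝒬 s hdimP f (fun i hi => ?_) hreg
      refine PosHom.mem_irr (𝒜 := 𝒯) ⟨(c i : ℤ) * D, ?_, (hf i hi).1⟩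
      have : (1 : ℤ) ≤ c i := by exact_mod_cast hc i hi
      positivity
  · intro hs1'
    subst hs1'
    obtain ⟨f₀, hf₀, hf₀ψ⟩ := exists_piece 𝒜 ℬ 𝒯 ψ hdegT D x y hx hy
    have hf₀reg : ∀ p : P, f₀ • p = 0 → p = 0 := by
      intro p hp
      apply hP.injective
      rw [map_zero]
      apply act_tmul_injective (k := k) hxreg hyreg
      rw [← hf₀ψ, ← hP.map_smul, hp, map_zero, map_zero]
    refine cm_of_regular 𝒯 hposT h0T 𝒬 1 hdimP (fun _ => f₀)
      (fun i _ => PosHom.mem_irr (𝒜 := 𝒯) ⟨D, hD, hf₀⟩) ?_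
    intro i hi p hp
    have hi0 : i = 0 := by omega
    subst hi0
    rw [JM_zero, Submodule.mem_bot] at hp ⊢
    exact hf₀reg p hp

end Main

end Groth.Agent.H85.SegMod1
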