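import Groth.Agent.H85.SegMod1F
import Groth.Agent.H98.GrStar.Shift

/-!
# Segre products of modules with a one-dimensional factor: global depth and shifts (helper85)

* `idealDepth_le_one_of_socle`: a regular element `f ∈ I` and `z ∉ fP` with `I z ⊆ fP` give
  `depth_I P ≤ 1`;
* `irr_smul_top_ne_top`: graded Nakayama, `T_+ P ≠ P` for `P ≠ 0` finite graded;
* `shGr 𝒜 a`: the pieces of the shifted module `R(a)`, with decomposition and graded action;
* `isSegreMod_toAddSubgroup`: change of the carrier types of the pieces in `GrSeg.IsSegreMod`.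
-/

set_option autoImplicit false
universe u

namespace Groth.Agent.H85.SegMod1

open scoped TensorProduct
open DirectSum Groth.Agent.H98 Groth.Agent.H85.GradedNN Groth.Agent.H85.GradedCM
  Groth.Agent.H98.GrStar RingTheory.Sequence
open scoped Pointwise

section Depth

variable {T : Type u} [CommRing T] [IsNoetherianRing T]
  {P : Type u} [AddCommGroup P] [Module T P] [Module.Finite T P]

/-- if `f ∈ I` is `P`-regular and `z ∉ fP` satisfies `I z ⊆ fP`, then `depth_I P ≤ 1` -/
theorem idealDepth_le_one_of_socle (I : Ideal T) (hne : I • (⊤ : Submodule T P) ≠ ⊤)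
    (f : T) (hfI : f ∈ I) (hfreg : ∀ p : P, f • p = 0 → p = 0) (z : P) (hz : ∀ p : P, z ≠ f • p)
    (hsoc : ∀ a ∈ I, ∃ p : P, a • z = f • p) : LocCoh.idealDepth I P ≤ 1 := by
  by_contra hcon
  rw [not_le] at hcon
  have h2 : ((1 + 1 : ℕ) : ℕ∞) ≤ LocCoh.idealDepth I P := by
    have := Order.add_one_le_of_lt hcon
    exact_mod_cast this
  have hreg : IsSMulRegular P f := isSMulRegular_iff_right_eq_zero_of_smul.mpr hfreg
  have h1 := Groth.Agent.H15.le_idealDepth_quotSMulTop I P f hfI hreg 1 h2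
  have hne' := Groth.Agent.H15.smul_top_quotSMulTop_ne_top (M := P) hfI hne
  obtain ⟨rs, hlen, hmem, hrs⟩ :=
    Groth.Agent.H15.exists_isRegular_of_le_idealDepth I (QuotSMulTop f P) hne' 1 h1
  obtain ⟨r, rfl⟩ : ∃ r, rs = [r] := List.length_eq_one_iff.mp hlen
  have hrI : r ∈ I := hmem r (by simp)
  have hrreg : IsSMulRegular (QuotSMulTop f P) r :=
    ((isWeaklyRegular_cons_iff (QuotSMulTop f P) r []).mp hrs.toIsWeaklyRegular).1
  obtain ⟨p, hp⟩ := hsoc r hrI
  have h3 : r • (Submodule.Quotient.mk z : QuotSMulTop f P) = 0 := by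
    rw [← Submodule.Quotient.mk_smul, hp, Submodule.Quotient.mk_eq_zero]
    exact Submodule.smul_mem_pointwise_smul p f ⊤ trivial
  have h4 := hrreg.right_eq_zero_of_smul h3
  rw [Submodule.Quotient.mk_eq_zero, mem_smul_top_iff] at h4
  obtain ⟨v, hv⟩ := h4
  exact hz v hv

end Depth

section Nakayama

variable {k : Type u} [Field k] {T : Type u} [CommRing T] [Algebra k T]
  (𝒯 : ℤ → Submodule k T) [GradedAlgebra 𝒯]
  (hposT : ∀ n : ℤ, n < 0 → 𝒯 n = ⊥) (h0T : 𝒯 0 = Submodule.span k {(1 : T)})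
  {P : Type u} [AddCommGroup P] [Module T P]
  (𝒬 : ℤ → AddSubgroup P) [DirectSum.Decomposition 𝒬] [SetLike.GradedSMul 𝒯 𝒬]

include hposT h0T 𝒬 in
/-- graded Nakayama: `T_+ P ≠ P` for a nonzero finite graded module -/
theorem irr_smul_top_ne_top [Algebra.FiniteType k T] [Module.Finite T P] [Nontrivial P]
    [hirr : (irr 𝒯).IsPrime] : irr 𝒯 • (⊤ : Submodule T P) ≠ ⊤ := by
  intro htop
  obtain ⟨d, hd⟩ : ∃ d : ℕ∞, Module.supportDim T P = d := by
    have hne : Module.supportDim T P ≠ ⊥ := Module.supportDim_ne_bot_of_nontrivial T P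
    exact ⟨_, (WithBot.coe_unbot _ hne).symm⟩
  obtain ⟨r, hr1, hr⟩ := Submodule.exists_sub_one_mem_and_smul_eq_zero_of_fg_of_le_smul (irr 𝒯)
    (⊤ : Submodule T P) Module.Finite.fg_top (by rw [htop])
  have hrirr : r ∉ irr 𝒯 := by
    intro hmem
    have : (1 : T) ∈ irr 𝒯 := by
      have := (irr 𝒯).sub_mem hmem hr1
      simpa using this
    exact hirr.ne_top ((Ideal.eq_top_iff_one _).mpr this)
  have hsub : Subsingleton (LocalizedModule (irr 𝒯).primeCompl P) := by
    rw [IsLocalizedModule.subsingleton_iff (irr 𝒯).primeCompl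
      (LocalizedModule.mkLinearMap (irr 𝒯).primeCompl P)]
    intro m
    exact ⟨r, hrirr, hr m trivial⟩
  -- but `P_irr ≠ 0`
  have hann_hom : (Module.annihilator T P).IsHomogeneous 𝒯 := annihilator_isHomogeneous 𝒯 𝒬
  have hann_ne : Module.annihilator T P ≠ ⊤ := by
    intro h
    have h1 : (1 : T) ∈ Module.annihilator T P := by rw [h]; trivial
    rw [Module.mem_annihilator] at h1
    obtain ⟨p, hp⟩ := exists_ne (0 : P)
    exact hp (by simpa using h1 p)
  haveI : Nontrivial T := Module.nontrivial T P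
  have hle : Module.annihilator T P ≤ irr 𝒯 := le_irr 𝒯 hposT h0T _ hann_hom hann_ne
  have hsupp : (⟨irr 𝒯, hirr⟩ : PrimeSpectrum T) ∈ Module.support T P := by
    rw [Module.mem_support_iff_of_finite]
    exact hle
  have hnt : Nontrivial (LocalizedModule (irr 𝒯).primeCompl P) := Module.mem_support_iff.mp hsupp
  exact not_subsingleton _ hsub

end Nakayama

section Shift

variable {k : Type u} [Field k] {R : Type u} [CommRing R] [Algebra k R]
  (𝒜 : ℤ → Submodule k R) [GradedAlgebra 𝒜]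

/-- the pieces of the shifted module `R(a)` -/
def shGr (a : ℤ) : ℤ → AddSubgroup R := fun n => (𝒜 (n + a)).toAddSubgroup

theorem mem_shGr {a n : ℤ} {r : R} : r ∈ shGr 𝒜 a n ↔ r ∈ 𝒜 (n + a) := Iff.rfl

theorem shGr_eq (a : ℤ) : shGr 𝒜 a = shiftGr (selfGr 𝒜) (-a) := by
  funext n
  ext r
  rw [mem_shGr, mem_shiftGr, sub_neg_eq_add]
  rfl

/-- the decomposition of `R(a)` -/
@[instance_reducible] noncomputable def shDecomposition (a : ℤ) :
    DirectSum.Decomposition (shGr 𝒜 a) :=
  ((shGr_eq 𝒜 a) ▸ shiftGr_isInternal (selfGr 𝒜) (-a)).chooseDecomposition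

theorem shGradedSMul (a : ℤ) : SetLike.GradedSMul 𝒜 (shGr 𝒜 a) := by
  refine ⟨fun {i j r m} hr hm => ?_⟩
  rw [vadd_eq_add, mem_shGr, add_assoc]
  exact SetLike.GradedMul.mul_mem hr hm

end Shift

end Groth.Agent.H85.SegMod1
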