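import Groth.Agent.H85.SegMod1G
import Groth.Agent.H98.Canon.WPoly

/-!
# `k[X](a) # k[Y_1, …, Y_s](b)` (helper85)

For `s ≥ 2`: the Segre product `k[X](a) # k[Y_1..Y_s](b)` is Cohen–Macaulay when `b ≤ a`, and has
depth `1` when `a < b`.
-/

set_option autoImplicit false
universe u

namespace Groth.Agent.H85.SegMod1

open scoped TensorProduct
open DirectSum Groth.Agent.H98 Groth.Agent.H85.GradedNN Groth.Agent.H85.GradedCM
  Groth.Agent.H98.GrStar RingTheory.Sequence MvPolynomial Groth.Agent.H85.SegreGorOne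
  Groth.Agent.H85.SegreRingFacts
open scoped Pointwise

attribute [local instance] MvPolynomial.weightedGradedAlgebra

section Poly

variable (k : Type u) [Field k] (N : ℕ)

/-- the standard grading of the polynomial ring, indexed by `ℤ` -/
abbrev PA : ℤ → Submodule k (MvPolynomial (Fin N) k) :=
  weightedHomogeneousSubmodule k (fun _ : Fin N => (1 : ℤ))

theorem PA_neg : ∀ n : ℤ, n < 0 → PA k N n = ⊥ := by
  intro n hn
  rw [eq_bot_iff]
  intro p hp
  rw [Submodule.mem_bot]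
  exact Groth.Agent.H98.Canon.eq_zero_of_mem_neg (fun _ : Fin N => (1 : ℤ)) (fun _ => one_pos) n hn
    p hp

theorem PA_zero : PA k N 0 = Submodule.span k {(1 : MvPolynomial (Fin N) k)} := by
  apply le_antisymm
  · intro p hp
    have := Groth.Agent.H98.Canon.eq_C_of_mem_zero (fun _ : Fin N => (1 : ℤ)) (fun _ => one_pos) p hp
    rw [this, Submodule.mem_span_singleton]
    exact ⟨coeff 0 p, by rw [Algebra.smul_def, mul_one]; rfl⟩
  · rw [Submodule.span_le, Set.singleton_subset_iff]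
    exact SetLike.GradedOne.one_mem

theorem X_mem_PA (i : Fin N) : (X i : MvPolynomial (Fin N) k) ∈ PA k N 1 :=
  isWeightedHomogeneous_X k (fun _ : Fin N => (1 : ℤ)) i

theorem X_pow_mem_PA (i : Fin N) (m : ℕ) : (X i : MvPolynomial (Fin N) k) ^ m ∈ PA k N (m : ℤ) := by
  have := SetLike.pow_mem_graded m (X_mem_PA k N i)
  rwa [nsmul_eq_mul, mul_one] at this

theorem exists_X_mul_of_mem {m : ℤ} (hm : 1 ≤ m) (p : MvPolynomial (Fin 1) k)
    (hp : p ∈ PA k 1 m) : ∃ v : MvPolynomial (Fin 1) k, p = X 0 * v := by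
  have h1 : p ∈ Ideal.span ((X : Fin 1 → MvPolynomial (Fin 1) k) '' {0}) := by
    rw [MvPolynomial.mem_ideal_span_X_image]
    intro d hd
    refine ⟨0, rfl, ?_⟩
    intro h0
    have hw : Finsupp.weight (fun _ : Fin 1 => (1 : ℤ)) d = m := hp (mem_support_iff.mp hd)
    have hd0 : d = 0 := by
      refine Finsupp.ext fun i => ?_
      rw [Subsingleton.elim i 0]
      exact h0
    rw [hd0, map_zero] at hw
    omega
  rw [Set.image_singleton, Ideal.mem_span_singleton'] at h1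
  obtain ⟨v, hv⟩ := h1
  exact ⟨v, by rw [← hv, mul_comm]⟩

theorem one_ne_X_mul (i : Fin N) (v : MvPolynomial (Fin N) k) : (1 : MvPolynomial (Fin N) k) ≠ X i * v := by
  intro h
  have := congrArg constantCoeff h
  rw [map_one, map_mul, constantCoeff_X, zero_mul] at this
  exact one_ne_zero this

end Poly

section General

variable {k : Type u} [Field k] {R S : Type u} [CommRing R] [CommRing S] [Algebra k R]
  [Algebra k S] (𝒜 : ℤ → Submodule k R) (ℬ : ℤ → Submodule k S) [GradedAlgebra 𝒜] [GradedAlgebra ℬ]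

/-- the abstract form: `R(a) # S(b)` with `R` behaving like `k[x]` and `S` having a regular
sequence of `s = dim (R(a) # S(b))` linear forms -/
theorem main_general
    (hposR : ∀ n : ℤ, n < 0 → 𝒜 n = ⊥) (h0R : 𝒜 0 = Submodule.span k {(1 : R)})
    (hposS : ∀ n : ℤ, n < 0 → ℬ n = ⊥) (h0S : ℬ 0 = Submodule.span k {(1 : S)})
    [Nontrivial S] [Algebra.FiniteType k R] [Algebra.FiniteType k S]
    (T : Type u) [CommRing T] [Algebra k T] (𝒯 : ℤ → Submodule k T) [GradedAlgebra 𝒯]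
    (ψ : T →ₐ[k] R ⊗[k] S) (hT : GrSeg.IsSegreRing 𝒜 ℬ 𝒯 ψ)
    (a b : ℤ)
    (P : Type u) [AddCommGroup P] [Module T P] [Module k P] [IsScalarTower k T P]
    (𝒬 : ℤ → AddSubgroup P) [DirectSum.Decomposition 𝒬]
    (φ : P →ₗ[k] R ⊗[k] S)
    (hP : GrSeg.IsSegreMod ψ (shGr 𝒜 a) (shGr ℬ b) 𝒬 φ)
    [Nontrivial P]
    (s : ℕ) (hdimP : Module.supportDim T P = (s : WithBot ℕ∞))
    (x : R) (hx : x ∈ 𝒜 1) (hxreg : ∀ u : R, x • u = 0 → u = 0)
    (hxdiv : ∀ m : ℤ, 1 ≤ m → ∀ u ∈ 𝒜 m, ∃ v : R, u = x • v)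
    (hx1 : ∀ v : R, (1 : R) ≠ x • v)
    (y : S) (hy : y ∈ ℬ 1) (hyreg : ∀ v : S, y • v = 0 → v = 0)
    (g : ℕ → S) (hg1 : ∀ i, i < s → g i ∈ ℬ 1)
    (hgreg : ∀ i, i < s → ∀ v : S, g i • v ∈ JM g S i → v ∈ JM g S i) :
    (b ≤ a → (∀ (q : Ideal T) [q.IsPrime], Subsingleton (LocalizedModule q.primeCompl P) ∨
        LocCoh.IsCohenMacaulayModule (Localization.AtPrime q) (LocalizedModule q.primeCompl P))) ∧
      (a < b → LocCoh.idealDepth (irr 𝒯) P = (1 : ℕ∞)) := by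
  classical
  letI : DirectSum.Decomposition (shGr 𝒜 a) := shDecomposition 𝒜 a
  letI : DirectSum.Decomposition (shGr ℬ b) := shDecomposition ℬ b
  haveI : SetLike.GradedSMul 𝒜 (shGr 𝒜 a) := shGradedSMul 𝒜 a
  haveI : SetLike.GradedSMul ℬ (shGr ℬ b) := shGradedSMul ℬ b
  have hψ : Function.Injective ψ := hT.1
  have hdegT := hT.2
  have hposT := segre_hpos 𝒜 ℬ 𝒯 ψ hψ hdegT hposR
  have h0T := segre_h0 𝒜 ℬ 𝒯 ψ hψ hdegT h0R h0S
  haveI : Algebra.FiniteType k T := segre_finiteType 𝒜 ℬ 𝒯 ψ hψ hdegT hposR h0R h0S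
  haveI : IsNoetherianRing T := Algebra.FiniteType.isNoetherianRing k T
  haveI : IsNoetherian T P := segre_isNoetherian 𝒜 ℬ 𝒯 ψ hT (shGr 𝒜 a) (shGr ℬ b) 𝒬 φ hP
  haveI : Module.Finite T P := Module.IsNoetherian.finite T P
  haveI : SetLike.GradedSMul 𝒯 𝒬 :=
    segre_gradedSMul 𝒜 ℬ (shGr 𝒜 a) (shGr ℬ b) 𝒯 ψ 𝒬 φ hP hT
  haveI : Nontrivial T := Module.nontrivial T P
  haveI hmaxT : (irr 𝒯).IsMaximal := irr_isMaximal 𝒯 hposT h0T
  haveI : (irr 𝒯).IsPrime := hmaxT.isPrime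
  have hbig : ∃ N₀ : ℤ, ∀ m > N₀, ∀ u ∈ shGr 𝒜 a m, ∃ v : R, u = x • v := by
    refine ⟨-a, fun m hm u hu => ?_⟩
    exact hxdiv (m + a) (by omega) u hu
  constructor
  · intro hba
    have hC : ∀ n : ℤ, CondM (shGr 𝒜 a) x 1 n ∨ shGr ℬ b n = ⊥ := by
      intro n
      by_cases hn : n + b < 0
      · right
        rw [eq_bot_iff]
        intro v hv
        have hv' : v ∈ ℬ (n + b) := hv
        have hbot : ℬ (n + b) = ⊥ := hposS _ hn
        rw [hbot] at hv'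
        exact (AddSubgroup.mem_bot).mpr ((Submodule.mem_bot k).mp hv')
      · left
        intro j u hu
        have hu' : u ∈ 𝒜 (n + ((j : ℤ) + 1) * 1 + a) := hu
        exact hxdiv _ (by omega) u hu'
    have hgdeg : ∀ i, i < s → g i ∈ ℬ ((((fun _ : ℕ => 1) i : ℕ) : ℤ) * 1) := by
      intro i hi
      have h1 : ((((fun _ : ℕ => 1) i : ℕ) : ℤ) * 1) = 1 := by norm_num
      rw [h1]
      exact hg1 i hi
    have hex : ∀ i : ℕ, ∃ t : T, i < s →
        (t ∈ 𝒯 1 ∧ ψ t = (x ^ ((fun _ : ℕ => 1) i)) ⊗ₜ[k] g i) := by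
      intro i
      by_cases hi : i < s
      · obtain ⟨t, ht, htψ⟩ := exists_piece 𝒜 ℬ 𝒯 ψ hdegT 1 x (g i) hx (hg1 i hi)
        exact ⟨t, fun _ => ⟨ht, by rw [htψ, pow_one]⟩⟩
      · exact ⟨0, fun h => absurd h hi⟩
    choose f hf using hex
    have hreg := segre_regular_mod 𝒜 ℬ (shGr 𝒜 a) (shGr ℬ b) ψ 𝒬 φ hP hx g (fun _ => 1) s hgdeg
      (fun _ _ => le_rfl) f (fun i hi => (hf i hi).2) hC hxreg hgreg
    exact cm_of_regular 𝒯 hposT h0T 𝒬 s hdimP f
      (fun i hi => PosHom.mem_irr (𝒜 := 𝒯) ⟨1, one_pos, (hf i hi).1⟩) hreg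
  · intro hab
    have hnot : ¬ ∀ n : ℤ, CondM (shGr 𝒜 a) x 1 n ∨ shGr ℬ b n = ⊥ := by
      intro hall
      rcases hall (-b) with h | h
      · obtain ⟨j, hj⟩ : ∃ j : ℕ, (j : ℤ) = b - a - 1 := ⟨(b - a - 1).toNat, by
          rw [Int.toNat_of_nonneg]; omega⟩
        have h1 : (1 : R) ∈ shGr 𝒜 a (-b + ((j : ℤ) + 1) * 1) := by
          show (1 : R) ∈ 𝒜 (-b + ((j : ℤ) + 1) * 1 + a)
          have : -b + ((j : ℤ) + 1) * 1 + a = 0 := by rw [hj]; ring
          rw [this]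
          exact SetLike.GradedOne.one_mem
        obtain ⟨v, hv⟩ := h j 1 h1
        exact hx1 v hv
      · have h1 : (1 : S) ∈ shGr ℬ b (-b) := by
          show (1 : S) ∈ ℬ (-b + b)
          rw [neg_add_cancel]
          exact SetLike.GradedOne.one_mem
        rw [h] at h1
        exact one_ne_zero ((AddSubgroup.mem_bot).mp h1)
    obtain ⟨D', f, z, hD', hf, hfreg, hznot, hsoc⟩ :=
      exists_socle_of_not_cond 𝒜 ℬ (shGr 𝒜 a) (shGr ℬ b) 𝒯 ψ hT 𝒬 φ hP one_pos hx hxreg hy hyreg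
        hbig hnot
    have hf_irr : f ∈ irr 𝒯 := PosHom.mem_irr (𝒜 := 𝒯) ⟨D', hD', hf⟩
    have hne := irr_smul_top_ne_top 𝒯 hposT h0T 𝒬 (P := P)
    apply le_antisymm
    · exact idealDepth_le_one_of_socle (irr 𝒯) hne f hf_irr hfreg z hznot hsoc
    · have hwr : IsWeaklyRegular P [f] :=
        (isWeaklyRegular_cons_iff P f []).mpr
          ⟨isSMulRegular_iff_right_eq_zero_of_smul.mpr hfreg, IsWeaklyRegular.nil _ _⟩
      have := Groth.Agent.H15.le_idealDepth (irr 𝒯) P hwr (by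
        intro r hr
        rw [List.mem_singleton] at hr
        rw [hr]
        exact hf_irr)
      simpa using this

end General

section Main

variable (k : Type u) [Field k] (s : ℕ)

/-- the `ℕ`-indexed family of variables -/
noncomputable def gX : ℕ → MvPolynomial (Fin s) k := fun i => if h : i < s then X ⟨i, h⟩ else 0

theorem gX_of_lt {i : ℕ} (hi : i < s) : gX k s i = X ⟨i, hi⟩ := dif_pos hi

theorem gX_mem {i : ℕ} (hi : i < s) : gX k s i ∈ PA k s 1 := by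
  rw [gX_of_lt k s hi]
  exact X_mem_PA k s ⟨i, hi⟩

theorem gX_reg : ∀ i, i < s → ∀ v : MvPolynomial (Fin s) k,
    gX k s i • v ∈ JM (gX k s) (MvPolynomial (Fin s) k) i →
      v ∈ JM (gX k s) (MvPolynomial (Fin s) k) i := by
  apply JM_of_isWeaklyRegular (gX k s) _ s
  have hgX : List.ofFn (fun l : Fin s => gX k s l) =
      List.ofFn (X : Fin s → MvPolynomial (Fin s) k) := by
    congr 1
    funext l
    exact gX_of_lt k s l.2
  rw [hgX]
  exact (Groth.Agent.H98.Canon.isRegular_X k s).toIsWeaklyRegular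

theorem X_smul_reg (N : ℕ) (i : Fin N) :
    ∀ v : MvPolynomial (Fin N) k, (X i : MvPolynomial (Fin N) k) • v = 0 → v = 0 := by
  intro v hv
  rcases mul_eq_zero.mp hv with h | h
  · exact absurd h (X_ne_zero i)
  · exact h

/-- nontriviality and dimension of `k[X](a) # k[Y_1..Y_s](b)` -/
theorem poly_facts (hs : 1 ≤ s) (T : Type u) [CommRing T] [Algebra k T] (𝒯 : ℤ → Submodule k T)
    [GradedAlgebra 𝒯]
    (ψ : T →ₐ[k] TensorProduct k (MvPolynomial (Fin 1) k) (MvPolynomial (Fin s) k))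
    (hT : GrSeg.IsSegreRing (PA k 1) (PA k s) 𝒯 ψ) (a b : ℤ)
    (P : Type u) [AddCommGroup P] [Module T P] [Module k P] [IsScalarTower k T P]
    (𝒬 : ℤ → AddSubgroup P) [DirectSum.Decomposition 𝒬]
    (φ : P →ₗ[k] TensorProduct k (MvPolynomial (Fin 1) k) (MvPolynomial (Fin s) k))
    (hP : GrSeg.IsSegreMod ψ (shGr (PA k 1) a) (shGr (PA k s) b) 𝒬 φ) :
    Nontrivial P ∧ Module.supportDim T P = (s : WithBot ℕ∞) := by
  classical
  letI : DirectSum.Decomposition (shGr (PA k 1) a) := shDecomposition (PA k 1) a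
  letI : DirectSum.Decomposition (shGr (PA k s) b) := shDecomposition (PA k s) b
  haveI : SetLike.GradedSMul (PA k 1) (shGr (PA k 1) a) := shGradedSMul (PA k 1) a
  haveI : SetLike.GradedSMul (PA k s) (shGr (PA k s) b) := shGradedSMul (PA k s) b
  have i₀ : Fin s := ⟨0, by omega⟩
  have hn : ∃ n₀ : ℤ, 0 ≤ n₀ + a ∧ 0 ≤ n₀ + b := by
    refine ⟨max (-a) (-b), ?_, ?_⟩
    · have := le_max_left (-a) (-b); omega
    · have := le_max_right (-a) (-b); omega
  obtain ⟨n₀, hna, hnb⟩ := hn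
  have hu₀mem : (X 0 : MvPolynomial (Fin 1) k) ^ (n₀ + a).toNat ∈ shGr (PA k 1) a n₀ := by
    have := X_pow_mem_PA k 1 0 (n₀ + a).toNat
    rw [Int.toNat_of_nonneg hna] at this
    exact this
  have hv₀mem : (X i₀ : MvPolynomial (Fin s) k) ^ (n₀ + b).toNat ∈ shGr (PA k s) b n₀ := by
    have := X_pow_mem_PA k s i₀ (n₀ + b).toNat
    rw [Int.toNat_of_nonneg hnb] at this
    exact this
  have hu₀0 : (X 0 : MvPolynomial (Fin 1) k) ^ (n₀ + a).toNat ≠ 0 := pow_ne_zero _ (X_ne_zero 0)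
  have hv₀0 : (X i₀ : MvPolynomial (Fin s) k) ^ (n₀ + b).toNat ≠ 0 := pow_ne_zero _ (X_ne_zero i₀)
  obtain ⟨p₀, -, hp₀φ⟩ := exists_pieceM (shGr (PA k 1) a) (shGr (PA k s) b) ψ 𝒬 φ hP n₀ _ _
    hu₀mem hv₀mem
  have hp₀ : p₀ ≠ 0 := by
    intro h
    rw [h, map_zero] at hp₀φ
    exact tmul_ne_zero' (k := k) hu₀0 hv₀0 hp₀φ.symm
  refine ⟨⟨⟨p₀, 0, hp₀⟩⟩, ?_⟩
  have h1 := Groth.Agent.H85.SegreModCM.main_core (PA k 1) (PA k s) (shGr (PA k 1) a)
      (shGr (PA k s) b) T 𝒯 ψ hT P 𝒬 φ hP 1 s le_rfl hs 1 one_pos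
      (X : Fin 1 → MvPolynomial (Fin 1) k) {1}
      (fun i => by exact_mod_cast X_mem_PA k 1 i)
      (fun u => ⟨fun _ => u, by
        rw [Finset.sum_singleton, aeval_X_left_apply, smul_eq_mul, mul_one]⟩)
      (X : Fin s → MvPolynomial (Fin s) k) {1}
      (fun i => by exact_mod_cast X_mem_PA k s i)
      (fun u => ⟨fun _ => u, by
        rw [Finset.sum_singleton, aeval_X_left_apply, smul_eq_mul, mul_one]⟩)
      n₀ _ _ hu₀mem hv₀mem
      (fun p hp => by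
        rw [aeval_X_left_apply, smul_eq_mul] at hp
        exact (mul_eq_zero.mp hp).resolve_right hu₀0)
      (fun p hp => by
        rw [aeval_X_left_apply, smul_eq_mul] at hp
        exact (mul_eq_zero.mp hp).resolve_right hv₀0)
  rw [h1]
  congr 2
  omega

/-- `k[X](a) # k[Y_1..Y_s](b)` is Cohen–Macaulay for `b ≤ a` and has depth `1` for `a < b` -/
theorem main_poly (h2s : 2 ≤ s) (T : Type u) [CommRing T] [Algebra k T] (𝒯 : ℤ → Submodule k T)
    [GradedAlgebra 𝒯]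
    (ψ : T →ₐ[k] TensorProduct k (MvPolynomial (Fin 1) k) (MvPolynomial (Fin s) k))
    (hT : GrSeg.IsSegreRing (PA k 1) (PA k s) 𝒯 ψ)
    (mT : HomogeneousIdeal 𝒯)
    (hmT : mT.toIdeal = Ideal.span (⋃ n ∈ Set.Ioi (0 : ℤ), (𝒯 n : Set T))) (a b : ℤ)
    (P : Type u) [AddCommGroup P] [Module T P] [Module k P] [IsScalarTower k T P]
    (𝒬 : ℤ → AddSubgroup P) [DirectSum.Decomposition 𝒬]
    (φ : P →ₗ[k] TensorProduct k (MvPolynomial (Fin 1) k) (MvPolynomial (Fin s) k))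
    (hP : GrSeg.IsSegreMod ψ (fun n : ℤ => PA k 1 (n + a)) (fun n : ℤ => PA k s (n + b)) 𝒬 φ) :
    (b ≤ a → (∀ (q : Ideal T) [q.IsPrime], Subsingleton (LocalizedModule q.primeCompl P) ∨
        LocCoh.IsCohenMacaulayModule (Localization.AtPrime q) (LocalizedModule q.primeCompl P))) ∧
      (a < b → LocCoh.idealDepth mT.toIdeal P = (1 : ℕ∞)) := by
  have hP' : GrSeg.IsSegreMod ψ (shGr (PA k 1) a) (shGr (PA k s) b) 𝒬 φ :=
    ⟨hP.injective, hP.image_piece, hP.map_smul⟩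
  obtain ⟨hnt, hdim⟩ := poly_facts k s (by omega) T 𝒯 ψ hT a b P 𝒬 φ hP'
  haveI := hnt
  have hmTirr : mT.toIdeal = irr 𝒯 := by
    rw [hmT, ← Groth.Agent.H85.SegreOneCM.irr_eq_span_iUnion]
  rw [hmTirr]
  exact main_general (PA k 1) (PA k s) (PA_neg k 1) (PA_zero k 1) (PA_neg k s) (PA_zero k s)
    T 𝒯 ψ hT a b P 𝒬 φ hP' s hdim
    (X 0) (X_mem_PA k 1 0) (X_smul_reg k 1 0) (fun m hm u hu => exists_X_mul_of_mem k hm u hu)
    (one_ne_X_mul k 1 0)
    (X ⟨0, by omega⟩) (X_mem_PA k s _) (X_smul_reg k s _) (gX k s) (fun i hi => gX_mem k s hi)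
    (gX_reg k s)

end Main

end Groth.Agent.H85.SegMod1
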