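import Mathlib

/-!
# The numerical part of the depth computation for `k[X](a) # k[Y](b)` (helper85)

`SES e dL dQ` records the three inequalities of the depth lemma for a short exact sequence
`0 → L → E → Q → 0`; `G i j c` is the expected depth of the piece of degree `c` of
`k[x_1..x_i, y_1..y_j]` (`deg x = 1`, `deg y = -1`) over the degree-zero subring; `depth_table`
shows that a function satisfying the base cases and the recursions is `G`.
-/

set_option autoImplicit false

namespace Groth.Agent.H85.SegPoly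

/-- numeric shadow of the depth lemma for `0 → L → E → Q → 0` -/
def SES (e dL dQ : ℕ∞) : Prop :=
  (∀ n : ℕ, (n : ℕ∞) ≤ dL → (n : ℕ∞) ≤ dQ → (n : ℕ∞) ≤ e) ∧
  (∀ n : ℕ, (n : ℕ∞) ≤ e → (n : ℕ∞) ≤ dQ + 1 → (n : ℕ∞) ≤ dL) ∧
  (∀ n : ℕ, ((n + 1 : ℕ) : ℕ∞) ≤ dL → (n : ℕ∞) ≤ e → (n : ℕ∞) ≤ dQ)

theorem SES.patternA {e dL dQ : ℕ∞} (h : SES e dL dQ) (m : ℕ) (hL : dL = m)
    (hQ : (m : ℕ∞) ≤ dQ) : e = m := by
  apply le_antisymm
  · by_contra hcon
    rw [not_le] at hcon
    have h1 : ((m + 1 : ℕ) : ℕ∞) ≤ e := by
      have := Order.add_one_le_of_lt hcon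
      exact_mod_cast this
    have h2 : ((m + 1 : ℕ) : ℕ∞) ≤ dQ + 1 := by
      have : ((m + 1 : ℕ) : ℕ∞) = (m : ℕ∞) + 1 := by push_cast; rfl
      rw [this]
      exact add_le_add_left hQ 1
    have h3 := h.2.1 (m + 1) h1 h2
    rw [hL] at h3
    have : m + 1 ≤ m := by exact_mod_cast h3
    omega
  · exact h.1 m (by rw [hL]) hQ

theorem SES.patternB {e dL dQ : ℕ∞} (h : SES e dL dQ) (m : ℕ) (hL : dL = ⊤)
    (hQ : dQ = m) : e = m := by
  apply le_antisymm
  · by_contra hcon
    rw [not_le] at hcon
    have h1 : ((m + 1 : ℕ) : ℕ∞) ≤ e := by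
      have := Order.add_one_le_of_lt hcon
      exact_mod_cast this
    have h3 := h.2.2 (m + 1) (by rw [hL]; exact le_top) h1
    rw [hQ] at h3
    have : m + 1 ≤ m := by exact_mod_cast h3
    omega
  · exact h.1 m (by rw [hL]; exact le_top) (by rw [hQ])

/-- the expected depth of `k[x_1..x_i, y_1..y_j]_c` -/
noncomputable def G (i j : ℕ) (c : ℤ) : ℕ∞ :=
  if i = 0 then (if c ≤ 0 then 0 else ⊤)
  else if j = 0 then (if 0 ≤ c then 0 else ⊤)
  else if (j : ℤ) ≤ c then (j : ℕ∞)
  else if c ≤ -(i : ℤ) then (i : ℕ∞)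
  else ((i + j - 1 : ℕ) : ℕ∞)

theorem G_step (i j : ℕ) (c : ℤ) (e : ℕ∞)
    (h1 : SES e (G (i + 1) j (c - 1)) (G i (j + 1) c))
    (h2 : SES e (G i (j + 1) (c + 1)) (G (i + 1) j c)) :
    e + 1 = G (i + 1) (j + 1) c := by
  have hcast : ∀ m : ℕ, ((m + 1 : ℕ) : ℕ∞) = (m : ℕ∞) + 1 := by intro m; push_cast; rfl
  by_cases hc1 : ((j + 1 : ℕ) : ℤ) ≤ c
  · -- `c ≥ J`
    have he : e = (j : ℕ) := by
      apply h1.patternA j
      · unfold G
        split_ifs <;> first | omega | rfl | (simp_all)
      · unfold G
        split_ifs <;> first | omega | exact le_top | (exact_mod_cast Nat.le_succ j) | simp_all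
    rw [he]
    unfold G
    rw [if_neg (by omega), if_neg (by omega), if_pos hc1, hcast]
  · by_cases hc2 : c ≤ -((i + 1 : ℕ) : ℤ)
    · have he : e = (i : ℕ) := by
        apply h2.patternA i
        · unfold G
          split_ifs <;> first | omega | rfl | (simp_all)
        · unfold G
          split_ifs <;> first | omega | exact le_top | (exact_mod_cast Nat.le_succ i) | simp_all
      rw [he]
      unfold G
      rw [if_neg (by omega), if_neg (by omega), if_neg hc1, if_pos hc2, hcast]
    · have hgoal : G (i + 1) (j + 1) c = ((i + j : ℕ) : ℕ∞) + 1 := by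
        unfold G
        rw [if_neg (by omega), if_neg (by omega), if_neg hc1, if_neg hc2, ← hcast]
        congr 1
        omega
      rw [hgoal]
      congr 1
      by_cases hc3 : c + 1 ≤ (j : ℤ)
      · -- use `h2`
        by_cases hi : i = 0
        · subst hi
          apply h2.patternB
          · unfold G
            split_ifs <;> first | omega | rfl | simp_all
          · unfold G
            split_ifs <;> first | omega | (congr 1; omega) | simp_all
        · apply h2.patternA
          · unfold G
            split_ifs <;> first | omega | (congr 1; omega) | simp_all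
          · unfold G
            split_ifs <;> first | omega | exact le_top | (exact_mod_cast (by omega)) | simp_all
      · -- `c = j`, use `h1`
        have hcj : c = (j : ℤ) := by push_cast at hc1; omega
        by_cases hj : j = 0
        · subst hj
          apply h1.patternB
          · unfold G
            split_ifs <;> first | omega | rfl | simp_all
          · unfold G
            split_ifs <;> first | omega | (congr 1; omega) | simp_all
        · apply h1.patternA
          · unfold G
            split_ifs <;> first | omega | (congr 1; omega) | simp_all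
          · unfold G
            split_ifs <;> first | omega | exact le_top | (exact_mod_cast (by omega)) | simp_all

/-- a function satisfying the base cases and the recursions of the depth lemma is `G` -/
theorem depth_table (r s : ℕ) (D : ℕ → ℕ → ℤ → ℕ∞)
    (hb1 : ∀ j c, 1 ≤ j → j ≤ s → D 0 j c = G 0 j c)
    (hb2 : ∀ i c, 1 ≤ i → i ≤ r → D i 0 c = G i 0 c)
    (hs : ∀ i j c, i + 1 ≤ r → j + 1 ≤ s → ∃ e : ℕ∞, D (i + 1) (j + 1) c = e + 1 ∧
      SES e (D (i + 1) j (c - 1)) (D i (j + 1) c) ∧
      SES e (D i (j + 1) (c + 1)) (D (i + 1) j c)) :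
    ∀ n i j c, i + j = n → i ≤ r → j ≤ s → 1 ≤ i + j → D i j c = G i j c := by
  intro n
  induction n using Nat.strong_induction_on with
  | _ n ih =>
    intro i j c hn hi hj h1
    rcases Nat.eq_zero_or_pos i with rfl | hipos
    · exact hb1 j c (by omega) hj
    rcases Nat.eq_zero_or_pos j with rfl | hjpos
    · exact hb2 i c (by omega) hi
    obtain ⟨i', rfl⟩ : ∃ i', i = i' + 1 := ⟨i - 1, by omega⟩
    obtain ⟨j', rfl⟩ : ∃ j', j = j' + 1 := ⟨j - 1, by omega⟩
    obtain ⟨e, he, hs1, hs2⟩ := hs i' j' c hi hj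
    rw [ih (i' + 1 + j') (by omega) (i' + 1) j' (c - 1) rfl hi (by omega) (by omega),
      ih (i' + (j' + 1)) (by omega) i' (j' + 1) c rfl (by omega) hj (by omega)] at hs1
    rw [ih (i' + (j' + 1)) (by omega) i' (j' + 1) (c + 1) rfl (by omega) hj (by omega),
      ih (i' + 1 + j') (by omega) (i' + 1) j' c rfl hi (by omega) (by omega)] at hs2
    rw [he]
    exact G_step i' j' c e hs1 hs2

end Groth.Agent.H85.SegPoly
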