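import Mathlib
import Groth.Agent.H85.DepthCalc
import Groth.Agent.H85.SegPolyNum

/-!
# Graded pieces of quotients of a `ℤ`-graded ring as modules over a ring mapping to degree zero
(helper85)

Let `A` be a `ℤ`-graded ring (pieces `𝒞`) and `T → A` a ring map with image in `𝒞 0`.  For an ideal
`𝔞` of `A`, `QM 𝒞 h0 𝔞 c` is the `T`-module `A_c / (𝔞 ∩ A_c)`, the piece of degree `c` of `A/𝔞`.
For `x ∈ A_d`, `y ∈ A_{-d}` regular modulo the homogeneous ideal `𝔞` and `f ∈ T` mapping to `xy`,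
there is a short exact sequence
`0 → (A/(𝔞+y))_{c-d} → (A/𝔞)_c / f (A/𝔞)_c → (A/(𝔞+x))_c → 0`
(`ses_general` records its consequences for depths).
-/

set_option autoImplicit false
universe u

open Groth.Agent.H85.DepthCalc
open scoped Pointwise

namespace Groth.Agent.H85.SegPoly

section Abstract

variable {T A : Type u} [CommRing T] [CommRing A] [Algebra T A]
  {σ : Type u} [SetLike σ A] [AddSubgroupClass σ A] (𝒞 : ℤ → σ) [GradedRing 𝒞]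
  (h0 : ∀ t : T, algebraMap T A t ∈ 𝒞 0)

/-- the piece of degree `c` as a `T`-submodule -/
def compT (c : ℤ) : Submodule T A where
  carrier := {a | a ∈ 𝒞 c}
  add_mem' := fun ha hb => add_mem ha hb
  zero_mem' := zero_mem _
  smul_mem' := by
    intro t a ha
    change t • a ∈ 𝒞 c
    rw [Algebra.smul_def]
    have := SetLike.GradedMul.mul_mem (h0 t) ha
    rwa [zero_add] at this

theorem mem_compT {c : ℤ} {a : A} : a ∈ compT 𝒞 h0 c ↔ a ∈ 𝒞 c := Iff.rfl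

/-- the trace of an ideal on the piece of degree `c` -/
def traceT (𝔞 : Ideal A) (c : ℤ) : Submodule T (compT 𝒞 h0 c) :=
  (𝔞.restrictScalars T).comap (compT 𝒞 h0 c).subtype

theorem mem_traceT {𝔞 : Ideal A} {c : ℤ} {a : compT 𝒞 h0 c} :
    a ∈ traceT 𝒞 h0 𝔞 c ↔ (a : A) ∈ 𝔞 := Iff.rfl

/-- the piece of degree `c` of `A/𝔞`, as a `T`-module -/
abbrev QM (𝔞 : Ideal A) (c : ℤ) : Type u := ↥(compT 𝒞 h0 c) ⧸ traceT 𝒞 h0 𝔞 c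

/-- the class of a homogeneous element -/
def qmk (𝔞 : Ideal A) (c : ℤ) (a : A) (ha : a ∈ 𝒞 c) : QM 𝒞 h0 𝔞 c :=
  Submodule.Quotient.mk ⟨a, ha⟩

theorem qmk_eq_zero {𝔞 : Ideal A} {c : ℤ} {a : A} (ha : a ∈ 𝒞 c) :
    qmk 𝒞 h0 𝔞 c a ha = 0 ↔ a ∈ 𝔞 := by
  unfold qmk
  rw [Submodule.Quotient.mk_eq_zero]
  rfl

theorem qmk_surjective (𝔞 : Ideal A) (c : ℤ) (z : QM 𝒞 h0 𝔞 c) :
    ∃ (a : A) (ha : a ∈ 𝒞 c), qmk 𝒞 h0 𝔞 c a ha = z := by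
  obtain ⟨⟨a, ha⟩, rfl⟩ := Submodule.Quotient.mk_surjective _ z
  exact ⟨a, ha, rfl⟩

theorem smul_qmk {𝔞 : Ideal A} {c : ℤ} {a : A} (ha : a ∈ 𝒞 c) (t : T) :
    t • qmk 𝒞 h0 𝔞 c a ha = qmk 𝒞 h0 𝔞 c (algebraMap T A t * a) (by
      have := SetLike.GradedMul.mul_mem (h0 t) ha
      rwa [zero_add] at this) := by
  unfold qmk
  rw [← Submodule.Quotient.mk_smul]
  congr 1
  apply Subtype.ext
  change t • a = _
  rw [Algebra.smul_def]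

theorem qmk_sub_eq_zero {𝔞 : Ideal A} {c : ℤ} {a b : A} (ha : a ∈ 𝒞 c) (hb : b ∈ 𝒞 c)
    (h : a - b ∈ 𝔞) : qmk 𝒞 h0 𝔞 c a ha = qmk 𝒞 h0 𝔞 c b hb := by
  unfold qmk
  rw [Submodule.Quotient.eq]
  exact h

theorem QM_subsingleton {𝔞 : Ideal A} {c : ℤ} (h : ∀ a ∈ 𝒞 c, a ∈ 𝔞) :
    Subsingleton (QM 𝒞 h0 𝔞 c) := by
  refine ⟨fun z w => ?_⟩
  obtain ⟨a, ha, rfl⟩ := qmk_surjective 𝒞 h0 𝔞 c z
  obtain ⟨b, hb, rfl⟩ := qmk_surjective 𝒞 h0 𝔞 c w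
  exact qmk_sub_eq_zero 𝒞 h0 ha hb (𝔞.sub_mem (h a ha) (h b hb))

theorem QM_nontrivial {𝔞 : Ideal A} {c : ℤ} (a : A) (ha : a ∈ 𝒞 c) (hna : a ∉ 𝔞) :
    Nontrivial (QM 𝒞 h0 𝔞 c) :=
  ⟨⟨qmk 𝒞 h0 𝔞 c a ha, 0, fun h => hna ((qmk_eq_zero 𝒞 h0 ha).mp h)⟩⟩

theorem QM_killed {𝔞 : Ideal A} {c : ℤ} (I : Ideal T) (h : ∀ t ∈ I, algebraMap T A t ∈ 𝔞)
    (t : T) (ht : t ∈ I) (z : QM 𝒞 h0 𝔞 c) : t • z = 0 := by
  obtain ⟨a, ha, rfl⟩ := qmk_surjective 𝒞 h0 𝔞 c z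
  rw [smul_qmk, qmk_eq_zero]
  exact 𝔞.mul_mem_right a (h t ht)

/-- homogeneous splitting: a homogeneous element of `𝔞 + (x)` is `x b` modulo `𝔞` with `b`
homogeneous -/
theorem exists_hom_split {𝔞 : Ideal A} (h𝔞 : 𝔞.IsHomogeneous 𝒞) {d : ℤ} {x : A} (hx : x ∈ 𝒞 d)
    {c c' : ℤ} (hc : d + c' = c) {a : A} (ha : a ∈ 𝒞 c) (hmem : a ∈ 𝔞 ⊔ Ideal.span {x}) :
    ∃ b ∈ 𝒞 c', a - x * b ∈ 𝔞 := by
  obtain ⟨α, hα, β, hβ, hab⟩ := Submodule.mem_sup.mp hmem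
  obtain ⟨b', rfl⟩ := Ideal.mem_span_singleton'.mp hβ
  refine ⟨(DirectSum.decompose 𝒞 b' c' : A), SetLike.coe_mem _, ?_⟩
  have h1 : (DirectSum.decompose 𝒞 a c : A) = a := DirectSum.decompose_of_mem_same 𝒞 ha
  have h2 : (DirectSum.decompose 𝒞 (x * b') c : A) = x * (DirectSum.decompose 𝒞 b' c' : A) := by
    rw [← hc]
    exact DirectSum.coe_decompose_mul_add_of_left_mem 𝒞 hx
  have h3 : (DirectSum.decompose 𝒞 a c : A) =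
      (DirectSum.decompose 𝒞 α c : A) + (DirectSum.decompose 𝒞 (x * b') c : A) := by
    rw [← hab, mul_comm b' x, DirectSum.decompose_add, DirectSum.add_apply]
    rfl
  rw [h1, h2] at h3
  have h4 : a - x * (DirectSum.decompose 𝒞 b' c' : A) = (DirectSum.decompose 𝒞 α c : A) := by
    rw [h3]; ring
  rw [h4]
  exact h𝔞 c hα

/-- multiplication by a homogeneous element between pieces -/
def mulX (x : A) {c c' : ℤ} (h : ∀ a ∈ 𝒞 c', x * a ∈ 𝒞 c) :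
    compT 𝒞 h0 c' →ₗ[T] compT 𝒞 h0 c where
  toFun a := ⟨x * a.1, h a.1 a.2⟩
  map_add' a b := Subtype.ext (by
    change x * (a.1 + b.1) = x * a.1 + x * b.1
    rw [mul_add])
  map_smul' t a := Subtype.ext (by
    change x * (t • a.1) = t • (x * a.1)
    rw [mul_smul_comm])

section SES

variable {𝔞 : Ideal A} (h𝔞 : 𝔞.IsHomogeneous 𝒞) {d : ℤ} {x y : A} (hx : x ∈ 𝒞 d) (hy : y ∈ 𝒞 (-d))
  (hxreg : ∀ a, x * a ∈ 𝔞 → a ∈ 𝔞) (hyreg : ∀ a, y * a ∈ 𝔞 → a ∈ 𝔞)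
  (f : T) (hf : algebraMap T A f = x * y) {c c' : ℤ} (hc : d + c' = c)

theorem mem_smul_top_iff' {N : Type u} [AddCommGroup N] [Module T N] (w : N) :
    w ∈ f • (⊤ : Submodule T N) ↔ ∃ p : N, w = f • p := by
  rw [Submodule.mem_smul_pointwise_iff_exists]
  constructor
  · rintro ⟨b, -, hb⟩
    exact ⟨b, hb.symm⟩
  · rintro ⟨p, hp⟩
    exact ⟨p, trivial, hp.symm⟩

include hx hc in
theorem mul_mem_comp (a : A) (ha : a ∈ 𝒞 c') : x * a ∈ 𝒞 c := by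
  have := SetLike.GradedMul.mul_mem hx ha
  rwa [hc] at this

include hxreg hyreg hf in
/-- `f` is regular on the pieces of `A/𝔞` -/
theorem isSMulRegular_QM (c : ℤ) : IsSMulRegular (QM 𝒞 h0 𝔞 c) f := by
  rw [isSMulRegular_iff_right_eq_zero_of_smul]
  intro z hz
  obtain ⟨a, ha, rfl⟩ := qmk_surjective 𝒞 h0 𝔞 c z
  rw [smul_qmk, qmk_eq_zero, hf, mul_assoc] at hz
  rw [qmk_eq_zero]
  exact hyreg a (hxreg _ hz)

/-- the first map of the sequence, before passing to the quotient -/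
def u₀ : compT 𝒞 h0 c' →ₗ[T] QuotSMulTop f (QM 𝒞 h0 𝔞 c) :=
  (Submodule.mkQ (f • (⊤ : Submodule T (QM 𝒞 h0 𝔞 c)))).comp
    ((Submodule.mkQ (traceT 𝒞 h0 𝔞 c)).comp (mulX 𝒞 h0 x (mul_mem_comp 𝒞 hx hc)))

theorem u₀_apply (a : compT 𝒞 h0 c') :
    u₀ 𝒞 h0 (𝔞 := 𝔞) hx f hc a = Submodule.Quotient.mk
      (qmk 𝒞 h0 𝔞 c (x * a.1) (mul_mem_comp 𝒞 hx hc a.1 a.2)) := rfl

include h𝔞 hy hf in
theorem traceT_le_ker_u₀ :
    traceT 𝒞 h0 (𝔞 ⊔ Ideal.span {y}) c' ≤ LinearMap.ker (u₀ 𝒞 h0 (𝔞 := 𝔞) hx f hc) := by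
  intro a ha
  rw [LinearMap.mem_ker, u₀_apply, Submodule.Quotient.mk_eq_zero, mem_smul_top_iff']
  rw [mem_traceT] at ha
  have hc2 : -d + c = c' := by omega
  obtain ⟨b, hb, hab⟩ := exists_hom_split 𝒞 h𝔞 hy hc2 a.2 ha
  refine ⟨qmk 𝒞 h0 𝔞 c b hb, ?_⟩
  rw [smul_qmk]
  apply qmk_sub_eq_zero
  have : x * a.1 - algebraMap T A f * b = x * (a.1 - y * b) := by rw [hf]; ring
  rw [this]
  exact 𝔞.mul_mem_left x hab

/-- the first map of the sequence -/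
def uMap : QM 𝒞 h0 (𝔞 ⊔ Ideal.span {y}) c' →ₗ[T] QuotSMulTop f (QM 𝒞 h0 𝔞 c) :=
  Submodule.liftQ _ (u₀ 𝒞 h0 (𝔞 := 𝔞) hx f hc) (traceT_le_ker_u₀ 𝒞 h0 h𝔞 hx hy f hf hc)

theorem uMap_qmk (a : A) (ha : a ∈ 𝒞 c') :
    uMap 𝒞 h0 h𝔞 hx hy f hf hc (qmk 𝒞 h0 _ c' a ha) = Submodule.Quotient.mk
      (qmk 𝒞 h0 𝔞 c (x * a) (mul_mem_comp 𝒞 hx hc a ha)) := rfl

include hxreg in
theorem uMap_injective : Function.Injective (uMap 𝒞 h0 h𝔞 hx hy f hf hc) := by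
  rw [← LinearMap.ker_eq_bot]
  apply Submodule.ker_liftQ_eq_bot
  intro a ha
  rw [LinearMap.mem_ker, u₀_apply, Submodule.Quotient.mk_eq_zero, mem_smul_top_iff'] at ha
  obtain ⟨w, hw⟩ := ha
  obtain ⟨b, hb, rfl⟩ := qmk_surjective 𝒞 h0 𝔞 c w
  rw [smul_qmk, ← sub_eq_zero] at hw
  have hw' : qmk 𝒞 h0 𝔞 c (x * a.1 - algebraMap T A f * b)
      (sub_mem (mul_mem_comp 𝒞 hx hc a.1 a.2) (by
        have := SetLike.GradedMul.mul_mem (h0 f) hb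
        rwa [zero_add] at this)) = 0 := by
    rw [← hw]
    rfl
  rw [qmk_eq_zero] at hw'
  have h1 : x * a.1 - algebraMap T A f * b = x * (a.1 - y * b) := by rw [hf]; ring
  rw [h1] at hw'
  have h2 := hxreg _ hw'
  rw [mem_traceT]
  have h3 : a.1 = (a.1 - y * b) + b * y := by ring
  rw [h3]
  exact Submodule.add_mem_sup h2 (Ideal.mem_span_singleton'.mpr ⟨b, rfl⟩)

theorem traceT_mono {𝔟 𝔠 : Ideal A} (h : 𝔟 ≤ 𝔠) (c : ℤ) :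
    traceT 𝒞 h0 𝔟 c ≤ traceT 𝒞 h0 𝔠 c := fun _ ha => h ha

/-- the projection `(A/𝔞)_c → (A/(𝔞+x))_c` -/
def v₀ : QM 𝒞 h0 𝔞 c →ₗ[T] QM 𝒞 h0 (𝔞 ⊔ Ideal.span {x}) c :=
  Submodule.mapQ _ _ LinearMap.id (traceT_mono 𝒞 h0 le_sup_left c)

theorem v₀_qmk (a : A) (ha : a ∈ 𝒞 c) :
    v₀ 𝒞 h0 (𝔞 := 𝔞) (x := x) (c := c) (qmk 𝒞 h0 𝔞 c a ha) = qmk 𝒞 h0 _ c a ha := rfl

include hf in
theorem smul_top_le_ker_v₀ : f • (⊤ : Submodule T (QM 𝒞 h0 𝔞 c)) ≤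
    LinearMap.ker (v₀ 𝒞 h0 (𝔞 := 𝔞) (x := x) (c := c)) := by
  intro z hz
  rw [mem_smul_top_iff'] at hz
  obtain ⟨w, rfl⟩ := hz
  obtain ⟨b, hb, rfl⟩ := qmk_surjective 𝒞 h0 𝔞 c w
  rw [LinearMap.mem_ker, smul_qmk, v₀_qmk, qmk_eq_zero, hf]
  apply Ideal.mem_sup_right
  rw [mul_assoc]
  exact Ideal.mul_mem_right _ _ (Ideal.mem_span_singleton_self x)

/-- the second map of the sequence -/
def vMap : QuotSMulTop f (QM 𝒞 h0 𝔞 c) →ₗ[T] QM 𝒞 h0 (𝔞 ⊔ Ideal.span {x}) c :=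
  Submodule.liftQ _ (v₀ 𝒞 h0 (𝔞 := 𝔞) (x := x) (c := c)) (smul_top_le_ker_v₀ 𝒞 h0 f hf)

theorem vMap_mk (a : A) (ha : a ∈ 𝒞 c) :
    vMap 𝒞 h0 (x := x) f hf (Submodule.Quotient.mk (qmk 𝒞 h0 𝔞 c a ha)) = qmk 𝒞 h0 _ c a ha :=
  rfl

theorem vMap_surjective : Function.Surjective (vMap 𝒞 h0 (𝔞 := 𝔞) (x := x) (c := c) f hf) := by
  intro z
  obtain ⟨a, ha, rfl⟩ := qmk_surjective 𝒞 h0 _ c z
  exact ⟨Submodule.Quotient.mk (qmk 𝒞 h0 𝔞 c a ha), rfl⟩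

include h𝔞 in
theorem exact_uMap_vMap :
    Function.Exact (uMap 𝒞 h0 h𝔞 hx hy f hf hc) (vMap 𝒞 h0 (𝔞 := 𝔞) (x := x) (c := c) f hf) := by
  intro z
  constructor
  · intro hz
    obtain ⟨w, rfl⟩ := Submodule.Quotient.mk_surjective _ z
    obtain ⟨b, hb, rfl⟩ := qmk_surjective 𝒞 h0 𝔞 c w
    rw [vMap_mk, qmk_eq_zero] at hz
    obtain ⟨a, ha, hab⟩ := exists_hom_split 𝒞 h𝔞 hx hc hb hz
    refine ⟨qmk 𝒞 h0 _ c' a ha, ?_⟩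
    rw [uMap_qmk]
    congr 1
    apply qmk_sub_eq_zero
    have : x * a - b = -(b - x * a) := by ring
    rw [this]
    exact 𝔞.neg_mem hab
  · rintro ⟨w, rfl⟩
    obtain ⟨a, ha, rfl⟩ := qmk_surjective 𝒞 h0 _ c' w
    rw [uMap_qmk, vMap_mk, qmk_eq_zero]
    apply Ideal.mem_sup_right
    exact Ideal.mul_mem_right _ _ (Ideal.mem_span_singleton_self x)

end SES

section Depth

variable [IsNoetherianRing T] (I : Ideal T) (hfin : ∀ c, Module.Finite T (compT 𝒞 h0 c))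

include hfin in
/-- the depth inequalities of the sequence
`0 → (A/(𝔞+y))_{c'} → (A/𝔞)_c / f → (A/(𝔞+x))_c → 0` -/
theorem ses_general {𝔞 : Ideal A} (h𝔞 : 𝔞.IsHomogeneous 𝒞) {d : ℤ} {x y : A} (hx : x ∈ 𝒞 d)
    (hy : y ∈ 𝒞 (-d)) (hxreg : ∀ a, x * a ∈ 𝔞 → a ∈ 𝔞) (f : T)
    (hf : algebraMap T A f = x * y) {c c' : ℤ} (hc : d + c' = c) :
    SES (LocCoh.idealDepth I (QuotSMulTop f (QM 𝒞 h0 𝔞 c)))
      (LocCoh.idealDepth I (QM 𝒞 h0 (𝔞 ⊔ Ideal.span {y}) c'))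
      (LocCoh.idealDepth I (QM 𝒞 h0 (𝔞 ⊔ Ideal.span {x}) c)) := by
  haveI := hfin c
  haveI := hfin c'
  have hu := uMap_injective 𝒞 h0 h𝔞 hx hy hxreg f hf hc
  have hv := vMap_surjective 𝒞 h0 (𝔞 := 𝔞) (x := x) (c := c) f hf
  have hex := exact_uMap_vMap 𝒞 h0 h𝔞 hx hy f hf hc
  exact ⟨fun n h1 h2 => depth_mid I _ _ hu hv hex n h1 h2,
    fun n h1 h2 => depth_left I _ _ hu hv hex n h1 h2,
    fun n h1 h2 => depth_right I _ _ hu hv hex n h1 h2⟩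

include hfin in
/-- one step of the recursion for the depths of the pieces -/
theorem ses_step {𝔞 𝔞x 𝔞y : Ideal A} (h𝔞 : 𝔞.IsHomogeneous 𝒞) {x y : A} (hx : x ∈ 𝒞 1)
    (hy : y ∈ 𝒞 (-1)) (h𝔞x : 𝔞x = 𝔞 ⊔ Ideal.span {x}) (h𝔞y : 𝔞y = 𝔞 ⊔ Ideal.span {y})
    (hxreg : ∀ a, x * a ∈ 𝔞 → a ∈ 𝔞) (hyreg : ∀ a, y * a ∈ 𝔞 → a ∈ 𝔞)
    (f : T) (hfI : f ∈ I) (hf : algebraMap T A f = x * y) (c : ℤ) :
    ∃ e : ℕ∞, LocCoh.idealDepth I (QM 𝒞 h0 𝔞 c) = e + 1 ∧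
      SES e (LocCoh.idealDepth I (QM 𝒞 h0 𝔞y (c - 1))) (LocCoh.idealDepth I (QM 𝒞 h0 𝔞x c)) ∧
      SES e (LocCoh.idealDepth I (QM 𝒞 h0 𝔞x (c + 1))) (LocCoh.idealDepth I (QM 𝒞 h0 𝔞y c)) := by
  subst h𝔞x h𝔞y
  haveI := hfin c
  refine ⟨LocCoh.idealDepth I (QuotSMulTop f (QM 𝒞 h0 𝔞 c)),
    idealDepth_eq_quotSMulTop_add_one I f hfI (isSMulRegular_QM 𝒞 h0 hxreg hyreg f hf c), ?_, ?_⟩
  · exact ses_general 𝒞 h0 I hfin h𝔞 hx hy hxreg f hf (by ring : (1 : ℤ) + (c - 1) = c)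
  · have hx' : x ∈ 𝒞 (-(-1)) := by rw [neg_neg]; exact hx
    exact ses_general 𝒞 h0 I hfin h𝔞 hy hx' hyreg f (by rw [hf, mul_comm])
      (by ring : (-1 : ℤ) + (c + 1) = c)

end Depth

section Finite

variable [IsNoetherianRing T]

include h0 in
theorem compT_zero_eq_range (hsurj : ∀ a ∈ 𝒞 0, ∃ t : T, algebraMap T A t = a) :
    compT 𝒞 h0 0 = LinearMap.range (Algebra.linearMap T A) := by
  ext a
  rw [mem_compT, LinearMap.mem_range]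
  constructor
  · intro ha
    obtain ⟨t, ht⟩ := hsurj a ha
    exact ⟨t, ht⟩
  · rintro ⟨t, rfl⟩
    exact h0 t

/-- the pieces are finite over `T` when `T` maps onto the piece of degree zero and every degree
contains a nonzerodivisor of the opposite degree -/
theorem finite_compT (hsurj : ∀ a ∈ 𝒞 0, ∃ t : T, algebraMap T A t = a) (c : ℤ)
    (z : A) (hz : z ∈ 𝒞 (-c)) (hzreg : ∀ a : A, z * a = 0 → a = 0) :
    Module.Finite T (compT 𝒞 h0 c) := by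
  haveI hfin0 : Module.Finite T (compT 𝒞 h0 0) := by
    rw [compT_zero_eq_range 𝒞 h0 hsurj]
    exact Module.Finite.range _
  haveI : IsNoetherian T (compT 𝒞 h0 0) := isNoetherian_of_isNoetherianRing_of_finite T _
  have hmul : ∀ a ∈ 𝒞 c, z * a ∈ 𝒞 0 := by
    intro a ha
    have := SetLike.GradedMul.mul_mem hz ha
    rwa [neg_add_cancel] at this
  apply Module.Finite.of_injective (mulX 𝒞 h0 z hmul)
  intro a b hab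
  have h1 : z * a.1 = z * b.1 := congrArg Subtype.val hab
  apply Subtype.ext
  have h2 : z * (a.1 - b.1) = 0 := by rw [mul_sub, h1, sub_self]
  exact sub_eq_zero.mp (hzreg _ h2)

end Finite

end Abstract

end Groth.Agent.H85.SegPoly
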