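import Mathlib
import Groth.Agent.H85.SegPolyAbs

/-!
# The polynomial ring `k[x_1..x_r, y_1..y_s]` graded by `deg x = 1`, `deg y = -1` (helper85)

Ideals generated by variables, their homogeneity, regularity of the remaining variables, and the
base cases (pieces contained in / not contained in such ideals).
-/

set_option autoImplicit false
universe u

open MvPolynomial

namespace Groth.Agent.H85.SegPoly

attribute [local instance] MvPolynomial.weightedGradedAlgebra

section General

variable {σ : Type*} {R : Type*} [CommRing R]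

/-- a variable outside `S` is regular modulo the ideal generated by the variables in `S` -/
theorem mem_span_X_of_X_mul_mem {S : Set σ} {v : σ} (hv : v ∉ S) (p : MvPolynomial σ R)
    (h : X v * p ∈ Ideal.span (X '' S : Set (MvPolynomial σ R))) :
    p ∈ Ideal.span (X '' S : Set (MvPolynomial σ R)) := by
  classical
  rw [mem_ideal_span_X_image] at h ⊢
  intro m hm
  have hm' : Finsupp.single v 1 + m ∈ (X v * p).support := by
    rw [mem_support_iff, coeff_X_mul]
    exact mem_support_iff.mp hm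
  obtain ⟨i, hi, hne⟩ := h _ hm'
  refine ⟨i, hi, ?_⟩
  have hiv : i ≠ v := fun h => hv (h ▸ hi)
  rw [Finsupp.add_apply, Finsupp.single_apply, if_neg (Ne.symm hiv), zero_add] at hne
  exact hne

theorem span_X_image_insert (S : Set σ) (v : σ) :
    Ideal.span (X '' (insert v S) : Set (MvPolynomial σ R)) =
      Ideal.span (X '' S) ⊔ Ideal.span {X v} := by
  rw [Set.image_insert_eq, Set.insert_eq, Ideal.span_union, sup_comm]

theorem X_pow_notMem_span {S : Set σ} {v : σ} (hv : v ∉ S) (n : ℕ) :
    (X v : MvPolynomial σ R) ^ n ∉ Ideal.span (X '' S : Set (MvPolynomial σ R)) ∨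
      Subsingleton R := by
  classical
  rcases subsingleton_or_nontrivial R with h | h
  · exact Or.inr h
  left
  intro hmem
  rw [mem_ideal_span_X_image] at hmem
  have hsupp : Finsupp.single v n ∈ ((X v : MvPolynomial σ R) ^ n).support := by
    rw [X_pow_eq_monomial, mem_support_iff, coeff_monomial, if_pos rfl]
    exact one_ne_zero
  obtain ⟨i, hi, hne⟩ := hmem _ hsupp
  have hiv : i ≠ v := fun h => hv (h ▸ hi)
  rw [Finsupp.single_apply, if_neg (Ne.symm hiv)] at hne
  exact hne rfl

end General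

section Ring

variable (k : Type u) [Field k] (r s : ℕ)

/-- weights: `deg x = 1`, `deg y = -1` -/
def wt : Fin r ⊕ Fin s → ℤ := Sum.elim (fun _ => 1) (fun _ => -1)

/-- the polynomial ring in `r + s` variables -/
abbrev AP : Type u := MvPolynomial (Fin r ⊕ Fin s) k

/-- the grading by `deg_x - deg_y` -/
abbrev CC : ℤ → Submodule k (AP k r s) := weightedHomogeneousSubmodule k (wt r s)

/-- the set of killed variables: `x_l` for `l ≥ i`, `y_m` for `m ≥ j` -/
def va (i j : ℕ) : Set (Fin r ⊕ Fin s) :=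
  {v | Sum.elim (fun l : Fin r => i ≤ l.val) (fun m : Fin s => j ≤ m.val) v}

/-- the ideal generated by the killed variables -/
noncomputable def aP (i j : ℕ) : Ideal (AP k r s) := Ideal.span (X '' va r s i j)

theorem X_inl_mem (l : Fin r) : (X (Sum.inl l) : AP k r s) ∈ CC k r s 1 :=
  isWeightedHomogeneous_X k (wt r s) (Sum.inl l)

theorem X_inr_mem (m : Fin s) : (X (Sum.inr m) : AP k r s) ∈ CC k r s (-1) :=
  isWeightedHomogeneous_X k (wt r s) (Sum.inr m)

theorem aP_isHomogeneous (i j : ℕ) : (aP k r s i j).IsHomogeneous (CC k r s) := by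
  apply Ideal.homogeneous_span
  rintro _ ⟨v, -, rfl⟩
  exact ⟨wt r s v, isWeightedHomogeneous_X k (wt r s) v⟩

theorem va_left (i j : ℕ) (hi : i < r) :
    va r s i j = insert (Sum.inl ⟨i, hi⟩) (va r s (i + 1) j) := by
  ext v
  rcases v with l | m
  · simp only [va, Set.mem_ofPred_eq, Sum.elim_inl, Set.mem_insert_iff, Sum.inl.injEq]
    constructor
    · intro h
      rcases Nat.eq_or_lt_of_le h with h1 | h1
      · left; exact Fin.ext h1.symm
      · right; exact h1
    · rintro (h | h)
      · rw [h]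
      · omega
  · simp [va]

theorem va_right (i j : ℕ) (hj : j < s) :
    va r s i j = insert (Sum.inr ⟨j, hj⟩) (va r s i (j + 1)) := by
  ext v
  rcases v with l | m
  · simp [va]
  · simp only [va, Set.mem_ofPred_eq, Sum.elim_inr, Set.mem_insert_iff, Sum.inr.injEq]
    constructor
    · intro h
      rcases Nat.eq_or_lt_of_le h with h1 | h1
      · left; exact Fin.ext h1.symm
      · right; exact h1
    · rintro (h | h)
      · rw [h]
      · omega

theorem aP_left (i j : ℕ) (hi : i < r) :
    aP k r s i j = aP k r s (i + 1) j ⊔ Ideal.span {X (Sum.inl ⟨i, hi⟩)} := by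
  unfold aP
  rw [va_left r s i j hi, span_X_image_insert]

theorem aP_right (i j : ℕ) (hj : j < s) :
    aP k r s i j = aP k r s i (j + 1) ⊔ Ideal.span {X (Sum.inr ⟨j, hj⟩)} := by
  unfold aP
  rw [va_right r s i j hj, span_X_image_insert]

theorem aP_top_eq_bot : aP k r s r s = ⊥ := by
  unfold aP
  have : va r s r s = ∅ := by
    ext v
    rcases v with l | m
    · simp only [va, Set.mem_ofPred_eq, Sum.elim_inl, Set.mem_empty_iff_false, iff_false, not_le]
      exact l.2
    · simp only [va, Set.mem_ofPred_eq, Sum.elim_inr, Set.mem_empty_iff_false, iff_false, not_le]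
      exact m.2
  rw [this, Set.image_empty, Ideal.span_empty]

theorem X_inl_reg (i j : ℕ) (hi : i < r) (p : AP k r s)
    (h : X (Sum.inl ⟨i, hi⟩) * p ∈ aP k r s (i + 1) j) : p ∈ aP k r s (i + 1) j := by
  apply mem_span_X_of_X_mul_mem _ p h
  simp [va]

theorem X_inr_reg (i j : ℕ) (hj : j < s) (p : AP k r s)
    (h : X (Sum.inr ⟨j, hj⟩) * p ∈ aP k r s i (j + 1)) : p ∈ aP k r s i (j + 1) := by
  apply mem_span_X_of_X_mul_mem _ p h
  simp [va]

/-- the weight of a monomial -/
theorem weight_eq (d : (Fin r ⊕ Fin s) →₀ ℕ) :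
    Finsupp.weight (wt r s) d =
      (∑ l : Fin r, (d (Sum.inl l) : ℤ)) - ∑ m : Fin s, (d (Sum.inr m) : ℤ) := by
  rw [Finsupp.weight_apply, Finsupp.sum_fintype _ _ (by intro i; simp), Fintype.sum_sum_type]
  simp only [wt, Sum.elim_inl, Sum.elim_inr, smul_eq_mul, mul_one, nsmul_eq_mul, mul_neg,
    Finset.sum_neg_distrib]
  ring

/-- pieces of positive degree lie in the ideal of all `x` -/
theorem CC_le_of_pos (j : ℕ) (c : ℤ) (hc : 0 < c) (p : AP k r s) (hp : p ∈ CC k r s c) :
    p ∈ aP k r s 0 j := by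
  unfold aP
  rw [mem_ideal_span_X_image]
  intro d hd
  have hw : Finsupp.weight (wt r s) d = c := hp (mem_support_iff.mp hd)
  rw [weight_eq] at hw
  by_contra hcon
  push Not at hcon
  have h1 : ∀ l : Fin r, d (Sum.inl l) = 0 := fun l => hcon (Sum.inl l) (by simp [va])
  have h2 : ∑ l : Fin r, (d (Sum.inl l) : ℤ) = 0 := by
    apply Finset.sum_eq_zero
    intro l _
    rw [h1 l]; rfl
  have h3 : 0 ≤ ∑ m : Fin s, (d (Sum.inr m) : ℤ) := Finset.sum_nonneg (fun _ _ => by positivity)
  omega

/-- pieces of negative degree lie in the ideal of all `y` -/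
theorem CC_le_of_neg (i : ℕ) (c : ℤ) (hc : c < 0) (p : AP k r s) (hp : p ∈ CC k r s c) :
    p ∈ aP k r s i 0 := by
  unfold aP
  rw [mem_ideal_span_X_image]
  intro d hd
  have hw : Finsupp.weight (wt r s) d = c := hp (mem_support_iff.mp hd)
  rw [weight_eq] at hw
  by_contra hcon
  push Not at hcon
  have h1 : ∀ m : Fin s, d (Sum.inr m) = 0 := fun m => hcon (Sum.inr m) (by simp [va])
  have h2 : ∑ m : Fin s, (d (Sum.inr m) : ℤ) = 0 := by
    apply Finset.sum_eq_zero
    intro m _
    rw [h1 m]; rfl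
  have h3 : 0 ≤ ∑ l : Fin r, (d (Sum.inl l) : ℤ) := Finset.sum_nonneg (fun _ _ => by positivity)
  omega

theorem X_pow_mem_CC (v : Fin r ⊕ Fin s) (n : ℕ) :
    (X v : AP k r s) ^ n ∈ CC k r s ((n : ℤ) * wt r s v) := by
  have h0 : (X v : AP k r s) ∈ CC k r s (wt r s v) := isWeightedHomogeneous_X k (wt r s) v
  have := SetLike.pow_mem_graded n h0
  rwa [nsmul_eq_mul] at this

/-- `y_0^n ∉ (x, y_j, y_{j+1}, …)` for `j ≥ 1` -/
theorem y_pow_notMem (j : ℕ) (hj : 1 ≤ j) (hs : 0 < s) (n : ℕ) :
    (X (Sum.inr ⟨0, hs⟩) : AP k r s) ^ n ∉ aP k r s 0 j := by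
  rcases X_pow_notMem_span (R := k) (S := va r s 0 j) (v := Sum.inr ⟨0, hs⟩)
    (by simp [va]; omega) n with h | h
  · exact h
  · exact absurd h (not_subsingleton k)

/-- `x_0^n ∉ (x_i, x_{i+1}, …, y)` for `i ≥ 1` -/
theorem x_pow_notMem (i : ℕ) (hi : 1 ≤ i) (hr : 0 < r) (n : ℕ) :
    (X (Sum.inl ⟨0, hr⟩) : AP k r s) ^ n ∉ aP k r s i 0 := by
  rcases X_pow_notMem_span (R := k) (S := va r s i 0) (v := Sum.inl ⟨0, hr⟩)
    (by simp [va]; omega) n with h | h
  · exact h
  · exact absurd h (not_subsingleton k)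

end Ring

end Groth.Agent.H85.SegPoly
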