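import Mathlib
import Groth.Agent.H85.SegPolyRing
import Groth.Agent.H85.SegMod1H

/-!
# From `k[x] ⊗ k[y]` to `k[x, y]` (helper85)

The isomorphism `Θ : k[x_1..x_r] ⊗ k[y_1..y_s] ≃ k[x, y]` carries `R_m ⊗ S_n` into the piece of
degree `m - n`, and every piece of degree `a - b` is spanned by images of `R_{n+a} ⊗ S_{n+b}`.
-/

set_option autoImplicit false
universe u

open MvPolynomial TensorProduct
open Groth.Agent.H85.SegMod1 (PA)

namespace Groth.Agent.H85.SegPoly

attribute [local instance] MvPolynomial.weightedGradedAlgebra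

section Act

variable {k : Type u} [CommRing k] {R S : Type u} [CommRing R] [CommRing S] [Algebra k R]
  [Algebra k S]

/-- the action of `R ⊗ S` on itself is multiplication -/
theorem act_eq_mul (z w : R ⊗[k] S) : GrSeg.act k R S R S z w = z * w := by
  induction z using TensorProduct.induction_on with
  | zero => rw [map_zero, LinearMap.zero_apply, zero_mul]
  | tmul a b =>
    induction w using TensorProduct.induction_on with
    | zero => rw [map_zero, mul_zero]
    | tmul c d =>
      rw [GrSeg.act_tmul, Algebra.TensorProduct.tmul_mul_tmul, smul_eq_mul, smul_eq_mul]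
    | add w₁ w₂ h₁ h₂ => rw [map_add, h₁, h₂, mul_add]
  | add z₁ z₂ h₁ h₂ => rw [map_add, LinearMap.add_apply, h₁, h₂, add_mul]

end Act

section Bridge

variable (k : Type u) [Field k] (r s : ℕ)

/-- `k[x] ⊗ k[y] ≃ k[x, y]` -/
noncomputable abbrev Θ :
    MvPolynomial (Fin r) k ⊗[k] MvPolynomial (Fin s) k ≃ₐ[k] AP k r s :=
  tensorEquivSum k (Fin r) (Fin s) k

theorem Θ_tmul (p : MvPolynomial (Fin r) k) (q : MvPolynomial (Fin s) k) :
    Θ k r s (p ⊗ₜ[k] q) = rename Sum.inl p * rename Sum.inr q := by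
  have h1 : ∀ p : MvPolynomial (Fin r) k, Θ k r s (p ⊗ₜ[k] 1) = rename Sum.inl p := by
    intro p
    have h : ((Θ k r s).toAlgHom.comp Algebra.TensorProduct.includeLeft :
        MvPolynomial (Fin r) k →ₐ[k] AP k r s) = rename Sum.inl := by
      apply MvPolynomial.algHom_ext
      intro i
      simp [Θ]
    exact DFunLike.congr_fun h p
  have h2 : ∀ q : MvPolynomial (Fin s) k, Θ k r s (1 ⊗ₜ[k] q) = rename Sum.inr q := by
    intro q
    have h : ((Θ k r s).toAlgHom.comp Algebra.TensorProduct.includeRight :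
        MvPolynomial (Fin s) k →ₐ[k] AP k r s) = rename Sum.inr := by
      apply MvPolynomial.algHom_ext
      intro i
      simp [Θ]
    exact DFunLike.congr_fun h q
  have h3 : p ⊗ₜ[k] q = (p ⊗ₜ[k] 1) * (1 ⊗ₜ[k] q) := by
    rw [Algebra.TensorProduct.tmul_mul_tmul, mul_one, one_mul]
  rw [h3, map_mul, h1, h2]

theorem weight_mapDomain_inl (d : Fin r →₀ ℕ) :
    Finsupp.weight (wt r s) (d.mapDomain Sum.inl) = Finsupp.weight (fun _ : Fin r => (1 : ℤ)) d := by
  rw [Finsupp.weight_apply, Finsupp.weight_apply, Finsupp.sum_mapDomain_index]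
  · rfl
  · intro i; simp
  · intro i m n; simp only [nsmul_eq_mul, Nat.cast_add]; ring

theorem weight_mapDomain_inr (d : Fin s →₀ ℕ) :
    Finsupp.weight (wt r s) (d.mapDomain Sum.inr) =
      -Finsupp.weight (fun _ : Fin s => (1 : ℤ)) d := by
  rw [Finsupp.weight_apply, Finsupp.weight_apply, Finsupp.sum_mapDomain_index]
  · simp only [wt, Sum.elim_inr, smul_neg, Finsupp.sum_neg]
  · intro i; simp
  · intro i m n; simp only [nsmul_eq_mul, Nat.cast_add]; ring

theorem rename_inl_mem {m : ℤ} {p : MvPolynomial (Fin r) k} (hp : p ∈ PA k r m) :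
    (rename Sum.inl p : AP k r s) ∈ CC k r s m := by
  intro d hd
  obtain ⟨u, rfl, hu⟩ := coeff_rename_ne_zero _ _ _ hd
  rw [weight_mapDomain_inl]
  exact hp hu

theorem rename_inr_mem {n : ℤ} {q : MvPolynomial (Fin s) k} (hq : q ∈ PA k s n) :
    (rename Sum.inr q : AP k r s) ∈ CC k r s (-n) := by
  intro d hd
  obtain ⟨u, rfl, hu⟩ := coeff_rename_ne_zero _ _ _ hd
  rw [weight_mapDomain_inr, hq hu]

theorem Θ_mem_CC {m n : ℤ} {p : MvPolynomial (Fin r) k} {q : MvPolynomial (Fin s) k}
    (hp : p ∈ PA k r m) (hq : q ∈ PA k s n) : Θ k r s (p ⊗ₜ[k] q) ∈ CC k r s (m - n) := by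
  rw [Θ_tmul, sub_eq_add_neg]
  exact SetLike.GradedMul.mul_mem (rename_inl_mem k r s hp) (rename_inr_mem k r s hq)

/-- every monomial is the image of a tensor of monomials -/
theorem split_monomial (d : (Fin r ⊕ Fin s) →₀ ℕ) :
    ∃ (d₁ : Fin r →₀ ℕ) (d₂ : Fin s →₀ ℕ),
      (monomial d (1 : k) : AP k r s) = Θ k r s (monomial d₁ 1 ⊗ₜ[k] monomial d₂ 1) ∧
      Finsupp.weight (wt r s) d = Finsupp.weight (fun _ : Fin r => (1 : ℤ)) d₁ -
        Finsupp.weight (fun _ : Fin s => (1 : ℤ)) d₂ := by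
  classical
  refine ⟨d.comapDomain Sum.inl Sum.inl_injective.injOn,
    d.comapDomain Sum.inr Sum.inr_injective.injOn, ?_, ?_⟩
  all_goals
    have hd : d = (d.comapDomain Sum.inl Sum.inl_injective.injOn).mapDomain Sum.inl +
        (d.comapDomain Sum.inr Sum.inr_injective.injOn).mapDomain Sum.inr := by
      refine Finsupp.ext fun v => ?_
      rcases v with l | m
      · rw [Finsupp.add_apply, Finsupp.mapDomain_apply Sum.inl_injective,
          Finsupp.mapDomain_of_notMem_range _ _ (by simp), add_zero, Finsupp.comapDomain_apply]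
      · rw [Finsupp.add_apply, Finsupp.mapDomain_apply Sum.inr_injective,
          Finsupp.mapDomain_of_notMem_range _ _ (by simp), zero_add, Finsupp.comapDomain_apply]
  · rw [Θ_tmul, rename_monomial, rename_monomial, monomial_mul, one_mul, ← hd]
  · conv_lhs => rw [hd]
    rw [map_add, weight_mapDomain_inl, weight_mapDomain_inr, sub_eq_add_neg]

/-- the piece of degree `a - b` is spanned by the images of the `R_{n+a} ⊗ S_{n+b}` -/
theorem mem_span_Θ_of_mem_CC (a b : ℤ) (p : AP k r s) (hp : p ∈ CC k r s (a - b)) :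
    p ∈ Submodule.span k {w : AP k r s | ∃ (n : ℤ) (u : MvPolynomial (Fin r) k)
      (v : MvPolynomial (Fin s) k), u ∈ PA k r (n + a) ∧ v ∈ PA k s (n + b) ∧
        w = Θ k r s (u ⊗ₜ[k] v)} := by
  rw [← support_sum_monomial_coeff p]
  apply Submodule.sum_mem
  intro d hd
  obtain ⟨d₁, d₂, hmon, hw⟩ := split_monomial k r s d
  have hwd : Finsupp.weight (wt r s) d = a - b := hp (mem_support_iff.mp hd)
  have h1 : (monomial d (coeff d p) : AP k r s) = coeff d p • monomial d (1 : k) := by
    rw [smul_monomial, smul_eq_mul, mul_one]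
  rw [h1]
  apply Submodule.smul_mem
  apply Submodule.subset_span
  refine ⟨Finsupp.weight (fun _ : Fin r => (1 : ℤ)) d₁ - a, monomial d₁ 1, monomial d₂ 1, ?_, ?_,
    hmon⟩
  · rw [sub_add_cancel]
    exact isWeightedHomogeneous_monomial _ _ _ rfl
  · have : Finsupp.weight (fun _ : Fin r => (1 : ℤ)) d₁ - a + b =
        Finsupp.weight (fun _ : Fin s => (1 : ℤ)) d₂ := by
      rw [hw] at hwd
      omega
    rw [this]
    exact isWeightedHomogeneous_monomial _ _ _ rfl

end Bridge

end Groth.Agent.H85.SegPoly
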