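import Mathlib
import Groth.Agent.H85.SegPolyBridge
import Groth.Agent.H26.DepthInf

/-!
# `k[X_1..X_r](a) # k[Y_1..Y_s](b)` for `r, s ≥ 2` (helper85)

The Segre product is Cohen–Macaulay iff `-r < a - b < s`; its depth is `s` for `a - b ≥ s` and `r`
for `a - b ≤ -r`.
-/

set_option autoImplicit false
universe u

open MvPolynomial TensorProduct RingTheory.Sequence
open Groth.Agent.H85.SegMod1 Groth.Agent.H85.DepthCalc Groth.Agent.H85.GradedNN
  Groth.Agent.H85.GradedCM Groth.Agent.H85.SegreGorOne Groth.Agent.H85.SegreRingFacts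
open Groth.Agent.H98 Groth.Agent.H98.GrStar

namespace Groth.Agent.H85.SegPoly

attribute [local instance] MvPolynomial.weightedGradedAlgebra

section Ring

variable (k : Type u) [Field k] (r s : ℕ)
  {T : Type u} [CommRing T] [Algebra k T] (𝒯 : ℤ → Submodule k T) [GradedAlgebra 𝒯]
  (ψ : T →ₐ[k] MvPolynomial (Fin r) k ⊗[k] MvPolynomial (Fin s) k)
  (hT : GrSeg.IsSegreRing (PA k r) (PA k s) 𝒯 ψ)
  [Algebra T (AP k r s)] (halg : ∀ t : T, algebraMap T (AP k r s) t = Θ k r s (ψ t))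

include hT halg in
theorem algebraMap_mem_zero (t : T) : algebraMap T (AP k r s) t ∈ CC k r s 0 := by
  rw [halg]
  induction t using DirectSum.Decomposition.inductionOn 𝒯 with
  | zero => rw [map_zero, map_zero]; exact zero_mem _
  | @homogeneous n m =>
    have h1 : ψ (m : T) ∈ (𝒯 n).map ψ.toLinearMap := ⟨m, m.2, rfl⟩
    rw [hT.2 n] at h1
    refine Submodule.span_induction (p := fun z _ => Θ k r s z ∈ CC k r s 0) ?_ ?_ ?_ ?_ h1
    · rintro _ ⟨u, hu, v, hv, rfl⟩
      have := Θ_mem_CC k r s hu hv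
      rwa [sub_self] at this
    · rw [map_zero]; exact zero_mem _
    · intro x y _ _ hx hy
      rw [map_add]; exact add_mem hx hy
    · intro c x _ hx
      rw [map_smul]; exact Submodule.smul_mem _ c hx
  | add m m' hm hm' => rw [map_add, map_add]; exact add_mem hm hm'

include hT halg in
theorem surj_zero (w : AP k r s) (hw : w ∈ CC k r s 0) :
    ∃ t : T, algebraMap T (AP k r s) t = w := by
  have h1 := mem_span_Θ_of_mem_CC k r s 0 0 w (by rw [sub_self]; exact hw)
  refine Submodule.span_induction (p := fun w _ => ∃ t : T, algebraMap T (AP k r s) t = w)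
    ?_ ?_ ?_ ?_ h1
  · rintro _ ⟨n, u, v, hu, hv, rfl⟩
    rw [add_zero] at hu hv
    obtain ⟨t, -, ht⟩ := exists_piece (PA k r) (PA k s) 𝒯 ψ hT.2 n u v hu hv
    exact ⟨t, by rw [halg, ht]⟩
  · exact ⟨0, map_zero _⟩
  · rintro x y _ _ ⟨t₁, h₁⟩ ⟨t₂, h₂⟩
    exact ⟨t₁ + t₂, by rw [map_add, h₁, h₂]⟩
  · rintro c x _ ⟨t, ht⟩
    refine ⟨c • t, ?_⟩
    rw [halg, map_smul, map_smul, ← halg, ht]

include hT halg in
theorem irr_le_comap (i j : ℕ) (t : T) (ht : t ∈ irr 𝒯) :
    algebraMap T (AP k r s) t ∈ aP k r s 0 j ∧ algebraMap T (AP k r s) t ∈ aP k r s i 0 := by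
  have hle : irr 𝒯 ≤ Ideal.comap (algebraMap T (AP k r s)) (aP k r s 0 j ⊓ aP k r s i 0) := by
    unfold irr
    rw [Ideal.span_le]
    rintro t ⟨n, hn, htn⟩
    rw [SetLike.mem_coe, Ideal.mem_comap, halg]
    have h1 : ψ t ∈ (𝒯 n).map ψ.toLinearMap := ⟨t, htn, rfl⟩
    rw [hT.2 n] at h1
    refine Submodule.span_induction
      (p := fun z _ => Θ k r s z ∈ aP k r s 0 j ⊓ aP k r s i 0) ?_ ?_ ?_ ?_ h1
    · rintro _ ⟨u, hu, v, hv, rfl⟩
      rw [Θ_tmul]
      constructor
      · exact Ideal.mul_mem_right _ _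
          (CC_le_of_pos k r s j n hn _ (rename_inl_mem k r s hu))
      · exact Ideal.mul_mem_left _ _
          (CC_le_of_neg k r s i (-n) (by omega) _ (rename_inr_mem k r s hv))
    · rw [map_zero]; exact zero_mem _
    · intro x y _ _ hx hy
      rw [map_add]; exact add_mem hx hy
    · intro c x _ hx
      rw [map_smul, Algebra.smul_def]
      exact Ideal.mul_mem_left _ _ hx
  exact hle ht

include hT halg in
theorem exists_f (l : Fin r) (m : Fin s) :
    ∃ f ∈ irr 𝒯, algebraMap T (AP k r s) f = X (Sum.inl l) * X (Sum.inr m) := by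
  obtain ⟨t, ht, htψ⟩ := exists_piece (PA k r) (PA k s) 𝒯 ψ hT.2 1 (X l) (X m)
    (X_mem_PA k r l) (X_mem_PA k s m)
  refine ⟨t, PosHom.mem_irr (𝒜 := 𝒯) ⟨1, one_pos, ht⟩, ?_⟩
  rw [halg, htψ, Θ_tmul, rename_X, rename_X]

variable [IsNoetherianRing T]

include hT halg in
theorem finite_comp (hr : 0 < r) (hs : 0 < s) (c : ℤ) :
    Module.Finite T (compT (CC k r s) (algebraMap_mem_zero k r s 𝒯 ψ hT halg) c) := by
  rcases le_or_gt 0 c with hc | hc
  · refine finite_compT (CC k r s) _ (surj_zero k r s 𝒯 ψ hT halg) c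
      ((X (Sum.inr ⟨0, hs⟩) : AP k r s) ^ c.toNat) ?_ ?_
    · have := X_pow_mem_CC k r s (Sum.inr ⟨0, hs⟩) c.toNat
      rw [Int.toNat_of_nonneg hc] at this
      have h2 : c * wt r s (Sum.inr ⟨0, hs⟩) = -c := by
        change c * (-1) = -c
        ring
      rwa [h2] at this
    · intro a ha
      rcases mul_eq_zero.mp ha with h | h
      · exact absurd h (pow_ne_zero _ (X_ne_zero _))
      · exact h
  · refine finite_compT (CC k r s) _ (surj_zero k r s 𝒯 ψ hT halg) c
      ((X (Sum.inl ⟨0, hr⟩) : AP k r s) ^ (-c).toNat) ?_ ?_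
    · have := X_pow_mem_CC k r s (Sum.inl ⟨0, hr⟩) (-c).toNat
      rw [Int.toNat_of_nonneg (by omega)] at this
      have h2 : -c * wt r s (Sum.inl ⟨0, hr⟩) = -c := by
        change -c * 1 = -c
        ring
      rwa [h2] at this
    · intro a ha
      rcases mul_eq_zero.mp ha with h | h
      · exact absurd h (pow_ne_zero _ (X_ne_zero _))
      · exact h

end Ring

section Mod

variable (k : Type u) [Field k] (r s : ℕ)
  {T : Type u} [CommRing T] [Algebra k T] (𝒯 : ℤ → Submodule k T) [GradedAlgebra 𝒯]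
  (ψ : T →ₐ[k] MvPolynomial (Fin r) k ⊗[k] MvPolynomial (Fin s) k)
  (hT : GrSeg.IsSegreRing (PA k r) (PA k s) 𝒯 ψ)
  [Algebra T (AP k r s)] (halg : ∀ t : T, algebraMap T (AP k r s) t = Θ k r s (ψ t))
  (a b : ℤ)
  {P : Type u} [AddCommGroup P] [Module T P] [Module k P] [IsScalarTower k T P]
  (𝒬 : ℤ → AddSubgroup P) [DirectSum.Decomposition 𝒬]
  (φ : P →ₗ[k] MvPolynomial (Fin r) k ⊗[k] MvPolynomial (Fin s) k)
  (hP : GrSeg.IsSegreMod ψ (fun n : ℤ => PA k r (n + a)) (fun n : ℤ => PA k s (n + b)) 𝒬 φ)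

include hP in
theorem Θφ_mem (p : P) : Θ k r s (φ p) ∈ CC k r s (a - b) := by
  induction p using DirectSum.Decomposition.inductionOn 𝒬 with
  | zero => rw [map_zero, map_zero]; exact zero_mem _
  | @homogeneous n m =>
    have h1 : φ (m : P) ∈ φ '' (𝒬 n : Set P) := ⟨m, m.2, rfl⟩
    rw [hP.image_piece n] at h1
    refine Submodule.span_induction (p := fun z _ => Θ k r s z ∈ CC k r s (a - b)) ?_ ?_ ?_ ?_ h1
    · rintro _ ⟨u, hu, v, hv, rfl⟩
      have := Θ_mem_CC k r s hu hv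
      rwa [show n + a - (n + b) = a - b by ring] at this
    · rw [map_zero]; exact zero_mem _
    · intro x y _ _ hx hy
      rw [map_add]; exact add_mem hx hy
    · intro c x _ hx
      rw [map_smul]; exact Submodule.smul_mem _ c hx
  | add m m' hm hm' => rw [map_add, map_add]; exact add_mem hm hm'

/-- the Segre product `R(a) # S(b)` as the piece of degree `a - b` of `k[x, y]` -/
noncomputable def φT :
    P →ₗ[T] compT (CC k r s) (algebraMap_mem_zero k r s 𝒯 ψ hT halg) (a - b) where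
  toFun p := ⟨Θ k r s (φ p), Θφ_mem k r s ψ a b 𝒬 φ hP p⟩
  map_add' p q := Subtype.ext (by
    change Θ k r s (φ (p + q)) = Θ k r s (φ p) + Θ k r s (φ q)
    rw [map_add, map_add])
  map_smul' t p := Subtype.ext (by
    change Θ k r s (φ (t • p)) = t • Θ k r s (φ p)
    rw [hP.map_smul, act_eq_mul, map_mul, Algebra.smul_def, halg])

theorem φT_apply (p : P) :
    ((φT k r s 𝒯 ψ hT halg a b 𝒬 φ hP p : compT (CC k r s) _ (a - b)) : AP k r s) =
      Θ k r s (φ p) := rfl

theorem φT_bijective : Function.Bijective (φT k r s 𝒯 ψ hT halg a b 𝒬 φ hP) := by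
  constructor
  · intro p q hpq
    have h1 : Θ k r s (φ p) = Θ k r s (φ q) := congrArg Subtype.val hpq
    exact hP.injective ((Θ k r s).injective h1)
  · rintro ⟨w, hw⟩
    have h1 := mem_span_Θ_of_mem_CC k r s a b w hw
    have h2 : ∃ p : P, Θ k r s (φ p) = w := by
      refine Submodule.span_induction (p := fun w _ => ∃ p : P, Θ k r s (φ p) = w) ?_ ?_ ?_ ?_ h1
      · rintro _ ⟨n, u, v, hu, hv, rfl⟩
        have h3 : u ⊗ₜ[k] v ∈ (GrSeg.segrePiece k (fun n : ℤ => PA k r (n + a))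
            (fun n : ℤ => PA k s (n + b)) n : Set _) :=
          Submodule.subset_span ⟨u, hu, v, hv, rfl⟩
        rw [← hP.image_piece n] at h3
        obtain ⟨p, -, hp⟩ := h3
        exact ⟨p, by rw [hp]⟩
      · exact ⟨0, by rw [map_zero, map_zero]⟩
      · rintro x y _ _ ⟨p₁, h₁⟩ ⟨p₂, h₂⟩
        exact ⟨p₁ + p₂, by rw [map_add, map_add, h₁, h₂]⟩
      · rintro c x _ ⟨p, hp⟩
        exact ⟨c • p, by rw [map_smul, map_smul, hp]⟩
    obtain ⟨p, hp⟩ := h2
    exact ⟨p, Subtype.ext hp⟩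

end Mod

section CMDepth

variable {k : Type u} [Field k] {T : Type u} [CommRing T] [Algebra k T]
  (𝒯 : ℤ → Submodule k T) [GradedAlgebra 𝒯]
  (hposT : ∀ n : ℤ, n < 0 → 𝒯 n = ⊥) (h0T : 𝒯 0 = Submodule.span k {(1 : T)})
  {P : Type u} [AddCommGroup P] [Module T P]
  (𝒬 : ℤ → AddSubgroup P) [DirectSum.Decomposition 𝒬] [SetLike.GradedSMul 𝒯 𝒬]

/-- for a maximal ideal, the depth with respect to it is the depth of the localization -/
theorem idealDepth_maximal_eq [IsNoetherianRing T] [Module.Finite T P] (𝔪 : Ideal T)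
    [hmax : 𝔪.IsMaximal] :
    haveI : 𝔪.IsPrime := hmax.isPrime
    LocCoh.idealDepth 𝔪 P =
      LocCoh.depth (Localization.AtPrime 𝔪) (LocalizedModule 𝔪.primeCompl P) := by
  haveI : 𝔪.IsPrime := hmax.isPrime
  rw [Groth.Agent.H26.idealDepth_eq_iInf_depth_localization]
  apply le_antisymm
  · exact iInf₂_le (⟨𝔪, inferInstance⟩ : PrimeSpectrum T) le_rfl
  · refine le_iInf₂ fun p hp => ?_
    obtain ⟨q, hq⟩ := p
    have hq𝔪 : q = 𝔪 := (hmax.eq_of_le hq.ne_top hp).symm
    subst hq𝔪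
    exact le_rfl

include hposT h0T 𝒬 in
/-- a finite graded module of dimension `n` is Cohen–Macaulay iff its depth is `n` -/
theorem cm_iff_idealDepth [Algebra.FiniteType k T] [Module.Finite T P] [Nontrivial P]
    [hmax : (irr 𝒯).IsMaximal] (n : ℕ) (hdim : Module.supportDim T P = (n : WithBot ℕ∞)) :
    (∀ (q : Ideal T) [q.IsPrime], Subsingleton (LocalizedModule q.primeCompl P) ∨
      LocCoh.IsCohenMacaulayModule (Localization.AtPrime q) (LocalizedModule q.primeCompl P)) ↔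
      LocCoh.idealDepth (irr 𝒯) P = (n : ℕ∞) := by
  haveI : IsNoetherianRing T := Algebra.FiniteType.isNoetherianRing k T
  haveI hprime : (irr 𝒯).IsPrime := hmax.isPrime
  have hle := le_supportDim_localization_irr 𝒯 𝒬 hposT h0T n hdim
  have hnt : Nontrivial (LocalizedModule (irr 𝒯).primeCompl P) := by
    by_contra hcon
    rw [not_nontrivial_iff_subsingleton] at hcon
    have hb : Module.supportDim (Localization.AtPrime (irr 𝒯))
        (LocalizedModule (irr 𝒯).primeCompl P) = ⊥ := Module.supportDim_eq_bot_of_subsingleton _ _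
    rw [hb] at hle
    exact absurd hle (by simp)
  have hne := irr_smul_top_ne_top 𝒯 hposT h0T 𝒬 (P := P)
  constructor
  · intro hcm
    rcases hcm (irr 𝒯) with hsub | hcm'
    · exact absurd hsub (not_subsingleton _)
    · unfold LocCoh.IsCohenMacaulayModule at hcm'
      have h1 : Module.supportDim (Localization.AtPrime (irr 𝒯))
          (LocalizedModule (irr 𝒯).primeCompl P) = (n : WithBot ℕ∞) :=
        le_antisymm ((supportDim_localizedModule_le (irr 𝒯)).trans hdim.le) hle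
      rw [h1] at hcm'
      rw [idealDepth_maximal_eq (irr 𝒯)]
      have h2 : ((n : ℕ∞) : WithBot ℕ∞) = ((LocCoh.depth (Localization.AtPrime (irr 𝒯))
          (LocalizedModule (irr 𝒯).primeCompl P) : ℕ∞) : WithBot ℕ∞) := hcm'
      exact (WithBot.coe_injective h2).symm
  · intro hdepth
    obtain ⟨rs, hlen, hmem, hrs⟩ :=
      Groth.Agent.H15.exists_isRegular_of_le_idealDepth (irr 𝒯) P hne n hdepth.ge
    have hcm := isCM_localization_of_isWeaklyRegular (P := P) (irr 𝒯) n hdim rs hlen hmem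
      hrs.toIsWeaklyRegular hnt
    exact cm_all_of_cm_irr 𝒯 hposT h0T 𝒬 hcm

end CMDepth

end Groth.Agent.H85.SegPoly
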