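import Mathlib
import Groth.Agent.H85.SegPolyMain

/-!
# `k[X_1..X_r](a) # k[Y_1..Y_s](b)` for `r, s ≥ 2`: the main theorem (helper85)
-/

set_option autoImplicit false
universe u

open MvPolynomial TensorProduct RingTheory.Sequence
open Groth.Agent.H85.SegMod1 Groth.Agent.H85.DepthCalc Groth.Agent.H85.GradedNN
  Groth.Agent.H85.GradedCM Groth.Agent.H85.SegreGorOne Groth.Agent.H85.SegreRingFacts
open Groth.Agent.H98 Groth.Agent.H98.GrStar

namespace Groth.Agent.H85.SegPoly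

attribute [local instance] MvPolynomial.weightedGradedAlgebra

section Main

variable (k : Type u) [Field k] (r s : ℕ)

/-- nontriviality and dimension of `k[X_1..X_r](a) # k[Y_1..Y_s](b)` -/
theorem poly_facts2 (hr : 1 ≤ r) (hs : 1 ≤ s) (T : Type u) [CommRing T] [Algebra k T]
    (𝒯 : ℤ → Submodule k T) [GradedAlgebra 𝒯]
    (ψ : T →ₐ[k] TensorProduct k (MvPolynomial (Fin r) k) (MvPolynomial (Fin s) k))
    (hT : GrSeg.IsSegreRing (PA k r) (PA k s) 𝒯 ψ) (a b : ℤ)
    (P : Type u) [AddCommGroup P] [Module T P] [Module k P] [IsScalarTower k T P]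
    (𝒬 : ℤ → AddSubgroup P) [DirectSum.Decomposition 𝒬]
    (φ : P →ₗ[k] TensorProduct k (MvPolynomial (Fin r) k) (MvPolynomial (Fin s) k))
    (hP : GrSeg.IsSegreMod ψ (shGr (PA k r) a) (shGr (PA k s) b) 𝒬 φ) :
    Nontrivial P ∧ Module.supportDim T P = ((r + s - 1 : ℕ) : WithBot ℕ∞) := by
  classical
  letI : DirectSum.Decomposition (shGr (PA k r) a) := shDecomposition (PA k r) a
  letI : DirectSum.Decomposition (shGr (PA k s) b) := shDecomposition (PA k s) b
  haveI : SetLike.GradedSMul (PA k r) (shGr (PA k r) a) := shGradedSMul (PA k r) a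
  haveI : SetLike.GradedSMul (PA k s) (shGr (PA k s) b) := shGradedSMul (PA k s) b
  have i₀ : Fin r := ⟨0, by omega⟩
  have j₀ : Fin s := ⟨0, by omega⟩
  have hn : ∃ n₀ : ℤ, 0 ≤ n₀ + a ∧ 0 ≤ n₀ + b := by
    refine ⟨max (-a) (-b), ?_, ?_⟩
    · have := le_max_left (-a) (-b); omega
    · have := le_max_right (-a) (-b); omega
  obtain ⟨n₀, hna, hnb⟩ := hn
  have hu₀mem : (X i₀ : MvPolynomial (Fin r) k) ^ (n₀ + a).toNat ∈ shGr (PA k r) a n₀ := by
    have := X_pow_mem_PA k r i₀ (n₀ + a).toNat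
    rw [Int.toNat_of_nonneg hna] at this
    exact this
  have hv₀mem : (X j₀ : MvPolynomial (Fin s) k) ^ (n₀ + b).toNat ∈ shGr (PA k s) b n₀ := by
    have := X_pow_mem_PA k s j₀ (n₀ + b).toNat
    rw [Int.toNat_of_nonneg hnb] at this
    exact this
  have hu₀0 : (X i₀ : MvPolynomial (Fin r) k) ^ (n₀ + a).toNat ≠ 0 := pow_ne_zero _ (X_ne_zero i₀)
  have hv₀0 : (X j₀ : MvPolynomial (Fin s) k) ^ (n₀ + b).toNat ≠ 0 := pow_ne_zero _ (X_ne_zero j₀)
  obtain ⟨p₀, -, hp₀φ⟩ := exists_pieceM (shGr (PA k r) a) (shGr (PA k s) b) ψ 𝒬 φ hP n₀ _ _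
    hu₀mem hv₀mem
  have hp₀ : p₀ ≠ 0 := by
    intro h
    rw [h, map_zero] at hp₀φ
    exact tmul_ne_zero' (k := k) hu₀0 hv₀0 hp₀φ.symm
  refine ⟨⟨⟨p₀, 0, hp₀⟩⟩, ?_⟩
  exact Groth.Agent.H85.SegreModCM.main_core (PA k r) (PA k s) (shGr (PA k r) a)
      (shGr (PA k s) b) T 𝒯 ψ hT P 𝒬 φ hP r s hr hs 1 one_pos
      (X : Fin r → MvPolynomial (Fin r) k) {1}
      (fun i => by exact_mod_cast X_mem_PA k r i)
      (fun u => ⟨fun _ => u, by
        rw [Finset.sum_singleton, aeval_X_left_apply, smul_eq_mul, mul_one]⟩)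
      (X : Fin s → MvPolynomial (Fin s) k) {1}
      (fun i => by exact_mod_cast X_mem_PA k s i)
      (fun u => ⟨fun _ => u, by
        rw [Finset.sum_singleton, aeval_X_left_apply, smul_eq_mul, mul_one]⟩)
      n₀ _ _ hu₀mem hv₀mem
      (fun p hp => by
        rw [aeval_X_left_apply, smul_eq_mul] at hp
        exact (mul_eq_zero.mp hp).resolve_right hu₀0)
      (fun p hp => by
        rw [aeval_X_left_apply, smul_eq_mul] at hp
        exact (mul_eq_zero.mp hp).resolve_right hv₀0)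

/-- the depth of `k[X_1..X_r](a) # k[Y_1..Y_s](b)` -/
theorem depth_poly (hr : 1 ≤ r) (hs : 1 ≤ s) (T : Type u) [CommRing T] [Algebra k T]
    (𝒯 : ℤ → Submodule k T) [GradedAlgebra 𝒯]
    (ψ : T →ₐ[k] TensorProduct k (MvPolynomial (Fin r) k) (MvPolynomial (Fin s) k))
    (hT : GrSeg.IsSegreRing (PA k r) (PA k s) 𝒯 ψ) (a b : ℤ)
    (P : Type u) [AddCommGroup P] [Module T P] [Module k P] [IsScalarTower k T P]
    (𝒬 : ℤ → AddSubgroup P) [DirectSum.Decomposition 𝒬]
    (φ : P →ₗ[k] TensorProduct k (MvPolynomial (Fin r) k) (MvPolynomial (Fin s) k))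
    (hP : GrSeg.IsSegreMod ψ (fun n : ℤ => PA k r (n + a)) (fun n : ℤ => PA k s (n + b)) 𝒬 φ) :
    LocCoh.idealDepth (irr 𝒯) P = G r s (a - b) := by
  classical
  have hψ : Function.Injective ψ := hT.1
  have hdegT := hT.2
  have hposT := segre_hpos (PA k r) (PA k s) 𝒯 ψ hψ hdegT (PA_neg k r)
  have h0T := segre_h0 (PA k r) (PA k s) 𝒯 ψ hψ hdegT (PA_zero k r) (PA_zero k s)
  haveI : Algebra.FiniteType k T :=
    segre_finiteType (PA k r) (PA k s) 𝒯 ψ hψ hdegT (PA_neg k r) (PA_zero k r) (PA_zero k s)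
  haveI : IsNoetherianRing T := Algebra.FiniteType.isNoetherianRing k T
  letI : Algebra T (AP k r s) := ((Θ k r s).toAlgHom.comp ψ).toRingHom.toAlgebra
  have halg : ∀ t : T, algebraMap T (AP k r s) t = Θ k r s (ψ t) := fun t => rfl
  have hfin := finite_comp k r s 𝒯 ψ hT halg (by omega) (by omega)
  have hkill : ∀ (i j : ℕ) (t : T), t ∈ irr 𝒯 →
      algebraMap T (AP k r s) t ∈ aP k r s 0 j ∧ algebraMap T (AP k r s) t ∈ aP k r s i 0 :=
    fun i j t ht => irr_le_comap k r s 𝒯 ψ hT halg i j t ht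
  have htable := depth_table r s
    (fun i j c => LocCoh.idealDepth (irr 𝒯)
      (QM (CC k r s) (algebraMap_mem_zero k r s 𝒯 ψ hT halg) (aP k r s i j) c)) ?_ ?_ ?_
      (r + s) r s (a - b) rfl le_rfl le_rfl (by omega)
  · rw [← htable]
    have e1 : P ≃ₗ[T] compT (CC k r s) (algebraMap_mem_zero k r s 𝒯 ψ hT halg) (a - b) :=
      LinearEquiv.ofBijective (φT k r s 𝒯 ψ hT halg a b 𝒬 φ hP)
        (φT_bijective k r s 𝒯 ψ hT halg a b 𝒬 φ hP)
    have hbot : traceT (CC k r s) (algebraMap_mem_zero k r s 𝒯 ψ hT halg) (aP k r s r s)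
        (a - b) = ⊥ := by
      rw [eq_bot_iff]
      intro x hx
      rw [mem_traceT, aP_top_eq_bot, Ideal.mem_bot] at hx
      rw [Submodule.mem_bot]
      exact Subtype.ext hx
    have e2 : QM (CC k r s) (algebraMap_mem_zero k r s 𝒯 ψ hT halg) (aP k r s r s) (a - b) ≃ₗ[T]
        compT (CC k r s) (algebraMap_mem_zero k r s 𝒯 ψ hT halg) (a - b) :=
      Submodule.quotEquivOfEqBot _ hbot
    exact (Groth.Agent.H15.idealDepth_congr e1 _).trans
      (Groth.Agent.H15.idealDepth_congr e2 _).symm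
  · -- base case `i = 0`
    intro j c hj1 hjs
    have hG : G 0 j c = if c ≤ 0 then 0 else ⊤ := by unfold G; rw [if_pos rfl]
    rw [hG]
    by_cases hc : c ≤ 0
    · rw [if_pos hc]
      have hmem : (X (Sum.inr ⟨0, by omega⟩) : AP k r s) ^ (-c).toNat ∈ CC k r s c := by
        have := X_pow_mem_CC k r s (Sum.inr ⟨0, by omega⟩) (-c).toNat
        rw [Int.toNat_of_nonneg (by omega)] at this
        have h2 : -c * wt r s (Sum.inr ⟨0, by omega⟩) = c := by
          change -c * (-1) = c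
          ring
        rwa [h2] at this
      haveI := QM_nontrivial (CC k r s) (algebraMap_mem_zero k r s 𝒯 ψ hT halg) _ hmem
        (y_pow_notMem k r s j hj1 (by omega) (-c).toNat)
      exact idealDepth_eq_zero_of_smul_eq_zero (irr 𝒯)
        (fun t ht z => QM_killed (CC k r s) _ (irr 𝒯) (fun t ht => (hkill 0 j t ht).1) t ht z)
    · rw [if_neg hc]
      haveI := QM_subsingleton (CC k r s) (algebraMap_mem_zero k r s 𝒯 ψ hT halg)
        (𝔞 := aP k r s 0 j) (c := c) (fun p hp => CC_le_of_pos k r s j c (by omega) p hp)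
      exact idealDepth_eq_top_of_subsingleton (irr 𝒯)
  · -- base case `j = 0`
    intro i c hi1 hir
    have hG : G i 0 c = if 0 ≤ c then 0 else ⊤ := by
      unfold G; rw [if_neg (by omega), if_pos rfl]
    rw [hG]
    by_cases hc : 0 ≤ c
    · rw [if_pos hc]
      have hmem : (X (Sum.inl ⟨0, by omega⟩) : AP k r s) ^ c.toNat ∈ CC k r s c := by
        have := X_pow_mem_CC k r s (Sum.inl ⟨0, by omega⟩) c.toNat
        rw [Int.toNat_of_nonneg hc] at this
        have h2 : c * wt r s (Sum.inl ⟨0, by omega⟩) = c := by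
          change c * 1 = c
          ring
        rwa [h2] at this
      haveI := QM_nontrivial (CC k r s) (algebraMap_mem_zero k r s 𝒯 ψ hT halg) _ hmem
        (x_pow_notMem k r s i hi1 (by omega) c.toNat)
      exact idealDepth_eq_zero_of_smul_eq_zero (irr 𝒯)
        (fun t ht z => QM_killed (CC k r s) _ (irr 𝒯) (fun t ht => (hkill i 0 t ht).2) t ht z)
    · rw [if_neg hc]
      haveI := QM_subsingleton (CC k r s) (algebraMap_mem_zero k r s 𝒯 ψ hT halg)
        (𝔞 := aP k r s i 0) (c := c) (fun p hp => CC_le_of_neg k r s i c (by omega) p hp)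
      exact idealDepth_eq_top_of_subsingleton (irr 𝒯)
  · -- the recursion
    intro i j c hi hj
    obtain ⟨f, hfI, hf⟩ := exists_f k r s 𝒯 ψ hT halg ⟨i, by omega⟩ ⟨j, by omega⟩
    exact ses_step (CC k r s) (algebraMap_mem_zero k r s 𝒯 ψ hT halg) (irr 𝒯) hfin
      (aP_isHomogeneous k r s (i + 1) (j + 1)) (X_inl_mem k r s ⟨i, by omega⟩)
      (X_inr_mem k r s ⟨j, by omega⟩) (aP_left k r s i (j + 1) (by omega))
      (aP_right k r s (i + 1) j (by omega)) (X_inl_reg k r s i (j + 1) (by omega))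
      (X_inr_reg k r s (i + 1) j (by omega)) f hfI hf c

/-- `k[X_1..X_r](a) # k[Y_1..Y_s](b)`, `r, s ≥ 2`: Cohen–Macaulay iff `-r < a - b < s`; depth `s`
for `a - b ≥ s`, depth `r` for `a - b ≤ -r` -/
theorem main_poly2 (h2r : 2 ≤ r) (h2s : 2 ≤ s) (T : Type u) [CommRing T] [Algebra k T]
    (𝒯 : ℤ → Submodule k T) [GradedAlgebra 𝒯]
    (ψ : T →ₐ[k] TensorProduct k (MvPolynomial (Fin r) k) (MvPolynomial (Fin s) k))
    (hT : GrSeg.IsSegreRing (PA k r) (PA k s) 𝒯 ψ)
    (mT : HomogeneousIdeal 𝒯)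
    (hmT : mT.toIdeal = Ideal.span (⋃ n ∈ Set.Ioi (0 : ℤ), (𝒯 n : Set T))) (a b : ℤ)
    (P : Type u) [AddCommGroup P] [Module T P] [Module k P] [IsScalarTower k T P]
    (𝒬 : ℤ → AddSubgroup P) [DirectSum.Decomposition 𝒬]
    (φ : P →ₗ[k] TensorProduct k (MvPolynomial (Fin r) k) (MvPolynomial (Fin s) k))
    (hP : GrSeg.IsSegreMod ψ (fun n : ℤ => PA k r (n + a)) (fun n : ℤ => PA k s (n + b)) 𝒬 φ) :
    ((∀ (q : Ideal T) [q.IsPrime], Subsingleton (LocalizedModule q.primeCompl P) ∨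
        LocCoh.IsCohenMacaulayModule (Localization.AtPrime q) (LocalizedModule q.primeCompl P)) ↔
      (a - b < (s : ℤ) ∧ -(r : ℤ) < a - b)) ∧
    ((s : ℤ) ≤ a - b → LocCoh.idealDepth mT.toIdeal P = (s : ℕ∞)) ∧
    (a - b ≤ -(r : ℤ) → LocCoh.idealDepth mT.toIdeal P = (r : ℕ∞)) := by
  classical
  have hP' : GrSeg.IsSegreMod ψ (shGr (PA k r) a) (shGr (PA k s) b) 𝒬 φ :=
    ⟨hP.injective, hP.image_piece, hP.map_smul⟩
  obtain ⟨hnt, hdim⟩ := poly_facts2 k r s (by omega) (by omega) T 𝒯 ψ hT a b P 𝒬 φ hP'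
  haveI := hnt
  letI : DirectSum.Decomposition (shGr (PA k r) a) := shDecomposition (PA k r) a
  letI : DirectSum.Decomposition (shGr (PA k s) b) := shDecomposition (PA k s) b
  haveI : SetLike.GradedSMul (PA k r) (shGr (PA k r) a) := shGradedSMul (PA k r) a
  haveI : SetLike.GradedSMul (PA k s) (shGr (PA k s) b) := shGradedSMul (PA k s) b
  have hψ : Function.Injective ψ := hT.1
  have hdegT := hT.2
  have hposT := segre_hpos (PA k r) (PA k s) 𝒯 ψ hψ hdegT (PA_neg k r)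
  have h0T := segre_h0 (PA k r) (PA k s) 𝒯 ψ hψ hdegT (PA_zero k r) (PA_zero k s)
  haveI : Algebra.FiniteType k T :=
    segre_finiteType (PA k r) (PA k s) 𝒯 ψ hψ hdegT (PA_neg k r) (PA_zero k r) (PA_zero k s)
  haveI : IsNoetherianRing T := Algebra.FiniteType.isNoetherianRing k T
  haveI : IsNoetherian T P :=
    segre_isNoetherian (PA k r) (PA k s) 𝒯 ψ hT (shGr (PA k r) a) (shGr (PA k s) b) 𝒬 φ hP'
  haveI : Module.Finite T P := Module.IsNoetherian.finite T P
  haveI : SetLike.GradedSMul 𝒯 𝒬 :=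
    segre_gradedSMul (PA k r) (PA k s) (shGr (PA k r) a) (shGr (PA k s) b) 𝒯 ψ 𝒬 φ hP' hT
  haveI : Nontrivial T := Module.nontrivial T P
  haveI hmaxT : (irr 𝒯).IsMaximal := irr_isMaximal 𝒯 hposT h0T
  have hmTirr : mT.toIdeal = irr 𝒯 := by
    rw [hmT, ← Groth.Agent.H85.SegreOneCM.irr_eq_span_iUnion]
  rw [hmTirr]
  have hdepth := depth_poly k r s (by omega) (by omega) T 𝒯 ψ hT a b P 𝒬 φ hP
  have hcm := cm_iff_idealDepth 𝒯 hposT h0T 𝒬 (P := P) (r + s - 1) hdim
  have hG : G r s (a - b) = if (s : ℤ) ≤ a - b then (s : ℕ∞)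
      else if a - b ≤ -(r : ℤ) then (r : ℕ∞) else ((r + s - 1 : ℕ) : ℕ∞) := by
    unfold G
    rw [if_neg (by omega), if_neg (by omega)]
  rw [hG] at hdepth
  refine ⟨?_, ?_, ?_⟩
  · rw [hcm, hdepth]
    constructor
    · intro h
      by_cases h1 : (s : ℤ) ≤ a - b
      · rw [if_pos h1] at h
        have : s = r + s - 1 := by exact_mod_cast h
        omega
      · rw [if_neg h1] at h
        by_cases h2 : a - b ≤ -(r : ℤ)
        · rw [if_pos h2] at h
          have : r = r + s - 1 := by exact_mod_cast h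
          omega
        · constructor <;> omega
    · rintro ⟨h1, h2⟩
      rw [if_neg (by omega), if_neg (by omega)]
  · intro h1
    rw [hdepth, if_pos h1]
  · intro h2
    rw [hdepth, if_neg (by omega), if_pos h2]

end Main

end Groth.Agent.H85.SegPoly
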