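import Mathlib
import Groth.Agent.H14.DimTrdeg

/-!
# The Segre subalgebra `k[X_i Y_j]` of a polynomial ring

`W k r s` is the subalgebra of `k[X_1..X_r, Y_1..Y_s]` generated by the products `X_i Y_j`.
It consists of the polynomials of weight zero (`wt X_i = 1`, `wt Y_j = -1`), and for `r, s ≥ 1`
its Krull dimension is `r + s - 1`.
-/

set_option autoImplicit false
universe u

namespace Groth.Agent.H85.SegrePoly

open MvPolynomial

variable (k : Type u) [Field k] (r s : ℕ)

/-- weights: `+1` on the left variables, `-1` on the right variables -/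
def wt : Fin r ⊕ Fin s → ℤ := Sum.elim (fun _ => 1) (fun _ => -1)

/-- the generators `X_i Y_j` -/
noncomputable def gen (ij : Fin r × Fin s) : MvPolynomial (Fin r ⊕ Fin s) k :=
  X (Sum.inl ij.1) * X (Sum.inr ij.2)

/-- the subalgebra generated by the products `X_i Y_j` -/
noncomputable def W : Subalgebra k (MvPolynomial (Fin r ⊕ Fin s) k) :=
  Algebra.adjoin k (Set.range (gen k r s))

theorem gen_mem (i : Fin r) (j : Fin s) :
    (X (Sum.inl i) * X (Sum.inr j) : MvPolynomial (Fin r ⊕ Fin s) k) ∈ W k r s :=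
  Algebra.subset_adjoin ⟨(i, j), rfl⟩

theorem isWeightedHomogeneous_of_mem_W {p : MvPolynomial (Fin r ⊕ Fin s) k} (hp : p ∈ W k r s) :
    IsWeightedHomogeneous (wt r s) p 0 := by
  unfold W at hp
  induction hp using Algebra.adjoin_induction with
  | mem x hx =>
    obtain ⟨⟨i, j⟩, rfl⟩ := hx
    have := (isWeightedHomogeneous_X k (wt r s) (Sum.inl i)).mul
      (isWeightedHomogeneous_X k (wt r s) (Sum.inr j))
    simpa [wt, gen] using this
  | algebraMap c => exact isWeightedHomogeneous_C _ c
  | add x y _ _ hx hy => exact hx.add hy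
  | mul x y _ _ hx hy => simpa using hx.mul hy

theorem weight_wt (d : Fin r ⊕ Fin s →₀ ℕ) :
    Finsupp.weight (wt r s) d = (∑ i, (d (Sum.inl i) : ℤ)) - ∑ j, (d (Sum.inr j) : ℤ) := by
  rw [Finsupp.weight_apply, Finsupp.sum_fintype _ _ (by simp), Fintype.sum_sum_type]
  simp [wt, sub_eq_add_neg]

theorem monomial_mem_W (n : ℕ) : ∀ (d : Fin r ⊕ Fin s →₀ ℕ) (a : k),
    (∑ i, d (Sum.inl i) = n) → (∑ j, d (Sum.inr j) = n) → monomial d a ∈ W k r s := by
  induction n with
  | zero =>
    intro d a h1 h2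
    have hd : d = 0 := by
      ext v
      rcases v with i | j
      · have := (Finset.sum_eq_zero_iff.mp h1) i (Finset.mem_univ _)
        simpa using this
      · have := (Finset.sum_eq_zero_iff.mp h2) j (Finset.mem_univ _)
        simpa using this
    rw [hd]
    exact (W k r s).algebraMap_mem a
  | succ n ih =>
    intro d a h1 h2
    obtain ⟨i₀, hi₀⟩ : ∃ i, 0 < d (Sum.inl i) := by
      by_contra hcon
      push Not at hcon
      have : ∑ i, d (Sum.inl i) = 0 := Finset.sum_eq_zero fun i _ => by have := hcon i; omega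
      omega
    obtain ⟨j₀, hj₀⟩ : ∃ j, 0 < d (Sum.inr j) := by
      by_contra hcon
      push Not at hcon
      have : ∑ j, d (Sum.inr j) = 0 := Finset.sum_eq_zero fun j _ => by have := hcon j; omega
      omega
    set d' : Fin r ⊕ Fin s →₀ ℕ :=
      d - Finsupp.single (Sum.inl i₀) 1 - Finsupp.single (Sum.inr j₀) 1 with hd'
    have hd : d = d' + (Finsupp.single (Sum.inl i₀) 1 + Finsupp.single (Sum.inr j₀) 1) := by
      ext v
      simp only [hd', Finsupp.coe_add, Finsupp.coe_tsub, Pi.add_apply, Pi.sub_apply,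
        Finsupp.single_apply]
      rcases v with i | j
      · by_cases h : i₀ = i
        · subst h; simp; omega
        · simp [h]
      · by_cases h : j₀ = j
        · subst h; simp; omega
        · simp [h]
    have h1' : ∑ i, d' (Sum.inl i) = n := by
      have : ∑ i, d (Sum.inl i) = ∑ i, d' (Sum.inl i) + 1 := by
        conv_lhs => rw [hd]
        simp [Finset.sum_add_distrib, Finsupp.single_apply]
      omega
    have h2' : ∑ j, d' (Sum.inr j) = n := by
      have : ∑ j, d (Sum.inr j) = ∑ j, d' (Sum.inr j) + 1 := by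
        conv_lhs => rw [hd]
        simp [Finset.sum_add_distrib, Finsupp.single_apply]
      omega
    have hmon : monomial d a = monomial d' a * (X (Sum.inl i₀) * X (Sum.inr j₀)) := by
      conv_lhs => rw [hd]
      simp only [X, monomial_mul, mul_one]
    rw [hmon]
    exact (W k r s).mul_mem (ih d' a h1' h2') (gen_mem k r s i₀ j₀)

/-- the weight zero component of any polynomial lies in `W` -/
theorem weightedHomogeneousComponent_zero_mem_W (c : MvPolynomial (Fin r ⊕ Fin s) k) :
    weightedHomogeneousComponent (wt r s) 0 c ∈ W k r s := by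
  classical
  rw [weightedHomogeneousComponent_apply]
  refine Subalgebra.sum_mem _ fun d hd => ?_
  rw [Finset.mem_filter] at hd
  have hw := hd.2
  rw [weight_wt, sub_eq_zero] at hw
  refine monomial_mem_W k r s _ d _ rfl ?_
  exact_mod_cast hw.symm

theorem transcendental_X (i₀ : Fin r) :
    Transcendental (W k r s) (X (Sum.inl i₀) : MvPolynomial (Fin r ⊕ Fin s) k) := by
  classical
  rw [transcendental_iff]
  intro p hp
  apply Polynomial.ext
  intro n
  rw [Polynomial.coeff_zero]
  have h1 : ∀ m : ℕ, IsWeightedHomogeneous (wt r s)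
      (p.coeff m • (X (Sum.inl i₀) : MvPolynomial (Fin r ⊕ Fin s) k) ^ m) (m : ℤ) := by
    intro m
    have := (isWeightedHomogeneous_of_mem_W k r s (p.coeff m).2).mul
      ((isWeightedHomogeneous_X k (wt r s) (Sum.inl i₀)).pow m)
    rw [Subalgebra.smul_def]
    simpa [wt] using this
  rw [Polynomial.aeval_eq_sum_range] at hp
  have h2 := congrArg (weightedHomogeneousComponent (wt r s) (n : ℤ)) hp
  rw [map_sum, map_zero] at h2
  by_cases hn : n ∈ Finset.range (p.natDegree + 1)
  · rw [Finset.sum_eq_single n] at h2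
    · rw [(h1 n).weightedHomogeneousComponent_same, Subalgebra.smul_def] at h2
      have h3 := (mul_eq_zero.mp h2).resolve_right (pow_ne_zero _ (X_ne_zero _))
      exact ZeroMemClass.coe_eq_zero.mp h3
    · intro m _ hmn
      exact (h1 m).weightedHomogeneousComponent_ne _ (by exact_mod_cast hmn.symm)
    · intro h; exact absurd hn h
  · rw [Finset.mem_range] at hn
    exact Polynomial.coeff_eq_zero_of_natDegree_lt (p := p) (n := n) (by omega)

theorem isAlgebraic_adjoin (i₀ : Fin r) (j₀ : Fin s) :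
    Algebra.IsAlgebraic (Algebra.adjoin (W k r s) (Set.range fun _ : Unit =>
      (X (Sum.inl i₀) : MvPolynomial (Fin r ⊕ Fin s) k))) (MvPolynomial (Fin r ⊕ Fin s) k) := by
  set A₁ := Algebra.adjoin (W k r s) (Set.range fun _ : Unit =>
      (X (Sum.inl i₀) : MvPolynomial (Fin r ⊕ Fin s) k)) with hA₁
  have hX₁ : (X (Sum.inl i₀) : MvPolynomial (Fin r ⊕ Fin s) k) ∈ A₁ :=
    Algebra.subset_adjoin ⟨(), rfl⟩
  have hW : ∀ w ∈ W k r s, w ∈ A₁ := fun w hw => A₁.algebraMap_mem ⟨w, hw⟩
  have halg_mem : ∀ p ∈ A₁, IsAlgebraic A₁ p := fun p hp => by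
    have : p = algebraMap A₁ (MvPolynomial (Fin r ⊕ Fin s) k) ⟨p, hp⟩ := rfl
    rw [this]
    exact isAlgebraic_algebraMap _
  have hXv : ∀ v, IsAlgebraic A₁ (X v : MvPolynomial (Fin r ⊕ Fin s) k) := by
    rintro (i | j)
    · refine IsAlgebraic.of_mul (y := X (Sum.inl i₀) * X (Sum.inr j₀))
        (mem_nonZeroDivisors_of_ne_zero (mul_ne_zero (X_ne_zero _) (X_ne_zero _)))
        (halg_mem _ (hW _ (gen_mem k r s i₀ j₀))) ?_
      have : (X (Sum.inl i₀) * X (Sum.inr j₀) * X (Sum.inl i) : MvPolynomial (Fin r ⊕ Fin s) k) =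
          X (Sum.inl i₀) * (X (Sum.inl i) * X (Sum.inr j₀)) := by ring
      rw [this]
      exact halg_mem _ (A₁.mul_mem hX₁ (hW _ (gen_mem k r s i j₀)))
    · refine IsAlgebraic.of_mul (y := X (Sum.inl i₀))
        (mem_nonZeroDivisors_of_ne_zero (X_ne_zero _)) (halg_mem _ hX₁) ?_
      exact halg_mem _ (hW _ (gen_mem k r s i₀ j))
  constructor
  intro p
  induction p using MvPolynomial.induction_on with
  | C a => exact halg_mem _ (hW _ ((W k r s).algebraMap_mem a))
  | add p q hp hq => exact hp.add hq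
  | mul_X p v hp => exact hp.mul (hXv v)

theorem trdeg_W_add_one (i₀ : Fin r) (j₀ : Fin s) :
    Algebra.trdeg k (W k r s) + 1 = ((r + s : ℕ) : Cardinal.{u}) := by
  have h1 : Algebra.trdeg (W k r s) (MvPolynomial (Fin r ⊕ Fin s) k) = 1 := by
    have hb : IsTranscendenceBasis (W k r s)
        (fun _ : Unit => (X (Sum.inl i₀) : MvPolynomial (Fin r ⊕ Fin s) k)) := by
      rw [isTranscendenceBasis_iff_algebraicIndependent_isAlgebraic]
      refine ⟨?_, isAlgebraic_adjoin k r s i₀ j₀⟩
      rw [algebraicIndependent_unique_type_iff]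
      exact transcendental_X k r s i₀
    have := hb.lift_cardinalMk_eq_trdeg
    simpa using this.symm
  have h2 := trdeg_add_eq k (W k r s) (A := MvPolynomial (Fin r ⊕ Fin s) k)
  rw [h1, MvPolynomial.trdeg_of_isDomain] at h2
  rw [h2]
  simp

theorem ringKrullDim_W (i₀ : Fin r) (j₀ : Fin s) :
    ringKrullDim (W k r s) = ((r + s - 1 : ℕ) : WithBot ℕ∞) := by
  have : Algebra.FiniteType k (W k r s) := by
    rw [← Subalgebra.fg_iff_finiteType]
    exact Subalgebra.fg_def.mpr ⟨_, Set.finite_range (gen k r s), rfl⟩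
  obtain ⟨n, hn, hdim, -⟩ := Groth.Agent.H14.ringKrullDim_eq_trdeg_of_finiteType_domain k (W k r s)
  have h3 : Algebra.trdeg k (FractionRing (W k r s)) = Algebra.trdeg k (W k r s) := by
    have : Algebra.IsAlgebraic (W k r s) (FractionRing (W k r s)) :=
      IsLocalization.isAlgebraic (FractionRing (W k r s)) (nonZeroDivisors (W k r s))
    have h4 := trdeg_add_eq k (W k r s) (A := FractionRing (W k r s))
    have h0 : Algebra.trdeg (W k r s) (FractionRing (W k r s)) = 0 := trdeg_eq_zero
    rw [h0, add_zero] at h4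
    exact h4.symm
  have h5 := trdeg_W_add_one k r s i₀ j₀
  rw [← h3, hn] at h5
  have h6 : n + 1 = r + s := by exact_mod_cast h5
  rw [hdim]
  have : n = r + s - 1 := by omega
  rw [this]

end Groth.Agent.H85.SegrePoly
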