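import Groth.Agent.H85.GradedNoether
import Groth.Agent.H85.SegrePoly
import Groth.Agent.H98.BiGrade

/-!
# Krull dimension of a Segre product

For finitely generated nonnegatively graded `k`-algebras `R`, `S` with `R₀ = S₀ = k`, of
dimensions `r, s ≥ 1`, the Segre product `T = ⊕ Rₙ ⊗ Sₙ` has dimension `r + s - 1`.
-/

set_option autoImplicit false
universe u

namespace Groth.Agent.H85.SegreDim

open scoped TensorProduct
open MvPolynomial Groth.Agent.H98 Groth.Agent.H85.GradedNN Groth.Agent.H85.SegrePoly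

variable {k : Type u} [Field k] {R S : Type u} [CommRing R] [CommRing S] [Algebra k R] [Algebra k S]
  (𝒜 : ℤ → Submodule k R) [GradedAlgebra 𝒜] (ℬ : ℤ → Submodule k S) [GradedAlgebra ℬ]

section DiagOff

/-- the diagonal part of `R ⊗ S` -/
abbrev Dg : Submodule k (R ⊗[k] S) := diagPart (k := k) 𝒜 ℬ

/-- the off-diagonal part of `R ⊗ S` -/
abbrev Off : Submodule k (R ⊗[k] S) := offPart (k := k) 𝒜 ℬ

theorem isCompl_dg_off : IsCompl (Dg 𝒜 ℬ) (Off 𝒜 ℬ) :=
  ⟨diag_disjoint_off 𝒜 ℬ (fun c _ _ hx => Submodule.smul_mem _ c hx)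
      (fun c _ _ hx => Submodule.smul_mem _ c hx),
    codisjoint_iff.mpr (diag_sup_off 𝒜 ℬ (fun c _ _ hx => Submodule.smul_mem _ c hx)
      (fun c _ _ hx => Submodule.smul_mem _ c hx))⟩

theorem tmul_mem_dg {n : ℤ} {a : R} {b : S} (ha : a ∈ 𝒜 n) (hb : b ∈ ℬ n) :
    a ⊗ₜ[k] b ∈ Dg 𝒜 ℬ :=
  Submodule.subset_span ⟨n, a, ha, b, hb, rfl⟩

theorem tmul_mem_off {i j : ℤ} (hij : i ≠ j) {a : R} {b : S} (ha : a ∈ 𝒜 i) (hb : b ∈ ℬ j) :
    a ⊗ₜ[k] b ∈ Off 𝒜 ℬ :=
  Submodule.subset_span ⟨i, j, hij, a, ha, b, hb, rfl⟩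

theorem one_mem_dg : (1 : R ⊗[k] S) ∈ Dg 𝒜 ℬ := by
  rw [Algebra.TensorProduct.one_def]
  exact tmul_mem_dg 𝒜 ℬ SetLike.GradedOne.one_mem SetLike.GradedOne.one_mem

theorem mul_mem_dg {u u' : R ⊗[k] S} (hu : u ∈ Dg 𝒜 ℬ) (hu' : u' ∈ Dg 𝒜 ℬ) :
    u * u' ∈ Dg 𝒜 ℬ := by
  induction hu using Submodule.span_induction with
  | mem w hw =>
    obtain ⟨n, a, ha, b, hb, rfl⟩ := hw
    induction hu' using Submodule.span_induction with
    | mem w' hw' =>
      obtain ⟨n', a', ha', b', hb', rfl⟩ := hw'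
      rw [Algebra.TensorProduct.tmul_mul_tmul]
      exact tmul_mem_dg 𝒜 ℬ (SetLike.mul_mem_graded ha ha') (SetLike.mul_mem_graded hb hb')
    | zero => rw [mul_zero]; exact zero_mem _
    | add x y _ _ hx hy => rw [mul_add]; exact add_mem hx hy
    | smul c x _ hx => rw [mul_smul_comm]; exact Submodule.smul_mem _ c hx
  | zero => rw [zero_mul]; exact zero_mem _
  | add x y _ _ hx hy => rw [add_mul]; exact add_mem hx hy
  | smul c x _ hx => rw [smul_mul_assoc]; exact Submodule.smul_mem _ c hx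

theorem pow_mem_dg {u : R ⊗[k] S} (hu : u ∈ Dg 𝒜 ℬ) (n : ℕ) : u ^ n ∈ Dg 𝒜 ℬ := by
  induction n with
  | zero => rw [pow_zero]; exact one_mem_dg 𝒜 ℬ
  | succ n ih => rw [pow_succ]; exact mul_mem_dg 𝒜 ℬ ih hu

theorem off_mul_dg_mem {u u' : R ⊗[k] S} (hu : u ∈ Off 𝒜 ℬ) (hu' : u' ∈ Dg 𝒜 ℬ) :
    u * u' ∈ Off 𝒜 ℬ := by
  induction hu using Submodule.span_induction with
  | mem w hw =>
    obtain ⟨i, j, hij, a, ha, b, hb, rfl⟩ := hw
    induction hu' using Submodule.span_induction with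
    | mem w' hw' =>
      obtain ⟨n', a', ha', b', hb', rfl⟩ := hw'
      rw [Algebra.TensorProduct.tmul_mul_tmul]
      exact tmul_mem_off 𝒜 ℬ (fun h => hij (by omega)) (SetLike.mul_mem_graded ha ha')
        (SetLike.mul_mem_graded hb hb')
    | zero => rw [mul_zero]; exact zero_mem _
    | add x y _ _ hx hy => rw [mul_add]; exact add_mem hx hy
    | smul c x _ hx => rw [mul_smul_comm]; exact Submodule.smul_mem _ c hx
  | zero => rw [zero_mul]; exact zero_mem _
  | add x y _ _ hx hy => rw [add_mul]; exact add_mem hx hy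
  | smul c x _ hx => rw [smul_mul_assoc]; exact Submodule.smul_mem _ c hx

/-- the projection of `R ⊗ S` onto the diagonal part along the off-diagonal part -/
noncomputable def rho : R ⊗[k] S →ₗ[k] R ⊗[k] S :=
  (Dg 𝒜 ℬ).subtype ∘ₗ Submodule.projectionOnto (Dg 𝒜 ℬ) (Off 𝒜 ℬ) (isCompl_dg_off 𝒜 ℬ)

theorem rho_dg {u : R ⊗[k] S} (hu : u ∈ Dg 𝒜 ℬ) : rho 𝒜 ℬ u = u := by
  have := Submodule.projectionOnto_apply_left (isCompl_dg_off 𝒜 ℬ) ⟨u, hu⟩
  simp only [rho, LinearMap.coe_comp, Function.comp_apply, Submodule.subtype_apply]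
  rw [this]

theorem rho_off {u : R ⊗[k] S} (hu : u ∈ Off 𝒜 ℬ) : rho 𝒜 ℬ u = 0 := by
  have := (Submodule.projectionOnto_apply_eq_zero_iff (isCompl_dg_off 𝒜 ℬ)).mpr hu
  simp only [rho, LinearMap.coe_comp, Function.comp_apply, Submodule.subtype_apply]
  rw [this]; rfl

end DiagOff

section Poly

variable {r s : ℕ} (x : Fin r → R) (y : Fin s → S)

variable (k) in
/-- the family `xᵢ ⊗ 1, 1 ⊗ yⱼ` -/
def vv : Fin r ⊕ Fin s → R ⊗[k] S :=
  Sum.elim (fun i => x i ⊗ₜ[k] 1) (fun j => 1 ⊗ₜ[k] y j)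

variable (k) in
/-- the map `k[X, Y] → R ⊗ S` -/
noncomputable abbrev Phi : MvPolynomial (Fin r ⊕ Fin s) k →ₐ[k] R ⊗[k] S := aeval (vv k x y)

theorem Phi_monomial (d : Fin r ⊕ Fin s →₀ ℕ) (a : k) :
    Phi k x y (monomial d a) =
      (a • ∏ i, x i ^ d (Sum.inl i)) ⊗ₜ[k] (∏ j, y j ^ d (Sum.inr j)) := by
  rw [Phi, aeval_monomial, Finsupp.prod_fintype _ _ (by simp), Fintype.prod_sum_type]
  have h1 : ∏ i, vv k x y (Sum.inl i) ^ d (Sum.inl i) =
      (∏ i, x i ^ d (Sum.inl i)) ⊗ₜ[k] (1 : S) := by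
    have : ∀ i, vv k x y (Sum.inl i) ^ d (Sum.inl i) =
        Algebra.TensorProduct.includeLeft (R := k) (S := k) (A := R) (B := S)
          (x i ^ d (Sum.inl i)) := by
      intro i
      simp [vv, Algebra.TensorProduct.tmul_pow]
    simp_rw [this]
    rw [← map_prod]
    rfl
  have h2 : ∏ j, vv k x y (Sum.inr j) ^ d (Sum.inr j) =
      (1 : R) ⊗ₜ[k] (∏ j, y j ^ d (Sum.inr j)) := by
    have : ∀ j, vv k x y (Sum.inr j) ^ d (Sum.inr j) =
        Algebra.TensorProduct.includeRight (R := k) (A := R) (B := S)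
          (y j ^ d (Sum.inr j)) := by
      intro j
      simp [vv, Algebra.TensorProduct.tmul_pow]
    simp_rw [this]
    rw [← map_prod]
    rfl
  rw [h1, h2, Algebra.TensorProduct.tmul_mul_tmul, mul_one, one_mul, ← Algebra.smul_def,
    TensorProduct.smul_tmul']

variable {x y} {D : ℕ}

theorem prod_pow_mem (hx : ∀ i, x i ∈ 𝒜 (D : ℤ)) (d : Fin r ⊕ Fin s →₀ ℕ) :
    ∏ i, x i ^ d (Sum.inl i) ∈ 𝒜 ((D : ℤ) * ∑ i, (d (Sum.inl i) : ℤ)) := by
  have h1 := SetLike.prod_mem_graded (A := 𝒜) (fun i : Fin r => d (Sum.inl i) • (D : ℤ))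
    (fun i => x i ^ d (Sum.inl i)) (F := Finset.univ)
    (fun i _ => SetLike.pow_mem_graded _ (hx i))
  have h2 : ∑ i, d (Sum.inl i) • (D : ℤ) = (D : ℤ) * ∑ i, (d (Sum.inl i) : ℤ) := by
    rw [Finset.mul_sum]
    refine Finset.sum_congr rfl fun i _ => ?_
    rw [nsmul_eq_mul, mul_comm]
  rw [h2] at h1
  exact h1

theorem prod_pow_mem' (hy : ∀ j, y j ∈ ℬ (D : ℤ)) (d : Fin r ⊕ Fin s →₀ ℕ) :
    ∏ j, y j ^ d (Sum.inr j) ∈ ℬ ((D : ℤ) * ∑ j, (d (Sum.inr j) : ℤ)) := by
  have h1 := SetLike.prod_mem_graded (A := ℬ) (fun j : Fin s => d (Sum.inr j) • (D : ℤ))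
    (fun j => y j ^ d (Sum.inr j)) (F := Finset.univ)
    (fun j _ => SetLike.pow_mem_graded _ (hy j))
  have h2 : ∑ j, d (Sum.inr j) • (D : ℤ) = (D : ℤ) * ∑ j, (d (Sum.inr j) : ℤ) := by
    rw [Finset.mul_sum]
    refine Finset.sum_congr rfl fun j _ => ?_
    rw [nsmul_eq_mul, mul_comm]
  rw [h2] at h1
  exact h1

include 𝒜 ℬ in
/-- the key equivariance of the projection `rho` -/
theorem rho_Phi_mul (hD : 0 < D) (hx : ∀ i, x i ∈ 𝒜 (D : ℤ)) (hy : ∀ j, y j ∈ ℬ (D : ℤ))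
    (c : MvPolynomial (Fin r ⊕ Fin s) k) {t : R ⊗[k] S} (ht : t ∈ Dg 𝒜 ℬ) :
    rho 𝒜 ℬ (Phi k x y c * t) =
      Phi k x y (weightedHomogeneousComponent (wt r s) 0 c) * t := by
  induction c using MvPolynomial.induction_on' with
  | monomial d a =>
    have hA : (a • ∏ i, x i ^ d (Sum.inl i)) ∈ 𝒜 ((D : ℤ) * ∑ i, (d (Sum.inl i) : ℤ)) :=
      Submodule.smul_mem _ a (prod_pow_mem 𝒜 hx d)
    have hB := prod_pow_mem' ℬ hy d
    by_cases hw : Finsupp.weight (wt r s) d = 0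
    · have hmon : IsWeightedHomogeneous (wt r s) (monomial d a : MvPolynomial (Fin r ⊕ Fin s) k) 0 :=
        isWeightedHomogeneous_monomial _ _ _ hw
      rw [hmon.weightedHomogeneousComponent_same]
      apply rho_dg
      refine mul_mem_dg 𝒜 ℬ ?_ ht
      rw [Phi_monomial]
      rw [weight_wt, sub_eq_zero] at hw
      rw [← hw] at hB
      exact tmul_mem_dg 𝒜 ℬ hA hB
    · have hmon : IsWeightedHomogeneous (wt r s) (monomial d a : MvPolynomial (Fin r ⊕ Fin s) k)
          (Finsupp.weight (wt r s) d) :=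
        isWeightedHomogeneous_monomial _ _ _ rfl
      rw [hmon.weightedHomogeneousComponent_ne 0 (Ne.symm hw), map_zero, zero_mul]
      apply rho_off
      refine off_mul_dg_mem 𝒜 ℬ ?_ ht
      rw [Phi_monomial]
      refine tmul_mem_off 𝒜 ℬ ?_ hA hB
      intro h
      apply hw
      rw [weight_wt, sub_eq_zero]
      have hD' : (D : ℤ) ≠ 0 := by exact_mod_cast hD.ne'
      exact mul_left_cancel₀ hD' h
  | add p q hp hq =>
    rw [map_add, add_mul, map_add, hp, hq, map_add, map_add, add_mul]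

end Poly

section Integral

variable {r s : ℕ} {x : Fin r → R} {y : Fin s → S} {D : ℕ}

include 𝒜 ℬ in
/-- an element of the diagonal part integral over `k[X,Y]` is integral over `W` -/
theorem exists_monic_W (hD : 0 < D) (hx : ∀ i, x i ∈ 𝒜 (D : ℤ)) (hy : ∀ j, y j ∈ ℬ (D : ℤ))
    {t : R ⊗[k] S} (ht : t ∈ Dg 𝒜 ℬ) (hint : (Phi k x y).toRingHom.IsIntegralElem t) :
    ∃ q : Polynomial (W k r s), q.Monic ∧
      q.eval₂ ((Phi k x y).toRingHom.comp (W k r s).val.toRingHom) t = 0 := by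
  obtain ⟨p, hp, hp0⟩ := hint
  set N := p.natDegree with hN
  set π := weightedHomogeneousComponent (R := k) (wt r s) (0 : ℤ) with hπ
  have hπW : ∀ c, π c ∈ W k r s := weightedHomogeneousComponent_zero_mem_W k r s
  rw [Polynomial.eval₂_eq_sum_range] at hp0
  have h1 := congrArg (rho 𝒜 ℬ) hp0
  rw [map_sum, map_zero] at h1
  have h2 : ∀ i, rho 𝒜 ℬ ((Phi k x y).toRingHom (p.coeff i) * t ^ i) =
      Phi k x y (π (p.coeff i)) * t ^ i :=
    fun i => rho_Phi_mul 𝒜 ℬ hD hx hy (p.coeff i) (pow_mem_dg 𝒜 ℬ ht i)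
  simp_rw [h2] at h1
  rw [Finset.sum_range_succ, ← hN, hp.coeff_natDegree] at h1
  have hπ1 : π 1 = 1 := (isWeightedHomogeneous_one k (wt r s)).weightedHomogeneousComponent_same
  rw [hπ1, map_one, one_mul, Finset.sum_range] at h1
  refine ⟨Polynomial.X ^ N + ∑ i : Fin N,
    Polynomial.C (⟨π (p.coeff i), hπW _⟩ : W k r s) * Polynomial.X ^ (i : ℕ),
    Polynomial.monic_X_pow_add (Polynomial.degree_sum_fin_lt _), ?_⟩
  rw [Polynomial.eval₂_add, Polynomial.eval₂_pow, Polynomial.eval₂_X, Polynomial.eval₂_finsetSum]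
  simp only [Polynomial.eval₂_mul, Polynomial.eval₂_C, Polynomial.eval₂_pow, Polynomial.eval₂_X]
  rw [add_comm]
  exact h1

theorem Phi_comp_tensorEquivSum (x : Fin r → R) (y : Fin s → S) :
    (Phi k x y).comp (tensorEquivSum k (Fin r) (Fin s) k).toAlgHom =
      Algebra.TensorProduct.map (aeval x : MvPolynomial (Fin r) k →ₐ[k] R)
        (aeval y : MvPolynomial (Fin s) k →ₐ[k] S) := by
  apply Algebra.TensorProduct.ext
  · apply MvPolynomial.algHom_ext
    intro i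
    simp [Phi, vv]
  · apply MvPolynomial.algHom_ext
    intro j
    simp [Phi, vv]

theorem Phi_injective (hx : AlgebraicIndependent k x) (hy : AlgebraicIndependent k y) :
    Function.Injective (Phi k x y) := by
  have hmap : Function.Injective (Algebra.TensorProduct.map
      (aeval x : MvPolynomial (Fin r) k →ₐ[k] R) (aeval y : MvPolynomial (Fin s) k →ₐ[k] S)) := by
    have h := TensorProduct.map_injective_of_flat_flat
      (aeval x : MvPolynomial (Fin r) k →ₐ[k] R).toLinearMap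
      (aeval y : MvPolynomial (Fin s) k →ₐ[k] S).toLinearMap
      (algebraicIndependent_iff_injective_aeval.mp hx)
      (algebraicIndependent_iff_injective_aeval.mp hy)
    have e : ∀ z, Algebra.TensorProduct.map
        (aeval x : MvPolynomial (Fin r) k →ₐ[k] R) (aeval y : MvPolynomial (Fin s) k →ₐ[k] S) z =
        TensorProduct.map (aeval x : MvPolynomial (Fin r) k →ₐ[k] R).toLinearMap
          (aeval y : MvPolynomial (Fin s) k →ₐ[k] S).toLinearMap z := by
      intro z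
      induction z using TensorProduct.induction_on with
      | zero => simp
      | tmul a b => simp
      | add a b ha hb => rw [map_add, map_add, ha, hb]
    intro a b hab
    apply h
    rw [← e, ← e]
    exact hab
  intro p q hpq
  have hp : p = tensorEquivSum k (Fin r) (Fin s) k ((tensorEquivSum k (Fin r) (Fin s) k).symm p) :=
    ((tensorEquivSum k (Fin r) (Fin s) k).apply_symm_apply p).symm
  have hq : q = tensorEquivSum k (Fin r) (Fin s) k ((tensorEquivSum k (Fin r) (Fin s) k).symm q) :=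
    ((tensorEquivSum k (Fin r) (Fin s) k).apply_symm_apply q).symm
  have key : ∀ z, Phi k x y (tensorEquivSum k (Fin r) (Fin s) k z) =
      Algebra.TensorProduct.map (aeval x : MvPolynomial (Fin r) k →ₐ[k] R)
        (aeval y : MvPolynomial (Fin s) k →ₐ[k] S) z :=
    fun z => AlgHom.congr_fun (Phi_comp_tensorEquivSum x y) z
  rw [hp, hq, key, key] at hpq
  rw [hp, hq, hmap hpq]

theorem Phi_isIntegral (hx : (aeval x : MvPolynomial (Fin r) k →ₐ[k] R).toRingHom.IsIntegral)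
    (hy : (aeval y : MvPolynomial (Fin s) k →ₐ[k] S).toRingHom.IsIntegral) :
    (Phi k x y).toRingHom.IsIntegral := by
  intro u
  induction u using TensorProduct.induction_on with
  | zero => exact RingHom.isIntegralElem_zero _
  | add a b ha hb => exact RingHom.IsIntegralElem.add _ ha hb
  | tmul a b =>
    have hab : a ⊗ₜ[k] b = (a ⊗ₜ[k] (1 : S)) * ((1 : R) ⊗ₜ[k] b) := by
      rw [Algebra.TensorProduct.tmul_mul_tmul, mul_one, one_mul]
    rw [hab]
    refine RingHom.IsIntegralElem.mul _ ?_ ?_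
    · obtain ⟨p, hp, hp0⟩ := hx a
      let ιL : MvPolynomial (Fin r) k →ₐ[k] MvPolynomial (Fin r ⊕ Fin s) k := rename Sum.inl
      let incL : R →ₐ[k] R ⊗[k] S := Algebra.TensorProduct.includeLeft
      refine ⟨p.map ιL.toRingHom, hp.map _, ?_⟩
      rw [Polynomial.eval₂_map]
      have hcomp : (Phi k x y).toRingHom.comp ιL.toRingHom =
          incL.toRingHom.comp (aeval x : MvPolynomial (Fin r) k →ₐ[k] R).toRingHom := by
        have : (Phi k x y).comp ιL = incL.comp (aeval x : MvPolynomial (Fin r) k →ₐ[k] R) := by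
          apply MvPolynomial.algHom_ext
          intro i
          simp [Phi, vv, ιL, incL]
        exact congrArg AlgHom.toRingHom this
      rw [hcomp]
      have h3 := Polynomial.hom_eval₂ p (aeval x : MvPolynomial (Fin r) k →ₐ[k] R).toRingHom
        incL.toRingHom a
      rw [hp0, map_zero] at h3
      exact h3.symm
    · obtain ⟨p, hp, hp0⟩ := hy b
      let ιR : MvPolynomial (Fin s) k →ₐ[k] MvPolynomial (Fin r ⊕ Fin s) k := rename Sum.inr
      let incR : S →ₐ[k] R ⊗[k] S := Algebra.TensorProduct.includeRight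
      refine ⟨p.map ιR.toRingHom, hp.map _, ?_⟩
      rw [Polynomial.eval₂_map]
      have hcomp : (Phi k x y).toRingHom.comp ιR.toRingHom =
          incR.toRingHom.comp (aeval y : MvPolynomial (Fin s) k →ₐ[k] S).toRingHom := by
        have : (Phi k x y).comp ιR = incR.comp (aeval y : MvPolynomial (Fin s) k →ₐ[k] S) := by
          apply MvPolynomial.algHom_ext
          intro j
          simp [Phi, vv, ιR, incR]
        exact congrArg AlgHom.toRingHom this
      rw [hcomp]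
      have h3 := Polynomial.hom_eval₂ p (aeval y : MvPolynomial (Fin s) k →ₐ[k] S).toRingHom
        incR.toRingHom b
      rw [hp0, map_zero] at h3
      exact h3.symm

end Integral

section Main

/-- **Krull dimension of the Segre product.** -/
theorem main (hposR : ∀ n : ℤ, n < 0 → 𝒜 n = ⊥) (h0R : 𝒜 0 = Submodule.span k {(1 : R)})
    [Algebra.FiniteType k R]
    (hposS : ∀ n : ℤ, n < 0 → ℬ n = ⊥) (h0S : ℬ 0 = Submodule.span k {(1 : S)})
    [Algebra.FiniteType k S]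
    (T : Type u) [CommRing T] [Algebra k T] (𝒯 : ℤ → Submodule k T) [GradedAlgebra 𝒯]
    (ψ : T →ₐ[k] R ⊗[k] S) (hψ : Function.Injective ψ)
    (hdegT : ∀ n : ℤ, (𝒯 n).map ψ.toLinearMap =
      Submodule.span k {x : R ⊗[k] S | ∃ a ∈ 𝒜 n, ∃ b ∈ ℬ n, x = a ⊗ₜ[k] b})
    (r s : ℕ) (hr : ringKrullDim R = r) (hs : ringKrullDim S = s) (h1r : 1 ≤ r) (h1s : 1 ≤ s) :
    ringKrullDim T = ((r + s - 1 : ℕ) : WithBot ℕ∞) := by
  obtain ⟨D₁, hD₁, hR⟩ := exists_graded_noether 𝒜 hposR h0R r hr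
  obtain ⟨D₂, hD₂, hS⟩ := exists_graded_noether ℬ hposS h0S s hs
  obtain ⟨x, hx, hxint, hxind⟩ := hR D₂ hD₂
  obtain ⟨y, hy, hyint, hyind⟩ := hS D₁ hD₁
  have hD : 0 < D₂ * D₁ := Nat.mul_pos hD₂ hD₁
  have hy' : ∀ j, y j ∈ ℬ ((D₂ * D₁ : ℕ) : ℤ) := by
    intro j
    have := hy j
    rwa [Nat.mul_comm] at this
  have hΦint := Phi_isIntegral (x := x) (y := y) hxint hyint
  have hΦinj := Phi_injective (x := x) (y := y) hxind hyind
  have hψdiag : ∀ t : T, ψ t ∈ Dg 𝒜 ℬ := by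
    intro t
    induction t using DirectSum.Decomposition.inductionOn 𝒯 with
    | zero => rw [map_zero]; exact zero_mem _
    | @homogeneous n m =>
      have h1 : ψ (m : T) ∈ (𝒯 n).map ψ.toLinearMap := ⟨m, m.2, rfl⟩
      rw [hdegT n] at h1
      refine Submodule.span_le.mpr ?_ h1
      rintro _ ⟨a, ha, b, hb, rfl⟩
      exact tmul_mem_dg 𝒜 ℬ ha hb
    | add a b ha hb => rw [map_add]; exact add_mem ha hb
  have hgen : ∀ i j, ∃ t : T, ψ t = x i ⊗ₜ[k] y j := by
    intro i j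
    have h1 : x i ⊗ₜ[k] y j ∈ Submodule.span k {z : R ⊗[k] S |
        ∃ a ∈ 𝒜 ((D₂ * D₁ : ℕ) : ℤ), ∃ b ∈ ℬ ((D₂ * D₁ : ℕ) : ℤ), z = a ⊗ₜ[k] b} :=
      Submodule.subset_span ⟨x i, hx i, y j, hy' j, rfl⟩
    rw [← hdegT] at h1
    obtain ⟨t, -, ht⟩ := h1
    exact ⟨t, ht⟩
  have hWrange : ∀ w ∈ W k r s, Phi k x y w ∈ ψ.range := by
    intro w hw
    have hle : W k r s ≤ ψ.range.comap (Phi k x y) := by
      unfold W
      rw [Algebra.adjoin_le_iff]
      rintro _ ⟨⟨i, j⟩, rfl⟩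
      obtain ⟨t, ht⟩ := hgen i j
      show Phi k x y (gen k r s (i, j)) ∈ ψ.range
      refine ⟨t, ?_⟩
      show ψ t = _
      rw [ht]
      simp [gen, Phi, vv]
    exact hle hw
  let e := AlgEquiv.ofInjective ψ hψ
  let θ : W k r s →ₐ[k] T := e.symm.toAlgHom.comp
    (((Phi k x y).comp (W k r s).val).codRestrict ψ.range (fun w => hWrange w w.2))
  have hθ : ∀ w, ψ (θ w) = Phi k x y w := by
    intro w
    have h1 : e (θ w) = ⟨Phi k x y w, hWrange w w.2⟩ := by
      show e (e.symm _) = _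
      rw [e.apply_symm_apply]
      rfl
    have h2 := congrArg Subtype.val h1
    exact h2
  have hθinj : Function.Injective θ.toRingHom := by
    intro w w' hww
    have h1 : Phi k x y w = Phi k x y w' := by
      rw [← hθ, ← hθ]
      exact congrArg ψ hww
    exact Subtype.ext (hΦinj h1)
  have hθint : θ.toRingHom.IsIntegral := by
    intro t
    obtain ⟨q, hq, hq0⟩ := exists_monic_W 𝒜 ℬ hD hx hy' (hψdiag t) (hΦint (ψ t))
    refine ⟨q, hq, ?_⟩
    apply hψ
    rw [map_zero]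
    have h3 := Polynomial.hom_eval₂ q θ.toRingHom ψ.toRingHom t
    have hcomp : ψ.toRingHom.comp θ.toRingHom =
        (Phi k x y).toRingHom.comp (W k r s).val.toRingHom := RingHom.ext hθ
    rw [hcomp] at h3
    exact h3.trans hq0
  have hdim := Groth.Agent.H54.ringKrullDim_eq_of_ringHom_isIntegral_of_injective θ.toRingHom
    hθint hθinj
  rw [← hdim]
  exact ringKrullDim_W k r s ⟨0, h1r⟩ ⟨0, h1s⟩

end Main

end Groth.Agent.H85.SegreDim
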