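import Groth.Agent.H85.DepthSocle
import Groth.Agent.H85.SegreDim

/-!
# Segre products with a one-dimensional factor

`R`, `S` standard graded Cohen–Macaulay over `k`, `dim R = 1`, `dim S ≥ 2`: `R # S` is
Cohen–Macaulay iff `R` is a polynomial ring.
-/

set_option autoImplicit false
universe u

namespace Groth.Agent.H85.SegreDimOne

open scoped TensorProduct
open DirectSum Groth.Agent.H85.GradedNN Groth.Agent.H85.GradedCM Groth.Agent.H85.StdGraded
  Groth.Agent.H85.DepthSocle Groth.Agent.H85.SegreRingFacts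

section General

/-- a finite type algebra over a field has finite Krull dimension -/
theorem exists_nat_ringKrullDim_eq (k S : Type u) [Field k] [CommRing S] [Nontrivial S]
    [Algebra k S] [Algebra.FiniteType k S] : ∃ s : ℕ, ringKrullDim S = s := by
  obtain ⟨s, g, hginj, hgfin⟩ := exists_finite_inj_algHom_of_fg k S
  let P := MvPolynomial (Fin s) k
  letI : Algebra P S := g.toRingHom.toAlgebra
  haveI : IsScalarTower k P S := IsScalarTower.of_algebraMap_eq' g.comp_algebraMap.symm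
  have hfinPA : Module.Finite P S := hgfin
  have hint : Algebra.IsIntegral P S := inferInstance
  have hinj' : Function.Injective (algebraMap P S) := hginj
  haveI hfaith : FaithfulSMul P S := (faithfulSMul_iff_algebraMap_injective P S).mpr hginj
  refine ⟨s, ?_⟩
  rw [← Groth.Agent.H54.ringKrullDim_eq_of_isIntegral_of_injective hinj',
    Groth.Agent.H54.ringKrullDim_mvPolynomial_fin_field]

variable {k : Type*} [Field k] {R S : Type*} [CommRing R] [CommRing S] [Algebra k R] [Algebra k S]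

/-- `x ⊗ y` is a nonzerodivisor on `R ⊗ S` if `x`, `y` are nonzerodivisors -/
theorem tmul_mul_regular {x : R} {y : S} (hx : ∀ c : R, x * c = 0 → c = 0)
    (hy : ∀ c : S, y * c = 0 → c = 0) (τ : R ⊗[k] S) (h : (x ⊗ₜ[k] y) * τ = 0) : τ = 0 := by
  have hxinj : Function.Injective (LinearMap.mulLeft k x) := by
    rw [injective_iff_map_eq_zero]
    intro c hc
    exact hx c hc
  have hyinj : Function.Injective (LinearMap.mulLeft k y) := by
    rw [injective_iff_map_eq_zero]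
    intro c hc
    exact hy c hc
  have hL := TensorProduct.map_injective_of_flat_flat (LinearMap.mulLeft k x)
    (LinearMap.mulLeft k y) hxinj hyinj
  have key : ∀ τ : R ⊗[k] S, TensorProduct.map (LinearMap.mulLeft k x) (LinearMap.mulLeft k y) τ =
      (x ⊗ₜ[k] y) * τ := by
    intro τ
    induction τ using TensorProduct.induction_on with
    | zero => simp
    | tmul a b => simp [Algebra.TensorProduct.tmul_mul_tmul]
    | add a b ha hb => rw [map_add, ha, hb, mul_add]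
  apply hL
  rw [key, h, map_zero]

/-- `a ⊗ w` is not a multiple of `x ⊗ 1` if `a ∉ xR` and `w ≠ 0` -/
theorem tmul_ne_mul {x a : R} {w : S} (ha : ∀ c : R, a ≠ x * c) (hw : w ≠ 0) (τ : R ⊗[k] S) :
    a ⊗ₜ[k] w ≠ (x ⊗ₜ[k] (1 : S)) * τ := by
  intro h
  set I : Ideal R := Ideal.span {x} with hI
  let π : R ⊗[k] S →ₗ[k] (R ⧸ I) ⊗[k] S :=
    TensorProduct.map (Ideal.Quotient.mkₐ k I).toLinearMap LinearMap.id
  have hπ0 : ∀ τ : R ⊗[k] S, π ((x ⊗ₜ[k] (1 : S)) * τ) = 0 := by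
    intro τ
    induction τ using TensorProduct.induction_on with
    | zero => simp
    | tmul r s =>
      rw [Algebra.TensorProduct.tmul_mul_tmul]
      show (Ideal.Quotient.mk I (x * r)) ⊗ₜ[k] (1 * s) = 0
      have : Ideal.Quotient.mk I (x * r) = 0 :=
        Ideal.Quotient.eq_zero_iff_mem.mpr (Ideal.mul_mem_right _ _ (Ideal.mem_span_singleton_self x))
      rw [this, TensorProduct.zero_tmul]
    | add a b ha hb => rw [mul_add, map_add, ha, hb, add_zero]
  have h1 : (Ideal.Quotient.mk I a) ⊗ₜ[k] w = (0 : (R ⧸ I) ⊗[k] S) := by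
    have : π (a ⊗ₜ[k] w) = 0 := by rw [h, hπ0]
    exact this
  have ha0 : Ideal.Quotient.mk I a ≠ 0 := by
    intro h0
    rw [Ideal.Quotient.eq_zero_iff_mem, hI, Ideal.mem_span_singleton'] at h0
    obtain ⟨c, hc⟩ := h0
    exact ha c (by rw [← hc, mul_comm])
  have hinj1 : Function.Injective (LinearMap.toSpanSingleton k (R ⧸ I) (Ideal.Quotient.mk I a)) := by
    rw [injective_iff_map_eq_zero]
    intro c hc
    rw [LinearMap.toSpanSingleton_apply] at hc
    exact (smul_eq_zero.mp hc).resolve_right ha0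
  have hinj2 : Function.Injective (LinearMap.toSpanSingleton k S w) := by
    rw [injective_iff_map_eq_zero]
    intro c hc
    rw [LinearMap.toSpanSingleton_apply] at hc
    exact (smul_eq_zero.mp hc).resolve_right hw
  have hL := TensorProduct.map_injective_of_flat_flat _ _ hinj1 hinj2
  have h2 : TensorProduct.map (LinearMap.toSpanSingleton k (R ⧸ I) (Ideal.Quotient.mk I a))
      (LinearMap.toSpanSingleton k S w) ((1 : k) ⊗ₜ[k] (1 : k)) = 0 := by
    rw [TensorProduct.map_tmul, LinearMap.toSpanSingleton_apply, LinearMap.toSpanSingleton_apply,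
      one_smul, one_smul]
    exact h1
  have h3 : ((1 : k) ⊗ₜ[k] (1 : k)) = 0 := hL (h2.trans (map_zero _).symm)
  have h4 := congrArg (TensorProduct.lid k k) h3
  simp at h4

end General

section OneSide

variable {k : Type*} [Field k] {R : Type*} [CommRing R] [Algebra k R]
  (𝒜 : ℤ → Submodule k R) [GradedAlgebra 𝒜]
  (hpos : ∀ n : ℤ, n < 0 → 𝒜 n = ⊥) (h0 : 𝒜 0 = Submodule.span k {(1 : R)})

theorem chainBound_of_ringKrullDim_quotient_le (I : Ideal R) (m : ℕ)
    (h : ringKrullDim (R ⧸ I) ≤ m) : ChainBound I m := by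
  intro l hl
  rw [ringKrullDim_quotient] at h
  let l' : LTSeries (PrimeSpectrum.zeroLocus (R := R) (I : Set R)) :=
    ⟨l.length, fun i => ⟨l i, fun a ha => (l.head_le i) (hl ha)⟩, fun i => l.step i⟩
  have h1 : (l'.length : WithBot ℕ∞) ≤ Order.krullDim _ := Order.LTSeries.length_le_krullDim l'
  have h2 := h1.trans h
  have h3 : l'.length = l.length := rfl
  rw [h3] at h2
  exact_mod_cast h2

/-- a homogeneous multiple of a homogeneous element has a homogeneous cofactor -/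
theorem exists_homogeneous_cofactor {d n : ℤ} {x a : R} (hx : x ∈ 𝒜 d) (ha : a ∈ 𝒜 (n + d))
    (h : a ∈ Ideal.span {x}) : ∃ c ∈ 𝒜 n, a = x * c := by
  rw [Ideal.mem_span_singleton'] at h
  obtain ⟨c', hc'⟩ := h
  refine ⟨(decompose 𝒜 c' n : R), SetLike.coe_mem _, ?_⟩
  have h1 := coe_decompose_mul_add_of_right_mem 𝒜 hx (a := c') (i := n)
  rw [hc', decompose_of_mem_same 𝒜 ha] at h1
  rw [h1, mul_comm]

include hpos h0 in
/-- if `R / xR` has dimension `≤ 0` then `R_m ⊆ xR` for `m ≫ 0` -/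
theorem exists_bound_piece_le [Algebra.FiniteType k R] [Nontrivial R] {d : ℤ} {x : R}
    (hx : x ∈ 𝒜 d) (hdim : ringKrullDim (R ⧸ Ideal.span {x}) ≤ 0) :
    ∃ N₀ : ℤ, ∀ m > N₀, ∀ a ∈ 𝒜 m, a ∈ Ideal.span {x} := by
  classical
  have hcb : ChainBound (Ideal.span {x}) 0 :=
    chainBound_of_ringKrullDim_quotient_le _ 0 (by exact_mod_cast hdim)
  have hhom : (Ideal.span {x}).IsHomogeneous 𝒜 := by
    apply Ideal.homogeneous_span
    rintro y hy
    rw [Set.mem_singleton_iff] at hy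
    exact ⟨d, hy ▸ hx⟩
  have hrad := irr_le_radical_of_chainBound_zero 𝒜 hpos h0 _ hhom hcb
  obtain ⟨B, hBhom, hB⟩ := exists_homogeneous_span_mod 𝒜 hpos h0 _ hrad
  choose! e he using hBhom
  obtain ⟨N₀, hN₀⟩ := (B.image e).exists_le
  refine ⟨N₀, fun m hm a ha => ?_⟩
  have hzero : ∀ v ∈ Submodule.span k (B : Set R), (decompose 𝒜 v m : R) = 0 := by
    intro v hv
    induction hv using Submodule.span_induction with
    | mem b hb =>
      apply decompose_of_mem_ne 𝒜 (he b hb)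
      have := hN₀ (e b) (Finset.mem_image_of_mem e hb)
      omega
    | zero => simp
    | add u v _ _ hu hv =>
      rw [decompose_add, DirectSum.add_apply, Submodule.coe_add, hu, hv, add_zero]
    | smul c u _ hu =>
      rw [decompose_smul, DirectSum.smul_apply, Submodule.coe_smul, hu, smul_zero]
  obtain ⟨b', hb', hab⟩ := hB a
  have h1 := hhom m hab
  have h2 := hzero b' hb'
  rw [decompose_sub, DirectSum.sub_apply, AddSubgroupClass.coe_sub, h2, sub_zero,
    decompose_of_mem_same 𝒜 ha] at h1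
  exact h1

include hpos h0 in
/-- a socle element of `R / xR` in degree `≥ d` -/
theorem exists_socle [Algebra.FiniteType k R] [Nontrivial R] {d : ℤ} {x : R}
    (hx : x ∈ 𝒜 d) (hdim : ringKrullDim (R ⧸ Ideal.span {x}) ≤ 0)
    (hne : ¬ ∀ a ∈ 𝒜 d, ∃ l : k, a = l • x) :
    ∃ N : ℤ, d ≤ N ∧ ∃ a ∈ 𝒜 N, (∀ c : R, a ≠ x * c) ∧
      ∀ m > N, ∀ r ∈ 𝒜 m, r ∈ Ideal.span {x} := by
  obtain ⟨N₀, hN₀⟩ := exists_bound_piece_le 𝒜 hpos h0 hx hdim
  push Not at hne
  obtain ⟨a₀, ha₀, ha₀ne⟩ := hne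
  have ha₀' : a₀ ∉ Ideal.span {x} := by
    intro hmem
    have ha₀'' : a₀ ∈ 𝒜 (0 + d) := by rwa [zero_add]
    obtain ⟨c, hc, hac⟩ := exists_homogeneous_cofactor 𝒜 hx ha₀'' hmem
    rw [h0, Submodule.mem_span_singleton] at hc
    obtain ⟨l, rfl⟩ := hc
    apply ha₀ne l
    rw [hac, mul_smul_comm, mul_one]
  obtain ⟨N, ⟨hdN, a, ha, hax⟩, hmax⟩ := Int.exists_greatest_of_bdd
    (P := fun m => d ≤ m ∧ ∃ a ∈ 𝒜 m, a ∉ Ideal.span {x})
    ⟨N₀, fun z ⟨_, a, ha, hax⟩ => by
      by_contra hlt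
      push Not at hlt
      exact hax (hN₀ z hlt a ha)⟩
    ⟨d, le_rfl, a₀, ha₀, ha₀'⟩
  refine ⟨N, hdN, a, ha, ?_, ?_⟩
  · intro c hc
    apply hax
    rw [hc]
    exact Ideal.mul_mem_right _ _ (Ideal.mem_span_singleton_self x)
  · intro m hm r hr
    by_contra hrx
    have := hmax m ⟨by omega, r, hr, hrx⟩
    omega

/-- a standard graded algebra with a homogeneous nonzerodivisor of positive degree is nonzero in
every nonnegative degree -/
theorem exists_ne_zero_piece [Nontrivial R]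
    (hstd : Ideal.span (⋃ n ∈ Set.Ioi (0 : ℤ), (𝒜 n : Set R)) =
      Ideal.span ((𝒜 1 : Submodule k R) : Set R))
    {y : R} (hy : PosHom 𝒜 y) (hyreg : ∀ c : R, y * c = 0 → c = 0) (n : ℕ) :
    ∃ b ∈ 𝒜 (n : ℤ), b ≠ 0 := by
  by_contra hcon
  push Not at hcon
  have hall : ∀ j : ℕ, ∀ b ∈ 𝒜 ((n : ℤ) + j), b = 0 := by
    intro j
    induction j with
    | zero => intro b hb; exact hcon b (by simpa using hb)
    | succ j ih =>
      intro b hb
      have h1 : b ∈ prodSpan 𝒜 ((n : ℤ) + j) := by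
        apply mem_prodSpan 𝒜 hstd (by positivity)
        have : (n : ℤ) + ((j + 1 : ℕ) : ℤ) = (n : ℤ) + j + 1 := by push_cast; ring
        rwa [this] at hb
      have hle : prodSpan 𝒜 ((n : ℤ) + j) ≤ ⊥ := by
        apply Submodule.span_le.mpr
        rintro _ ⟨c, -, w, hw, rfl⟩
        rw [ih w hw, mul_zero]
        exact Submodule.zero_mem _
      exact (Submodule.mem_bot k).mp (hle h1)
  obtain ⟨e, he, hye⟩ := hy
  have h1 : y ^ n ∈ 𝒜 (n • e) := SetLike.pow_mem_graded n hye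
  have h2 : n • e = (n : ℤ) + ((n * (e.toNat - 1) : ℕ) : ℤ) := by
    have h3 : ((e.toNat - 1 : ℕ) : ℤ) = e - 1 := by
      have : 1 ≤ e.toNat := by omega
      rw [Nat.cast_sub this, Int.toNat_of_nonneg he.le]
      rfl
    rw [nsmul_eq_mul]
    push_cast
    rw [h3]
    ring
  rw [h2] at h1
  exact pow_ne_zero_of_regular hyreg n (hall _ _ h1)

theorem pow_regular {t : R} (h : ∀ c : R, t * c = 0 → c = 0) (n : ℕ) :
    ∀ c : R, t ^ n * c = 0 → c = 0 := by
  induction n with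
  | zero => intro c hc; simpa using hc
  | succ n ih =>
    intro c hc
    rw [pow_succ, mul_assoc] at hc
    exact h c (ih _ hc)

end OneSide

section Main

variable {k : Type u} [Field k] {R S : Type u} [CommRing R] [CommRing S] [Algebra k R] [Algebra k S]
  (𝒜 : ℤ → Submodule k R) [GradedAlgebra 𝒜] (ℬ : ℤ → Submodule k S) [GradedAlgebra ℬ]

/-- if `R # S` is Cohen–Macaulay with `dim R = 1`, `dim S ≥ 2`, then `R` is a polynomial ring -/
theorem polynomial_of_cm (hposR : ∀ n : ℤ, n < 0 → 𝒜 n = ⊥)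
    (h0R : 𝒜 0 = Submodule.span k {(1 : R)}) [Algebra.FiniteType k R]
    (hposS : ∀ n : ℤ, n < 0 → ℬ n = ⊥) (h0S : ℬ 0 = Submodule.span k {(1 : S)})
    [Algebra.FiniteType k S]
    (T : Type u) [CommRing T] [Algebra k T] (𝒯 : ℤ → Submodule k T) [GradedAlgebra 𝒯]
    (ψ : T →ₐ[k] R ⊗[k] S) (hψ : Function.Injective ψ)
    (hdegT : ∀ n : ℤ, (𝒯 n).map ψ.toLinearMap =
      Submodule.span k {x : R ⊗[k] S | ∃ a ∈ 𝒜 n, ∃ b ∈ ℬ n, x = a ⊗ₜ[k] b})
    [LocCoh.IsCohenMacaulayRing R] [LocCoh.IsCohenMacaulayRing S]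
    (hstdR : Ideal.span (⋃ n ∈ Set.Ioi (0 : ℤ), (𝒜 n : Set R)) =
      Ideal.span ((𝒜 1 : Submodule k R) : Set R))
    (hstdS : Ideal.span (⋃ n ∈ Set.Ioi (0 : ℤ), (ℬ n : Set S)) =
      Ideal.span ((ℬ 1 : Submodule k S) : Set S))
    (hr : ringKrullDim R = 1) (hs : 2 ≤ ringKrullDim S)
    (hT : LocCoh.IsCohenMacaulayRing T) : Nonempty (R ≃ₐ[k] Polynomial k) := by
  classical
  haveI : Nontrivial R := by
    by_contra hnt
    rw [not_nontrivial_iff_subsingleton] at hnt
    rw [ringKrullDim_eq_bot_of_subsingleton] at hr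
    exact absurd hr (by simp)
  haveI : Nontrivial S := by
    by_contra hnt
    rw [not_nontrivial_iff_subsingleton] at hnt
    rw [ringKrullDim_eq_bot_of_subsingleton] at hs
    exact absurd hs (by simp)
  obtain ⟨x₀, ⟨d₁, hd₁, hx₀⟩, hx₀reg⟩ := exists_posHom_regular 𝒜 hposR h0R (by rw [hr])
  obtain ⟨y₀, ⟨d₂, hd₂, hy₀⟩, hy₀reg⟩ :=
    exists_posHom_regular ℬ hposS h0S (le_trans (by norm_num) hs)
  set d : ℤ := d₁ * d₂ with hd
  have hdpos : 0 < d := mul_pos hd₁ hd₂
  set x : R := x₀ ^ d₂.toNat with hxdef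
  set y : S := y₀ ^ d₁.toNat with hydef
  have hx : x ∈ 𝒜 d := by
    have h1 := SetLike.pow_mem_graded d₂.toNat hx₀
    have h2 : d₂.toNat • d₁ = d := by
      rw [nsmul_eq_mul, Int.toNat_of_nonneg hd₂.le, hd, mul_comm]
    rwa [h2] at h1
  have hy : y ∈ ℬ d := by
    have h1 := SetLike.pow_mem_graded d₁.toNat hy₀
    have h2 : d₁.toNat • d₂ = d := by
      rw [nsmul_eq_mul, Int.toNat_of_nonneg hd₁.le, hd]
    rwa [h2] at h1
  have hxreg : ∀ c : R, x * c = 0 → c = 0 := pow_regular hx₀reg _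
  have hyreg : ∀ c : S, y * c = 0 → c = 0 := pow_regular hy₀reg _
  by_contra hne
  have hnotspan : ¬ ∀ a ∈ 𝒜 d, ∃ l : k, a = l • x := by
    intro hspan
    obtain ⟨t, ht, htreg, htgen⟩ := exists_linear_generator 𝒜 hstdR hdpos hx hxreg hspan
    exact hne ⟨(AlgEquiv.ofBijective (Polynomial.aeval t)
      (aeval_bijective 𝒜 hposR h0R hstdR ht htreg htgen)).symm⟩
  have hdimx : ringKrullDim (R ⧸ Ideal.span {x}) ≤ 0 := by
    have hxmem : x ∈ nonZeroDivisors R := by
      rw [mem_nonZeroDivisors_iff_right]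
      intro c hc
      exact hxreg c (by rwa [mul_comm])
    have h1 := ringKrullDim_quotient_succ_le_of_nonZeroDivisor hxmem
    rw [hr] at h1
    induction hq : ringKrullDim (R ⧸ Ideal.span {x}) using WithBot.recBotCoe with
    | bot => exact bot_le
    | coe n =>
      rw [hq] at h1
      have h2 : ((n + 1 : ℕ∞) : WithBot ℕ∞) ≤ ((1 : ℕ∞) : WithBot ℕ∞) := by exact_mod_cast h1
      rw [WithBot.coe_le_coe] at h2
      have h3 : n = 0 := by
        induction n using ENat.recTopCoe with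
        | top => simp at h2
        | coe m =>
          have : m + 1 ≤ 1 := by exact_mod_cast h2
          have : m = 0 := by omega
          rw [this]; rfl
      rw [h3]
      rfl
  obtain ⟨N, hdN, a, ha, hax, hbig⟩ := exists_socle 𝒜 hposR h0R hx hdimx hnotspan
  obtain ⟨b, hb, hb0⟩ := exists_ne_zero_piece ℬ hstdS ⟨d₂, hd₂, hy₀⟩ hy₀reg (N - d).toNat
  have hNd : (((N - d).toNat : ℕ) : ℤ) = N - d := Int.toNat_of_nonneg (by omega)
  rw [hNd] at hb
  -- the Segre product
  have hposT := segre_hpos 𝒜 ℬ 𝒯 ψ hψ hdegT hposR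
  have h0T := segre_h0 𝒜 ℬ 𝒯 ψ hψ hdegT h0R h0S
  haveI : Algebra.FiniteType k T := segre_finiteType 𝒜 ℬ 𝒯 ψ hψ hdegT hposR h0R h0S
  haveI : IsNoetherianRing T := hT.toIsNoetherian
  obtain ⟨s, hs'⟩ := exists_nat_ringKrullDim_eq k S
  have hs2 : 2 ≤ s := by
    rw [hs'] at hs
    exact_mod_cast hs
  have hdimT : ringKrullDim T = ((1 + s - 1 : ℕ) : WithBot ℕ∞) :=
    Groth.Agent.H85.SegreDim.main 𝒜 ℬ hposR h0R hposS h0S T 𝒯 ψ hψ hdegT 1 s
      (by rw [hr]; rfl) hs' le_rfl (by omega)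
  haveI : Nontrivial T := by
    by_contra hnt
    rw [not_nontrivial_iff_subsingleton] at hnt
    rw [ringKrullDim_eq_bot_of_subsingleton] at hdimT
    exact WithBot.bot_ne_coe hdimT
  haveI hmax : (irr 𝒯).IsMaximal := irr_isMaximal 𝒯 hposT h0T
  haveI : (irr 𝒯).IsPrime := hmax.isPrime
  have hpiece : ∀ (m : ℤ) (u : R) (v : S), u ∈ 𝒜 m → v ∈ ℬ m → ∃ t ∈ 𝒯 m, ψ t = u ⊗ₜ[k] v := by
    intro m u v hu hv
    have h1 : u ⊗ₜ[k] v ∈ Submodule.span k {x : R ⊗[k] S | ∃ a ∈ 𝒜 m, ∃ b ∈ ℬ m, x = a ⊗ₜ[k] b} :=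
      Submodule.subset_span ⟨u, hu, v, hv, rfl⟩
    rw [← hdegT m] at h1
    obtain ⟨t, ht, htψ⟩ := h1
    exact ⟨t, ht, htψ⟩
  obtain ⟨f, hf, hfψ⟩ := hpiece d x y hx hy
  have hyb : y * b ∈ ℬ N := by
    have := SetLike.mul_mem_graded hy hb
    rwa [show d + (N - d) = N by ring] at this
  obtain ⟨z, hz, hzψ⟩ := hpiece N a (y * b) ha hyb
  have hf_irr : f ∈ irr 𝒯 := PosHom.mem_irr (𝒜 := 𝒯) ⟨d, hdpos, hf⟩
  have hfreg : ∀ c : T, f * c = 0 → c = 0 := by
    intro c hc
    apply hψ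
    rw [map_zero]
    apply tmul_mul_regular (k := k) hxreg hyreg
    rw [← hfψ, ← map_mul, hc, map_zero]
  have hyb0 : y * b ≠ 0 := fun h => hb0 (hyreg b h)
  have hznot : ∀ c : T, z ≠ f * c := by
    intro c hc
    have h1 : a ⊗ₜ[k] (y * b) = (x ⊗ₜ[k] (1 : S)) * (((1 : R) ⊗ₜ[k] y) * ψ c) := by
      rw [← hzψ, hc, map_mul, hfψ, ← mul_assoc, Algebra.TensorProduct.tmul_mul_tmul, mul_one,
        one_mul]
    exact tmul_ne_mul (k := k) hax hyb0 _ h1
  have hsoc : ∀ t ∈ irr 𝒯, ∃ c : T, t * z = f * c := by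
    intro t ht
    unfold irr Ideal.span at ht
    induction ht using Submodule.span_induction with
    | zero => exact ⟨0, by simp⟩
    | add t₁ t₂ _ _ h₁ h₂ =>
      obtain ⟨c₁, hc₁⟩ := h₁
      obtain ⟨c₂, hc₂⟩ := h₂
      exact ⟨c₁ + c₂, by rw [add_mul, hc₁, hc₂, mul_add]⟩
    | smul r' t _ h₁ =>
      obtain ⟨c₁, hc₁⟩ := h₁
      exact ⟨r' * c₁, by rw [smul_eq_mul, mul_assoc, hc₁, mul_left_comm]⟩
    | mem t ht =>
      obtain ⟨m, hm, htm⟩ := ht
      have h1 : ψ t ∈ (𝒯 m).map ψ.toLinearMap := ⟨t, htm, rfl⟩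
      rw [hdegT m] at h1
      have key : ∀ τ ∈ Submodule.span k {x : R ⊗[k] S | ∃ a ∈ 𝒜 m, ∃ b ∈ ℬ m, x = a ⊗ₜ[k] b},
          ∃ c : T, τ * (a ⊗ₜ[k] (y * b)) = (x ⊗ₜ[k] y) * ψ c := by
        intro τ hτ
        induction hτ using Submodule.span_induction with
        | zero => exact ⟨0, by simp⟩
        | add τ₁ τ₂ _ _ h₁ h₂ =>
          obtain ⟨c₁, hc₁⟩ := h₁
          obtain ⟨c₂, hc₂⟩ := h₂
          exact ⟨c₁ + c₂, by rw [add_mul, hc₁, hc₂, map_add, mul_add]⟩
        | smul l τ _ h₁ =>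
          obtain ⟨c₁, hc₁⟩ := h₁
          exact ⟨l • c₁, by rw [smul_mul_assoc, hc₁, map_smul, mul_smul_comm]⟩
        | mem τ hτ =>
          obtain ⟨r', hr', s', hs'', rfl⟩ := hτ
          have hra : r' * a ∈ 𝒜 ((m + N - d) + d) := by
            have := SetLike.mul_mem_graded hr' ha
            rwa [show m + N = (m + N - d) + d by ring] at this
          have hra' : r' * a ∈ Ideal.span {x} := by
            apply hbig (m + N) (by omega)
            have := SetLike.mul_mem_graded hr' ha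
            exact this
          obtain ⟨c', hc', hrac⟩ := exists_homogeneous_cofactor 𝒜 hx hra hra'
          have hsb : s' * b ∈ ℬ (m + N - d) := by
            have := SetLike.mul_mem_graded hs'' hb
            rwa [show m + (N - d) = m + N - d by ring] at this
          obtain ⟨c, -, hcψ⟩ := hpiece (m + N - d) c' (s' * b) hc' hsb
          refine ⟨c, ?_⟩
          rw [hcψ, Algebra.TensorProduct.tmul_mul_tmul, Algebra.TensorProduct.tmul_mul_tmul, hrac]
          congr 1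
          ring
      obtain ⟨c, hc⟩ := key _ h1
      refine ⟨c, hψ ?_⟩
      rw [map_mul, map_mul, hzψ, hfψ, hc]
  have hdepth := depth_le_one_of_socle (irr 𝒯) f hf_irr hfreg z hznot hsoc
  have hht : (2 : ℕ∞) ≤ (irr 𝒯).height := by
    have := le_height_irr 𝒯 hposT h0T 2 (by
      rw [hdimT]
      have : 2 ≤ 1 + s - 1 := by omega
      exact_mod_cast this)
    exact_mod_cast this
  have hCMloc := hT.isCohenMacaulayLocalRing_localization (irr 𝒯)
  have hdep := hCMloc.supportDim_eq_depth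
  rw [Module.supportDim_self_eq_ringKrullDim,
    IsLocalization.AtPrime.ringKrullDim_eq_height (irr 𝒯) (Localization.AtPrime (irr 𝒯)),
    WithBot.coe_inj] at hdep
  rw [hdep] at hht
  have := hht.trans hdepth
  simp at this

end Main

end Groth.Agent.H85.SegreDimOne
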