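import Groth.Agent.H85.SegreDimOne
import Groth.Agent.H49.CMLocalize

/-!
# Segre product with a polynomial ring in one variable

If `R ≅ k[X]` is standard graded, then `R # S ≅ S`.
-/

set_option autoImplicit false
universe u

namespace Groth.Agent.H85.SegreDimOne

open scoped TensorProduct
open DirectSum Groth.Agent.H85.GradedNN Groth.Agent.H85.StdGraded
  Groth.Agent.H85.SegreRingFacts

/-- Cohen–Macaulayness of a ring is invariant under ring isomorphisms. -/
theorem isCohenMacaulayRing_of_ringEquiv {R S : Type u} [CommRing R] [CommRing S] (e : R ≃+* S)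
    (h : LocCoh.IsCohenMacaulayRing R) : LocCoh.IsCohenMacaulayRing S := by
  haveI : IsNoetherianRing R := h.toIsNoetherian
  haveI : IsNoetherianRing S := isNoetherianRing_of_ringEquiv R e
  refine ⟨fun q hq => ?_⟩
  let e' : Localization.AtPrime (q.comap e) ≃+* Localization.AtPrime q :=
    IsLocalization.ringEquivOfRingEquiv
      (Localization.AtPrime (q.comap e)) (Localization.AtPrime q) e (e.map_primeCompl_comap_eq q)
  exact Groth.Agent.H49.isCohenMacaulayLocalRing_of_ringEquiv e'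
    (h.isCohenMacaulayLocalRing_localization (q.comap e))

section Gen

variable {k : Type*} [Field k] {R : Type*} [CommRing R] [Algebra k R]
  (𝒜 : ℤ → Submodule k R) [GradedAlgebra 𝒜]
  (hpos : ∀ n : ℤ, n < 0 → 𝒜 n = ⊥) (h0 : 𝒜 0 = Submodule.span k {(1 : R)})
  (hstd : Ideal.span (⋃ n ∈ Set.Ioi (0 : ℤ), (𝒜 n : Set R)) =
      Ideal.span ((𝒜 1 : Submodule k R) : Set R))

include hpos h0 in
/-- the degree one part of a product with an element of the irrelevant ideal -/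
theorem decompose_one_mul_of_mem_irr {c g : R} (hg : g ∈ irr 𝒜) :
    (decompose 𝒜 (c * g) 1 : R) = (decompose 𝒜 c 0 : R) * (decompose 𝒜 g 1 : R) := by
  classical
  have hg0 : (decompose 𝒜 g 0 : R) = 0 := decompose_zero_of_mem_irr 𝒜 hpos hg
  conv_lhs => rw [← DirectSum.sum_support_decompose 𝒜 c, Finset.sum_mul]
  rw [decompose_sum, DFinsupp.finsetSum_apply, AddSubmonoidClass.coe_finsetSum]
  have hterm : ∀ j : ℤ, (decompose 𝒜 ((decompose 𝒜 c j : R) * g) 1 : R) =
      (decompose 𝒜 c j : R) * (decompose 𝒜 g (1 - j) : R) := by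
    intro j
    have := coe_decompose_mul_add_of_left_mem 𝒜 (SetLike.coe_mem (decompose 𝒜 c j)) (b := g)
      (j := 1 - j)
    rwa [show j + (1 - j) = 1 by ring] at this
  simp_rw [hterm]
  have hzero : ∀ j : ℤ, j ≠ 0 →
      (decompose 𝒜 c j : R) * (decompose 𝒜 g (1 - j) : R) = 0 := by
    intro j hj
    rcases lt_trichotomy j 0 with h | h | h
    · rw [eq_zero_of_mem_of_neg 𝒜 hpos h (SetLike.coe_mem _), zero_mul]
    · exact absurd h hj
    · by_cases h1 : j = 1
      · rw [h1, sub_self, hg0, mul_zero]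
      · rw [eq_zero_of_mem_of_neg 𝒜 hpos (by omega : 1 - j < 0) (SetLike.coe_mem _), mul_zero]
  by_cases hc : (0 : ℤ) ∈ (decompose 𝒜 c).support
  · rw [Finset.sum_eq_single_of_mem 0 hc (fun j _ hj => hzero j hj), sub_zero]
  · rw [Finset.sum_eq_zero (fun j hj => hzero j (fun h => hc (h ▸ hj)))]
    have : (decompose 𝒜 c 0 : R) = 0 := by
      rw [DFinsupp.mem_support_toFun, not_not] at hc
      rw [hc]; rfl
    rw [this, zero_mul]

include hpos h0 hstd in
/-- a standard graded algebra isomorphic to `k[X]` has `R_1 = k t` with `t` a nonzerodivisor -/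
theorem exists_linear_generator_of_algEquiv (e : R ≃ₐ[k] Polynomial k) :
    ∃ t ∈ 𝒜 1, (∀ c : R, t * c = 0 → c = 0) ∧ ∀ a ∈ 𝒜 1, ∃ l : k, a = l • t := by
  haveI : IsDomain R := e.injective.isDomain e.toRingEquiv.toRingHom
  haveI : IsPrincipalIdealRing R :=
    IsPrincipalIdealRing.of_surjective (e.symm.toRingEquiv.toRingHom) e.symm.surjective
  have hprin : (irr 𝒜).IsPrincipal := IsPrincipalIdealRing.principal _
  obtain ⟨g, hg⟩ := hprin
  have hg' : irr 𝒜 = Ideal.span {g} := hg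
  have hgmem : g ∈ irr 𝒜 := by rw [hg']; exact Ideal.mem_span_singleton_self g
  set t : R := (decompose 𝒜 g 1 : R) with ht
  have htmem : t ∈ 𝒜 1 := SetLike.coe_mem _
  have hgen : ∀ a ∈ 𝒜 1, ∃ l : k, a = l • t := by
    intro a ha
    have ha_irr : a ∈ irr 𝒜 := PosHom.mem_irr (𝒜 := 𝒜) ⟨1, one_pos, ha⟩
    rw [hg', Ideal.mem_span_singleton'] at ha_irr
    obtain ⟨c, hc⟩ := ha_irr
    have h1 : a = (decompose 𝒜 c 0 : R) * t := by
      have h3 : a = (decompose 𝒜 a 1 : R) := (decompose_of_mem_same 𝒜 ha).symm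
      rw [h3, ← hc, decompose_one_mul_of_mem_irr 𝒜 hpos h0 hgmem]
    obtain ⟨l, hl⟩ := exists_smul_one_of_mem_zero 𝒜 h0 (SetLike.coe_mem (decompose 𝒜 c 0))
    refine ⟨l, ?_⟩
    rw [h1, ← hl, smul_mul_assoc, one_mul]
  have ht0 : t ≠ 0 := by
    intro ht0
    -- then `R = k`, impossible
    have hall : ∀ r : R, ∃ l : k, r = l • (1 : R) := by
      intro r
      induction r using DirectSum.Decomposition.inductionOn 𝒜 with
      | zero => exact ⟨0, by simp⟩
      | @homogeneous n m =>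
        rcases lt_trichotomy n 0 with h | h | h
        · exact ⟨0, by rw [eq_zero_of_mem_of_neg 𝒜 hpos h m.2, zero_smul]⟩
        · have hm : (m : R) ∈ 𝒜 0 := h ▸ m.2
          obtain ⟨l, hl⟩ := exists_smul_one_of_mem_zero 𝒜 h0 hm
          exact ⟨l, hl.symm⟩
        · have hm : (m : R) ∈ 𝒜 ((n.toNat : ℕ) : ℤ) := by
            rw [Int.toNat_of_nonneg h.le]; exact m.2
          obtain ⟨l, hl⟩ := mem_span_pow 𝒜 h0 hstd htmem hgen n.toNat _ hm
          refine ⟨0, ?_⟩
          rw [hl, ht0, zero_pow (by omega), smul_zero, zero_smul]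
      | add a b ha hb =>
        obtain ⟨l₁, h₁⟩ := ha
        obtain ⟨l₂, h₂⟩ := hb
        exact ⟨l₁ + l₂, by rw [h₁, h₂, add_smul]⟩
    obtain ⟨l, hl⟩ := hall (e.symm Polynomial.X)
    have h3 : (Polynomial.X : Polynomial k) = Polynomial.C l := by
      have := congrArg e hl
      rw [e.apply_symm_apply, map_smul, map_one, Algebra.smul_def, mul_one] at this
      exact this
    exact Polynomial.X_ne_C l h3
  refine ⟨t, htmem, ?_, hgen⟩
  intro c hc
  exact (mul_eq_zero.mp hc).resolve_left ht0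

end Gen

section Iso

variable {k : Type u} [Field k] {R S : Type u} [CommRing R] [CommRing S] [Algebra k R] [Algebra k S]
  (𝒜 : ℤ → Submodule k R) [GradedAlgebra 𝒜] (ℬ : ℤ → Submodule k S) [GradedAlgebra ℬ]

/-- if `R ≅ k[X]` is standard graded then `R # S ≅ S` -/
theorem nonempty_ringEquiv_of_polynomial (hposR : ∀ n : ℤ, n < 0 → 𝒜 n = ⊥)
    (h0R : 𝒜 0 = Submodule.span k {(1 : R)})
    (hposS : ∀ n : ℤ, n < 0 → ℬ n = ⊥)
    (T : Type u) [CommRing T] [Algebra k T] (𝒯 : ℤ → Submodule k T) [GradedAlgebra 𝒯]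
    (ψ : T →ₐ[k] R ⊗[k] S) (hψ : Function.Injective ψ)
    (hdegT : ∀ n : ℤ, (𝒯 n).map ψ.toLinearMap =
      Submodule.span k {x : R ⊗[k] S | ∃ a ∈ 𝒜 n, ∃ b ∈ ℬ n, x = a ⊗ₜ[k] b})
    (hstdR : Ideal.span (⋃ n ∈ Set.Ioi (0 : ℤ), (𝒜 n : Set R)) =
      Ideal.span ((𝒜 1 : Submodule k R) : Set R))
    (e : R ≃ₐ[k] Polynomial k) : Nonempty (T ≃+* S) := by
  classical
  haveI : IsDomain R := e.injective.isDomain e.toRingEquiv.toRingHom
  obtain ⟨t, ht, htreg, htgen⟩ := exists_linear_generator_of_algEquiv 𝒜 hposR h0R hstdR e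
  let e' : Polynomial k ≃ₐ[k] R := AlgEquiv.ofBijective (Polynomial.aeval t)
    (aeval_bijective 𝒜 hposR h0R hstdR ht htreg htgen)
  let ε : R →ₐ[k] k := (Polynomial.aeval (1 : k)).comp e'.symm.toAlgHom
  have hε : ∀ n : ℕ, ε (t ^ n) = 1 := by
    intro n
    have h1 : e'.symm (t ^ n) = Polynomial.X ^ n := by
      rw [AlgEquiv.symm_apply_eq]
      show t ^ n = Polynomial.aeval t (Polynomial.X ^ n)
      rw [map_pow, Polynomial.aeval_X]
    show Polynomial.aeval (1 : k) (e'.symm (t ^ n)) = 1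
    rw [h1, map_pow, Polynomial.aeval_X, one_pow]
  let τ : T →ₐ[k] S := (Algebra.TensorProduct.lid k S).toAlgHom.comp
    ((Algebra.TensorProduct.map ε (AlgHom.id k S)).comp ψ)
  have hposT := segre_hpos 𝒜 ℬ 𝒯 ψ hψ hdegT hposR
  have hform : ∀ (n : ℕ) (w : T), w ∈ 𝒯 (n : ℤ) → ∃ β ∈ ℬ (n : ℤ), ψ w = (t ^ n) ⊗ₜ[k] β := by
    intro n w hw
    have h1 : ψ w ∈ (𝒯 (n : ℤ)).map ψ.toLinearMap := ⟨w, hw, rfl⟩
    rw [hdegT] at h1
    have key : ∀ z ∈ Submodule.span k
        {x : R ⊗[k] S | ∃ a ∈ 𝒜 (n : ℤ), ∃ b ∈ ℬ (n : ℤ), x = a ⊗ₜ[k] b},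
        ∃ β ∈ ℬ (n : ℤ), z = (t ^ n) ⊗ₜ[k] β := by
      intro z hz
      induction hz using Submodule.span_induction with
      | mem z hz =>
        obtain ⟨a, ha, b, hb, rfl⟩ := hz
        obtain ⟨l, rfl⟩ := mem_span_pow 𝒜 h0R hstdR ht htgen n a ha
        exact ⟨l • b, Submodule.smul_mem _ _ hb, by rw [TensorProduct.smul_tmul]⟩
      | zero => exact ⟨0, Submodule.zero_mem _, by rw [TensorProduct.tmul_zero]⟩
      | add u v _ _ hu hv =>
        obtain ⟨β₁, hβ₁, h₁⟩ := hu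
        obtain ⟨β₂, hβ₂, h₂⟩ := hv
        exact ⟨β₁ + β₂, Submodule.add_mem _ hβ₁ hβ₂, by rw [h₁, h₂, TensorProduct.tmul_add]⟩
      | smul l u _ hu =>
        obtain ⟨β₁, hβ₁, h₁⟩ := hu
        exact ⟨l • β₁, Submodule.smul_mem _ _ hβ₁, by rw [h₁, TensorProduct.tmul_smul]⟩
    exact key _ h1
  have hτ : ∀ (n : ℕ) (w : T) (β : S), ψ w = (t ^ n) ⊗ₜ[k] β → τ w = β := by
    intro n w β h
    show Algebra.TensorProduct.lid k S (Algebra.TensorProduct.map ε (AlgHom.id k S) (ψ w)) = β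
    rw [h, Algebra.TensorProduct.map_tmul, hε, Algebra.TensorProduct.lid_tmul, AlgHom.id_apply,
      one_smul]
  have hτdeg : ∀ i : ℤ, ∀ w ∈ 𝒯 i, τ w ∈ ℬ (i + 0) := by
    intro i w hw
    rw [add_zero]
    by_cases hi : i < 0
    · rw [hposT i hi, Submodule.mem_bot] at hw
      rw [hw, map_zero]
      exact Submodule.zero_mem _
    · have hw' : w ∈ 𝒯 ((i.toNat : ℕ) : ℤ) := by
        rwa [Int.toNat_of_nonneg (by omega)]
      obtain ⟨β, hβ, h⟩ := hform i.toNat w hw'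
      rw [hτ _ w β h]
      rwa [Int.toNat_of_nonneg (by omega)] at hβ
  have hinj : Function.Injective τ := by
    rw [injective_iff_map_eq_zero]
    intro w hw
    rw [← DirectSum.sum_support_decompose 𝒯 w]
    refine Finset.sum_eq_zero fun i _ => ?_
    have h1 := Groth.Agent.H98.decompose_map_shift 𝒯 ℬ (τ : T →+ S) 0 hτdeg w i
    rw [show (τ : T →+ S) w = τ w from rfl, hw, decompose_zero, DirectSum.zero_apply,
      ZeroMemClass.coe_zero] at h1
    have h2 : τ (decompose 𝒯 w i : T) = 0 := h1.symm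
    by_cases hi : i < 0
    · exact eq_zero_of_mem_of_neg 𝒯 hposT hi (SetLike.coe_mem _)
    · have hw' : (decompose 𝒯 w i : T) ∈ 𝒯 ((i.toNat : ℕ) : ℤ) := by
        rw [Int.toNat_of_nonneg (by omega)]
        exact SetLike.coe_mem _
      obtain ⟨β, -, h⟩ := hform i.toNat _ hw'
      rw [hτ _ _ β h] at h2
      apply hψ
      rw [h, h2, TensorProduct.tmul_zero, map_zero]
  have hsurj : Function.Surjective τ := by
    intro s'
    induction s' using DirectSum.Decomposition.inductionOn ℬ with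
    | zero => exact ⟨0, map_zero _⟩
    | @homogeneous i m =>
      by_cases hi : i < 0
      · exact ⟨0, by rw [map_zero, eq_zero_of_mem_of_neg ℬ hposS hi m.2]⟩
      · have hm : (m : S) ∈ ℬ ((i.toNat : ℕ) : ℤ) := by
          rw [Int.toNat_of_nonneg (by omega)]; exact m.2
        have hpow : t ^ i.toNat ∈ 𝒜 ((i.toNat : ℕ) : ℤ) := by
          have := SetLike.pow_mem_graded i.toNat ht
          simpa using this
        have h1 : (t ^ i.toNat) ⊗ₜ[k] (m : S) ∈ Submodule.span k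
            {x : R ⊗[k] S | ∃ a ∈ 𝒜 ((i.toNat : ℕ) : ℤ), ∃ b ∈ ℬ ((i.toNat : ℕ) : ℤ),
              x = a ⊗ₜ[k] b} :=
          Submodule.subset_span ⟨_, hpow, _, hm, rfl⟩
        rw [← hdegT] at h1
        obtain ⟨w, -, hw⟩ := h1
        exact ⟨w, hτ _ w _ hw⟩
    | add a b ha hb =>
      obtain ⟨u, hu⟩ := ha
      obtain ⟨v, hv⟩ := hb
      exact ⟨u + v, by rw [map_add, hu, hv]⟩
  exact ⟨RingEquiv.ofBijective τ ⟨hinj, hsurj⟩⟩

end Iso

end Groth.Agent.H85.SegreDimOne
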