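import Groth.Agent.H85.SegreDimOneConv

/-!
# Graded algebra facts for the Gorenstein Segre product in dimension one (helper85)

* quotient of a one-dimensional ring by a nonzerodivisor has dimension `≤ 0`;
* the quotient of a graded `k`-algebra (`T_0 = k`) by a homogeneous `f` with `T_+ ⊆ √(f)` is a
  local ring whose maximal ideal is the image of `T_+`;
* a standard graded algebra with a one-dimensional piece in positive degree and a homogeneous
  nonzerodivisor of positive degree is a polynomial ring;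
* the swapped Segre product structure.
-/

set_option autoImplicit false
universe u

namespace Groth.Agent.H85.SegreGorOne

open scoped TensorProduct
open DirectSum Groth.Agent.H85.GradedNN Groth.Agent.H85.GradedCM Groth.Agent.H85.StdGraded
  Groth.Agent.H85.DepthSocle Groth.Agent.H85.SegreRingFacts Groth.Agent.H85.SegreDimOne

section Dim

variable {R : Type*} [CommRing R]

theorem ringKrullDim_quotient_le_zero {x : R} (hxreg : ∀ c : R, x * c = 0 → c = 0)
    (hr : ringKrullDim R = 1) : ringKrullDim (R ⧸ Ideal.span {x}) ≤ 0 := by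
  have hxmem : x ∈ nonZeroDivisors R := by
    rw [mem_nonZeroDivisors_iff_right]
    intro c hc
    exact hxreg c (by rwa [mul_comm])
  have h1 := ringKrullDim_quotient_succ_le_of_nonZeroDivisor hxmem
  rw [hr] at h1
  induction hq : ringKrullDim (R ⧸ Ideal.span {x}) using WithBot.recBotCoe with
  | bot => exact bot_le
  | coe n =>
    rw [hq] at h1
    have h2 : ((n + 1 : ℕ∞) : WithBot ℕ∞) ≤ ((1 : ℕ∞) : WithBot ℕ∞) := by exact_mod_cast h1
    rw [WithBot.coe_le_coe] at h2
    have h3 : n = 0 := by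
      induction n using ENat.recTopCoe with
      | top => simp at h2
      | coe m =>
        have : m + 1 ≤ 1 := by exact_mod_cast h2
        have : m = 0 := by omega
        rw [this]; rfl
    rw [h3]
    rfl

end Dim

section Local

variable {k : Type*} [Field k] {T : Type*} [CommRing T] [Algebra k T]
  (𝒯 : ℤ → Submodule k T) [GradedAlgebra 𝒯]
  (hpos : ∀ n : ℤ, n < 0 → 𝒯 n = ⊥) (h0 : 𝒯 0 = Submodule.span k {(1 : T)})

include hpos h0 in
/-- every element is a scalar plus an element of the irrelevant ideal -/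
theorem exists_scalar_add_irr (t : T) : ∃ l : k, ∃ t' ∈ irr 𝒯, t = l • (1 : T) + t' := by
  obtain ⟨l, hl⟩ := exists_smul_one_of_mem_zero 𝒯 h0 (SetLike.coe_mem (decompose 𝒯 t 0))
  refine ⟨l, t - (decompose 𝒯 t 0 : T), sub_decompose_zero_mem_irr 𝒯 hpos t, ?_⟩
  rw [hl]
  ring

variable {f : T} (hrad : irr 𝒯 ≤ (Ideal.span {f}).radical)

include hrad in
theorem isNilpotent_mk_of_mem_irr {t : T} (ht : t ∈ irr 𝒯) :
    IsNilpotent (Ideal.Quotient.mk (Ideal.span {f}) t) := by
  obtain ⟨n, hn⟩ := hrad ht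
  refine ⟨n, ?_⟩
  rw [← map_pow]
  exact Ideal.Quotient.eq_zero_iff_mem.mpr hn

include hpos h0 hrad in
theorem isUnit_mk_of_scalar_ne_zero {l : k} (hl : l ≠ 0) {t' : T} (ht' : t' ∈ irr 𝒯) :
    IsUnit (Ideal.Quotient.mk (Ideal.span {f}) (l • (1 : T) + t')) := by
  rw [map_add]
  apply (isNilpotent_mk_of_mem_irr 𝒯 hrad ht').isUnit_add_left_of_commute _ (Commute.all _ _)
  have h1 : l • (1 : T) = algebraMap k T l := by rw [Algebra.smul_def, mul_one]
  rw [h1]
  exact (((isUnit_iff_ne_zero.mpr hl).map (algebraMap k T))).map (Ideal.Quotient.mk _)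

include hpos h0 hrad in
theorem isLocalRing_quotient [Nontrivial T] (hf : f ∈ irr 𝒯) :
    IsLocalRing (T ⧸ Ideal.span {f}) := by
  haveI : Nontrivial (T ⧸ Ideal.span {f}) := by
    apply Ideal.Quotient.nontrivial_iff.mpr
    intro htop
    have h1 : (Ideal.span {f}) ≤ irr 𝒯 := by
      rw [Ideal.span_le, Set.singleton_subset_iff]
      exact hf
    have h2 : (1 : T) ∈ irr 𝒯 := h1 (htop ▸ Submodule.mem_top)
    exact one_notMem_irr 𝒯 hpos h2
  apply IsLocalRing.of_isUnit_or_isUnit_one_sub_self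
  intro b
  obtain ⟨t, rfl⟩ := Ideal.Quotient.mk_surjective b
  obtain ⟨l, t', ht', rfl⟩ := exists_scalar_add_irr 𝒯 hpos h0 t
  by_cases hl : l = 0
  · right
    rw [hl, zero_smul, zero_add]
    exact (isNilpotent_mk_of_mem_irr 𝒯 hrad ht').isUnit_one_sub
  · left
    exact isUnit_mk_of_scalar_ne_zero 𝒯 hpos h0 hrad hl ht'

include hpos h0 hrad in
theorem mem_maximalIdeal_quotient_iff [Nontrivial T] [IsLocalRing (T ⧸ Ideal.span {f})]
    (b : T ⧸ Ideal.span {f}) :
    b ∈ IsLocalRing.maximalIdeal (T ⧸ Ideal.span {f}) ↔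
      ∃ t ∈ irr 𝒯, Ideal.Quotient.mk (Ideal.span {f}) t = b := by
  constructor
  · intro hb
    obtain ⟨t, rfl⟩ := Ideal.Quotient.mk_surjective b
    obtain ⟨l, t', ht', rfl⟩ := exists_scalar_add_irr 𝒯 hpos h0 t
    by_cases hl : l = 0
    · refine ⟨t', ht', ?_⟩
      rw [hl, zero_smul, zero_add]
    · exact absurd (isUnit_mk_of_scalar_ne_zero 𝒯 hpos h0 hrad hl ht')
        ((IsLocalRing.mem_maximalIdeal _).mp hb)
  · rintro ⟨t, ht, rfl⟩
    rw [IsLocalRing.mem_maximalIdeal, mem_nonunits_iff]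
    exact fun hu => hu.not_isNilpotent (isNilpotent_mk_of_mem_irr 𝒯 hrad ht)

end Local

section Poly

variable {k : Type*} [Field k] {S : Type*} [CommRing S] [Algebra k S]
  (ℬ : ℤ → Submodule k S) [GradedAlgebra ℬ]
  (hpos : ∀ n : ℤ, n < 0 → ℬ n = ⊥) (h0 : ℬ 0 = Submodule.span k {(1 : S)})
  (hstd : Ideal.span (⋃ n ∈ Set.Ioi (0 : ℤ), (ℬ n : Set S)) =
      Ideal.span ((ℬ 1 : Submodule k S) : Set S))

/-- the piece `S_n` is at most one-dimensional -/
def PieceLeOne (n : ℤ) : Prop := ∃ u ∈ ℬ n, ∀ w ∈ ℬ n, ∃ l : k, w = l • u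

include hstd in
theorem pieceLeOne_succ {n : ℤ} (hn : 1 ≤ n) (h : PieceLeOne ℬ n) : PieceLeOne ℬ (n + 1) := by
  obtain ⟨u, hu, hgen⟩ := h
  by_cases hu0 : u = 0
  · refine ⟨0, Submodule.zero_mem _, fun w hw => ⟨0, ?_⟩⟩
    have h1 : w ∈ prodSpan ℬ n := mem_prodSpan ℬ hstd (by omega) hw
    have hle : prodSpan ℬ n ≤ ⊥ := by
      apply Submodule.span_le.mpr
      rintro _ ⟨c, -, w', hw', rfl⟩
      obtain ⟨l, rfl⟩ := hgen w' hw'
      rw [hu0, smul_zero, mul_zero]
      exact Submodule.zero_mem _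
    rw [zero_smul]
    exact (Submodule.mem_bot k).mp (hle h1)
  · -- `u` is a multiple of a nonzero product `c * w'`
    have hu' : u ∈ prodSpan ℬ (n - 1) := by
      apply mem_prodSpan ℬ hstd (by omega)
      rwa [sub_add_cancel]
    obtain ⟨c, hc, w', hw', hcw⟩ : ∃ c ∈ ℬ 1, ∃ w' ∈ ℬ (n - 1), c * w' ≠ 0 := by
      by_contra hcon
      push Not at hcon
      apply hu0
      have hle : prodSpan ℬ (n - 1) ≤ ⊥ := by
        apply Submodule.span_le.mpr
        rintro _ ⟨c, hc, w', hw', rfl⟩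
        rw [hcon c hc w' hw']
        exact Submodule.zero_mem _
      exact (Submodule.mem_bot k).mp (hle hu')
    have hcwmem : c * w' ∈ ℬ n := by
      have := SetLike.mul_mem_graded hc hw'
      rwa [show (1 : ℤ) + (n - 1) = n by ring] at this
    obtain ⟨l, hl⟩ := hgen _ hcwmem
    have hl0 : l ≠ 0 := by
      rintro rfl
      rw [zero_smul] at hl
      exact hcw hl
    have hu_eq : u = l⁻¹ • (c * w') := by
      rw [hl, smul_smul, inv_mul_cancel₀ hl0, one_smul]
    refine ⟨c * u, ?_, fun w hw => ?_⟩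
    · have := SetLike.mul_mem_graded hc hu
      rwa [add_comm] at this
    · have h1 : w ∈ prodSpan ℬ n := mem_prodSpan ℬ hstd (by omega) hw
      have hle : prodSpan ℬ n ≤ Submodule.span k {c * u} := by
        apply Submodule.span_le.mpr
        rintro _ ⟨t, ht, w₁, hw₁, rfl⟩
        obtain ⟨l₁, rfl⟩ := hgen w₁ hw₁
        have htw' : t * w' ∈ ℬ n := by
          have := SetLike.mul_mem_graded ht hw'
          rwa [show (1 : ℤ) + (n - 1) = n by ring] at this
        obtain ⟨l₂, hl₂⟩ := hgen _ htw'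
        rw [SetLike.mem_coe, Submodule.mem_span_singleton]
        refine ⟨l₁ * l⁻¹ * l₂, ?_⟩
        have : t * (l₁ • u) = l₁ • l⁻¹ • (c * (t * w')) := by
          rw [hu_eq]
          simp only [mul_smul_comm]
          congr 2
          ring
        rw [this, hl₂, mul_smul_comm, smul_smul, smul_smul]
      have h2 := hle h1
      rw [Submodule.mem_span_singleton] at h2
      obtain ⟨l', rfl⟩ := h2
      exact ⟨l', rfl⟩

include hstd in
theorem pieceLeOne_of_le {n : ℤ} (hn : 1 ≤ n) (h : PieceLeOne ℬ n) :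
    ∀ j : ℕ, PieceLeOne ℬ (n + j) := by
  intro j
  induction j with
  | zero => simpa using h
  | succ j ih =>
    have := pieceLeOne_succ ℬ hstd (n := n + j) (by omega) ih
    have h2 : n + ((j + 1 : ℕ) : ℤ) = n + j + 1 := by push_cast; ring
    rwa [h2]

include hpos h0 hstd in
/-- a standard graded algebra with a one-dimensional piece in positive degree and a homogeneous
nonzerodivisor of positive degree is a polynomial ring -/
theorem nonempty_algEquiv_polynomial_of_pieceLeOne [Nontrivial S] {n : ℤ} (hn : 1 ≤ n)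
    (h : PieceLeOne ℬ n) {y : S} (hy : PosHom ℬ y) (hyreg : ∀ c : S, y * c = 0 → c = 0) :
    Nonempty (S ≃ₐ[k] Polynomial k) := by
  obtain ⟨e, he, hye⟩ := hy
  -- `y ^ n.toNat` has degree `n.toNat * e ≥ n`
  set i : ℕ := n.toNat with hi
  have hi1 : 1 ≤ i := by omega
  have hin : (i : ℤ) = n := Int.toNat_of_nonneg (by omega)
  set y' : S := y ^ i with hy'
  have hy'mem : y' ∈ ℬ (i • e) := SetLike.pow_mem_graded i hye
  have hdeg : i • e = n + ((i * (e.toNat - 1) : ℕ) : ℤ) := by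
    have h3 : ((e.toNat - 1 : ℕ) : ℤ) = e - 1 := by
      have : 1 ≤ e.toNat := by omega
      rw [Nat.cast_sub this, Int.toNat_of_nonneg he.le]
      rfl
    rw [nsmul_eq_mul]
    push_cast
    rw [h3, hin]
    ring
  have hy'reg : ∀ c : S, y' * c = 0 → c = 0 := pow_regular hyreg i
  have hy'0 : y' ≠ 0 := pow_ne_zero_of_regular hyreg i
  obtain ⟨u, hu, hgen⟩ := pieceLeOne_of_le ℬ hstd hn h (i * (e.toNat - 1))
  rw [← hdeg] at hu hgen
  obtain ⟨l, hl⟩ := hgen y' hy'mem
  have hl0 : l ≠ 0 := by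
    rintro rfl
    rw [zero_smul] at hl
    exact hy'0 hl
  have hspan : ∀ a ∈ ℬ (i • e), ∃ l' : k, a = l' • y' := by
    intro a ha
    obtain ⟨l₁, rfl⟩ := hgen a ha
    refine ⟨l₁ * l⁻¹, ?_⟩
    rw [hl, smul_smul, mul_assoc, inv_mul_cancel₀ hl0, mul_one]
  have hdpos : 0 < i • e := by
    rw [nsmul_eq_mul]
    have : (0 : ℤ) < i := by omega
    positivity
  obtain ⟨t, ht, htreg, htgen⟩ := exists_linear_generator ℬ hstd hdpos hy'mem hy'reg hspan
  exact ⟨(AlgEquiv.ofBijective (Polynomial.aeval t)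
    (aeval_bijective ℬ hpos h0 hstd ht htreg htgen)).symm⟩

end Poly

section Swap

variable {k : Type u} [Field k] {R S : Type u} [CommRing R] [CommRing S] [Algebra k R] [Algebra k S]
  (𝒜 : ℤ → Submodule k R) (ℬ : ℤ → Submodule k S)
  {T : Type u} [CommRing T] [Algebra k T] (𝒯 : ℤ → Submodule k T)
  (ψ : T →ₐ[k] R ⊗[k] S)

/-- the swapped structure map of a Segre product -/
noncomputable def swap : T →ₐ[k] S ⊗[k] R :=
  (Algebra.TensorProduct.comm k R S).toAlgHom.comp ψ

theorem swap_injective (hψ : Function.Injective ψ) : Function.Injective (swap ψ) :=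
  (Algebra.TensorProduct.comm k R S).injective.comp hψ

theorem swap_deg (hdegT : ∀ n : ℤ, (𝒯 n).map ψ.toLinearMap =
      Submodule.span k {x : R ⊗[k] S | ∃ a ∈ 𝒜 n, ∃ b ∈ ℬ n, x = a ⊗ₜ[k] b}) (n : ℤ) :
    (𝒯 n).map (swap ψ).toLinearMap =
      Submodule.span k {x : S ⊗[k] R | ∃ b ∈ ℬ n, ∃ a ∈ 𝒜 n, x = b ⊗ₜ[k] a} := by
  have h1 : (swap ψ).toLinearMap =
      (Algebra.TensorProduct.comm k R S).toAlgHom.toLinearMap ∘ₗ ψ.toLinearMap := rfl
  rw [h1, Submodule.map_comp, hdegT n, Submodule.map_span]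
  congr 1
  ext z
  constructor
  · rintro ⟨_, ⟨a, ha, b, hb, rfl⟩, rfl⟩
    exact ⟨b, hb, a, ha, rfl⟩
  · rintro ⟨b, hb, a, ha, rfl⟩
    exact ⟨a ⊗ₜ[k] b, ⟨a, ha, b, hb, rfl⟩, rfl⟩

end Swap

end Groth.Agent.H85.SegreGorOne
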