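import Groth.Agent.H85.SegreGorOneA
import Groth.Agent.H26.GorQuot
import Groth.Agent.H26.SocleGor

/-!
# Gorenstein Segre products of one-dimensional standard graded rings (helper85)

If `R`, `S` are standard graded Cohen–Macaulay of dimension one, `R` is not a polynomial ring and
`R # S` is Gorenstein then `S` is a polynomial ring and `R` is Gorenstein.
-/

set_option autoImplicit false
universe u

namespace Groth.Agent.H85.SegreGorOne

open scoped TensorProduct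
open DirectSum Groth.Agent.H85.GradedNN Groth.Agent.H85.GradedCM Groth.Agent.H85.StdGraded
  Groth.Agent.H85.DepthSocle Groth.Agent.H85.SegreRingFacts Groth.Agent.H85.SegreDimOne

section Socle

variable {k : Type u} [Field k] {T : Type u} [CommRing T] [Algebra k T]
  (𝒯 : ℤ → Submodule k T) [GradedAlgebra 𝒯]
  (hpos : ∀ n : ℤ, n < 0 → 𝒯 n = ⊥) (h0 : 𝒯 0 = Submodule.span k {(1 : T)})

include hpos h0 in
/-- the socle of `T / fT` is simple when `T` is Gorenstein -/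
theorem simple_socle [Nontrivial T] (hG : LocCoh.IsGorensteinRing T) {f : T} (hf : f ∈ irr 𝒯)
    (hfreg : ∀ c : T, f * c = 0 → c = 0) (hrad : irr 𝒯 ≤ (Ideal.span {f}).radical)
    (z z' : T) (hz : ∀ t ∈ irr 𝒯, ∃ c : T, t * z = f * c)
    (hz' : ∀ t ∈ irr 𝒯, ∃ c : T, t * z' = f * c)
    (hznot : ∀ c : T, z ≠ f * c) : ∃ l : k, ∃ c : T, z' = l • z + f * c := by
  haveI hloc : IsLocalRing (T ⧸ Ideal.span {f}) := isLocalRing_quotient 𝒯 hpos h0 hrad hf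
  have hreg : IsSMulRegular T f := by
    intro a b hab
    have hab' : f * a = f * b := hab
    have : f * (a - b) = 0 := by rw [mul_sub, hab', sub_self]
    exact sub_eq_zero.mp (hfreg _ this)
  have hGB : LocCoh.IsGorensteinRing (T ⧸ Ideal.span {f}) :=
    Groth.Agent.H26.GorQuot.isGorensteinRing_quotient_span_singleton hG f hreg
  haveI : IsNoetherianRing (T ⧸ Ideal.span {f}) := hGB.toIsNoetherian
  have hGL : LocCoh.IsGorensteinLocalRing (T ⧸ Ideal.span {f}) := by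
    have h1 := hGB.isGorensteinLocalRing_localization
      (IsLocalRing.maximalIdeal (T ⧸ Ideal.span {f}))
    let e : (T ⧸ Ideal.span {f}) ≃ₐ[T ⧸ Ideal.span {f}]
        Localization.AtPrime (IsLocalRing.maximalIdeal (T ⧸ Ideal.span {f})) :=
      IsLocalization.atUnits (T ⧸ Ideal.span {f})
        (IsLocalRing.maximalIdeal (T ⧸ Ideal.span {f})).primeCompl (by
          intro b hb
          exact IsLocalRing.notMem_maximalIdeal.mp hb)
    exact Groth.Agent.H26.GorRegHom.isGorensteinLocalRing_of_ringEquiv e.symm.toRingEquiv h1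
  have ha0 : Ideal.Quotient.mk (Ideal.span {f}) z ≠ 0 := by
    intro h
    rw [Ideal.Quotient.eq_zero_iff_mem, Ideal.mem_span_singleton'] at h
    obtain ⟨c, hc⟩ := h
    exact hznot c (by rw [← hc, mul_comm])
  have hsoc : ∀ w : T, (∀ t ∈ irr 𝒯, ∃ c : T, t * w = f * c) →
      ∀ y ∈ IsLocalRing.maximalIdeal (T ⧸ Ideal.span {f}),
        y * Ideal.Quotient.mk (Ideal.span {f}) w = 0 := by
    intro w hw y hy
    obtain ⟨t, ht, rfl⟩ := (mem_maximalIdeal_quotient_iff 𝒯 hpos h0 hrad y).mp hy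
    obtain ⟨c, hc⟩ := hw t ht
    rw [← map_mul, hc, Ideal.Quotient.eq_zero_iff_mem]
    exact Ideal.mul_mem_right _ _ (Ideal.mem_span_singleton_self f)
  obtain ⟨hsg, -⟩ := Groth.Agent.H26.SocleGor.isSocleGen_of_isGorensteinLocalRing hGL
    (Ideal.Quotient.mk (Ideal.span {f}) z) ha0 (hsoc z hz)
  obtain ⟨u, hu⟩ := hsg.2.2 (Ideal.Quotient.mk (Ideal.span {f}) z') (hsoc z' hz')
  obtain ⟨t, rfl⟩ := Ideal.Quotient.mk_surjective u
  obtain ⟨l, t', ht', rfl⟩ := exists_scalar_add_irr 𝒯 hpos h0 t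
  obtain ⟨c, hc⟩ := hz t' ht'
  have h1 : Ideal.Quotient.mk (Ideal.span {f}) (z' - l • z) = 0 := by
    rw [map_sub, hu, ← map_mul, ← map_sub, Ideal.Quotient.eq_zero_iff_mem]
    have : (l • (1 : T) + t') * z - l • z = f * c := by
      rw [add_mul, smul_mul_assoc, one_mul, hc]
      ring
    rw [this]
    exact Ideal.mul_mem_right _ _ (Ideal.mem_span_singleton_self f)
  rw [Ideal.Quotient.eq_zero_iff_mem, Ideal.mem_span_singleton'] at h1
  obtain ⟨c', hc'⟩ := h1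
  refine ⟨l, c', ?_⟩
  rw [mul_comm, hc']
  ring

end Socle

section Key

variable {k : Type u} [Field k] {R S : Type u} [CommRing R] [CommRing S] [Algebra k R] [Algebra k S]
  (𝒜 : ℤ → Submodule k R) [GradedAlgebra 𝒜] (ℬ : ℤ → Submodule k S) [GradedAlgebra ℬ]
  {T : Type u} [CommRing T] [Algebra k T] (𝒯 : ℤ → Submodule k T) [GradedAlgebra 𝒯]
  (ψ : T →ₐ[k] R ⊗[k] S) (hψ : Function.Injective ψ)
  (hdegT : ∀ n : ℤ, (𝒯 n).map ψ.toLinearMap =
      Submodule.span k {x : R ⊗[k] S | ∃ a ∈ 𝒜 n, ∃ b ∈ ℬ n, x = a ⊗ₜ[k] b})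

include hdegT in
theorem exists_piece (m : ℤ) (u : R) (v : S) (hu : u ∈ 𝒜 m) (hv : v ∈ ℬ m) :
    ∃ t ∈ 𝒯 m, ψ t = u ⊗ₜ[k] v := by
  have h1 : u ⊗ₜ[k] v ∈ Submodule.span k {x : R ⊗[k] S | ∃ a ∈ 𝒜 m, ∃ b ∈ ℬ m, x = a ⊗ₜ[k] b} :=
    Submodule.subset_span ⟨u, hu, v, hv, rfl⟩
  rw [← hdegT m] at h1
  obtain ⟨t, ht, htψ⟩ := h1
  exact ⟨t, ht, htψ⟩

include hψ hdegT in
/-- elements `a ⊗ w` in the top degree are socle elements of `T / fT` -/
theorem socle_of_top {d : ℤ} {x : R} {y : S} (hx : x ∈ 𝒜 d) (hy : y ∈ ℬ d) {f : T}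
    (hfψ : ψ f = x ⊗ₜ[k] y) {N : ℤ} {a : R} (ha : a ∈ 𝒜 N)
    (hbigR : ∀ m > N, ∀ r ∈ 𝒜 m, r ∈ Ideal.span {x})
    (hbigS : ∀ m > N, ∀ r ∈ ℬ m, r ∈ Ideal.span {y})
    {w : S} (hw : w ∈ ℬ N) {z : T} (hzψ : ψ z = a ⊗ₜ[k] w) :
    ∀ t ∈ irr 𝒯, ∃ c : T, t * z = f * c := by
  intro t ht
  unfold irr Ideal.span at ht
  induction ht using Submodule.span_induction with
  | zero => exact ⟨0, by simp⟩
  | add t₁ t₂ _ _ h₁ h₂ =>
    obtain ⟨c₁, hc₁⟩ := h₁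
    obtain ⟨c₂, hc₂⟩ := h₂
    exact ⟨c₁ + c₂, by rw [add_mul, hc₁, hc₂, mul_add]⟩
  | smul r' t _ h₁ =>
    obtain ⟨c₁, hc₁⟩ := h₁
    exact ⟨r' * c₁, by rw [smul_eq_mul, mul_assoc, hc₁, mul_left_comm]⟩
  | mem t ht =>
    obtain ⟨m, hm, htm⟩ := ht
    have h1 : ψ t ∈ (𝒯 m).map ψ.toLinearMap := ⟨t, htm, rfl⟩
    rw [hdegT m] at h1
    have key : ∀ τ ∈ Submodule.span k {x : R ⊗[k] S | ∃ a ∈ 𝒜 m, ∃ b ∈ ℬ m, x = a ⊗ₜ[k] b},
        ∃ c : T, τ * (a ⊗ₜ[k] w) = (x ⊗ₜ[k] y) * ψ c := by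
      intro τ hτ
      induction hτ using Submodule.span_induction with
      | zero => exact ⟨0, by simp⟩
      | add τ₁ τ₂ _ _ h₁ h₂ =>
        obtain ⟨c₁, hc₁⟩ := h₁
        obtain ⟨c₂, hc₂⟩ := h₂
        exact ⟨c₁ + c₂, by rw [add_mul, hc₁, hc₂, map_add, mul_add]⟩
      | smul l τ _ h₁ =>
        obtain ⟨c₁, hc₁⟩ := h₁
        exact ⟨l • c₁, by rw [smul_mul_assoc, hc₁, map_smul, mul_smul_comm]⟩
      | mem τ hτ =>
        obtain ⟨r', hr', s', hs'', rfl⟩ := hτ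
        have hra : r' * a ∈ 𝒜 ((m + N - d) + d) := by
          have := SetLike.mul_mem_graded hr' ha
          rwa [show m + N = (m + N - d) + d by ring] at this
        have hra' : r' * a ∈ Ideal.span {x} :=
          hbigR (m + N) (by omega) _ (SetLike.mul_mem_graded hr' ha)
        obtain ⟨c', hc', hrac⟩ := exists_homogeneous_cofactor 𝒜 hx hra hra'
        have hsw : s' * w ∈ ℬ ((m + N - d) + d) := by
          have := SetLike.mul_mem_graded hs'' hw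
          rwa [show m + N = (m + N - d) + d by ring] at this
        have hsw' : s' * w ∈ Ideal.span {y} :=
          hbigS (m + N) (by omega) _ (SetLike.mul_mem_graded hs'' hw)
        obtain ⟨c'', hc'', hswc⟩ := exists_homogeneous_cofactor ℬ hy hsw hsw'
        obtain ⟨c, -, hcψ⟩ := exists_piece 𝒜 ℬ 𝒯 ψ hdegT (m + N - d) c' c'' hc' hc''
        refine ⟨c, ?_⟩
        rw [hcψ, Algebra.TensorProduct.tmul_mul_tmul, Algebra.TensorProduct.tmul_mul_tmul, hrac,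
          hswc]
    obtain ⟨c, hc⟩ := key _ h1
    refine ⟨c, hψ ?_⟩
    rw [map_mul, map_mul, hzψ, hfψ, hc]

include hψ hdegT in
/-- if `T / fT` has simple socle, the top degree of `R / xR` dominates that of `S / yS`, then the
piece of `S` in that degree is at most one-dimensional -/
theorem pieceLeOne_of_simple_socle {d : ℤ} {x : R} {y : S} (hx : x ∈ 𝒜 d) (hy : y ∈ ℬ d) {f : T}
    (hfψ : ψ f = x ⊗ₜ[k] y)
    (hSS : ∀ z z' : T, (∀ t ∈ irr 𝒯, ∃ c : T, t * z = f * c) →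
      (∀ t ∈ irr 𝒯, ∃ c : T, t * z' = f * c) → (∀ c : T, z ≠ f * c) →
      ∃ l : k, ∃ c : T, z' = l • z + f * c)
    {N : ℤ} {a : R} (ha : a ∈ 𝒜 N) (hax : ∀ c : R, a ≠ x * c)
    (hbigR : ∀ m > N, ∀ r ∈ 𝒜 m, r ∈ Ideal.span {x})
    (hbigS : ∀ m > N, ∀ r ∈ ℬ m, r ∈ Ideal.span {y}) :
    PieceLeOne ℬ N := by
  by_cases hex : ∃ w ∈ ℬ N, w ≠ 0
  · obtain ⟨w, hw, hw0⟩ := hex
    refine ⟨w, hw, fun w' hw' => ?_⟩
    obtain ⟨z, -, hzψ⟩ := exists_piece 𝒜 ℬ 𝒯 ψ hdegT N a w ha hw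
    obtain ⟨z', -, hz'ψ⟩ := exists_piece 𝒜 ℬ 𝒯 ψ hdegT N a w' ha hw'
    have hznot : ∀ c : T, z ≠ f * c := by
      intro c hc
      have h1 : a ⊗ₜ[k] w = (x ⊗ₜ[k] (1 : S)) * (((1 : R) ⊗ₜ[k] y) * ψ c) := by
        rw [← hzψ, hc, map_mul, hfψ, ← mul_assoc, Algebra.TensorProduct.tmul_mul_tmul, mul_one,
          one_mul]
      exact tmul_ne_mul (k := k) hax hw0 _ h1
    obtain ⟨l, c, hlc⟩ := hSS z z'
      (socle_of_top 𝒜 ℬ 𝒯 ψ hψ hdegT hx hy hfψ ha hbigR hbigS hw hzψ)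
      (socle_of_top 𝒜 ℬ 𝒯 ψ hψ hdegT hx hy hfψ ha hbigR hbigS hw' hz'ψ) hznot
    refine ⟨l, ?_⟩
    by_contra hne
    have hne' : w' - l • w ≠ 0 := fun h => hne (sub_eq_zero.mp h)
    have h1 : a ⊗ₜ[k] (w' - l • w) = (x ⊗ₜ[k] (1 : S)) * (((1 : R) ⊗ₜ[k] y) * ψ c) := by
      rw [TensorProduct.tmul_sub, TensorProduct.tmul_smul, ← hzψ, ← hz'ψ, hlc, map_add, map_smul,
        map_mul, hfψ, ← mul_assoc, Algebra.TensorProduct.tmul_mul_tmul, mul_one, one_mul]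
      abel
    exact tmul_ne_mul (k := k) hax hne' _ h1
  · push Not at hex
    exact ⟨0, Submodule.zero_mem _, fun w hw => ⟨0, by rw [hex w hw, smul_zero]⟩⟩

end Key

end Groth.Agent.H85.SegreGorOne
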