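import Groth.Agent.H85.SegreGorOneB

/-!
# Gorenstein Segre products of one-dimensional standard graded rings: main theorem (helper85)
-/

set_option autoImplicit false
universe u

namespace Groth.Agent.H85.SegreGorOne

open scoped TensorProduct
open DirectSum Groth.Agent.H85.GradedNN Groth.Agent.H85.GradedCM Groth.Agent.H85.StdGraded
  Groth.Agent.H85.DepthSocle Groth.Agent.H85.SegreRingFacts Groth.Agent.H85.SegreDimOne

variable {k : Type u} [Field k] {R S : Type u} [CommRing R] [CommRing S] [Algebra k R] [Algebra k S]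
  (𝒜 : ℤ → Submodule k R) [GradedAlgebra 𝒜] (ℬ : ℤ → Submodule k S) [GradedAlgebra ℬ]

theorem main (hposR : ∀ n : ℤ, n < 0 → 𝒜 n = ⊥)
    (h0R : 𝒜 0 = Submodule.span k {(1 : R)}) [Algebra.FiniteType k R]
    (hposS : ∀ n : ℤ, n < 0 → ℬ n = ⊥) (h0S : ℬ 0 = Submodule.span k {(1 : S)})
    [Algebra.FiniteType k S]
    (T : Type u) [CommRing T] [Algebra k T] (𝒯 : ℤ → Submodule k T) [GradedAlgebra 𝒯]
    (ψ : T →ₐ[k] R ⊗[k] S) (hψ : Function.Injective ψ)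
    (hdegT : ∀ n : ℤ, (𝒯 n).map ψ.toLinearMap =
      Submodule.span k {x : R ⊗[k] S | ∃ a ∈ 𝒜 n, ∃ b ∈ ℬ n, x = a ⊗ₜ[k] b})
    [LocCoh.IsCohenMacaulayRing R] [LocCoh.IsCohenMacaulayRing S]
    (hstdR : Ideal.span (⋃ n ∈ Set.Ioi (0 : ℤ), (𝒜 n : Set R)) =
      Ideal.span ((𝒜 1 : Submodule k R) : Set R))
    (hstdS : Ideal.span (⋃ n ∈ Set.Ioi (0 : ℤ), (ℬ n : Set S)) =
      Ideal.span ((ℬ 1 : Submodule k S) : Set S))
    (hr : ringKrullDim R = 1) (hs : ringKrullDim S = 1)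
    (hR : IsEmpty (R ≃ₐ[k] Polynomial k)) (hG : LocCoh.IsGorensteinRing T) :
    Nonempty (S ≃ₐ[k] Polynomial k) ∧ LocCoh.IsGorensteinRing R := by
  classical
  haveI : Nontrivial R := by
    by_contra hnt
    rw [not_nontrivial_iff_subsingleton] at hnt
    rw [ringKrullDim_eq_bot_of_subsingleton] at hr
    exact absurd hr (by simp)
  haveI : Nontrivial S := by
    by_contra hnt
    rw [not_nontrivial_iff_subsingleton] at hnt
    rw [ringKrullDim_eq_bot_of_subsingleton] at hs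
    exact absurd hs (by simp)
  obtain ⟨x₀, ⟨d₁, hd₁, hx₀⟩, hx₀reg⟩ := exists_posHom_regular 𝒜 hposR h0R (by rw [hr])
  obtain ⟨y₀, ⟨d₂, hd₂, hy₀⟩, hy₀reg⟩ := exists_posHom_regular ℬ hposS h0S (by rw [hs])
  set d : ℤ := d₁ * d₂ with hd
  have hdpos : 0 < d := mul_pos hd₁ hd₂
  set x : R := x₀ ^ d₂.toNat with hxdef
  set y : S := y₀ ^ d₁.toNat with hydef
  have hx : x ∈ 𝒜 d := by
    have h1 := SetLike.pow_mem_graded d₂.toNat hx₀
    have h2 : d₂.toNat • d₁ = d := by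
      rw [nsmul_eq_mul, Int.toNat_of_nonneg hd₂.le, hd, mul_comm]
    rwa [h2] at h1
  have hy : y ∈ ℬ d := by
    have h1 := SetLike.pow_mem_graded d₁.toNat hy₀
    have h2 : d₁.toNat • d₂ = d := by
      rw [nsmul_eq_mul, Int.toNat_of_nonneg hd₁.le, hd]
    rwa [h2] at h1
  have hxreg : ∀ c : R, x * c = 0 → c = 0 := pow_regular hx₀reg _
  have hyreg : ∀ c : S, y * c = 0 → c = 0 := pow_regular hy₀reg _
  -- the Segre product
  have hposT := segre_hpos 𝒜 ℬ 𝒯 ψ hψ hdegT hposR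
  have h0T := segre_h0 𝒜 ℬ 𝒯 ψ hψ hdegT h0R h0S
  haveI : Algebra.FiniteType k T := segre_finiteType 𝒜 ℬ 𝒯 ψ hψ hdegT hposR h0R h0S
  haveI : IsNoetherianRing T := hG.toIsNoetherian
  have hdimT : ringKrullDim T = ((1 + 1 - 1 : ℕ) : WithBot ℕ∞) :=
    Groth.Agent.H85.SegreDim.main 𝒜 ℬ hposR h0R hposS h0S T 𝒯 ψ hψ hdegT 1 1
      (by rw [hr]; rfl) (by rw [hs]; rfl) le_rfl le_rfl
  have hdimT1 : ringKrullDim T = 1 := by
    rw [hdimT]
    rfl
  haveI : Nontrivial T := by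
    by_contra hnt
    rw [not_nontrivial_iff_subsingleton] at hnt
    rw [ringKrullDim_eq_bot_of_subsingleton] at hdimT
    exact WithBot.bot_ne_coe hdimT
  obtain ⟨f, hf, hfψ⟩ := exists_piece 𝒜 ℬ 𝒯 ψ hdegT d x y hx hy
  have hf_irr : f ∈ irr 𝒯 := PosHom.mem_irr (𝒜 := 𝒯) ⟨d, hdpos, hf⟩
  have hfreg : ∀ c : T, f * c = 0 → c = 0 := by
    intro c hc
    apply hψ
    rw [map_zero]
    apply tmul_mul_regular (k := k) hxreg hyreg
    rw [← hfψ, ← map_mul, hc, map_zero]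
  have hrad : irr 𝒯 ≤ (Ideal.span {f}).radical := by
    have hcb : ChainBound (Ideal.span {f}) 0 :=
      chainBound_of_ringKrullDim_quotient_le _ 0
        (by exact_mod_cast ringKrullDim_quotient_le_zero hfreg hdimT1)
    have hhom : (Ideal.span {f}).IsHomogeneous 𝒯 := by
      apply Ideal.homogeneous_span
      rintro y' hy'
      rw [Set.mem_singleton_iff] at hy'
      exact ⟨d, hy' ▸ hf⟩
    exact irr_le_radical_of_chainBound_zero 𝒯 hposT h0T _ hhom hcb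
  have hSS := simple_socle 𝒯 hposT h0T hG hf_irr hfreg hrad
  have hfψ' : swap ψ f = y ⊗ₜ[k] x := by
    show (Algebra.TensorProduct.comm k R S) (ψ f) = y ⊗ₜ[k] x
    rw [hfψ]
    rfl
  -- `R / xR` is not `k`
  have hnotspanR : ¬ ∀ a ∈ 𝒜 d, ∃ l : k, a = l • x := by
    intro hspan
    obtain ⟨t, ht, htreg, htgen⟩ := exists_linear_generator 𝒜 hstdR hdpos hx hxreg hspan
    exact hR.false (AlgEquiv.ofBijective (Polynomial.aeval t)
      (aeval_bijective 𝒜 hposR h0R hstdR ht htreg htgen)).symm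
  have hdimx : ringKrullDim (R ⧸ Ideal.span {x}) ≤ 0 := ringKrullDim_quotient_le_zero hxreg hr
  have hdimy : ringKrullDim (S ⧸ Ideal.span {y}) ≤ 0 := ringKrullDim_quotient_le_zero hyreg hs
  obtain ⟨NR, hdNR, a, ha, hax, hbigR⟩ := exists_socle 𝒜 hposR h0R hx hdimx hnotspanR
  have hSpoly : Nonempty (S ≃ₐ[k] Polynomial k) := by
    by_cases hspanS : ∀ b ∈ ℬ d, ∃ l : k, b = l • y
    · exact nonempty_algEquiv_polynomial_of_pieceLeOne ℬ hposS h0S hstdS (n := d) (by omega)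
        ⟨y, hy, hspanS⟩ ⟨d₂, hd₂, hy₀⟩ hy₀reg
    · obtain ⟨NS, hdNS, b, hb, hby, hbigS⟩ := exists_socle ℬ hposS h0S hy hdimy hspanS
      rcases le_or_gt NS NR with hle | hlt
      · have h1 : PieceLeOne ℬ NR :=
          pieceLeOne_of_simple_socle 𝒜 ℬ 𝒯 ψ hψ hdegT hx hy hfψ hSS ha hax hbigR
            (fun m hm => hbigS m (by omega))
        exact nonempty_algEquiv_polynomial_of_pieceLeOne ℬ hposS h0S hstdS (n := NR) (by omega)
          h1 ⟨d₂, hd₂, hy₀⟩ hy₀reg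
      · exfalso
        have h1 : PieceLeOne 𝒜 NS :=
          pieceLeOne_of_simple_socle ℬ 𝒜 𝒯 (swap ψ) (swap_injective ψ hψ)
            (swap_deg 𝒜 ℬ 𝒯 ψ hdegT) hy hx hfψ' hSS hb hby hbigS
            (fun m hm => hbigR m (by omega))
        exact hR.false (nonempty_algEquiv_polynomial_of_pieceLeOne 𝒜 hposR h0R hstdR (n := NS)
          (by omega) h1 ⟨d₁, hd₁, hx₀⟩ hx₀reg).some
  refine ⟨hSpoly, ?_⟩
  obtain ⟨e⟩ := hSpoly
  obtain ⟨e'⟩ := nonempty_ringEquiv_of_polynomial ℬ 𝒜 hposS h0S hposR T 𝒯 (swap ψ)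
    (swap_injective ψ hψ) (swap_deg 𝒜 ℬ 𝒯 ψ hdegT) hstdS e
  exact Groth.Agent.H26.GorRegHom.isGorensteinRing_of_ringEquiv e' hG

end Groth.Agent.H85.SegreGorOne
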