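import Groth.Agent.H85.SegreModDim
import Groth.Agent.H85.GradedCMUnmixed

/-!
# Krull dimension of a Segre product of graded Cohen–Macaulay modules
-/

set_option autoImplicit false
universe u

namespace Groth.Agent.H85.SegreModCM

open scoped TensorProduct
open MvPolynomial Groth.Agent.H98 Groth.Agent.H85.GradedNN Groth.Agent.H85.SegrePoly
  Groth.Agent.H85.SegreDim Groth.Agent.H85.SegreModDim

variable {k : Type u} [Field k] {R S : Type u} [CommRing R] [CommRing S] [Algebra k R] [Algebra k S]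
  (𝒜 : ℤ → Submodule k R) [GradedAlgebra 𝒜] (ℬ : ℤ → Submodule k S) [GradedAlgebra ℬ]
  {M N : Type u} [AddCommGroup M] [Module R M] [Module k M] [IsScalarTower k R M]
  [AddCommGroup N] [Module S N] [Module k N] [IsScalarTower k S N]
  (ℳ : ℤ → AddSubgroup M) [DirectSum.Decomposition ℳ] [SetLike.GradedSMul 𝒜 ℳ]
  (𝒩 : ℤ → AddSubgroup N) [DirectSum.Decomposition 𝒩] [SetLike.GradedSMul ℬ 𝒩]

/-- the core of the dimension computation: given Noether normalizations `x`, `y` of `M`, `N` in a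
common degree and torsion free homogeneous elements of a common degree, `dim (M # N)` is
`dim M + dim N - 1`. -/
theorem main_core
    [Algebra.FiniteType k R] [Algebra.FiniteType k S]
    (T : Type u) [CommRing T] [Algebra k T] (𝒯 : ℤ → Submodule k T) [GradedAlgebra 𝒯]
    (ψ : T →ₐ[k] R ⊗[k] S) (hT : GrSeg.IsSegreRing 𝒜 ℬ 𝒯 ψ)
    [Module.Finite R M] [Module.Finite S N]
    (P : Type u) [AddCommGroup P] [Module T P] [Module k P] [IsScalarTower k T P]
    (𝒬 : ℤ → AddSubgroup P) [DirectSum.Decomposition 𝒬] (φ : P →ₗ[k] M ⊗[k] N)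
    (hP : GrSeg.IsSegreMod ψ ℳ 𝒩 𝒬 φ)
    (dM dN : ℕ) (hdM1 : 1 ≤ dM) (hdN1 : 1 ≤ dN) (D : ℕ) (hD : 0 < D)
    (x : Fin dM → R) (BM : Finset M) (hx : ∀ i, x i ∈ 𝒜 (D : ℤ))
    (hBM : ∀ u : M, ∃ c : M → MvPolynomial (Fin dM) k, u = ∑ b ∈ BM, aeval x (c b) • b)
    (y : Fin dN → S) (BN : Finset N) (hy' : ∀ j, y j ∈ ℬ (D : ℤ))
    (hBN : ∀ u : N, ∃ c : N → MvPolynomial (Fin dN) k, u = ∑ b ∈ BN, aeval y (c b) • b)
    (n : ℤ) (u : M) (v : N) (hu' : u ∈ ℳ n) (hv' : v ∈ 𝒩 n)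
    (hntu : NonTors k x u) (hntv : NonTors k y v) :
    Module.supportDim T P = ((dM + dN - 1 : ℕ) : WithBot ℕ∞) := by
  classical
  haveI : IsNoetherian T P := segre_isNoetherian 𝒜 ℬ 𝒯 ψ hT ℳ 𝒩 𝒬 φ hP
  haveI : Module.Finite T P := Module.IsNoetherian.finite T P
  have hψ : Function.Injective ψ := hT.1
  have hdegT := hT.2
  have huv : ∃ p₀ : P, φ p₀ = u ⊗ₜ[k] v := by
    have h1 : u ⊗ₜ[k] v ∈ (GrSeg.segrePiece k ℳ 𝒩 n : Set (M ⊗[k] N)) :=
      Submodule.subset_span ⟨u, hu', v, hv', rfl⟩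
    rw [← hP.image_piece] at h1
    obtain ⟨p₀, -, hp₀⟩ := h1
    exact ⟨p₀, hp₀⟩
  have hφdiag : ∀ p : P, φ p ∈ DgM (k := k) ℳ 𝒩 := by
    intro p
    induction p using DirectSum.Decomposition.inductionOn 𝒬 with
    | zero => rw [map_zero]; exact Submodule.zero_mem _
    | @homogeneous n m =>
      have h1 : φ (m : P) ∈ φ '' (𝒬 n : Set P) := ⟨m, m.2, rfl⟩
      rw [hP.image_piece n] at h1
      have hle : GrSeg.segrePiece k ℳ 𝒩 n ≤ DgM (k := k) ℳ 𝒩 := by
        apply Submodule.span_mono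
        rintro z ⟨a, ha, b, hb, rfl⟩
        exact ⟨n, a, ha, b, hb, rfl⟩
      exact hle h1
    | add m m' hm hm' => rw [map_add]; exact Submodule.add_mem _ hm hm'
  have hψdiag : ∀ t : T, ψ t ∈ Dg 𝒜 ℬ := by
    intro t
    induction t using DirectSum.Decomposition.inductionOn 𝒯 with
    | zero => rw [map_zero]; exact zero_mem _
    | @homogeneous n m =>
      have h1 : ψ (m : T) ∈ (𝒯 n).map ψ.toLinearMap := ⟨m, m.2, rfl⟩
      rw [hdegT n] at h1
      refine Submodule.span_le.mpr ?_ h1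
      rintro _ ⟨a, ha, b, hb, rfl⟩
      exact tmul_mem_dg 𝒜 ℬ ha hb
    | add a b ha hb => rw [map_add]; exact add_mem ha hb
  have hgen : ∀ i j, ∃ t : T, ψ t = x i ⊗ₜ[k] y j := by
    intro i j
    have h1 : x i ⊗ₜ[k] y j ∈ GrSeg.segrePiece k 𝒜 ℬ (D : ℤ) :=
      Submodule.subset_span ⟨x i, hx i, y j, hy' j, rfl⟩
    rw [← hdegT] at h1
    obtain ⟨t, -, ht⟩ := h1
    exact ⟨t, ht⟩
  have hWrange : ∀ w ∈ W k dM dN, Phi k x y w ∈ ψ.range := by
    intro w hw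
    have hle : W k dM dN ≤ ψ.range.comap (Phi k x y) := by
      unfold W
      rw [Algebra.adjoin_le_iff]
      rintro _ ⟨⟨i, j⟩, rfl⟩
      obtain ⟨t, ht⟩ := hgen i j
      show Phi k x y (gen k dM dN (i, j)) ∈ ψ.range
      refine ⟨t, ?_⟩
      show ψ t = _
      rw [ht]
      simp [gen, Phi, vv]
    exact hle hw
  let e := AlgEquiv.ofInjective ψ hψ
  let θ : W k dM dN →ₐ[k] T := e.symm.toAlgHom.comp
    (((Phi k x y).comp (W k dM dN).val).codRestrict ψ.range (fun w => hWrange w w.2))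
  have hθ : ∀ w, ψ (θ w) = Phi k x y w := by
    intro w
    have h1 : e (θ w) = ⟨Phi k x y w, hWrange w w.2⟩ := by
      show e (e.symm _) = _
      rw [e.apply_symm_apply]
      rfl
    have h2 := congrArg Subtype.val h1
    exact h2
  set 𝔞 := Module.annihilator T P with h𝔞
  let θbar : W k dM dN →+* T ⧸ 𝔞 := (Ideal.Quotient.mk 𝔞).comp θ.toRingHom
  have hinj : Function.Injective θbar := by
    rw [injective_iff_map_eq_zero]
    intro w hw
    have h1 : θ w ∈ 𝔞 := Ideal.Quotient.eq_zero_iff_mem.mp hw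
    rw [h𝔞, Module.mem_annihilator] at h1
    obtain ⟨p₀, hp₀⟩ := huv
    have h2 := h1 p₀
    have h3 : GrSeg.act k R S M N (Phi k x y w) (u ⊗ₜ[k] v) = 0 := by
      rw [← hp₀, ← hθ w, ← hP.map_smul, h2, map_zero]
    have h4 := eq_zero_of_act_Phi_tmul x y hntu hntv (w : MvPolynomial (Fin dM ⊕ Fin dN) k) h3
    exact Subtype.ext h4
  have hint : θbar.IsIntegral := by
    intro tbar
    obtain ⟨t, rfl⟩ := Ideal.Quotient.mk_surjective tbar
    obtain ⟨p, hpmonic, hp0⟩ :=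
      exists_monic_act_eq_zero (x := x) (y := y) BM hBM BN hBN (ψ t)
    obtain ⟨q, hq, hq0⟩ :=
      exists_monic_W_module 𝒜 ℬ ℳ 𝒩 hD hx hy' (hψdiag t) p hpmonic hp0
    refine ⟨q, hq, ?_⟩
    have h1 := Polynomial.hom_eval₂ q θ.toRingHom (Ideal.Quotient.mk 𝔞) t
    rw [← h1, Ideal.Quotient.eq_zero_iff_mem, h𝔞, Module.mem_annihilator]
    intro p₁
    apply hP.injective
    rw [hP.map_smul, map_zero]
    have h3 := Polynomial.hom_eval₂ q θ.toRingHom ψ.toRingHom t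
    have hcomp : ψ.toRingHom.comp θ.toRingHom =
        (Phi k x y).toRingHom.comp (W k dM dN).val.toRingHom := RingHom.ext hθ
    rw [hcomp] at h3
    have h4 : ψ (Polynomial.eval₂ θ.toRingHom t q) =
        Polynomial.eval₂ ((Phi k x y).toRingHom.comp (W k dM dN).val.toRingHom) (ψ t) q := h3
    rw [h4]
    exact hq0 _ (hφdiag p₁)
  have hdim := Groth.Agent.H54.ringKrullDim_eq_of_ringHom_isIntegral_of_injective θbar hint hinj
  rw [Module.supportDim_eq_ringKrullDim_quotient_annihilator, ← hdim]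
  exact ringKrullDim_W k dM dN ⟨0, hdM1⟩ ⟨0, hdN1⟩

/-- **Krull dimension of the Segre product of graded Cohen–Macaulay modules.** -/
theorem main_cm (hposR : ∀ n : ℤ, n < 0 → 𝒜 n = ⊥) (h0R : 𝒜 0 = Submodule.span k {(1 : R)})
    [Algebra.FiniteType k R]
    (hposS : ∀ n : ℤ, n < 0 → ℬ n = ⊥) (h0S : ℬ 0 = Submodule.span k {(1 : S)})
    [Algebra.FiniteType k S]
    (T : Type u) [CommRing T] [Algebra k T] (𝒯 : ℤ → Submodule k T) [GradedAlgebra 𝒯]
    (ψ : T →ₐ[k] R ⊗[k] S) (hT : GrSeg.IsSegreRing 𝒜 ℬ 𝒯 ψ)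
    [Module.Finite R M] [Module.Finite S N]
    (P : Type u) [AddCommGroup P] [Module T P] [Module k P] [IsScalarTower k T P]
    (𝒬 : ℤ → AddSubgroup P) [DirectSum.Decomposition 𝒬] (φ : P →ₗ[k] M ⊗[k] N)
    (hP : GrSeg.IsSegreMod ψ ℳ 𝒩 𝒬 φ)
    (r s : ℕ) (h1r : 1 ≤ r) (h1s : 1 ≤ s)
    (hdM : Module.supportDim R M = r) (hdN : Module.supportDim S N = s)
    (hMcm : ∀ (q : Ideal R) [q.IsPrime], Subsingleton (LocalizedModule q.primeCompl M) ∨
      LocCoh.IsCohenMacaulayModule (Localization.AtPrime q) (LocalizedModule q.primeCompl M))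
    (hNcm : ∀ (q : Ideal S) [q.IsPrime], Subsingleton (LocalizedModule q.primeCompl N) ∨
      LocCoh.IsCohenMacaulayModule (Localization.AtPrime q) (LocalizedModule q.primeCompl N)) :
    Module.supportDim T P = ((r + s - 1 : ℕ) : WithBot ℕ∞) ∨ Subsingleton P := by
  classical
  by_cases hsub : Subsingleton P
  · right; exact hsub
  left
  rw [not_subsingleton_iff_nontrivial] at hsub
  obtain ⟨p₀, hp₀⟩ := exists_ne (0 : P)
  -- a nonzero homogeneous component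
  obtain ⟨n, hn⟩ : ∃ n, (DirectSum.decompose 𝒬 p₀ n : P) ≠ 0 := by
    by_contra h
    push Not at h
    apply hp₀
    rw [← DirectSum.sum_support_decompose 𝒬 p₀]
    exact Finset.sum_eq_zero (fun n _ => h n)
  have hp₁ : (DirectSum.decompose 𝒬 p₀ n : P) ∈ 𝒬 n := SetLike.coe_mem _
  have hφ1 : φ (DirectSum.decompose 𝒬 p₀ n : P) ≠ 0 :=
    fun h => hn (hP.injective (h.trans (map_zero φ).symm))
  have hmem : φ (DirectSum.decompose 𝒬 p₀ n : P) ∈ GrSeg.segrePiece k ℳ 𝒩 n := by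
    have h1 : φ (DirectSum.decompose 𝒬 p₀ n : P) ∈ φ '' (𝒬 n : Set P) := ⟨_, hp₁, rfl⟩
    rw [hP.image_piece n] at h1
    exact h1
  obtain ⟨u, hu, v, hv, huv⟩ : ∃ u ∈ ℳ n, ∃ v ∈ 𝒩 n, u ⊗ₜ[k] v ≠ 0 := by
    by_contra h
    push Not at h
    apply hφ1
    have hle : GrSeg.segrePiece k ℳ 𝒩 n ≤ ⊥ := by
      apply Submodule.span_le.mpr
      rintro z ⟨a, ha, b, hb, rfl⟩
      exact h a ha b hb
    exact (Submodule.mem_bot k).mp (hle hmem)
  have hu0 : u ≠ 0 := by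
    rintro rfl
    exact huv (TensorProduct.zero_tmul _ _)
  have hv0 : v ≠ 0 := by
    rintro rfl
    exact huv (TensorProduct.tmul_zero _ _)
  -- Noether normalizations in a common degree
  obtain ⟨D₁, hD₁, hRM⟩ := exists_graded_noether_module 𝒜 ℳ hposR h0R r hdM
  obtain ⟨D₂, hD₂, hSN⟩ := exists_graded_noether_module ℬ 𝒩 hposS h0S s hdN
  obtain ⟨x, BM, hx, hBMhom, hBM, hxfaith⟩ := hRM D₂ hD₂
  obtain ⟨y, BN, hy, hBNhom, hBN, hyfaith⟩ := hSN D₁ hD₁
  have hD : 0 < D₂ * D₁ := Nat.mul_pos hD₂ hD₁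
  have hy' : ∀ j, y j ∈ ℬ ((D₂ * D₁ : ℕ) : ℤ) := by
    intro j
    have := hy j
    rwa [Nat.mul_comm] at this
  haveI : Nontrivial M := by
    by_contra hnt
    rw [not_nontrivial_iff_subsingleton] at hnt
    rw [Module.supportDim_eq_bot_of_subsingleton] at hdM
    exact WithBot.bot_ne_coe hdM
  haveI : Nontrivial N := by
    by_contra hnt
    rw [not_nontrivial_iff_subsingleton] at hnt
    rw [Module.supportDim_eq_bot_of_subsingleton] at hdN
    exact WithBot.bot_ne_coe hdN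
  haveI : Nontrivial R := Module.nontrivial R M
  haveI : Nontrivial S := Module.nontrivial S N
  haveI : (irr 𝒜).IsPrime := (irr_isMaximal 𝒜 hposR h0R).isPrime
  haveI : (irr ℬ).IsPrime := (irr_isMaximal ℬ hposS h0S).isPrime
  have hntu : NonTors k x u := fun p hp =>
    Groth.Agent.H85.GradedCM.eq_zero_of_aeval_smul_eq_zero 𝒜 ℳ hposR h0R r hdM (hMcm (irr 𝒜))
      x BM hBM hu hu0 p hp
  have hntv : NonTors k y v := fun p hp =>
    Groth.Agent.H85.GradedCM.eq_zero_of_aeval_smul_eq_zero ℬ 𝒩 hposS h0S s hdN (hNcm (irr ℬ))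
      y BN hBN hv hv0 p hp
  exact main_core 𝒜 ℬ ℳ 𝒩 T 𝒯 ψ hT P 𝒬 φ hP r s h1r h1s (D₂ * D₁) hD x BM hx hBM y BN hy' hBN
    n u v hu hv hntu hntv

end Groth.Agent.H85.SegreModCM
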