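import Groth.Agent.H85.SegreDim
import Groth.Agent.H85.GradedModNN
import Groth.Agent.H98.SegreFinite

/-!
# Krull dimension of a Segre product of modules
-/

set_option autoImplicit false
universe u

namespace Groth.Agent.H85.SegreModDim

open scoped TensorProduct
open MvPolynomial Groth.Agent.H98 Groth.Agent.H85.GradedNN Groth.Agent.H85.SegrePoly
  Groth.Agent.H85.SegreDim

variable {k : Type u} [Field k] {R S : Type u} [CommRing R] [CommRing S] [Algebra k R] [Algebra k S]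
  (𝒜 : ℤ → Submodule k R) [GradedAlgebra 𝒜] (ℬ : ℤ → Submodule k S) [GradedAlgebra ℬ]
  {M N : Type u} [AddCommGroup M] [Module R M] [Module k M] [IsScalarTower k R M]
  [AddCommGroup N] [Module S N] [Module k N] [IsScalarTower k S N]
  (ℳ : ℤ → AddSubgroup M) [DirectSum.Decomposition ℳ] [SetLike.GradedSMul 𝒜 ℳ]
  (𝒩 : ℤ → AddSubgroup N) [DirectSum.Decomposition 𝒩] [SetLike.GradedSMul ℬ 𝒩]

section DiagOff

/-- the diagonal part of `M ⊗ N` -/
abbrev DgM : Submodule k (M ⊗[k] N) := diagPart (k := k) ℳ 𝒩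

/-- the off-diagonal part of `M ⊗ N` -/
abbrev OffM : Submodule k (M ⊗[k] N) := offPart (k := k) ℳ 𝒩

include 𝒜 ℬ in
theorem isCompl_dgM_offM : IsCompl (DgM (k := k) ℳ 𝒩) (OffM (k := k) ℳ 𝒩) :=
  ⟨diag_disjoint_off ℳ 𝒩 (smul_mem_piece 𝒜 ℳ) (smul_mem_piece ℬ 𝒩),
    codisjoint_iff.mpr (diag_sup_off ℳ 𝒩 (smul_mem_piece 𝒜 ℳ) (smul_mem_piece ℬ 𝒩))⟩

theorem act_dg_dgM {u : R ⊗[k] S} (hu : u ∈ Dg 𝒜 ℬ) {z : M ⊗[k] N}
    (hz : z ∈ DgM (k := k) ℳ 𝒩) : GrSeg.act k R S M N u z ∈ DgM (k := k) ℳ 𝒩 := by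
  induction hu using Submodule.span_induction with
  | mem w hw =>
    obtain ⟨n, a, ha, b, hb, rfl⟩ := hw
    induction hz using Submodule.span_induction with
    | mem v hv =>
      obtain ⟨n', m, hm, y, hy, rfl⟩ := hv
      rw [GrSeg.act_tmul]
      refine Submodule.subset_span ⟨n + n', a • m, ?_, b • y, ?_, rfl⟩
      · exact SetLike.GradedSMul.smul_mem (A := 𝒜) (B := ℳ) ha hm
      · exact SetLike.GradedSMul.smul_mem (A := ℬ) (B := 𝒩) hb hy
    | zero => rw [map_zero]; exact Submodule.zero_mem _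
    | add x y _ _ hx hy => rw [map_add]; exact Submodule.add_mem _ hx hy
    | smul c x _ hx => rw [map_smul]; exact Submodule.smul_mem _ c hx
  | zero => rw [map_zero, LinearMap.zero_apply]; exact Submodule.zero_mem _
  | add x y _ _ hx hy => rw [map_add, LinearMap.add_apply]; exact Submodule.add_mem _ hx hy
  | smul c x _ hx => rw [map_smul, LinearMap.smul_apply]; exact Submodule.smul_mem _ c hx

/-- the projection of `M ⊗ N` onto the diagonal part along the off-diagonal part -/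
noncomputable def rhoM : M ⊗[k] N →ₗ[k] M ⊗[k] N :=
  (DgM (k := k) ℳ 𝒩).subtype ∘ₗ Submodule.projectionOnto (DgM (k := k) ℳ 𝒩) (OffM (k := k) ℳ 𝒩)
    (isCompl_dgM_offM 𝒜 ℬ ℳ 𝒩)

theorem rhoM_dg {z : M ⊗[k] N} (hz : z ∈ DgM (k := k) ℳ 𝒩) : rhoM 𝒜 ℬ ℳ 𝒩 z = z := by
  have := Submodule.projectionOnto_apply_left (isCompl_dgM_offM 𝒜 ℬ ℳ 𝒩) ⟨z, hz⟩
  simp only [rhoM, LinearMap.coe_comp, Function.comp_apply, Submodule.subtype_apply]
  rw [this]

theorem rhoM_off {z : M ⊗[k] N} (hz : z ∈ OffM (k := k) ℳ 𝒩) : rhoM 𝒜 ℬ ℳ 𝒩 z = 0 := by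
  have := (Submodule.projectionOnto_apply_eq_zero_iff (isCompl_dgM_offM 𝒜 ℬ ℳ 𝒩)).mpr hz
  simp only [rhoM, LinearMap.coe_comp, Function.comp_apply, Submodule.subtype_apply]
  rw [this]; rfl

end DiagOff

section Poly

variable {r s : ℕ} {x : Fin r → R} {y : Fin s → S} {D : ℕ}

/-- the key equivariance of the projection `rhoM` -/
theorem rhoM_act_Phi (hD : 0 < D) (hx : ∀ i, x i ∈ 𝒜 (D : ℤ)) (hy : ∀ j, y j ∈ ℬ (D : ℤ))
    (c : MvPolynomial (Fin r ⊕ Fin s) k) {z : M ⊗[k] N} (hz : z ∈ DgM (k := k) ℳ 𝒩) :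
    rhoM 𝒜 ℬ ℳ 𝒩 (GrSeg.act k R S M N (Phi k x y c) z) =
      GrSeg.act k R S M N (Phi k x y (weightedHomogeneousComponent (wt r s) 0 c)) z := by
  induction c using MvPolynomial.induction_on' with
  | monomial d a =>
    have hA : (a • ∏ i, x i ^ d (Sum.inl i)) ∈ 𝒜 ((D : ℤ) * ∑ i, (d (Sum.inl i) : ℤ)) :=
      Submodule.smul_mem _ a (prod_pow_mem 𝒜 hx d)
    have hB := prod_pow_mem' ℬ hy d
    by_cases hw : Finsupp.weight (wt r s) d = 0
    · have hmon : IsWeightedHomogeneous (wt r s) (monomial d a : MvPolynomial (Fin r ⊕ Fin s) k) 0 :=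
        isWeightedHomogeneous_monomial _ _ _ hw
      rw [hmon.weightedHomogeneousComponent_same]
      apply rhoM_dg
      refine act_dg_dgM 𝒜 ℬ ℳ 𝒩 ?_ hz
      rw [Phi_monomial]
      rw [weight_wt, sub_eq_zero] at hw
      rw [← hw] at hB
      exact tmul_mem_dg 𝒜 ℬ hA hB
    · have hmon : IsWeightedHomogeneous (wt r s) (monomial d a : MvPolynomial (Fin r ⊕ Fin s) k)
          (Finsupp.weight (wt r s) d) :=
        isWeightedHomogeneous_monomial _ _ _ rfl
      rw [hmon.weightedHomogeneousComponent_ne 0 (Ne.symm hw), map_zero, map_zero,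
        LinearMap.zero_apply]
      apply rhoM_off
      refine act_off_diag_mem 𝒜 ℬ ℳ 𝒩 _ ?_ _ hz
      rw [Phi_monomial]
      refine tmul_mem_off 𝒜 ℬ ?_ hA hB
      intro h
      apply hw
      rw [weight_wt, sub_eq_zero]
      have hD' : (D : ℤ) ≠ 0 := by exact_mod_cast hD.ne'
      exact mul_left_cancel₀ hD' h
  | add p q hp hq =>
    simp only [map_add, LinearMap.add_apply, hp, hq]

end Poly

section Integral

variable {r s : ℕ} {x : Fin r → R} {y : Fin s → S} {D : ℕ}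

theorem Phi_rename_inl (x : Fin r → R) (y : Fin s → S) (p : MvPolynomial (Fin r) k) :
    Phi k x y (rename Sum.inl p) = aeval x p ⊗ₜ[k] (1 : S) := by
  have : (Phi k x y).comp (rename Sum.inl : MvPolynomial (Fin r) k →ₐ[k] _) =
      (Algebra.TensorProduct.includeLeft : R →ₐ[k] R ⊗[k] S).comp
        (aeval x : MvPolynomial (Fin r) k →ₐ[k] R) := by
    apply MvPolynomial.algHom_ext
    intro i
    simp [Phi, vv]
  exact AlgHom.congr_fun this p

theorem Phi_rename_inr (x : Fin r → R) (y : Fin s → S) (p : MvPolynomial (Fin s) k) :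
    Phi k x y (rename Sum.inr p) = (1 : R) ⊗ₜ[k] aeval y p := by
  have : (Phi k x y).comp (rename Sum.inr : MvPolynomial (Fin s) k →ₐ[k] _) =
      (Algebra.TensorProduct.includeRight : S →ₐ[k] R ⊗[k] S).comp
        (aeval y : MvPolynomial (Fin s) k →ₐ[k] S) := by
    apply MvPolynomial.algHom_ext
    intro j
    simp [Phi, vv]
  exact AlgHom.congr_fun this p

theorem act_pow (t : R ⊗[k] S) (i : ℕ) (z : M ⊗[k] N) :
    GrSeg.act k R S M N (t ^ i) z = ((GrSeg.act k R S M N t) ^ i) z := by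
  induction i generalizing z with
  | zero => rw [pow_zero, pow_zero, act_one]; rfl
  | succ i ih =>
    rw [pow_succ, act_mul, pow_succ, Module.End.mul_apply, LinearMap.comp_apply, ih]

theorem act_sum_mul (c : ℕ → MvPolynomial (Fin r ⊕ Fin s) k) (n : ℕ) (t : R ⊗[k] S)
    (z : M ⊗[k] N) :
    GrSeg.act k R S M N (∑ i ∈ Finset.range n, Phi k x y (c i) * t ^ i) z =
      ∑ i ∈ Finset.range n,
        GrSeg.act k R S M N (Phi k x y (c i)) (GrSeg.act k R S M N (t ^ i) z) := by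
  rw [map_sum, LinearMap.sum_apply]
  refine Finset.sum_congr rfl fun i _ => ?_
  rw [act_mul]
  rfl

/-- Cayley–Hamilton: every element of `R ⊗ S` satisfies, on `M ⊗ N`, a monic equation over
`k[X, Y]`. -/
theorem exists_monic_act_eq_zero (BM : Finset M)
    (hBM : ∀ u : M, ∃ c : M → MvPolynomial (Fin r) k, u = ∑ b ∈ BM, aeval x (c b) • b)
    (BN : Finset N)
    (hBN : ∀ v : N, ∃ c : N → MvPolynomial (Fin s) k, v = ∑ b ∈ BN, aeval y (c b) • b)
    (t : R ⊗[k] S) :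
    ∃ p : Polynomial (MvPolynomial (Fin r ⊕ Fin s) k), p.Monic ∧
      ∀ z : M ⊗[k] N, GrSeg.act k R S M N (p.eval₂ (Phi k x y).toRingHom t) z = 0 := by
  classical
  letI modQ : Module (MvPolynomial (Fin r ⊕ Fin s) k) (M ⊗[k] N) :=
    Module.compHom (M ⊗[k] N) ((actRingHom k R S M N).comp (Phi k x y).toRingHom)
  have hsmul : ∀ (q : MvPolynomial (Fin r ⊕ Fin s) k) (z : M ⊗[k] N),
      q • z = GrSeg.act k R S M N (Phi k x y q) z := fun _ _ => rfl
  haveI : Module.Finite (MvPolynomial (Fin r ⊕ Fin s) k) (M ⊗[k] N) := by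
    refine ⟨⟨(BM ×ˢ BN).image (fun p => p.1 ⊗ₜ[k] p.2), ?_⟩⟩
    rw [eq_top_iff]
    rintro z -
    induction z using TensorProduct.induction_on with
    | zero => exact zero_mem _
    | add a b ha hb => exact add_mem ha hb
    | tmul u v =>
      obtain ⟨c, rfl⟩ := hBM u
      obtain ⟨c', rfl⟩ := hBN v
      rw [TensorProduct.sum_tmul]
      refine Submodule.sum_mem _ fun b hb => ?_
      rw [TensorProduct.tmul_sum]
      refine Submodule.sum_mem _ fun b' hb' => ?_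
      have : (aeval x (c b) • b) ⊗ₜ[k] (aeval y (c' b') • b') =
          (rename Sum.inl (c b) * rename Sum.inr (c' b') : MvPolynomial (Fin r ⊕ Fin s) k) •
            (b ⊗ₜ[k] b') := by
        rw [hsmul, map_mul, Phi_rename_inl, Phi_rename_inr, Algebra.TensorProduct.tmul_mul_tmul,
          mul_one, one_mul, GrSeg.act_tmul]
      rw [this]
      refine Submodule.smul_mem _ _ (Submodule.subset_span ?_)
      exact Finset.mem_coe.mpr (Finset.mem_image.mpr ⟨(b, b'), Finset.mem_product.mpr ⟨hb, hb'⟩, rfl⟩)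
  let f : Module.End (MvPolynomial (Fin r ⊕ Fin s) k) (M ⊗[k] N) :=
    { toFun := fun z => GrSeg.act k R S M N t z
      map_add' := fun a b => map_add _ a b
      map_smul' := fun q z => by
        simp only [RingHom.id_apply]
        rw [hsmul, hsmul]
        have h1 : GrSeg.act k R S M N t (GrSeg.act k R S M N (Phi k x y q) z) =
            GrSeg.act k R S M N (t * Phi k x y q) z := by rw [act_mul]; rfl
        have h2 : GrSeg.act k R S M N (Phi k x y q) (GrSeg.act k R S M N t z) =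
            GrSeg.act k R S M N (Phi k x y q * t) z := by rw [act_mul]; rfl
        rw [h1, h2, mul_comm] }
  obtain ⟨P, hPmonic, hP⟩ :=
    LinearMap.exists_monic_and_aeval_eq_zero (MvPolynomial (Fin r ⊕ Fin s) k) f
  refine ⟨P, hPmonic, fun z => ?_⟩
  have hfpow : ∀ (i : ℕ) (z : M ⊗[k] N), (f ^ i) z = GrSeg.act k R S M N (t ^ i) z := by
    intro i
    induction i with
    | zero => intro z; rw [pow_zero, pow_zero, act_one]; rfl
    | succ i ih =>
      intro z
      rw [pow_succ, Module.End.mul_apply, ih, pow_succ, act_mul]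
      rfl
  have h1 : (Polynomial.aeval f P) z = 0 := by rw [hP]; rfl
  rw [Polynomial.aeval_eq_sum_range, LinearMap.sum_apply] at h1
  rw [Polynomial.eval₂_eq_sum_range]
  have h2 := act_sum_mul (M := M) (N := N) (x := x) (y := y) (fun i => P.coeff i)
    (P.natDegree + 1) t z
  rw [show (∑ i ∈ Finset.range (P.natDegree + 1), (Phi k x y).toRingHom (P.coeff i) * t ^ i) =
    ∑ i ∈ Finset.range (P.natDegree + 1), Phi k x y (P.coeff i) * t ^ i from rfl, h2, ← h1]
  refine Finset.sum_congr rfl fun i _ => ?_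
  rw [LinearMap.smul_apply, hfpow, hsmul]

/-- an element of the diagonal part satisfying a monic equation over `k[X,Y]` on `M ⊗ N`
satisfies a monic equation over `W` on the diagonal part of `M ⊗ N` -/
theorem exists_monic_W_module (hD : 0 < D) (hx : ∀ i, x i ∈ 𝒜 (D : ℤ))
    (hy : ∀ j, y j ∈ ℬ (D : ℤ)) {t : R ⊗[k] S} (ht : t ∈ Dg 𝒜 ℬ)
    (p : Polynomial (MvPolynomial (Fin r ⊕ Fin s) k)) (hp : p.Monic)
    (hp0 : ∀ z : M ⊗[k] N, GrSeg.act k R S M N (p.eval₂ (Phi k x y).toRingHom t) z = 0) :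
    ∃ q : Polynomial (W k r s), q.Monic ∧ ∀ z ∈ DgM (k := k) ℳ 𝒩,
      GrSeg.act k R S M N
        (q.eval₂ ((Phi k x y).toRingHom.comp (W k r s).val.toRingHom) t) z = 0 := by
  set n := p.natDegree with hn
  set π := weightedHomogeneousComponent (R := k) (wt r s) (0 : ℤ) with hπ
  have hπW : ∀ c, π c ∈ W k r s := weightedHomogeneousComponent_zero_mem_W k r s
  have hπ1 : π 1 = 1 := (isWeightedHomogeneous_one k (wt r s)).weightedHomogeneousComponent_same
  refine ⟨Polynomial.X ^ n + ∑ i : Fin n,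
    Polynomial.C (⟨π (p.coeff i), hπW _⟩ : W k r s) * Polynomial.X ^ (i : ℕ),
    Polynomial.monic_X_pow_add (Polynomial.degree_sum_fin_lt _), fun z hz => ?_⟩
  have hq : (Polynomial.X ^ n + ∑ i : Fin n,
      Polynomial.C (⟨π (p.coeff i), hπW _⟩ : W k r s) * Polynomial.X ^ (i : ℕ)).eval₂
        ((Phi k x y).toRingHom.comp (W k r s).val.toRingHom) t =
      ∑ i ∈ Finset.range (n + 1), Phi k x y (π (p.coeff i)) * t ^ i := by
    rw [Polynomial.eval₂_add, Polynomial.eval₂_pow, Polynomial.eval₂_X,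
      Polynomial.eval₂_finsetSum]
    simp only [Polynomial.eval₂_mul, Polynomial.eval₂_C, Polynomial.eval₂_pow, Polynomial.eval₂_X]
    rw [Finset.sum_range_succ, hn, hp.coeff_natDegree, hπ1, map_one, one_mul, Finset.sum_range,
      add_comm]
    rfl
  rw [hq, act_sum_mul]
  have h1 := hp0 z
  rw [Polynomial.eval₂_eq_sum_range] at h1
  have h2 := act_sum_mul (M := M) (N := N) (x := x) (y := y) (fun i => p.coeff i)
    (p.natDegree + 1) t z
  rw [show (∑ i ∈ Finset.range (p.natDegree + 1), (Phi k x y).toRingHom (p.coeff i) * t ^ i) =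
    ∑ i ∈ Finset.range (p.natDegree + 1), Phi k x y (p.coeff i) * t ^ i from rfl, h2] at h1
  have h3 := congrArg (rhoM 𝒜 ℬ ℳ 𝒩) h1
  rw [map_sum, map_zero] at h3
  rw [← h3]
  refine Finset.sum_congr rfl fun i _ => ?_
  rw [rhoM_act_Phi 𝒜 ℬ ℳ 𝒩 hD hx hy (p.coeff i)
    (act_dg_dgM 𝒜 ℬ ℳ 𝒩 (pow_mem_dg 𝒜 ℬ ht i) hz)]

end Integral

section Torsion

variable {r : ℕ} (x : Fin r → R)

variable (k) in
/-- `u` has zero annihilator in `k[X₁, …, X_r]` -/
def NonTors (u : M) : Prop := ∀ p : MvPolynomial (Fin r) k, aeval x p • u = 0 → p = 0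

theorem exists_nonTors (B : Finset M)
    (hB : ∀ u : M, ∃ c : M → MvPolynomial (Fin r) k, u = ∑ b ∈ B, aeval x (c b) • b)
    (hfaith : ∀ p : MvPolynomial (Fin r) k, aeval x p ∈ Module.annihilator R M → p = 0) :
    ∃ b ∈ B, NonTors k x b := by
  classical
  by_contra hcon
  push Not at hcon
  have h1 : ∀ b ∈ B, ∃ p : MvPolynomial (Fin r) k, p ≠ 0 ∧ aeval x p • b = 0 := by
    intro b hb
    have := hcon b hb
    unfold NonTors at this
    push Not at this
    obtain ⟨p, h1, h2⟩ := this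
    exact ⟨p, h2, h1⟩
  choose! P hP0 hPb using h1
  have hprod : ∏ b ∈ B, P b ≠ 0 := Finset.prod_ne_zero_iff.mpr hP0
  apply hprod
  apply hfaith
  rw [Module.mem_annihilator]
  intro u
  obtain ⟨c, rfl⟩ := hB u
  rw [Finset.smul_sum]
  refine Finset.sum_eq_zero fun b hb => ?_
  rw [smul_comm, ← Finset.mul_prod_erase B P hb, mul_comm, map_mul, mul_smul, hPb b hb, smul_zero,
    smul_zero]

include 𝒜 in
theorem exists_nonTors_succ
    (hstd : Ideal.span (⋃ n ∈ Set.Ioi (0 : ℤ), (𝒜 n : Set R)) =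
      Ideal.span ((𝒜 1 : Submodule k R) : Set R))
    {D : ℕ} (hD : 0 < D) (hx : ∀ i, x i ∈ 𝒜 (D : ℤ)) (i₀ : Fin r) {a : ℤ} {u : M}
    (hu : u ∈ ℳ a) (hnt : NonTors k x u) : ∃ u' ∈ ℳ (a + 1), NonTors k x u' := by
  by_contra hcon
  push Not at hcon
  have hT : ∀ r' ∈ Ideal.span ((𝒜 1 : Submodule k R) : Set R),
      ∃ p : MvPolynomial (Fin r) k, p ≠ 0 ∧ aeval x p • (r' • u) = 0 := by
    intro r' hr'
    unfold Ideal.span at hr'
    induction hr' using Submodule.closure_induction with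
    | zero => exact ⟨1, one_ne_zero, by simp⟩
    | add a b _ _ ha hb =>
      obtain ⟨p, hp, hpa⟩ := ha
      obtain ⟨q, hq, hqb⟩ := hb
      refine ⟨p * q, mul_ne_zero hp hq, ?_⟩
      have e1 : aeval x (p * q) • (a • u) = 0 := by
        rw [mul_comm, map_mul, mul_smul, hpa, smul_zero]
      have e2 : aeval x (p * q) • (b • u) = 0 := by
        rw [map_mul, mul_smul, hqb, smul_zero]
      rw [add_smul, smul_add, e1, e2, add_zero]
    | smul_mem r' l hl =>
      have hmem : l • u ∈ ℳ (a + 1) := by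
        have := SetLike.GradedSMul.smul_mem (A := 𝒜) (B := ℳ) hl hu
        rwa [vadd_eq_add, add_comm] at this
      have h1 := hcon _ hmem
      unfold NonTors at h1
      push Not at h1
      obtain ⟨p, hp1, hp2⟩ := h1
      refine ⟨p, hp2, ?_⟩
      rw [smul_eq_mul, mul_smul, smul_comm, hp1, smul_zero]
  have hxmem : x i₀ ∈ Ideal.span ((𝒜 1 : Submodule k R) : Set R) := by
    rw [← hstd]
    apply Ideal.subset_span
    refine Set.mem_biUnion (x := (D : ℤ)) ?_ (hx i₀)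
    rw [Set.mem_Ioi]
    exact_mod_cast hD
  obtain ⟨p, hp, hpx⟩ := hT (x i₀) hxmem
  have h2 : aeval x (p * X i₀) • u = 0 := by
    rw [map_mul, aeval_X, mul_smul]
    exact hpx
  exact mul_ne_zero hp (X_ne_zero i₀) (hnt _ h2)

include 𝒜 in
theorem exists_nonTors_add
    (hstd : Ideal.span (⋃ n ∈ Set.Ioi (0 : ℤ), (𝒜 n : Set R)) =
      Ideal.span ((𝒜 1 : Submodule k R) : Set R))
    {D : ℕ} (hD : 0 < D) (hx : ∀ i, x i ∈ 𝒜 (D : ℤ)) (i₀ : Fin r) {a : ℤ} {u : M}
    (hu : u ∈ ℳ a) (hnt : NonTors k x u) (n : ℕ) : ∃ u' ∈ ℳ (a + n), NonTors k x u' := by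
  induction n with
  | zero => exact ⟨u, by simpa using hu, hnt⟩
  | succ n ih =>
    obtain ⟨u', hu', hnt'⟩ := ih
    obtain ⟨u'', hu'', hnt''⟩ := exists_nonTors_succ 𝒜 ℳ x hstd hD hx i₀ hu' hnt'
    refine ⟨u'', ?_, hnt''⟩
    have : a + ((n + 1 : ℕ) : ℤ) = a + n + 1 := by push_cast; ring
    rw [this]
    exact hu''

theorem eq_zero_of_act_Phi_tmul {s : ℕ} (y : Fin s → S) {u : M} {v : N}
    (hu : NonTors k x u) (hv : NonTors k y v) (q : MvPolynomial (Fin r ⊕ Fin s) k)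
    (hq : GrSeg.act k R S M N (Phi k x y q) (u ⊗ₜ[k] v) = 0) : q = 0 := by
  let fu : MvPolynomial (Fin r) k →ₗ[k] M :=
    ((LinearMap.toSpanSingleton R M u).restrictScalars k) ∘ₗ
      (aeval x : MvPolynomial (Fin r) k →ₐ[k] R).toLinearMap
  let fv : MvPolynomial (Fin s) k →ₗ[k] N :=
    ((LinearMap.toSpanSingleton S N v).restrictScalars k) ∘ₗ
      (aeval y : MvPolynomial (Fin s) k →ₐ[k] S).toLinearMap
  have hfu : ∀ p, fu p = aeval x p • u := fun p => rfl
  have hfv : ∀ p, fv p = aeval y p • v := fun p => rfl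
  have hfuinj : Function.Injective fu := by
    rw [injective_iff_map_eq_zero]
    intro p hp
    exact hu p hp
  have hfvinj : Function.Injective fv := by
    rw [injective_iff_map_eq_zero]
    intro p hp
    exact hv p hp
  have hL := TensorProduct.map_injective_of_flat_flat fu fv hfuinj hfvinj
  have key : ∀ z : MvPolynomial (Fin r) k ⊗[k] MvPolynomial (Fin s) k,
      GrSeg.act k R S M N (Phi k x y (tensorEquivSum k (Fin r) (Fin s) k z)) (u ⊗ₜ[k] v) =
        TensorProduct.map fu fv z := by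
    intro z
    induction z using TensorProduct.induction_on with
    | zero => simp
    | tmul p p' =>
      have h1 := AlgHom.congr_fun (Phi_comp_tensorEquivSum (k := k) x y) (p ⊗ₜ[k] p')
      rw [AlgHom.comp_apply, Algebra.TensorProduct.map_tmul] at h1
      have h2 : Phi k x y (tensorEquivSum k (Fin r) (Fin s) k (p ⊗ₜ[k] p')) =
          aeval x p ⊗ₜ[k] aeval y p' := h1
      rw [h2, GrSeg.act_tmul, TensorProduct.map_tmul, hfu, hfv]
    | add a b ha hb =>
      rw [map_add, map_add, map_add, LinearMap.add_apply, ha, hb, map_add]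
  have hq' : q = tensorEquivSum k (Fin r) (Fin s) k ((tensorEquivSum k (Fin r) (Fin s) k).symm q) :=
    ((tensorEquivSum k (Fin r) (Fin s) k).apply_symm_apply q).symm
  rw [hq', key] at hq
  have h3 := hL (hq.trans (map_zero _).symm)
  rw [hq', h3, map_zero]

end Torsion

section Main

theorem isArtinian_of_fin_zero (x : Fin 0 → R) (B : Finset M)
    (hB : ∀ u : M, ∃ c : M → MvPolynomial (Fin 0) k, u = ∑ b ∈ B, aeval x (c b) • b) :
    IsArtinian R M := by
  haveI : Module.Finite k M := by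
    refine ⟨⟨B, ?_⟩⟩
    rw [eq_top_iff]
    rintro u -
    obtain ⟨c, rfl⟩ := hB u
    refine Submodule.sum_mem _ fun b hb => ?_
    have h1 : aeval x (c b) = algebraMap k R (coeff 0 (c b)) := by
      conv_lhs => rw [MvPolynomial.eq_C_of_isEmpty (c b), aeval_C]
    rw [h1, algebraMap_smul]
    exact Submodule.smul_mem _ _ (Submodule.subset_span hb)
  haveI : IsArtinian k M := inferInstance
  exact isArtinian_of_tower k ‹_›

/-- **Krull dimension of the Segre product of modules.** -/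
theorem main_module (hposR : ∀ n : ℤ, n < 0 → 𝒜 n = ⊥) (h0R : 𝒜 0 = Submodule.span k {(1 : R)})
    [Algebra.FiniteType k R]
    (hposS : ∀ n : ℤ, n < 0 → ℬ n = ⊥) (h0S : ℬ 0 = Submodule.span k {(1 : S)})
    [Algebra.FiniteType k S]
    (T : Type u) [CommRing T] [Algebra k T] (𝒯 : ℤ → Submodule k T) [GradedAlgebra 𝒯]
    (ψ : T →ₐ[k] R ⊗[k] S) (hT : GrSeg.IsSegreRing 𝒜 ℬ 𝒯 ψ)
    (hstdR : Ideal.span (⋃ n ∈ Set.Ioi (0 : ℤ), (𝒜 n : Set R)) =
      Ideal.span ((𝒜 1 : Submodule k R) : Set R))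
    (hstdS : Ideal.span (⋃ n ∈ Set.Ioi (0 : ℤ), (ℬ n : Set S)) =
      Ideal.span ((ℬ 1 : Submodule k S) : Set S))
    [Module.Finite R M] [Module.Finite S N]
    (P : Type u) [AddCommGroup P] [Module T P] [Module k P] [IsScalarTower k T P]
    (𝒬 : ℤ → AddSubgroup P) [DirectSum.Decomposition 𝒬] (φ : P →ₗ[k] M ⊗[k] N)
    (hP : GrSeg.IsSegreMod ψ ℳ 𝒩 𝒬 φ)
    (dM dN : ℕ) (hdM : Module.supportDim R M = dM) (hdN : Module.supportDim S N = dN)
    (hMA : ¬ IsArtinian R M) (hNA : ¬ IsArtinian S N) :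
    Module.supportDim T P = ((dM + dN - 1 : ℕ) : WithBot ℕ∞) := by
  classical
  haveI : IsNoetherian T P := segre_isNoetherian 𝒜 ℬ 𝒯 ψ hT ℳ 𝒩 𝒬 φ hP
  haveI : Module.Finite T P := Module.IsNoetherian.finite T P
  have hψ : Function.Injective ψ := hT.1
  have hdegT := hT.2
  obtain ⟨D₁, hD₁, hRM⟩ := exists_graded_noether_module 𝒜 ℳ hposR h0R dM hdM
  obtain ⟨D₂, hD₂, hSN⟩ := exists_graded_noether_module ℬ 𝒩 hposS h0S dN hdN
  obtain ⟨x, BM, hx, hBMhom, hBM, hxfaith⟩ := hRM D₂ hD₂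
  obtain ⟨y, BN, hy, hBNhom, hBN, hyfaith⟩ := hSN D₁ hD₁
  have hD : 0 < D₂ * D₁ := Nat.mul_pos hD₂ hD₁
  have hy' : ∀ j, y j ∈ ℬ ((D₂ * D₁ : ℕ) : ℤ) := by
    intro j
    have := hy j
    rwa [Nat.mul_comm] at this
  have hdM1 : 1 ≤ dM := by
    by_contra h
    have h0 : dM = 0 := by omega
    subst h0
    exact hMA (isArtinian_of_fin_zero x BM hBM)
  have hdN1 : 1 ≤ dN := by
    by_contra h
    have h0 : dN = 0 := by omega
    subst h0
    exact hNA (isArtinian_of_fin_zero y BN hBN)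
  -- non-torsion elements of a common degree
  obtain ⟨b₁, hb₁, hnt₁⟩ := exists_nonTors x BM hBM hxfaith
  obtain ⟨a₁, ha₁⟩ := hBMhom b₁ hb₁
  obtain ⟨b₂, hb₂, hnt₂⟩ := exists_nonTors y BN hBN hyfaith
  obtain ⟨a₂, ha₂⟩ := hBNhom b₂ hb₂
  obtain ⟨u, hu, hntu⟩ := exists_nonTors_add 𝒜 ℳ x hstdR hD hx ⟨0, hdM1⟩ ha₁ hnt₁
    (max a₁ a₂ - a₁).toNat
  obtain ⟨v, hv, hntv⟩ := exists_nonTors_add ℬ 𝒩 y hstdS hD hy' ⟨0, hdN1⟩ ha₂ hnt₂
    (max a₁ a₂ - a₂).toNat
  have hu' : u ∈ ℳ (max a₁ a₂) := by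
    have : a₁ + ((max a₁ a₂ - a₁).toNat : ℤ) = max a₁ a₂ := by omega
    rwa [this] at hu
  have hv' : v ∈ 𝒩 (max a₁ a₂) := by
    have : a₂ + ((max a₁ a₂ - a₂).toNat : ℤ) = max a₁ a₂ := by omega
    rwa [this] at hv
  have huv : ∃ p₀ : P, φ p₀ = u ⊗ₜ[k] v := by
    have h1 : u ⊗ₜ[k] v ∈ (GrSeg.segrePiece k ℳ 𝒩 (max a₁ a₂) : Set (M ⊗[k] N)) :=
      Submodule.subset_span ⟨u, hu', v, hv', rfl⟩
    rw [← hP.image_piece] at h1
    obtain ⟨p₀, -, hp₀⟩ := h1
    exact ⟨p₀, hp₀⟩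
  have hφdiag : ∀ p : P, φ p ∈ DgM (k := k) ℳ 𝒩 := by
    intro p
    induction p using DirectSum.Decomposition.inductionOn 𝒬 with
    | zero => rw [map_zero]; exact Submodule.zero_mem _
    | @homogeneous n m =>
      have h1 : φ (m : P) ∈ φ '' (𝒬 n : Set P) := ⟨m, m.2, rfl⟩
      rw [hP.image_piece n] at h1
      have hle : GrSeg.segrePiece k ℳ 𝒩 n ≤ DgM (k := k) ℳ 𝒩 := by
        apply Submodule.span_mono
        rintro z ⟨a, ha, b, hb, rfl⟩
        exact ⟨n, a, ha, b, hb, rfl⟩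
      exact hle h1
    | add m m' hm hm' => rw [map_add]; exact Submodule.add_mem _ hm hm'
  have hψdiag : ∀ t : T, ψ t ∈ Dg 𝒜 ℬ := by
    intro t
    induction t using DirectSum.Decomposition.inductionOn 𝒯 with
    | zero => rw [map_zero]; exact zero_mem _
    | @homogeneous n m =>
      have h1 : ψ (m : T) ∈ (𝒯 n).map ψ.toLinearMap := ⟨m, m.2, rfl⟩
      rw [hdegT n] at h1
      refine Submodule.span_le.mpr ?_ h1
      rintro _ ⟨a, ha, b, hb, rfl⟩
      exact tmul_mem_dg 𝒜 ℬ ha hb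
    | add a b ha hb => rw [map_add]; exact add_mem ha hb
  have hgen : ∀ i j, ∃ t : T, ψ t = x i ⊗ₜ[k] y j := by
    intro i j
    have h1 : x i ⊗ₜ[k] y j ∈ GrSeg.segrePiece k 𝒜 ℬ ((D₂ * D₁ : ℕ) : ℤ) :=
      Submodule.subset_span ⟨x i, hx i, y j, hy' j, rfl⟩
    rw [← hdegT] at h1
    obtain ⟨t, -, ht⟩ := h1
    exact ⟨t, ht⟩
  have hWrange : ∀ w ∈ W k dM dN, Phi k x y w ∈ ψ.range := by
    intro w hw
    have hle : W k dM dN ≤ ψ.range.comap (Phi k x y) := by
      unfold W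
      rw [Algebra.adjoin_le_iff]
      rintro _ ⟨⟨i, j⟩, rfl⟩
      obtain ⟨t, ht⟩ := hgen i j
      show Phi k x y (gen k dM dN (i, j)) ∈ ψ.range
      refine ⟨t, ?_⟩
      show ψ t = _
      rw [ht]
      simp [gen, Phi, vv]
    exact hle hw
  let e := AlgEquiv.ofInjective ψ hψ
  let θ : W k dM dN →ₐ[k] T := e.symm.toAlgHom.comp
    (((Phi k x y).comp (W k dM dN).val).codRestrict ψ.range (fun w => hWrange w w.2))
  have hθ : ∀ w, ψ (θ w) = Phi k x y w := by
    intro w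
    have h1 : e (θ w) = ⟨Phi k x y w, hWrange w w.2⟩ := by
      show e (e.symm _) = _
      rw [e.apply_symm_apply]
      rfl
    have h2 := congrArg Subtype.val h1
    exact h2
  set 𝔞 := Module.annihilator T P with h𝔞
  let θbar : W k dM dN →+* T ⧸ 𝔞 := (Ideal.Quotient.mk 𝔞).comp θ.toRingHom
  have hinj : Function.Injective θbar := by
    rw [injective_iff_map_eq_zero]
    intro w hw
    have h1 : θ w ∈ 𝔞 := Ideal.Quotient.eq_zero_iff_mem.mp hw
    rw [h𝔞, Module.mem_annihilator] at h1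
    obtain ⟨p₀, hp₀⟩ := huv
    have h2 := h1 p₀
    have h3 : GrSeg.act k R S M N (Phi k x y w) (u ⊗ₜ[k] v) = 0 := by
      rw [← hp₀, ← hθ w, ← hP.map_smul, h2, map_zero]
    have h4 := eq_zero_of_act_Phi_tmul x y hntu hntv (w : MvPolynomial (Fin dM ⊕ Fin dN) k) h3
    exact Subtype.ext h4
  have hint : θbar.IsIntegral := by
    intro tbar
    obtain ⟨t, rfl⟩ := Ideal.Quotient.mk_surjective tbar
    obtain ⟨p, hpmonic, hp0⟩ :=
      exists_monic_act_eq_zero (x := x) (y := y) BM hBM BN hBN (ψ t)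
    obtain ⟨q, hq, hq0⟩ :=
      exists_monic_W_module 𝒜 ℬ ℳ 𝒩 hD hx hy' (hψdiag t) p hpmonic hp0
    refine ⟨q, hq, ?_⟩
    have h1 := Polynomial.hom_eval₂ q θ.toRingHom (Ideal.Quotient.mk 𝔞) t
    rw [← h1, Ideal.Quotient.eq_zero_iff_mem, h𝔞, Module.mem_annihilator]
    intro p₁
    apply hP.injective
    rw [hP.map_smul, map_zero]
    have h3 := Polynomial.hom_eval₂ q θ.toRingHom ψ.toRingHom t
    have hcomp : ψ.toRingHom.comp θ.toRingHom =
        (Phi k x y).toRingHom.comp (W k dM dN).val.toRingHom := RingHom.ext hθ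
    rw [hcomp] at h3
    have h4 : ψ (Polynomial.eval₂ θ.toRingHom t q) =
        Polynomial.eval₂ ((Phi k x y).toRingHom.comp (W k dM dN).val.toRingHom) (ψ t) q := h3
    rw [h4]
    exact hq0 _ (hφdiag p₁)
  have hdim := Groth.Agent.H54.ringKrullDim_eq_of_ringHom_isIntegral_of_injective θbar hint hinj
  rw [Module.supportDim_eq_ringKrullDim_quotient_annihilator, ← hdim]
  exact ringKrullDim_W k dM dN ⟨0, hdM1⟩ ⟨0, hdN1⟩

end Main

end Groth.Agent.H85.SegreModDim
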