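import Groth.Agent.H85.SegreOneCMA
import Groth.Agent.H85.JidReg

/-!
# Segre products with a one-dimensional factor: a regular sequence on `R # S` (helper85)

`x ∈ R_D` a homogeneous nonzerodivisor, `g_0, …, g_{s-1}` a homogeneous regular sequence on `S`
with `deg g_i = c_i D`.  If `H^1(R)_n = 0` whenever `S_n ≠ 0` (in the elementary form `Cond`), then
the elements `f_i = x^{c_i} ⊗ g_i` form a regular sequence on `T = R # S`.
-/

set_option autoImplicit false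
universe u

namespace Groth.Agent.H85.SegreOneCM

open scoped TensorProduct
open DirectSum Groth.Agent.H85.GradedNN Groth.Agent.H85.GradedCM Groth.Agent.H85.StdGraded
  Groth.Agent.H85.DepthSocle Groth.Agent.H85.SegreRingFacts Groth.Agent.H85.SegreDimOne
  Groth.Agent.H85.SegreGorOne Groth.Agent.H85.GrLCRegSeq Groth.Agent.H85.GrLCRS

section Homog

variable {k : Type*} [Field k] {T : Type u} [CommRing T] [Algebra k T]
  (𝒯 : ℤ → Submodule k T) [GradedAlgebra 𝒯]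

theorem Jid_isHomogeneous' (f : ℕ → T) (i : ℕ)
    (hf : ∀ l, l < i → SetLike.IsHomogeneousElem 𝒯 (f l)) : (Jid f i).IsHomogeneous 𝒯 := by
  induction i with
  | zero => exact Ideal.IsHomogeneous.bot 𝒯
  | succ i ih =>
    rw [Jid_succ]
    refine (ih (fun l hl => hf l (by omega))).sup (Ideal.homogeneous_span 𝒯 _ ?_)
    intro x hx
    rw [Set.mem_singleton_iff] at hx
    rw [hx]
    exact hf i (by omega)

/-- a homogeneous element which is regular on homogeneous elements modulo a homogeneous ideal is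
regular modulo that ideal -/
theorem regular_of_homogeneous (J : Ideal T) (hJ : J.IsHomogeneous 𝒯) {e : ℤ} {f : T}
    (hf : f ∈ 𝒯 e) (h : ∀ n : ℤ, ∀ t ∈ 𝒯 n, f * t ∈ J → t ∈ J) :
    ∀ t : T, f * t ∈ J → t ∈ J := by
  classical
  intro t ht
  rw [← DirectSum.sum_support_decompose 𝒯 t]
  refine Ideal.sum_mem _ fun n _ => ?_
  apply h n _ (SetLike.coe_mem _)
  have h1 := hJ (e + n) ht
  rwa [coe_decompose_mul_add_of_left_mem 𝒯 hf] at h1

end Homog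

section Main

variable {k : Type u} [Field k] {R S : Type u} [CommRing R] [CommRing S] [Algebra k R] [Algebra k S]
  (𝒜 : ℤ → Submodule k R) [GradedAlgebra 𝒜] (ℬ : ℤ → Submodule k S) [GradedAlgebra ℬ]
  {T : Type u} [CommRing T] [Algebra k T] (𝒯 : ℤ → Submodule k T) [GradedAlgebra 𝒯]
  (ψ : T →ₐ[k] R ⊗[k] S) (hψ : Function.Injective ψ)
  (hdegT : ∀ n : ℤ, (𝒯 n).map ψ.toLinearMap =
      Submodule.span k {x : R ⊗[k] S | ∃ a ∈ 𝒜 n, ∃ b ∈ ℬ n, x = a ⊗ₜ[k] b})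

/-- the projection onto the bidegree `(n, n)` part of `R ⊗ S` -/
noncomputable def Pn (n : ℤ) : R ⊗[k] S →ₗ[k] R ⊗[k] S :=
  TensorProduct.map (GradedAlgebra.proj 𝒜 n) (GradedAlgebra.proj ℬ n)

theorem Pn_tmul (n : ℤ) (a : R) (b : S) :
    Pn 𝒜 ℬ n (a ⊗ₜ[k] b) = (decompose 𝒜 a n : R) ⊗ₜ[k] (decompose ℬ b n : S) := rfl

theorem Pn_fix (n : ℤ) (τ : R ⊗[k] S)
    (hτ : τ ∈ Submodule.span k {x : R ⊗[k] S | ∃ a ∈ 𝒜 n, ∃ b ∈ ℬ n, x = a ⊗ₜ[k] b}) :
    Pn 𝒜 ℬ n τ = τ := by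
  induction hτ using Submodule.span_induction with
  | mem τ hτ =>
    obtain ⟨a, ha, b, hb, rfl⟩ := hτ
    rw [Pn_tmul, decompose_of_mem_same 𝒜 ha, decompose_of_mem_same ℬ hb]
  | zero => rw [map_zero]
  | add u v _ _ hu hv => rw [map_add, hu, hv]
  | smul c u _ hu => rw [map_smul, hu]

/-- the `k`-span of the tensors `a ⊗ b` with `b ∈ J` -/
def WJ (J : Ideal S) : Submodule k (R ⊗[k] S) :=
  Submodule.span k {τ : R ⊗[k] S | ∃ a : R, ∃ b ∈ J, τ = a ⊗ₜ[k] b}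

/-- the `k`-span of the tensors `a ⊗ b` with `a ∈ R_n`, `b ∈ S_n ∩ J` -/
def WnJ (n : ℤ) (J : Ideal S) : Submodule k (R ⊗[k] S) :=
  Submodule.span k {τ : R ⊗[k] S | ∃ a ∈ 𝒜 n, ∃ b ∈ ℬ n, b ∈ J ∧ τ = a ⊗ₜ[k] b}

theorem mul_mem_WJ (J : Ideal S) (σ τ : R ⊗[k] S) (hτ : τ ∈ WJ (k := k) (R := R) J) :
    σ * τ ∈ WJ (k := k) (R := R) J := by
  induction hτ using Submodule.span_induction with
  | mem τ hτ =>
    obtain ⟨a, b, hb, rfl⟩ := hτ
    induction σ using TensorProduct.induction_on with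
    | zero => rw [zero_mul]; exact zero_mem _
    | tmul a' b' =>
      rw [Algebra.TensorProduct.tmul_mul_tmul]
      exact Submodule.subset_span ⟨a' * a, b' * b, J.mul_mem_left _ hb, rfl⟩
    | add u v hu hv => rw [add_mul]; exact add_mem hu hv
  | zero => rw [mul_zero]; exact zero_mem _
  | add u v _ _ hu hv => rw [mul_add]; exact add_mem hu hv
  | smul c u _ hu => rw [mul_smul_comm]; exact Submodule.smul_mem _ c hu

theorem ker_le_WJ (J : Ideal S) (τ : R ⊗[k] S)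
    (hτ : Algebra.TensorProduct.map (AlgHom.id k R) (Ideal.Quotient.mkₐ k J) τ = 0) :
    τ ∈ WJ (k := k) (R := R) J := by
  have h1 : τ ∈ RingHom.ker (Algebra.TensorProduct.map (AlgHom.id k R) (Ideal.Quotient.mkₐ k J)) :=
    hτ
  have hk : RingHom.ker (Ideal.Quotient.mkₐ k J) = J := by
    ext z
    rw [RingHom.mem_ker, Ideal.Quotient.mkₐ_eq_mk, Ideal.Quotient.eq_zero_iff_mem]
  rw [Algebra.TensorProduct.lTensor_ker _ (Ideal.Quotient.mkₐ_surjective k J), hk] at h1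
  clear hτ
  unfold Ideal.map Ideal.span at h1
  induction h1 using Submodule.span_induction with
  | mem τ hτ =>
    obtain ⟨b, hb, rfl⟩ := hτ
    exact Submodule.subset_span ⟨1, b, hb, rfl⟩
  | zero => exact zero_mem _
  | add u v _ _ hu hv => exact add_mem hu hv
  | smul σ u _ hu => exact mul_mem_WJ J σ u hu

theorem Pn_mem_WnJ (n : ℤ) (J : Ideal S) (hJ : J.IsHomogeneous ℬ) (τ : R ⊗[k] S)
    (hτ : τ ∈ WJ (k := k) (R := R) J) : Pn 𝒜 ℬ n τ ∈ WnJ 𝒜 ℬ n J := by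
  induction hτ using Submodule.span_induction with
  | mem τ hτ =>
    obtain ⟨a, b, hb, rfl⟩ := hτ
    rw [Pn_tmul]
    exact Submodule.subset_span ⟨_, SetLike.coe_mem _, _, SetLike.coe_mem _, hJ n hb, rfl⟩
  | zero => rw [map_zero]; exact zero_mem _
  | add u v _ _ hu hv => rw [map_add]; exact add_mem hu hv
  | smul c u _ hu => rw [map_smul]; exact Submodule.smul_mem _ c hu

variable {D : ℤ} {x : R} (hx : x ∈ 𝒜 D)
  (g : ℕ → S) (c : ℕ → ℕ) (s : ℕ) (hg : ∀ i, i < s → g i ∈ ℬ ((c i : ℤ) * D))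
  (hc : ∀ i, i < s → 1 ≤ c i)
  (f : ℕ → T) (hfψ : ∀ i, i < s → ψ (f i) = (x ^ c i) ⊗ₜ[k] g i)
  (hC : ∀ n : ℤ, Cond 𝒜 x D n ∨ ℬ n = ⊥)

include hdegT hx hg hc hfψ hC in
theorem exists_mem_Jid_tmul : ∀ i, i ≤ s → ∀ n : ℤ, ∀ b ∈ ℬ n, b ∈ Jid g i → ∀ a ∈ 𝒜 n,
    ∃ t' ∈ Jid f i, ψ t' = a ⊗ₜ[k] b := by
  intro i
  induction i with
  | zero =>
    intro _ n b _ hbJ a _
    rw [Jid_zero, Ideal.mem_bot] at hbJ
    exact ⟨0, zero_mem _, by rw [hbJ, map_zero, TensorProduct.tmul_zero]⟩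
  | succ i ih =>
    intro hi n b hb hbJ a ha
    have his : i < s := hi
    have hJhom : (Jid g i).IsHomogeneous ℬ :=
      Jid_isHomogeneous' ℬ g i (fun l hl => ⟨_, hg l (by omega)⟩)
    obtain ⟨v, hv⟩ := (mem_Jid_succ g i b).mp hbJ
    -- take components of degree `n`
    set u' : S := (decompose ℬ (b - g i * v) n : S) with hu'
    set v' : S := (decompose ℬ v (n - (c i : ℤ) * D) : S) with hv'
    have hu'J : u' ∈ Jid g i := hJhom n hv
    have hu'n : u' ∈ ℬ n := SetLike.coe_mem _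
    have hv'n : v' ∈ ℬ (n - (c i : ℤ) * D) := SetLike.coe_mem _
    have hb_eq : b = u' + g i * v' := by
      have h1 : (decompose ℬ (g i * v) n : S) = g i * v' := by
        have h2 := coe_decompose_mul_add_of_left_mem ℬ (hg i his) (b := v)
          (j := n - (c i : ℤ) * D)
        rwa [show (c i : ℤ) * D + (n - (c i : ℤ) * D) = n by ring] at h2
      rw [hu', decompose_sub, DirectSum.sub_apply, AddSubgroupClass.coe_sub,
        decompose_of_mem_same ℬ hb, h1]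
      ring
    obtain ⟨t₁, ht₁, ht₁ψ⟩ := ih (le_of_lt his) n u' hu'n hu'J a ha
    by_cases hv0 : v' = 0
    · refine ⟨t₁, Jid_mono_succ f i ht₁, ?_⟩
      rw [ht₁ψ, hb_eq, hv0, mul_zero, add_zero]
    · have hne : ℬ (n - (c i : ℤ) * D) ≠ ⊥ := by
        intro hbot
        rw [hbot] at hv'n
        exact hv0 ((Submodule.mem_bot k).mp hv'n)
      have hcond : Cond 𝒜 x D (n - (c i : ℤ) * D) := (hC _).resolve_right hne
      obtain ⟨j, hj⟩ : ∃ j : ℕ, c i = j + 1 := ⟨c i - 1, by have := hc i his; omega⟩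
      have ha' : a ∈ 𝒜 ((n - (c i : ℤ) * D) + ((j : ℤ) + 1) * D) := by
        have : (n - (c i : ℤ) * D) + ((j : ℤ) + 1) * D = n := by rw [hj]; push_cast; ring
        rwa [this]
      obtain ⟨a', ha'n, haa'⟩ := cond_iter 𝒜 hx hcond j a ha'
      obtain ⟨t₂, -, ht₂ψ⟩ := exists_piece 𝒜 ℬ 𝒯 ψ hdegT _ a' v' ha'n hv'n
      refine ⟨t₁ + f i * t₂, add_mem (Jid_mono_succ f i ht₁) ?_, ?_⟩
      · exact Ideal.mul_mem_right _ _ (mem_Jid_self f (i + 1) i (by omega))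
      · rw [map_add, map_mul, ht₁ψ, hfψ i his, ht₂ψ, Algebra.TensorProduct.tmul_mul_tmul, hb_eq,
          TensorProduct.tmul_add, haa', hj]

include hdegT hx hg hc hfψ hC in
theorem exists_mem_Jid_of_mem_WnJ (i : ℕ) (hi : i ≤ s) (n : ℤ) (τ : R ⊗[k] S)
    (hτ : τ ∈ WnJ 𝒜 ℬ n (Jid g i)) : ∃ t' ∈ Jid f i, ψ t' = τ := by
  induction hτ using Submodule.span_induction with
  | mem τ hτ =>
    obtain ⟨a, ha, b, hb, hbJ, rfl⟩ := hτ
    exact exists_mem_Jid_tmul 𝒜 ℬ 𝒯 ψ hdegT hx g c s hg hc f hfψ hC i hi n b hb hbJ a ha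
  | zero => exact ⟨0, zero_mem _, map_zero _⟩
  | add u v _ _ hu hv =>
    obtain ⟨t₁, ht₁, h₁⟩ := hu
    obtain ⟨t₂, ht₂, h₂⟩ := hv
    exact ⟨t₁ + t₂, add_mem ht₁ ht₂, by rw [map_add, h₁, h₂]⟩
  | smul l u _ hu =>
    obtain ⟨t₁, ht₁, h₁⟩ := hu
    refine ⟨l • t₁, ?_, by rw [map_smul, h₁]⟩
    rw [Algebra.smul_def]
    exact Ideal.mul_mem_left _ _ ht₁

include hψ hdegT hx hg hc hfψ hC in
/-- the key lemma: a homogeneous element of `T` vanishing in `R ⊗ S/(g_0..g_{i-1})` lies in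
`(f_0, …, f_{i-1})` -/
theorem mem_Jid_of_map_eq_zero (i : ℕ) (hi : i ≤ s) (n : ℤ) (t : T) (ht : t ∈ 𝒯 n)
    (h0 : Algebra.TensorProduct.map (AlgHom.id k R) (Ideal.Quotient.mkₐ k (Jid g i)) (ψ t) = 0) :
    t ∈ Jid f i := by
  have hJhom : (Jid g i).IsHomogeneous ℬ :=
    Jid_isHomogeneous' ℬ g i (fun l hl => ⟨_, hg l (by omega)⟩)
  have h1 : ψ t ∈ Submodule.span k {x : R ⊗[k] S | ∃ a ∈ 𝒜 n, ∃ b ∈ ℬ n, x = a ⊗ₜ[k] b} := by
    rw [← hdegT n]
    exact ⟨t, ht, rfl⟩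
  have h2 := Pn_mem_WnJ 𝒜 ℬ n (Jid g i) hJhom (ψ t) (ker_le_WJ (Jid g i) (ψ t) h0)
  rw [Pn_fix 𝒜 ℬ n (ψ t) h1] at h2
  obtain ⟨t', ht', ht'ψ⟩ :=
    exists_mem_Jid_of_mem_WnJ 𝒜 ℬ 𝒯 ψ hdegT hx g c s hg hc f hfψ hC i hi n (ψ t) h2
  rw [← hψ ht'ψ]
  exact ht'

include hfψ in
theorem map_eq_zero_of_mem_Jid (i : ℕ) (hi : i ≤ s) (t : T) (ht : t ∈ Jid f i) :
    Algebra.TensorProduct.map (AlgHom.id k R) (Ideal.Quotient.mkₐ k (Jid g i)) (ψ t) = 0 := by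
  have hle : Jid f i ≤ RingHom.ker
      ((Algebra.TensorProduct.map (AlgHom.id k R) (Ideal.Quotient.mkₐ k (Jid g i))).toRingHom.comp
        ψ.toRingHom) := by
    apply Jid_le
    intro l hl
    rw [RingHom.mem_ker]
    change Algebra.TensorProduct.map (AlgHom.id k R) (Ideal.Quotient.mkₐ k (Jid g i)) (ψ (f l)) = 0
    rw [hfψ l (by omega), Algebra.TensorProduct.map_tmul]
    have : Ideal.Quotient.mkₐ k (Jid g i) (g l) = 0 := by
      rw [Ideal.Quotient.mkₐ_eq_mk]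
      exact Ideal.Quotient.eq_zero_iff_mem.mpr (mem_Jid_self g i l hl)
    rw [this, TensorProduct.tmul_zero]
  exact hle ht

variable (hxreg : ∀ r : R, x * r = 0 → r = 0)
  (hgreg : ∀ i, i < s → ∀ r : S, g i * r ∈ Jid g i → r ∈ Jid g i)
  (hfdeg : ∀ i, i < s → f i ∈ 𝒯 ((c i : ℤ) * D))

include hψ hdegT hx hg hc hfψ hC hxreg hgreg hfdeg in
/-- **the regular sequence on the Segre product** -/
theorem segre_regular : ∀ i, i < s → ∀ t : T, f i * t ∈ Jid f i → t ∈ Jid f i := by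
  intro i his
  have hJhom : (Jid f i).IsHomogeneous 𝒯 :=
    Jid_isHomogeneous' 𝒯 f i (fun l hl => ⟨_, hfdeg l (by omega)⟩)
  apply regular_of_homogeneous 𝒯 (Jid f i) hJhom (hfdeg i his)
  intro n t ht hft
  apply mem_Jid_of_map_eq_zero 𝒜 ℬ 𝒯 ψ hψ hdegT hx g c s hg hc f hfψ hC i (le_of_lt his) n t ht
  have h1 := map_eq_zero_of_mem_Jid ψ g c s f hfψ i (le_of_lt his) _ hft
  rw [map_mul, map_mul, hfψ i his, Algebra.TensorProduct.map_tmul] at h1
  have hxc : ∀ r : R, x ^ c i * r = 0 → r = 0 := pow_regular hxreg _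
  have hgi : ∀ r : S ⧸ Jid g i, Ideal.Quotient.mkₐ k (Jid g i) (g i) * r = 0 → r = 0 := by
    intro r hr
    obtain ⟨r, rfl⟩ := Ideal.Quotient.mk_surjective r
    rw [Ideal.Quotient.mkₐ_eq_mk, ← map_mul, Ideal.Quotient.eq_zero_iff_mem] at hr
    exact Ideal.Quotient.eq_zero_iff_mem.mpr (hgreg i his r hr)
  exact tmul_mul_regular (k := k) hxc hgi _ h1

end Main

end Groth.Agent.H85.SegreOneCM
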