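import Groth.Agent.H85.Ord

set_option autoImplicit false
set_option linter.unusedSectionVars false

noncomputable section

open scoped Isocrystal Pointwise

universe u v

namespace Groth.Agent.H85

variable {p : ℕ} [Fact p.Prime] {k : Type u} [Field k] [CharP k p] [PerfectRing k p]

local notation "W" => WittVector p k
local notation "L" => FractionRing (WittVector p k)

variable {N : Type v} [AddCommGroup N] [Module (WittVector p k) N] [Module (FractionRing (WittVector p k)) N]
  [IsScalarTower (WittVector p k) (FractionRing (WittVector p k)) N]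

/-- `G` is additive and semilinear with respect to some twist. -/
def IsSemi (G : N → N) : Prop :=
  ∃ T : Twist p k, (∀ x y, G (x + y) = G x + G y) ∧ ∀ (c : L) (x : N), G (c • x) = T.ρ c • G x

namespace IsSemi

variable {G G₁ G₂ : N → N}

theorem map_add (hG : IsSemi (p := p) (k := k) G) (x y : N) : G (x + y) = G x + G y := by
  obtain ⟨T, h1, h2⟩ := hG
  exact h1 x y

theorem map_zero (hG : IsSemi (p := p) (k := k) G) : G 0 = 0 := by
  have := hG.map_add 0 0
  rw [add_zero] at this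
  exact left_eq_add.mp this

theorem map_neg (hG : IsSemi (p := p) (k := k) G) (x : N) : G (-x) = -G x := by
  have := hG.map_add x (-x)
  rw [add_neg_cancel, hG.map_zero] at this
  exact eq_neg_of_add_eq_zero_right this.symm

theorem map_sub (hG : IsSemi (p := p) (k := k) G) (x y : N) : G (x - y) = G x - G y := by
  rw [sub_eq_add_neg, hG.map_add, hG.map_neg, sub_eq_add_neg]

theorem map_sum (hG : IsSemi (p := p) (k := k) G) {ι : Type*} (s : Finset ι) (f : ι → N) :
    G (∑ i ∈ s, f i) = ∑ i ∈ s, G (f i) := by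
  classical
  induction s using Finset.induction_on with
  | empty => simpa using hG.map_zero
  | insert a s ha ih => rw [Finset.sum_insert ha, Finset.sum_insert ha, hG.map_add, ih]

theorem map_pow_smul (hG : IsSemi (p := p) (k := k) G) (r : ℤ) (x : N) :
    G (((p : L) ^ r) • x) = ((p : L) ^ r) • G x := by
  obtain ⟨T, h1, h2⟩ := hG
  rw [h2, T.map_p_zpow]

theorem id : IsSemi (p := p) (k := k) (id : N → N) :=
  ⟨Twist.one p k, fun _ _ => rfl, fun _ _ => rfl⟩

theorem comp (hG₁ : IsSemi (p := p) (k := k) G₁) (hG₂ : IsSemi (p := p) (k := k) G₂) :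
    IsSemi (p := p) (k := k) (G₁ ∘ G₂) := by
  obtain ⟨T₁, h1, h2⟩ := hG₁
  obtain ⟨T₂, h1', h2'⟩ := hG₂
  refine ⟨T₁.comp T₂, fun x y => ?_, fun c x => ?_⟩
  · simp only [Function.comp_apply, h1', h1]
  · simp only [Function.comp_apply, h2', h2]
    rfl

theorem iterate (hG : IsSemi (p := p) (k := k) G) (n : ℕ) : IsSemi (p := p) (k := k) (G^[n]) := by
  induction n with
  | zero => exact IsSemi.id
  | succ n ih =>
    rw [Function.iterate_succ]
    exact ih.comp hG

theorem const_smul (hG : IsSemi (p := p) (k := k) G) (c : L) :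
    IsSemi (p := p) (k := k) (fun x => c • G x) := by
  obtain ⟨T, h1, h2⟩ := hG
  refine ⟨T, fun x y => ?_, fun d x => ?_⟩
  · simp only [h1, smul_add]
  · simp only [h2, smul_smul, mul_comm]

theorem of_semilinear {a : ℤ} (F : N →ₛₗ[Isoc.frob p k a] N) : IsSemi (p := p) (k := k) (⇑F) :=
  ⟨Twist.frob p k a, fun x y => F.map_add x y, fun c x => F.map_smulₛₗ c x⟩

theorem of_semilinear' {τ : L →+* L} (T : Twist p k) (hT : ∀ c, τ c = T.ρ c) (F : N →ₛₗ[τ] N) :
    IsSemi (p := p) (k := k) (⇑F) :=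
  ⟨T, fun x y => F.map_add x y, fun c x => by rw [F.map_smulₛₗ, hT]⟩

theorem invFun (hG : IsSemi (p := p) (k := k) G) {H : N → N} (h1 : Function.LeftInverse H G)
    (h2 : Function.RightInverse H G) : IsSemi (p := p) (k := k) H := by
  obtain ⟨T, hadd, hsmul⟩ := hG
  refine ⟨T.symm, fun x y => ?_, fun c x => ?_⟩
  · apply h1.injective
    rw [h2, hadd, h2, h2]
  · apply h1.injective
    rw [h2, hsmul, h2]
    simp [Twist.symm]

theorem map_W_smul (hG : IsSemi (p := p) (k := k) G) :
    ∃ ρW : W ≃+* W, ∀ (w : W) (x : N), G (w • x) = ρW w • G x := by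
  obtain ⟨T, hadd, hsmul⟩ := hG
  refine ⟨T.ρW, fun w x => ?_⟩
  rw [← algebraMap_smul L w x, hsmul, T.compat, algebraMap_smul]

end IsSemi

/-! ### `pPow` -/

section pPow

variable (M M₁ M₂ : Submodule (WittVector p k) N)

theorem pPow_def (r : ℤ) : Isoc.pPow r M = ((p : L) ^ r) • M := rfl

theorem mem_pPow {r : ℤ} {x : N} : x ∈ Isoc.pPow r M ↔ ((p : L) ^ (-r)) • x ∈ M := by
  rw [pPow_def, ← SetLike.mem_coe, Submodule.coe_pointwise_smul,
    Set.mem_smul_set_iff_inv_smul_mem₀ (zpow_ne_zero _ pL_ne_zero), zpow_neg]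
  rfl

theorem smul_mem_pPow {r : ℤ} {x : N} (hx : x ∈ M) : ((p : L) ^ r) • x ∈ Isoc.pPow r M :=
  Submodule.smul_mem_pointwise_smul _ _ _ hx

theorem mem_pPow_iff_exists {r : ℤ} {x : N} : x ∈ Isoc.pPow r M ↔ ∃ y ∈ M, ((p : L) ^ r) • y = x :=
  Submodule.mem_smul_pointwise_iff_exists _ _ _

@[simp] theorem pPow_zero : Isoc.pPow 0 M = M := by
  rw [pPow_def, zpow_zero, one_smul]

theorem pPow_pPow (r s : ℤ) : Isoc.pPow r (Isoc.pPow s M) = Isoc.pPow (r + s) M := by
  rw [pPow_def, pPow_def, pPow_def, smul_smul, zpow_add₀ pL_ne_zero]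

theorem pPow_mono {M₁ M₂ : Submodule W N} (r : ℤ) (h : M₁ ≤ M₂) : Isoc.pPow r M₁ ≤ Isoc.pPow r M₂ := by
  intro x hx
  rw [mem_pPow] at hx ⊢
  exact h hx

theorem pPow_le_pPow_iff {M₁ M₂ : Submodule W N} (r : ℤ) :
    Isoc.pPow r M₁ ≤ Isoc.pPow r M₂ ↔ M₁ ≤ M₂ := by
  refine ⟨fun h => ?_, pPow_mono r⟩
  have := pPow_mono (-r) h
  rwa [pPow_pPow, pPow_pPow, neg_add_cancel, pPow_zero, pPow_zero] at this

theorem pPow_le_iff {M₁ M₂ : Submodule W N} (r : ℤ) :
    Isoc.pPow r M₁ ≤ M₂ ↔ M₁ ≤ Isoc.pPow (-r) M₂ := by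
  rw [← pPow_le_pPow_iff (-r), pPow_pPow, neg_add_cancel, pPow_zero]

theorem le_pPow_iff {M₁ M₂ : Submodule W N} (r : ℤ) :
    M₁ ≤ Isoc.pPow r M₂ ↔ Isoc.pPow (-r) M₁ ≤ M₂ := by
  rw [pPow_le_iff, neg_neg]

theorem pPow_one_le : Isoc.pPow 1 M ≤ M := by
  intro x hx
  obtain ⟨y, hy, rfl⟩ := (mem_pPow_iff_exists M).mp hx
  rw [zpow_one]
  have : ((p : L)) • y = (p : W) • y := by
    rw [← algebraMap_smul L (p : W) y, algebraMap_p]
  rw [this]
  exact M.smul_mem _ hy

theorem pPow_natCast_le (n : ℕ) : Isoc.pPow (n : ℤ) M ≤ M := by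
  induction n with
  | zero => simp
  | succ n ih =>
    push_cast
    rw [add_comm, ← pPow_pPow]
    exact (pPow_one_le _).trans ih

theorem pPow_anti {r s : ℤ} (h : s ≤ r) : Isoc.pPow r M ≤ Isoc.pPow s M := by
  obtain ⟨n, hn⟩ := Int.le.dest h
  rw [← hn, add_comm, ← pPow_pPow]
  exact pPow_natCast_le _ n

theorem pPow_sup (r : ℤ) : Isoc.pPow r (M₁ ⊔ M₂) = Isoc.pPow r M₁ ⊔ Isoc.pPow r M₂ :=
  Submodule.smul_sup' _ _ _

theorem pPow_bot (r : ℤ) : Isoc.pPow r (⊥ : Submodule W N) = ⊥ :=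
  Submodule.smul_bot' _

theorem pPow_isLattice {M : Submodule W N} (hM : M.IsLattice L) (r : ℤ) : (Isoc.pPow r M).IsLattice L := by
  have := Submodule.IsLattice.smul (A := L) M (Units.mk0 ((p : L) ^ r) (zpow_ne_zero _ pL_ne_zero))
  exact this

end pPow

/-! ### images -/

/-- the `W`-span of the image of `M` under `G` -/
def img (G : N → N) (M : Submodule W N) : Submodule W N := Submodule.span W (G '' (M : Set N))

theorem latImg_eq_img {τ : L →+* L} (F : N →ₛₗ[τ] N) (s : ℕ) (M : Submodule W N) :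
    Isoc.latImg F s M = img ((⇑F)^[s]) M := rfl

section img

variable {G G₁ G₂ : N → N} {M M₁ M₂ : Submodule (WittVector p k) N}

theorem coe_img (hG : IsSemi (p := p) (k := k) G) (M : Submodule W N) :
    (img G M : Set N) = G '' (M : Set N) := by
  obtain ⟨ρW, hρ⟩ := hG.map_W_smul
  apply le_antisymm
  · intro y hy
    change y ∈ Submodule.span W (G '' (M : Set N)) at hy
    induction hy using Submodule.span_induction with
    | mem y hy => exact hy
    | zero => exact ⟨0, M.zero_mem, hG.map_zero⟩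
    | add y z _ _ hy hz =>
      obtain ⟨a, ha, rfl⟩ := hy
      obtain ⟨b, hb, rfl⟩ := hz
      exact ⟨a + b, M.add_mem ha hb, hG.map_add a b⟩
    | smul w y _ hy =>
      obtain ⟨a, ha, rfl⟩ := hy
      refine ⟨ρW.symm w • a, M.smul_mem _ ha, ?_⟩
      rw [hρ, RingEquiv.apply_symm_apply]
  · exact Submodule.subset_span

theorem mem_img (hG : IsSemi (p := p) (k := k) G) {y : N} : y ∈ img G M ↔ ∃ x ∈ M, G x = y := by
  rw [← SetLike.mem_coe, coe_img hG]
  rfl

theorem apply_mem_img (G : N → N) {x : N} (hx : x ∈ M) : G x ∈ img G M :=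
  Submodule.subset_span ⟨x, hx, rfl⟩

theorem img_mono (G : N → N) (h : M₁ ≤ M₂) : img G M₁ ≤ img G M₂ :=
  Submodule.span_mono (Set.image_mono h)

theorem img_id (M : Submodule W N) : img (id : N → N) M = M := by
  rw [img, Set.image_id, Submodule.span_eq]

theorem img_comp (hG₂ : IsSemi (p := p) (k := k) G₂) (G₁ : N → N) (M : Submodule W N) :
    img (G₁ ∘ G₂) M = img G₁ (img G₂ M) := by
  rw [img, img, coe_img hG₂, Set.image_comp]

theorem img_pPow (hG : IsSemi (p := p) (k := k) G) (r : ℤ) (M : Submodule W N) :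
    img G (Isoc.pPow r M) = Isoc.pPow r (img G M) := by
  ext y
  rw [mem_img hG, mem_pPow, mem_img hG]
  constructor
  · rintro ⟨x, hx, rfl⟩
    rw [mem_pPow] at hx
    exact ⟨_, hx, hG.map_pow_smul _ _⟩
  · rintro ⟨x, hx, hxy⟩
    refine ⟨((p : L) ^ r) • x, smul_mem_pPow M hx, ?_⟩
    rw [hG.map_pow_smul, hxy, smul_smul, ← zpow_add₀ pL_ne_zero, add_neg_cancel, zpow_zero, one_smul]

theorem img_sup (hG : IsSemi (p := p) (k := k) G) (M₁ M₂ : Submodule W N) :
    img G (M₁ ⊔ M₂) = img G M₁ ⊔ img G M₂ := by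
  apply le_antisymm
  · intro y hy
    obtain ⟨x, hx, rfl⟩ := (mem_img hG).mp hy
    obtain ⟨a, ha, b, hb, rfl⟩ := Submodule.mem_sup.mp hx
    rw [hG.map_add]
    exact Submodule.add_mem_sup (apply_mem_img G ha) (apply_mem_img G hb)
  · exact sup_le (img_mono G le_sup_left) (img_mono G le_sup_right)

theorem img_bot (hG : IsSemi (p := p) (k := k) G) : img G (⊥ : Submodule W N) = ⊥ := by
  rw [eq_bot_iff]
  intro y hy
  obtain ⟨x, hx, rfl⟩ := (mem_img hG).mp hy
  rw [(Submodule.mem_bot W).mp hx, hG.map_zero]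
  exact Submodule.zero_mem _

theorem img_const_smul (G : N → N) (r : ℤ) (M : Submodule W N) :
    img (fun x => ((p : L) ^ r) • G x) M = Isoc.pPow r (img G M) := by
  have h1 : IsSemi (p := p) (k := k) (fun x : N => ((p : L) ^ r) • x) := (IsSemi.id).const_smul _
  have h2 : (fun x => ((p : L) ^ r) • G x) = (fun x : N => ((p : L) ^ r) • x) ∘ G := rfl
  rw [h2, img, Set.image_comp]
  apply le_antisymm
  · rw [Submodule.span_le]
    rintro _ ⟨y, hy, rfl⟩
    exact smul_mem_pPow _ (Submodule.subset_span hy)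
  · intro y hy
    obtain ⟨z, hz, rfl⟩ := (mem_pPow_iff_exists _).mp hy
    change z ∈ Submodule.span W (G '' (M : Set N)) at hz
    clear hy
    induction hz using Submodule.span_induction with
    | mem z hz => exact Submodule.subset_span ⟨z, hz, rfl⟩
    | zero => rw [smul_zero]; exact Submodule.zero_mem _
    | add a b _ _ ha hb => rw [smul_add]; exact Submodule.add_mem _ ha hb
    | smul w a _ ha => rw [smul_comm]; exact Submodule.smul_mem _ _ ha

theorem img_fg (hG : IsSemi (p := p) (k := k) G) (hM : M.FG) : (img G M).FG := by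
  obtain ⟨ρW, hρ⟩ := hG.map_W_smul
  obtain ⟨S, hS⟩ := hM
  classical
  refine ⟨S.image G, ?_⟩
  apply le_antisymm
  · rw [Submodule.span_le]
    rintro _ hy
    rw [Finset.coe_image] at hy
    obtain ⟨x, hx, rfl⟩ := hy
    exact apply_mem_img G (hS ▸ Submodule.subset_span hx)
  · intro y hy
    obtain ⟨x, hx, rfl⟩ := (mem_img hG).mp hy
    rw [← hS] at hx
    clear hy
    induction hx using Submodule.span_induction with
    | mem z hz =>
      apply Submodule.subset_span
      rw [Finset.coe_image]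
      exact ⟨z, hz, rfl⟩
    | zero => rw [hG.map_zero]; exact Submodule.zero_mem _
    | add a b _ _ ha hb => rw [hG.map_add]; exact Submodule.add_mem _ ha hb
    | smul w a _ ha => rw [hρ]; exact Submodule.smul_mem _ _ ha

theorem span_img_eq_top (hG : IsSemi (p := p) (k := k) G) (hsurj : Function.Surjective G)
    (hM : Submodule.span L (M : Set N) = ⊤) : Submodule.span L (img G M : Set N) = ⊤ := by
  obtain ⟨T, hadd, hsmul⟩ := hG
  rw [eq_top_iff]
  intro y _
  obtain ⟨x, rfl⟩ := hsurj y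
  have hx : x ∈ Submodule.span L (M : Set N) := by rw [hM]; trivial
  induction hx using Submodule.span_induction with
  | mem z hz => exact Submodule.subset_span (apply_mem_img G hz)
  | zero =>
    rw [IsSemi.map_zero ⟨T, hadd, hsmul⟩]; exact Submodule.zero_mem _
  | add a b _ _ ha hb => rw [hadd]; exact Submodule.add_mem _ (ha trivial) (hb trivial)
  | smul c a _ ha => rw [hsmul]; exact Submodule.smul_mem _ _ (ha trivial)

theorem img_isLattice (hG : IsSemi (p := p) (k := k) G) (hsurj : Function.Surjective G)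
    (hM : M.IsLattice L) : (img G M).IsLattice L :=
  ⟨img_fg hG hM.fg, span_img_eq_top hG hsurj hM.span_eq_top⟩

end img

end Groth.Agent.H85
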