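import Mathlib
import Groth.Agent.H36.DetLength

/-!
# Length of the cokernel of a (semi)linear map of free modules over a DVR is `v(det)`
-/

set_option autoImplicit false
universe u v

namespace Groth.Agent.H85.SemiCokerLength

open Groth.Agent.H36.DetLength

section dvr

variable {B : Type u} [CommRing B] [IsDomain B] [IsDiscreteValuationRing B]

theorem length_self_eq_top : Module.length B B = ⊤ := by
  by_contra h
  rw [← ne_eq, Module.length_ne_top_iff, isFiniteLength_iff_isNoetherian_isArtinian] at h
  have : IsArtinianRing B := h.2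
  exact IsDiscreteValuationRing.not_isField B (IsArtinianRing.isField_of_isDomain B)

theorem ord_eq_addVal (d : B) : Ring.ord B d = IsDiscreteValuationRing.addVal B d := by
  by_cases hd : d = 0
  · rw [hd, Ring.ord_zero, length_self_eq_top, IsDiscreteValuationRing.addVal_zero]
  · obtain ⟨ϖ, hϖ⟩ := IsDiscreteValuationRing.exists_irreducible B
    obtain ⟨n, u, rfl⟩ := IsDiscreteValuationRing.eq_unit_mul_pow_irreducible hd hϖ
    have hnz : ϖ ∈ nonZeroDivisors B := mem_nonZeroDivisors_of_ne_zero hϖ.ne_zero
    rw [Ring.ord_mul_of_isUnit_left u.isUnit, Ring.ord_pow hnz, Ring.ord_of_irreducible hϖ,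
      IsDiscreteValuationRing.addVal_def' u hϖ n]
    simp

variable {r : ℕ}

theorem cl_eq_top_of_det_eq_zero (Mx : Matrix (Fin r) (Fin r) B) (h : Mx.det = 0) :
    cl Mx = ⊤ := by
  obtain ⟨w, hw0, hw⟩ := Matrix.exists_vecMul_eq_zero_iff.mpr h
  let ℓ : (Fin r → B) →ₗ[B] B :=
    { toFun := fun v => w ⬝ᵥ v
      map_add' := fun x y => dotProduct_add w x y
      map_smul' := fun c x => by simp [dotProduct_smul] }
  have hℓ : LinearMap.range Mx.mulVecLin ≤ LinearMap.ker ℓ := by
    rintro _ ⟨v, rfl⟩
    rw [LinearMap.mem_ker]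
    change w ⬝ᵥ (Mx.mulVec v) = 0
    rw [Matrix.dotProduct_mulVec, hw, zero_dotProduct]
  let ℓ' : ((Fin r → B) ⧸ LinearMap.range Mx.mulVecLin) →ₗ[B] B :=
    (LinearMap.range Mx.mulVecLin).liftQ ℓ hℓ
  obtain ⟨a, ha⟩ : ∃ a, w a ≠ 0 := by
    by_contra hcon
    push Not at hcon
    exact hw0 (funext hcon)
  let q : (Fin r → B) ⧸ LinearMap.range Mx.mulVecLin :=
    Submodule.Quotient.mk (Pi.single a 1)
  have hq : ℓ' q = w a := by
    change w ⬝ᵥ (Pi.single a 1) = w a
    simp
  let j : B →ₗ[B] (Fin r → B) ⧸ LinearMap.range Mx.mulVecLin :=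
    LinearMap.toSpanSingleton B _ q
  have hj : Function.Injective j := by
    rw [← LinearMap.ker_eq_bot, LinearMap.ker_eq_bot']
    intro b hb
    have : ℓ' (j b) = 0 := by rw [hb, map_zero]
    change ℓ' (b • q) = 0 at this
    rw [map_smul, hq, smul_eq_mul, mul_eq_zero] at this
    exact this.resolve_right ha
  have := Module.length_le_of_injective j hj
  rw [length_self_eq_top] at this
  unfold cl
  exact top_le_iff.mp this

theorem cl_eq_addVal_det (Mx : Matrix (Fin r) (Fin r) B) :
    cl Mx = IsDiscreteValuationRing.addVal B Mx.det := by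
  by_cases h : Mx.det = 0
  · rw [cl_eq_top_of_det_eq_zero Mx h, h, IsDiscreteValuationRing.addVal_zero]
  · rw [cl_eq_ord_det Mx (mem_nonZeroDivisors_of_ne_zero h), ord_eq_addVal]

end dvr


section single

variable {B : Type u} [CommRing B] (ω : B ≃+* B) {r : ℕ}
  {M N : Type v} [AddCommGroup M] [Module B M] [AddCommGroup N] [Module B N]
  (bM : Module.Basis (Fin r) B M) (bN : Module.Basis (Fin r) B N)
  (χ : M →+ N) (hχ : ∀ (b : B) (x : M), χ (b • x) = ω b • χ x)

/-- The matrix of `χ`. -/
noncomputable def mat : Matrix (Fin r) (Fin r) B := Matrix.of fun a c => bN.repr (χ (bM c)) a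

theorem equivFun_sum (v : Fin r → B) :
    bN.equivFun (∑ c, v c • χ (bM c)) = (mat bM bN χ).mulVec v := by
  ext a
  rw [map_sum, Finset.sum_apply]
  simp only [map_smul, Pi.smul_apply, smul_eq_mul, Module.Basis.equivFun_apply, Matrix.mulVec,
    dotProduct, mat, Matrix.of_apply]
  exact Finset.sum_congr rfl (fun c _ => mul_comm _ _)

include hχ in
theorem chi_eq_sum (x : M) : χ x = ∑ c, ω (bM.repr x c) • χ (bM c) := by
  conv_lhs => rw [← bM.sum_repr x]
  rw [map_sum]
  exact Finset.sum_congr rfl (fun c _ => hχ _ _)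

include hχ in
theorem map_span_range :
    Submodule.map (bN.equivFun : N →ₗ[B] (Fin r → B)) (Submodule.span B (Set.range χ)) =
      LinearMap.range (mat bM bN χ).mulVecLin := by
  apply le_antisymm
  · rw [Submodule.map_span_le]
    rintro _ ⟨x, rfl⟩
    refine ⟨fun c => ω (bM.repr x c), ?_⟩
    rw [Matrix.mulVecLin_apply, ← equivFun_sum, ← chi_eq_sum ω bM χ hχ x]
    rfl
  · rintro _ ⟨v, rfl⟩
    rw [Matrix.mulVecLin_apply, ← equivFun_sum]
    refine ⟨_, ?_, rfl⟩
    exact Submodule.sum_mem _ (fun c _ => Submodule.smul_mem _ _ (Submodule.subset_span ⟨bM c, rfl⟩))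

include hχ in
theorem length_quot_eq_cl :
    Module.length B (N ⧸ Submodule.span B (Set.range χ)) = cl (mat bM bN χ) := by
  unfold cl
  exact (Submodule.Quotient.equiv _ _ bN.equivFun (map_span_range ω bM bN χ hχ)).length_eq

end single

section pi

variable {B : Type u} [CommRing B] {n : ℕ}
  {M N : Fin n → Type v} [∀ i, AddCommGroup (M i)] [∀ i, Module B (M i)]
  [∀ i, AddCommGroup (N i)] [∀ i, Module B (N i)]
  (χ : ∀ i, M i →+ N i)

theorem span_range_pi :
    Submodule.span B (Set.range (fun (x : ∀ i, M i) (i : Fin n) => χ i (x i))) =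
      Submodule.pi Set.univ (fun i => Submodule.span B (Set.range (χ i))) := by
  apply le_antisymm
  · rw [Submodule.span_le]
    rintro _ ⟨x, rfl⟩ i _
    exact Submodule.subset_span ⟨x i, rfl⟩
  · intro y hy
    rw [← Finset.univ_sum_single y]
    refine Submodule.sum_mem _ (fun j _ => ?_)
    have hyj : y j ∈ Submodule.span B (Set.range (χ j)) := hy j (Set.mem_univ j)
    have : ∀ z ∈ Submodule.span B (Set.range (χ j)),
        (Pi.single j z : ∀ i, N i) ∈
          Submodule.span B (Set.range (fun (x : ∀ i, M i) (i : Fin n) => χ i (x i))) := by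
      intro z hz
      induction hz using Submodule.span_induction with
      | mem z hz =>
        obtain ⟨m, rfl⟩ := hz
        refine Submodule.subset_span ⟨Pi.single j m, ?_⟩
        funext i
        by_cases hij : i = j
        · subst hij; simp
        · simp [Pi.single_eq_of_ne hij]
      | zero => simp
      | add a b _ _ ha hb =>
        rw [Pi.single_add]
        exact Submodule.add_mem _ ha hb
      | smul c a _ ha =>
        rw [Pi.single_smul]
        exact Submodule.smul_mem _ _ ha
    exact this _ hyj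

theorem length_quot_pi :
    Module.length B ((∀ i, N i) ⧸
        Submodule.span B (Set.range (fun (x : ∀ i, M i) (i : Fin n) => χ i (x i)))) =
      ∑ i, Module.length B (N i ⧸ Submodule.span B (Set.range (χ i))) := by
  rw [span_range_pi]
  rw [(Submodule.quotientPi (fun i => Submodule.span B (Set.range (χ i)))).length_eq]
  exact Module.length_pi_of_fintype B _

end pi

section main

variable {B : Type u} [CommRing B] [IsDomain B] [IsDiscreteValuationRing B]

theorem addVal_prod {ι : Type*} (s : Finset ι) (f : ι → B) :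
    IsDiscreteValuationRing.addVal B (∏ i ∈ s, f i) =
      ∑ i ∈ s, IsDiscreteValuationRing.addVal B (f i) := by
  classical
  induction s using Finset.induction_on with
  | empty => simp
  | insert a s ha ih =>
    rw [Finset.prod_insert ha, Finset.sum_insert ha, IsDiscreteValuationRing.addVal_mul, ih]

theorem main (ω : B ≃+* B) {n : ℕ} (r : Fin n → ℕ)
    (M N : Fin n → Type v) [∀ i, AddCommGroup (M i)] [∀ i, Module B (M i)]
    [∀ i, AddCommGroup (N i)] [∀ i, Module B (N i)]
    (bM : ∀ i, Module.Basis (Fin (r i)) B (M i)) (bN : ∀ i, Module.Basis (Fin (r i)) B (N i))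
    (χ : ∀ i, M i →+ N i) (hχ : ∀ i (b : B) (x : M i), χ i (b • x) = ω b • χ i x) :
    Module.length B ((∀ i, N i) ⧸ Submodule.span B (Set.range (fun (x : ∀ i, M i) (i : Fin n) => χ i (x i)))) =
      IsDiscreteValuationRing.addVal B (∏ i, Matrix.det
        (Matrix.of fun (a c : Fin (r i)) => (bN i).repr (χ i (bM i c)) a)) := by
  rw [length_quot_pi, addVal_prod]
  refine Finset.sum_congr rfl (fun i _ => ?_)
  rw [length_quot_eq_cl ω (bM i) (bN i) (χ i) (hχ i), cl_eq_addVal_det]
  rfl

end main

end Groth.Agent.H85.SemiCokerLength
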