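import Mathlib
import Groth.Agent.H85.SerreMain
import Groth.Agent.H85.GrLCBase
import Groth.Agent.H98.GrHt.StarLocalDim

/-!
# The Grothendieck–Serre formula for Cohen–Macaulay standard graded rings (helper85)

`H_R(n) - P_R(n) = (-1)^d ℓ(*H^d_m(R)_n)`, hence `a(R) = sup {n | P_R(n) ≠ H_R(n)}`.
-/

set_option autoImplicit false
set_option linter.unusedSectionVars false
set_option linter.unusedVariables false

universe u

namespace Groth.Agent.H85.Serre

open DirectSum Groth.Agent.H98.GrStar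

section Zero

variable {R : Type u} [CommRing R] [IsNoetherianRing R]
  {𝒜 : ℤ → AddSubgroup R} [GradedRing 𝒜]
variable {M : Type u} [AddCommGroup M] [Module R M] {ℳ : ℤ → AddSubgroup M}
  [DirectSum.Decomposition ℳ] [SetLike.GradedSMul 𝒜 ℳ]

omit [IsNoetherianRing R] in
/-- a piece of finite length vanishes iff its length is zero -/
theorem toNat_length_eq_zero_iff (a : HomogeneousIdeal 𝒜) (E : GrLC.StarInjRes 𝒜 ℳ) (i : ℕ) (n : ℤ)
    (hfin : Module.length (GrLC.deg0 𝒜) (E.Hcomp a i n) ≠ ⊤) :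
    (Module.length (GrLC.deg0 𝒜) (E.Hcomp a i n)).toNat = 0 ↔ E.Hgr a i n = ⊥ := by
  rw [ENat.toNat_eq_zero]
  constructor
  · rintro (h | h)
    · rw [Module.length_eq_zero_iff] at h
      rw [eq_bot_iff]
      intro x hx
      have : (⟨x, hx⟩ : E.Hcomp a i n) = 0 := Subsingleton.elim _ _
      exact (AddSubgroup.mem_bot).mpr (congrArg Subtype.val this)
    · exact absurd h hfin
  · intro h
    left
    rw [Module.length_eq_zero_iff]
    refine ⟨fun x y => Subtype.ext ?_⟩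
    have hx : x.1 ∈ E.Hgr a i n := x.2
    have hy : y.1 ∈ E.Hgr a i n := y.2
    rw [h, AddSubgroup.mem_bot] at hx hy
    rw [hx, hy]

end Zero

section CM

variable {R : Type u} [CommRing R] [hCM : LocCoh.IsCohenMacaulayRing R]
  {𝒜 : ℤ → AddSubgroup R} [GradedRing 𝒜] [IsArtinianRing (GrLC.deg0 𝒜)]
  (hpos : ∀ n : ℤ, n < 0 → 𝒜 n = ⊥)
  (hstd : Ideal.span (⋃ n ∈ Set.Ioi (0 : ℤ), (𝒜 n : Set R)) =
    Ideal.span ((𝒜 1 : AddSubgroup R) : Set R))
  (m : HomogeneousIdeal 𝒜) (hm : GrLC.IsStarLocal 𝒜 m)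
  (d : ℕ) (hd : ringKrullDim R = d)

include hpos hstd hm hd in
/-- the Cohen–Macaulay case of the Grothendieck–Serre formula -/
theorem serre_formula_cm (I : GrLC.StarInjRes 𝒜 𝒜) (P : Polynomial ℚ)
    (hP : ∃ N : ℤ, ∀ n : ℤ, N ≤ n → P.eval (n : ℚ) =
      ((Module.length (GrLC.deg0 𝒜) (GrLC.comp 𝒜 𝒜 n)).toNat : ℚ)) (n : ℤ) :
    ((Module.length (GrLC.deg0 𝒜) (GrLC.comp 𝒜 𝒜 n)).toNat : ℚ) - P.eval (n : ℚ) =
      (-1 : ℚ) ^ d * ((Module.length (GrLC.deg0 𝒜) (I.Hcomp m d n)).toNat : ℚ) := by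
  haveI hmax : m.toIdeal.IsMaximal := Groth.Agent.H98.GrHt.isMaximal_of_isStarLocal 𝒜 hpos hm
  rw [serre_formula hpos m hm d hd hstd 𝒜 I P hP n, Finset.sum_range_succ]
  rw [Finset.sum_eq_zero, zero_add]
  intro i hi
  have hi' : i < d := Finset.mem_range.mp hi
  have hsub := Groth.Agent.H85.GrLCBase.subsingleton_H_of_cm 𝒜 m hm d hd I i hi'
  have : Subsingleton (I.Hcomp m i n) := ⟨fun x y => Subtype.ext (Subsingleton.elim _ _)⟩
  rw [Module.length_eq_zero]
  simp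

include hpos hstd hm hd in
/-- the `a`-invariant is the last degree in which Hilbert function and polynomial differ -/
theorem endDeg_eq_iSup (I : GrLC.StarInjRes 𝒜 𝒜) (P : Polynomial ℚ)
    (hP : ∃ N : ℤ, ∀ n : ℤ, N ≤ n → P.eval (n : ℚ) =
      ((Module.length (GrLC.deg0 𝒜) (GrLC.comp 𝒜 𝒜 n)).toNat : ℚ)) :
    GrLC.endDeg (I.Hgr m d) = ⨆ (n : ℤ) (_ : P.eval (n : ℚ) ≠
      ((Module.length (GrLC.deg0 𝒜) (GrLC.comp 𝒜 𝒜 n)).toNat : ℚ)),
        ((n : WithTop ℤ) : WithBot (WithTop ℤ)) := by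
  unfold GrLC.endDeg
  refine iSup_congr fun n => ?_
  refine iSup_congr_Prop ?_ (fun _ => rfl)
  have hfin : Module.length (GrLC.deg0 𝒜) (I.Hcomp m d n) ≠ ⊤ :=
    length_Hcomp_ne_top hpos m hm.1 I d n
  have hkey := serre_formula_cm hpos hstd m hm d hd I P hP n
  rw [← not_iff_not, not_not, not_not, ← toNat_length_eq_zero_iff m I d n hfin]
  constructor
  · intro h
    rw [h] at hkey
    simp only [Nat.cast_zero, mul_zero] at hkey
    linarith
  · intro h
    rw [h, sub_self] at hkey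
    have h2 : ((Module.length (GrLC.deg0 𝒜) (I.Hcomp m d n)).toNat : ℚ) = 0 := by
      have hne : (-1 : ℚ) ^ d ≠ 0 := pow_ne_zero _ (by norm_num)
      rcases mul_eq_zero.mp hkey.symm with h3 | h3
      · exact absurd h3 hne
      · exact h3
    exact_mod_cast h2

end CM

end Groth.Agent.H85.Serre
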