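import Groth.Agent.H85.Lattice
import Mathlib.Analysis.Subadditive
import Mathlib.Analysis.SpecificLimits.Basic

set_option autoImplicit false
set_option linter.unusedSectionVars false

noncomputable section

open scoped Isocrystal Pointwise
open Filter Topology

universe u v

namespace Groth.Agent.H85

variable {p : ℕ} [Fact p.Prime] {k : Type u} [Field k] [CharP k p] [PerfectRing k p]

local notation "W" => WittVector p k
local notation "L" => FractionRing (WittVector p k)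

variable {N : Type v} [AddCommGroup N] [Module (WittVector p k) N] [Module (FractionRing (WittVector p k)) N]
  [IsScalarTower (WittVector p k) (FractionRing (WittVector p k)) N]

variable {M M₁ M₂ : Submodule (WittVector p k) N} {G G₁ G₂ : N → N}

theorem img_le_pPow_comp (hG₁ : IsSemi (p := p) (k := k) G₁) (hG₂ : IsSemi (p := p) (k := k) G₂)
    {a b : ℤ} (h₁ : img G₁ M ≤ Isoc.pPow a M) (h₂ : img G₂ M ≤ Isoc.pPow b M) :
    img (G₁ ∘ G₂) M ≤ Isoc.pPow (a + b) M := by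
  rw [img_comp hG₂]
  refine (img_mono G₁ h₂).trans ?_
  rw [img_pPow hG₁, add_comm, ← pPow_pPow]
  exact pPow_mono _ h₁

theorem pPow_le_img_comp (hG₁ : IsSemi (p := p) (k := k) G₁) (hG₂ : IsSemi (p := p) (k := k) G₂)
    {a b : ℤ} (h₁ : Isoc.pPow a M ≤ img G₁ M) (h₂ : Isoc.pPow b M ≤ img G₂ M) :
    Isoc.pPow (a + b) M ≤ img (G₁ ∘ G₂) M := by
  rw [img_comp hG₂]
  refine le_trans ?_ (img_mono G₁ h₂)
  rw [img_pPow hG₁, add_comm, ← pPow_pPow]
  exact pPow_mono _ h₁

theorem img_iterate_le (hG : IsSemi (p := p) (k := k) G) {a : ℤ} (h : img G M ≤ Isoc.pPow a M) (n : ℕ) :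
    img (G^[n]) M ≤ Isoc.pPow (n * a) M := by
  induction n with
  | zero => simp [img_id]
  | succ n ih =>
    rw [Function.iterate_succ]
    have := img_le_pPow_comp (hG.iterate n) hG ih h
    convert this using 2
    push_cast; ring

theorem pPow_le_img_iterate (hG : IsSemi (p := p) (k := k) G) {a : ℤ} (h : Isoc.pPow a M ≤ img G M) (n : ℕ) :
    Isoc.pPow (n * a) M ≤ img (G^[n]) M := by
  induction n with
  | zero => simp [img_id]
  | succ n ih =>
    rw [Function.iterate_succ]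
    have := pPow_le_img_comp (hG.iterate n) hG ih h
    convert this using 2
    push_cast; ring

theorem img_iterate_eq (hG : IsSemi (p := p) (k := k) G) {a : ℤ} (h : img G M = Isoc.pPow a M) (n : ℕ) :
    img (G^[n]) M = Isoc.pPow (n * a) M :=
  le_antisymm (img_iterate_le hG h.le n) (pPow_le_img_iterate hG h.ge n)

theorem ordG_of_eq [Nontrivial N] (hM : M.IsLattice L) {a : ℤ} (h : img G M = Isoc.pPow a M) :
    OrdG M G a := by
  refine ⟨h.le, fun h' => ?_⟩
  rw [h] at h'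
  have := le_of_pPow_le_pPow hM h'
  omega

theorem ordG_add_le (hG₁ : IsSemi (p := p) (k := k) G₁) (hG₂ : IsSemi (p := p) (k := k) G₂)
    {a b c : ℤ} (h₁ : OrdG M G₁ a) (h₂ : OrdG M G₂ b) (h : OrdG M (G₁ ∘ G₂) c) : a + b ≤ c :=
  h.le_of (img_le_pPow_comp hG₁ hG₂ h₁.1 h₂.1)

/-- comparison of orders with respect to two lattices -/
theorem ordG_compare (hG : IsSemi (p := p) (k := k) G) {c c' : ℤ}
    (h12 : Isoc.pPow c M₁ ≤ M₂) (h21 : Isoc.pPow c' M₂ ≤ M₁) {r₁ r₂ : ℤ}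
    (h₁ : OrdG M₁ G r₁) (h₂ : OrdG M₂ G r₂) : r₂ - c - c' ≤ r₁ := by
  apply h₁.le_of
  have h1 : img G (Isoc.pPow c M₁) ≤ Isoc.pPow r₂ M₂ := (img_mono G h12).trans h₂.1
  rw [img_pPow hG, pPow_le_iff, pPow_pPow] at h1
  refine h1.trans ?_
  rw [pPow_le_iff, pPow_pPow]
  have : -(-c + r₂) + (r₂ - c - c') = -c' := by ring
  rw [this, ← pPow_le_iff]
  exact h21

/-! ### Real limits -/

theorem limit_unique_of_bounded_diff (a b : ℕ → ℤ) (C : ℤ) (h : ∀ n : ℕ, 1 ≤ n → |a n - b n| ≤ C)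
    {l₁ l₂ : ℝ} (ha : Tendsto (fun n : ℕ => (a n : ℝ) / n) atTop (𝓝 l₁))
    (hb : Tendsto (fun n : ℕ => (b n : ℝ) / n) atTop (𝓝 l₂)) : l₁ = l₂ := by
  have hdiff : Tendsto (fun n : ℕ => (a n : ℝ) / n - (b n : ℝ) / n) atTop (𝓝 (l₁ - l₂)) := ha.sub hb
  have hzero : Tendsto (fun n : ℕ => (a n : ℝ) / n - (b n : ℝ) / n) atTop (𝓝 0) := by
    apply squeeze_zero_norm' (a := fun n : ℕ => (C : ℝ) / n)
    · filter_upwards [eventually_ge_atTop 1] with n hn
      have hn' : (0 : ℝ) < n := by exact_mod_cast hn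
      rw [← sub_div, Real.norm_eq_abs, abs_div, abs_of_pos hn']
      apply div_le_div_of_nonneg_right _ hn'.le
      have := h n hn
      exact_mod_cast this
    · exact tendsto_const_div_atTop_nhds_zero_nat (C : ℝ)
  have := tendsto_nhds_unique hdiff hzero
  linarith

/-- Fekete's lemma for superadditive integer sequences bounded above linearly -/
theorem superadditive_tendsto (o : ℕ → ℤ) (h0 : o 0 = 0) (hsup : ∀ m n : ℕ, o m + o n ≤ o (m + n))
    (c : ℤ) (hc : 0 ≤ c) (hbd : ∀ n : ℕ, o n ≤ n * c) :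
    ∃ lam : ℝ, Tendsto (fun n : ℕ => (o n : ℝ) / n) atTop (𝓝 lam) := by
  let u : ℕ → ℝ := fun n => -(o n : ℝ)
  have hu : Subadditive u := by
    intro m n
    simp only [u]
    have := hsup m n
    have h' : ((o m + o n : ℤ) : ℝ) ≤ ((o (m + n) : ℤ) : ℝ) := by exact_mod_cast this
    push_cast at h'
    linarith
  have hbdd : BddBelow (Set.range fun n => u n / n) := by
    refine ⟨-(c : ℝ), ?_⟩
    rintro _ ⟨n, rfl⟩
    simp only [u]
    rcases Nat.eq_zero_or_pos n with rfl | hn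
    · simp only [h0, Int.cast_zero, neg_zero, Nat.cast_zero, div_zero, Left.neg_nonpos_iff]
      exact_mod_cast hc
    · have hn' : (0 : ℝ) < n := by exact_mod_cast hn
      rw [le_div_iff₀ hn']
      have := hbd n
      have h' : ((o n : ℤ) : ℝ) ≤ ((n * c : ℤ) : ℝ) := by exact_mod_cast this
      push_cast at h'
      linarith
  refine ⟨-hu.lim, ?_⟩
  have := (hu.tendsto_lim hbdd).neg
  refine this.congr fun n => ?_
  simp only [u]
  ring

/-! ### existence of orders and of the limit -/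

theorem exists_ord_tendsto [Nontrivial N] (hG : IsSemi (p := p) (k := k) G)
    (hsurj : Function.Surjective G) (hM : M.IsLattice L) :
    ∃ o : ℕ → ℤ, (∀ n : ℕ, OrdG M (G^[n]) (o n)) ∧
      ∃ lam : ℝ, Tendsto (fun n : ℕ => (o n : ℝ) / n) atTop (𝓝 lam) := by
  have hex : ∀ n : ℕ, ∃ r : ℤ, OrdG M (G^[n]) r := fun n =>
    exists_ordG (hG.iterate n) (hsurj.iterate n) hM
  choose o ho using hex
  refine ⟨o, ho, ?_⟩
  have h0 : o 0 = 0 := by
    have h1 : OrdG M (G^[0]) 0 := by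
      apply ordG_of_eq hM
      rw [Function.iterate_zero, img_id, pPow_zero]
    exact (ho 0).unique h1
  have hGM := img_isLattice hG hsurj hM
  obtain ⟨c, hc⟩ := exists_pPow_le hM.fg hGM.span_eq_top
  apply superadditive_tendsto o h0 _ c (by positivity)
  · intro n
    have h1 := pPow_le_img_iterate hG hc n
    exact le_of_pPow_le_pPow hM (h1.trans (ho n).1)
  · intro m n
    have h := ho (m + n)
    rw [Function.iterate_add] at h
    exact ordG_add_le (hG.iterate m) (hG.iterate n) (ho m) (ho n) h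

theorem slope_unique (hG : IsSemi (p := p) (k := k) G)
    (hM₁ : M₁.IsLattice L) (hM₂ : M₂.IsLattice L)
    (o₁ o₂ : ℕ → ℤ) (ho₁ : ∀ n : ℕ, 1 ≤ n → OrdG M₁ (G^[n]) (o₁ n))
    (ho₂ : ∀ n : ℕ, 1 ≤ n → OrdG M₂ (G^[n]) (o₂ n)) {lam₁ lam₂ : ℝ}
    (h₁ : Tendsto (fun n : ℕ => (o₁ n : ℝ) / n) atTop (𝓝 lam₁))
    (h₂ : Tendsto (fun n : ℕ => (o₂ n : ℝ) / n) atTop (𝓝 lam₂)) : lam₁ = lam₂ := by
  obtain ⟨c, hc⟩ := exists_pPow_le hM₁.fg hM₂.span_eq_top
  obtain ⟨c', hc'⟩ := exists_pPow_le hM₂.fg hM₁.span_eq_top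
  apply limit_unique_of_bounded_diff o₁ o₂ (c + c') _ h₁ h₂
  intro n hn
  have ha := ordG_compare (hG.iterate n) hc hc' (ho₁ n hn) (ho₂ n hn)
  have hb := ordG_compare (hG.iterate n) hc' hc (ho₂ n hn) (ho₁ n hn)
  rw [abs_le]
  constructor <;> omega

end Groth.Agent.H85
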