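import Groth.Agent.H85.Decomp
import Groth.Agent.H85.Block

set_option autoImplicit false
set_option linter.unusedSectionVars false

noncomputable section

open scoped Isocrystal Pointwise
open Filter Topology Module DirectSum

universe u v v'

namespace Groth.Agent.H85

variable {p : ℕ} [Fact p.Prime] {k : Type u} [Field k] [CharP k p] [PerfectRing k p]

local notation "W" => WittVector p k
local notation "L" => FractionRing (WittVector p k)

variable {N : Type v} [AddCommGroup N] [Module (WittVector p k) N] [Module (FractionRing (WittVector p k)) N]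
  [IsScalarTower (WittVector p k) (FractionRing (WittVector p k)) N]

theorem isOrdP_prod {ι : Type*} (s : Finset ι) (c : ι → L) (r : ι → ℤ)
    (h : ∀ i ∈ s, Isoc.IsOrdP (c i) (r i)) : Isoc.IsOrdP (∏ i ∈ s, c i) (∑ i ∈ s, r i) := by
  classical
  induction s using Finset.induction_on with
  | empty => simpa using isOrdP_one (p := p) (k := k)
  | insert a s ha ih =>
    rw [Finset.prod_insert ha, Finset.sum_insert ha]
    exact isOrdP_mul (h a (Finset.mem_insert_self a s))
      (ih fun i hi => h i (Finset.mem_insert_of_mem hi))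

/-- the order of the determinant of an isoclinic sub-isocrystal of slope `μ` and dimension `n` is `μ n` -/
theorem orddet_restrict_of_isoInt {a : ℤ} (F : N →ₛₗ[Isoc.frob p k a] N) (P : Submodule L N)
    [Module.Finite L P] (hP : ∀ x ∈ P, F x ∈ P) {μ : ℚ}
    (hiso : IsoInt (p := p) (k := k) (⇑F) P μ) {n : ℕ} (b : Basis (Fin n) L P) :
    ∃ δ : ℤ, Isoc.IsOrdP (detC b (⇑(F.restrict hP))) δ ∧ (δ : ℚ) = μ * n := by
  have hG' := IsSemi.of_semilinear (F.restrict hP)
  have hres : Isoc.IsIsoclinic (F.restrict hP) μ := (isIsoclinic_restrict_iff _ P hP _).mpr hiso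
  obtain ⟨M', hM', r, s, hs, hrs, heq⟩ := hres
  have heq' : img ((⇑(F.restrict hP))^[s]) M' = Isoc.pPow r M' := heq
  obtain ⟨b', hb'⟩ := exists_basis_of_lattice hM' b
  have h1 : Isoc.IsOrdP (detC b' ((⇑(F.restrict hP))^[s])) (r * (n : ℕ)) := by
    apply isOrdP_detC_of_img_eq_pPow (hG'.iterate s) b'
    rw [← hb']
    exact heq'
  have hne := detC_ne_zero_of_iterate hG' b' hs (isOrdP_ne_zero h1)
  obtain ⟨δ, hδ⟩ := exists_isOrdP hne
  have h2 := orddet_of_img_eq hG' b' hδ hM' heq'
  refine ⟨δ, isOrdP_detC_basis_change hG' b' b hδ, ?_⟩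
  have hs' : (s : ℚ) ≠ 0 := by exact_mod_cast hs.ne'
  have h3 : (r : ℚ) * n = s * δ := by exact_mod_cast h2
  rw [← hrs]
  field_simp
  linarith

section Internal

variable {ι : Type*} [DecidableEq ι] {A : ι → Submodule (FractionRing (WittVector p k)) N} {α : ι → Type*} [∀ i, Fintype (α i)]
  [∀ i, DecidableEq (α i)]

/-- the matrix of a map preserving an internal direct sum decomposition, in a collected basis, is
block diagonal -/
theorem matrix_collectedBasis_eq_blockDiagonal' (h : DirectSum.IsInternal A) (v : ∀ i, Basis (α i) L (A i))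
    (G : N → N) (hG : ∀ i, ∀ x ∈ A i, G x ∈ A i) :
    (Matrix.of (fun (x y : Σ i, α i) => (h.collectedBasis v).repr (G (h.collectedBasis v y)) x) :
        Matrix (Σ i, α i) (Σ i, α i) L) =
      Matrix.blockDiagonal' (fun i => (Matrix.of (fun (c e : α i) =>
        (v i).repr ⟨G (v i e), hG i _ (v i e).2⟩ c) : Matrix (α i) (α i) L)) := by
  ext ⟨i, c⟩ ⟨j, e⟩
  rw [Matrix.of_apply, Matrix.blockDiagonal'_apply]
  have hmem : G (h.collectedBasis v ⟨j, e⟩) ∈ A j := by
    rw [h.collectedBasis_coe]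
    exact hG j _ (v j e).2
  by_cases hij : i = j
  · subst hij
    rw [dif_pos rfl, h.collectedBasis_repr_of_mem v hmem]
    simp only [cast_eq, Matrix.of_apply]
    congr 3
    rw [h.collectedBasis_coe]
  · rw [dif_neg hij]
    exact h.collectedBasis_repr_of_mem_ne v (Ne.symm hij) hmem

end Internal


/-! ### the slope decomposition as a finite internal direct sum -/

theorem slopePart_stable_isoInt [Module.Finite L N] {a : ℤ} (F : N →ₛₗ[Isoc.frob p k a] N) (μ : ℚ) :
    (∀ x ∈ Isoc.slopePart F μ, F x ∈ Isoc.slopePart F μ) ∧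
      IsoInt (p := p) (k := k) (⇑F) (Isoc.slopePart F μ) μ := by
  rw [slopePart_eq]
  exact sSup_stableIso_mem (IsSemi.of_semilinear F) μ

theorem slopePart_isInternal [Module.Finite L N] {a : ℤ} (F : N →ₛₗ[Isoc.frob p k a] N)
    (hF : Isoc.IsIsoc F) : DirectSum.IsInternal (fun μ : ℚ => Isoc.slopePart F μ) := by
  rw [DirectSum.isInternal_submodule_iff_iSupIndep_and_iSup_eq_top]
  exact ⟨slopePart_iSupIndep F hF.bijective.injective, iSup_slopePart_eq_top a _ N F hF rfl⟩

theorem slopePart_finite_ne_bot [Module.Finite L N] {a : ℤ} (F : N →ₛₗ[Isoc.frob p k a] N)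
    (hF : Isoc.IsIsoc F) : {μ : ℚ | Isoc.slopePart F μ ≠ ⊥}.Finite :=
  WellFoundedGT.finite_ne_bot_of_iSupIndep (slopePart_iSupIndep F hF.bijective.injective)

/-- the sum of the Newton slopes is the order of the determinant -/
theorem finsum_slopes_eq_orddet [Module.Finite L N] {a : ℤ} (F : N →ₛₗ[Isoc.frob p k a] N)
    (hF : Isoc.IsIsoc F) {h : ℕ} (b : Basis (Fin h) L N) {d : ℤ}
    (hd : Isoc.IsOrdP (detC b (⇑F)) d) :
    ∑ᶠ μ : ℚ, μ * (Module.finrank L (Isoc.slopePart F μ) : ℚ) = d := by
  classical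
  have hG := IsSemi.of_semilinear F
  have hint := slopePart_isInternal F hF
  have hfin := slopePart_finite_ne_bot F hF
  have : Fintype {μ : ℚ // Isoc.slopePart F μ ≠ ⊥} := hfin.fintype
  have hintS : DirectSum.IsInternal (fun μ : {μ : ℚ // Isoc.slopePart F μ ≠ ⊥} =>
      Isoc.slopePart F μ.1) := DirectSum.isInternal_ne_bot_iff.mpr hint
  have hst := fun μ : ℚ => slopePart_stable_isoInt F μ
  let v : ∀ μ : {μ : ℚ // Isoc.slopePart F μ ≠ ⊥},
      Basis (Fin (Module.finrank L (Isoc.slopePart F μ.1))) L (Isoc.slopePart F μ.1) :=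
    fun μ => Module.finBasis L _
  have hblock := matrix_collectedBasis_eq_blockDiagonal' hintS v (⇑F) (fun μ => (hst μ.1).1)
  have hδ : ∀ μ : {μ : ℚ // Isoc.slopePart F μ ≠ ⊥}, ∃ δ : ℤ,
      Isoc.IsOrdP (detC (v μ) (⇑(F.restrict (hst μ.1).1))) δ ∧
        (δ : ℚ) = μ.1 * (Module.finrank L (Isoc.slopePart F μ.1) : ℕ) :=
    fun μ => orddet_restrict_of_isoInt F _ (hst μ.1).1 (hst μ.1).2 (v μ)
  choose δ hδ1 hδ2 using hδ
  -- reindex the collected basis by `Fin h`
  have hcard : Fintype.card (Σ μ : {μ : ℚ // Isoc.slopePart F μ ≠ ⊥},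
      Fin (Module.finrank L (Isoc.slopePart F μ.1))) = h := by
    rw [← Module.finrank_eq_card_basis (hintS.collectedBasis v), Module.finrank_eq_card_basis b,
      Fintype.card_fin]
  let e := Fintype.equivFinOfCardEq hcard
  have hdetB' : detC ((hintS.collectedBasis v).reindex e) (⇑F) =
      ∏ μ : {μ : ℚ // Isoc.slopePart F μ ≠ ⊥}, detC (v μ) (⇑(F.restrict (hst μ.1).1)) := by
    have h1 : matC ((hintS.collectedBasis v).reindex e) (⇑F) =
        Matrix.reindex e e (Matrix.of fun x y =>
          (hintS.collectedBasis v).repr (F (hintS.collectedBasis v y)) x) := by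
      ext i j
      simp [matC, Basis.reindex_apply]
    unfold detC
    rw [h1, Matrix.det_reindex_self, hblock, det_blockDiagonal'_of_decEq]
    rfl
  have hord : Isoc.IsOrdP (detC ((hintS.collectedBasis v).reindex e) (⇑F))
      (∑ μ : {μ : ℚ // Isoc.slopePart F μ ≠ ⊥}, δ μ) := by
    rw [hdetB']
    exact isOrdP_prod _ _ _ (fun μ _ => hδ1 μ)
  have hd' := isOrdP_detC_basis_change hG b ((hintS.collectedBasis v).reindex e) hd
  have hdsum : d = ∑ μ : {μ : ℚ // Isoc.slopePart F μ ≠ ⊥}, δ μ := isOrdP_unique hd' hord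
  -- the finite sum
  rw [finsum_eq_sum_of_support_subset (s := hfin.toFinset)]
  · rw [Finset.sum_subtype hfin.toFinset (p := fun μ : ℚ => Isoc.slopePart F μ ≠ ⊥)
      (fun x => by simp)]
    rw [hdsum]
    push_cast
    apply Finset.sum_congr rfl
    intro μ _
    rw [hδ2 μ]
  · intro μ hμ
    simp only [Function.mem_support] at hμ
    simp only [Set.Finite.coe_toFinset, Set.mem_ofPred_eq]
    intro hbot
    apply hμ
    rw [hbot, finrank_bot]
    simp

end Groth.Agent.H85
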