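import Groth.Agent.H85.Effective

set_option autoImplicit false
set_option linter.unusedSectionVars false

noncomputable section

open scoped Isocrystal Pointwise
open Filter Topology

universe u v

namespace Groth.Agent.H85

variable {p : ℕ} [Fact p.Prime] {k : Type u} [Field k] [CharP k p] [PerfectRing k p]

local notation "W" => WittVector p k
local notation "L" => FractionRing (WittVector p k)

variable {N : Type v} [AddCommGroup N] [Module (WittVector p k) N] [Module (FractionRing (WittVector p k)) N]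
  [IsScalarTower (WittVector p k) (FractionRing (WittVector p k)) N]

variable {M M₁ M₂ : Submodule (WittVector p k) N} {G G₁ G₂ : N → N}

/-- if `G^(n+1) M ⊆ M` then `M + G M + ... + G^n M` is `G`-stable -/
theorem img_sumIter_le_of_iterate_le (hG : IsSemi (p := p) (k := k) G) {n : ℕ}
    (h : img (G^[n + 1]) M ≤ M) : img G (sumIter G n M) ≤ sumIter G n M := by
  intro y hy
  obtain ⟨x, hx, rfl⟩ := (mem_img hG).mp hy
  clear hy
  unfold sumIter at hx
  refine Submodule.iSup_induction (fun i : Fin (n + 1) => img (G^[i]) M)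
    (motive := fun x => G x ∈ sumIter G n M) hx ?_ ?_ ?_
  · intro i z hz
    obtain ⟨m, hm, rfl⟩ := (mem_img (hG.iterate i)).mp hz
    rw [← Function.iterate_succ_apply' G (i : ℕ) m]
    by_cases hi : (i : ℕ) + 1 ≤ n
    · exact img_le_sumIter G hi M (apply_mem_img _ hm)
    · have : (i : ℕ) + 1 = n + 1 := by omega
      rw [Nat.succ_eq_add_one, this]
      exact le_sumIter G n M (h (apply_mem_img _ hm))
  · rw [hG.map_zero]; exact Submodule.zero_mem _
  · intro a b ha hb
    rw [hG.map_add]; exact Submodule.add_mem _ ha hb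

/-- A first slope datum for `G` relative to the lattice `M`. -/
def HasSlope (G : N → N) (lam : ℝ) : Prop :=
  ∃ M : Submodule W N, M.IsLattice L ∧ ∃ o : ℕ → ℤ, (∀ n : ℕ, 1 ≤ n → OrdG M (G^[n]) (o n)) ∧
    Tendsto (fun n : ℕ => (o n : ℝ) / n) atTop (𝓝 lam)

theorem isFirstSlope_iff {τ : L →+* L} (F : N →ₛₗ[τ] N) (lam : ℝ) :
    Isoc.IsFirstSlope F lam ↔ HasSlope (p := p) (k := k) (⇑F) lam := Iff.rfl

theorem HasSlope.nontrivial {lam : ℝ} (h : HasSlope (p := p) (k := k) G lam) : Nontrivial N := by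
  obtain ⟨M, hM, o, ho, -⟩ := h
  exact nontrivial_of_ordG (ho 1 le_rfl)

theorem HasSlope.twistIter {lam : ℝ} (hG : IsSemi (p := p) (k := k) G)
    (h : HasSlope (p := p) (k := k) G lam) (m : ℤ) (n : ℕ) :
    HasSlope (p := p) (k := k) (twistIter p k G m n) (n * lam + m) := by
  obtain ⟨M, hM, o, ho, hlim⟩ := h
  obtain ⟨o', ho', hlim'⟩ := firstSlope_twistIter hG hM o ho hlim m n
  exact ⟨M, hM, o', ho', hlim'⟩

theorem HasSlope.unique {lam₁ lam₂ : ℝ} (hG : IsSemi (p := p) (k := k) G)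
    (h₁ : HasSlope (p := p) (k := k) G lam₁) (h₂ : HasSlope (p := p) (k := k) G lam₂) : lam₁ = lam₂ := by
  obtain ⟨M₁, hM₁, o₁, ho₁, hlim₁⟩ := h₁
  obtain ⟨M₂, hM₂, o₂, ho₂, hlim₂⟩ := h₂
  exact slope_unique hG hM₁ hM₂ o₁ o₂ ho₁ ho₂ hlim₁ hlim₂

/-- with respect to any lattice the slope is computed by the orders -/
theorem HasSlope.of_lattice {lam : ℝ} (hG : IsSemi (p := p) (k := k) G)
    (hsurj : Function.Surjective G)
    (h : HasSlope (p := p) (k := k) G lam) (hM : M.IsLattice L) :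
    ∃ o : ℕ → ℤ, (∀ n : ℕ, OrdG M (G^[n]) (o n)) ∧
      Tendsto (fun n : ℕ => (o n : ℝ) / n) atTop (𝓝 lam) := by
  have := h.nontrivial
  obtain ⟨o, ho, lam', hlam'⟩ := exists_ord_tendsto hG hsurj hM
  have : lam' = lam := HasSlope.unique hG ⟨M, hM, o, fun n _ => ho n, hlam'⟩ h
  exact ⟨o, ho, this ▸ hlam'⟩

/-- positive slope implies effectivity -/
theorem exists_stable_of_slope_pos {lam : ℝ} (hG : IsSemi (p := p) (k := k) G)
    (h : HasSlope (p := p) (k := k) G lam) (hpos : 0 < lam) :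
    ∃ M' : Submodule W N, M'.IsLattice L ∧ img G M' ≤ M' := by
  obtain ⟨M, hM, o, ho, hlim⟩ := h
  have hev : ∀ᶠ n : ℕ in atTop, 0 < (o n : ℝ) / n := (tendsto_order.1 hlim).1 0 hpos
  obtain ⟨n, hn, hn1⟩ := (hev.and (eventually_ge_atTop 1)).exists
  have hn' : (0 : ℝ) < n := by exact_mod_cast hn1
  have hon : 0 < o n := by
    have := (div_pos_iff_of_pos_right hn').mp hn
    exact_mod_cast this
  obtain ⟨n', rfl⟩ : ∃ n', n = n' + 1 := ⟨n - 1, by omega⟩
  have hle : img (G^[n' + 1]) M ≤ M := by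
    refine (ho _ hn1).1.trans ?_
    have := pPow_anti M (show (0 : ℤ) ≤ o (n' + 1) by omega)
    rwa [pPow_zero] at this
  exact ⟨sumIter G n' M, sumIter_isLattice hG n' hM, img_sumIter_le_of_iterate_le hG hle⟩

/-- nonnegative slope implies effectivity -/
theorem exists_stable_of_slope_nonneg {h : ℕ} [Module.Finite L N] (hh : Module.finrank L N = h)
    {lam : ℝ} (hG : IsSemi (p := p) (k := k) G)
    (hs : HasSlope (p := p) (k := k) G lam) (hnn : 0 ≤ lam) :
    ∃ M' : Submodule W N, M'.IsLattice L ∧ img G M' ≤ M' := by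
  have hs' := hs.twistIter hG 1 (h + 1)
  have hG' := twistIter_isSemi (p := p) (k := k) hG 1 (h + 1)
  have hpos : (0 : ℝ) < ((h + 1 : ℕ) : ℝ) * lam + ((1 : ℤ) : ℝ) := by
    have : (0 : ℝ) ≤ ((h + 1 : ℕ) : ℝ) * lam := mul_nonneg (by positivity) hnn
    push_cast at this ⊢
    linarith
  obtain ⟨M₁, hM₁, hst⟩ := exists_stable_of_slope_pos hG' hs' hpos
  rw [img_twistIter, pPow_le_iff] at hst
  exact effective_of_iterate_le hh hG hM₁ hst

/-- `λ₁ ≥ r/s` gives a lattice with `G^s M ⊆ p^r M` -/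
theorem exists_lattice_of_le_slope {h : ℕ} [Module.Finite L N] (hh : Module.finrank L N = h)
    {lam : ℝ} (hG : IsSemi (p := p) (k := k) G)
    (hs : HasSlope (p := p) (k := k) G lam) (r : ℤ) (s : ℕ) (hspos : 0 < s)
    (hrs : (r : ℝ) / s ≤ lam) :
    ∃ M' : Submodule W N, M'.IsLattice L ∧ img (G^[s]) M' ≤ Isoc.pPow r M' := by
  have hs' := hs.twistIter hG (-r) s
  have hG' := twistIter_isSemi (p := p) (k := k) hG (-r) s
  have hnn : (0 : ℝ) ≤ (s : ℝ) * lam + ((-r : ℤ) : ℝ) := by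
    have hs0 : (0 : ℝ) < s := by exact_mod_cast hspos
    rw [div_le_iff₀ hs0] at hrs
    push_cast
    linarith
  obtain ⟨M', hM', hst⟩ := exists_stable_of_slope_nonneg hh hG' hs' hnn
  refine ⟨M', hM', ?_⟩
  rw [img_twistIter, pPow_le_iff, neg_neg] at hst
  exact hst

end Groth.Agent.H85
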