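import Groth.Agent.H85.Slope

set_option autoImplicit false
set_option linter.unusedSectionVars false

noncomputable section

open scoped Isocrystal Pointwise
open Filter Topology

universe u v

namespace Groth.Agent.H85

variable {p : ℕ} [Fact p.Prime] {k : Type u} [Field k] [CharP k p] [PerfectRing k p]

local notation "W" => WittVector p k
local notation "L" => FractionRing (WittVector p k)

variable {N : Type v} [AddCommGroup N] [Module (WittVector p k) N] [Module (FractionRing (WittVector p k)) N]
  [IsScalarTower (WittVector p k) (FractionRing (WittVector p k)) N]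

variable {M M₁ M₂ : Submodule (WittVector p k) N} {G G₁ G₂ : N → N}

theorem nontrivial_of_ordG {r : ℤ} (h : OrdG M G r) : Nontrivial N := by
  by_contra hn
  rw [not_nontrivial_iff_subsingleton] at hn
  apply h.2
  intro x _
  rw [Subsingleton.elim x 0]
  exact Submodule.zero_mem _

variable (p k) in
/-- the twisted iterate `p^m G^n` -/
def twistIter (G : N → N) (m : ℤ) (n : ℕ) : N → N :=
  fun x => ((p : FractionRing (WittVector p k)) ^ m) • G^[n] x

theorem twistIter_isSemi (hG : IsSemi (p := p) (k := k) G) (m : ℤ) (n : ℕ) :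
    IsSemi (p := p) (k := k) (twistIter p k G m n) :=
  (hG.iterate n).const_smul _

theorem twistIter_iterate (hG : IsSemi (p := p) (k := k) G) (m : ℤ) (n j : ℕ) :
    (twistIter p k G m n)^[j] = twistIter p k G (m * j) (n * j) := by
  induction j with
  | zero =>
    funext x
    simp [twistIter]
  | succ j ih =>
    funext x
    rw [Function.iterate_succ_apply, ih]
    simp only [twistIter]
    rw [(hG.iterate (n * j)).map_pow_smul, smul_smul, ← zpow_add₀ pL_ne_zero, ← Function.iterate_add_apply]
    congr 2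
    push_cast; ring

theorem img_twistIter (G : N → N) (m : ℤ) (n : ℕ) (M : Submodule W N) :
    img (twistIter p k G m n) M = Isoc.pPow m (img (G^[n]) M) :=
  img_const_smul _ _ _

theorem ordG_twistIter_iff (G : N → N) (m : ℤ) (n : ℕ) (M : Submodule W N) (r : ℤ) :
    OrdG M (twistIter p k G m n) r ↔ OrdG M (G^[n]) (r - m) := by
  unfold OrdG
  rw [img_twistIter, pPow_le_iff, pPow_le_iff, pPow_pPow, pPow_pPow]
  have h1 : -m + r = r - m := by ring
  have h2 : -m + (r + 1) = r - m + 1 := by ring
  rw [h1, h2]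

theorem firstSlope_twistIter (hG : IsSemi (p := p) (k := k) G) (hM : M.IsLattice L)
    (o : ℕ → ℤ) (ho : ∀ n : ℕ, 1 ≤ n → OrdG M (G^[n]) (o n)) {lam : ℝ}
    (hlam : Tendsto (fun n : ℕ => (o n : ℝ) / n) atTop (𝓝 lam)) (m : ℤ) (n : ℕ) :
    ∃ o' : ℕ → ℤ, (∀ j : ℕ, 1 ≤ j → OrdG M ((twistIter p k G m n)^[j]) (o' j)) ∧
      Tendsto (fun j : ℕ => (o' j : ℝ) / j) atTop (𝓝 (n * lam + m)) := by
  have : Nontrivial N := nontrivial_of_ordG (ho 1 le_rfl)
  rcases Nat.eq_zero_or_pos n with rfl | hn
  · refine ⟨fun j => m * j, fun j _ => ?_, ?_⟩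
    · rw [twistIter_iterate hG, ordG_twistIter_iff, sub_self, Nat.zero_mul, Function.iterate_zero]
      apply ordG_of_eq hM
      rw [img_id, pPow_zero]
    · have : Tendsto (fun _ : ℕ => (m : ℝ)) atTop (𝓝 ((0 : ℕ) * lam + m)) := by
        simp
      refine this.congr' ?_
      filter_upwards [eventually_ge_atTop 1] with j hj
      have hj' : (j : ℝ) ≠ 0 := by exact_mod_cast (by omega : j ≠ 0)
      push_cast
      field_simp
  · refine ⟨fun j => m * j + o (n * j), fun j hj => ?_, ?_⟩
    · rw [twistIter_iterate hG, ordG_twistIter_iff, add_sub_cancel_left]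
      exact ho _ (Nat.mul_pos hn hj)
    · have hmul : Tendsto (fun j : ℕ => n * j) atTop atTop :=
        (strictMono_mul_left_of_pos hn).tendsto_atTop
      have h1 : Tendsto (fun j : ℕ => (o (n * j) : ℝ) / ((n * j : ℕ) : ℝ)) atTop (𝓝 lam) :=
        hlam.comp hmul
      have h2 : Tendsto (fun j : ℕ => (n : ℝ) * ((o (n * j) : ℝ) / ((n * j : ℕ) : ℝ)) + m) atTop
          (𝓝 (n * lam + m)) := (h1.const_mul _).add_const _
      refine h2.congr' ?_
      filter_upwards [eventually_ge_atTop 1] with j hj
      have hj' : (j : ℝ) ≠ 0 := by exact_mod_cast (by omega : j ≠ 0)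
      have hn' : (n : ℝ) ≠ 0 := by exact_mod_cast (by omega : n ≠ 0)
      push_cast
      field_simp
      ring

end Groth.Agent.H85
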