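import Groth.Agent.H85.CohVanish

/-!
# `H^n(G, Rˣ) ≅ H^n(G, kˣ)` for a henselian local ring `R` and `|G|` prime to the residue char.
-/

namespace Groth.Agent.H85.UnitsCoh

open IsLocalRing Polynomial

variable {R : Type} [CommRing R] [HenselianLocalRing R] (N : ℕ)

theorem isUnit_natCast (hN : (N : ResidueField R) ≠ 0) : IsUnit (N : R) := by
  rw [← residue_ne_zero_iff_isUnit, map_natCast]
  exact hN

theorem eq_one_of_pow_eq_one (hN : (N : ResidueField R) ≠ 0) (u : R) (hu : residue R u = 1)
    (h : u ^ N = 1) : u = 1 := by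
  have h1 : (∑ i ∈ Finset.range N, u ^ i) * (u - 1) = 0 := by
    rw [geom_sum_mul, h, sub_self]
  have h2 : IsUnit (∑ i ∈ Finset.range N, u ^ i) := by
    rw [← residue_ne_zero_iff_isUnit, map_sum]
    simp only [map_pow, hu, one_pow, Finset.sum_const, Finset.card_range, nsmul_eq_mul, mul_one]
    exact hN
  exact sub_eq_zero.1 ((h2.mul_right_eq_zero).1 h1)

theorem exists_root (hN : (N : ResidueField R) ≠ 0) (u : R) (hu : residue R u = 1) :
    ∃ a : R, a ^ N = u ∧ residue R a = 1 := by
  have hN0 : N ≠ 0 := by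
    rintro rfl
    exact hN (by simp)
  obtain ⟨a, ha, ha1⟩ := HenselianLocalRing.is_henselian (X ^ N - C u : R[X])
    (monic_X_pow_sub_C u hN0) 1
    (by
      rw [← residue_eq_zero_iff]
      simp [hu])
    (by
      have : (derivative (X ^ N - C u : R[X])).eval 1 = (N : R) := by
        rw [derivative_sub, derivative_C, sub_zero, derivative_X_pow, eval_mul, eval_pow, eval_X,
          one_pow, mul_one]
        simp
      rw [this]
      exact isUnit_natCast N hN)
  refine ⟨a, ?_, ?_⟩
  · have : a ^ N - u = 0 := by simpa [IsRoot] using ha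
    exact sub_eq_zero.1 this
  · rw [← residue_eq_zero_iff, map_sub, map_one] at ha1
    exact sub_eq_zero.1 ha1

attribute [local instance] Units.mulDistribMulActionRight

theorem main (R : Type) [CommRing R]
    [HenselianLocalRing R] (p : ℕ)
    [CharP (IsLocalRing.ResidueField R) p]
    (G : Type) [Group G] [Finite G] [MulSemiringAction G R] (hp : ¬ p ∣ Nat.card G)
    (φ : Rep.ofMulDistribMulAction G Rˣ ⟶
      Rep.ofMulDistribMulAction G (IsLocalRing.ResidueField R)ˣ)
    (hφ : ∀ x : Rˣ, Additive.toMul (φ.hom (Additive.ofMul x)) =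
      Units.map (IsLocalRing.residue R).toMonoidHom x)
    (n : ℕ) (hn : 1 ≤ n) :
    Function.Bijective ((groupCohomology.functor ℤ G n).map φ).hom := by
  classical
  have := Fintype.ofFinite G
  obtain ⟨m, rfl⟩ : ∃ m, n = m + 1 := ⟨n - 1, by omega⟩
  have hN : ((Fintype.card G : ℕ) : ResidueField R) ≠ 0 := by
    rw [← Nat.card_eq_fintype_card]
    intro h0
    exact hp ((CharP.cast_eq_zero_iff _ p _).1 h0)
  have hres : ∀ x : Additive Rˣ, φ.hom x = 0 → residue R ((Additive.toMul x : Rˣ) : R) = 1 := by
    intro x hx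
    have h1 : Additive.toMul (φ.hom x) = Units.map (IsLocalRing.residue R).toMonoidHom
        (Additive.toMul x) := hφ (Additive.toMul x)
    rw [hx] at h1
    have h2 := congrArg (fun u : (ResidueField R)ˣ => (u : ResidueField R)) h1
    exact h2.symm
  have hres' : ∀ u : Rˣ, residue R (u : R) = 1 → φ.hom (Additive.ofMul u) = 0 := by
    intro u hu
    apply Additive.toMul.injective
    rw [hφ]
    show Units.map (IsLocalRing.residue R).toMonoidHom u = 1
    apply Units.ext
    exact hu
  refine CohVanish.bijective_map_succ φ ?_ ?_ ?_ m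
  · intro (y : Additive (ResidueField R)ˣ)
    obtain ⟨x, hx⟩ := IsLocalRing.surjective_units_map_of_local_ringHom (residue R)
      (residue_surjective) inferInstance (Additive.toMul y)
    refine ⟨Additive.ofMul x, ?_⟩
    apply Additive.toMul.injective
    show Additive.toMul (φ.hom (Additive.ofMul x)) = Additive.toMul y
    rw [hφ]
    exact hx
  · intro (x : Additive Rˣ) hx0 hNx
    have h1 := hres x hx0
    have h3 : (Additive.toMul x : Rˣ) ^ Fintype.card G = 1 := congrArg Additive.toMul hNx
    have h2 : ((Additive.toMul x : Rˣ) : R) ^ Fintype.card G = 1 := by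
      rw [← Units.val_pow_eq_pow_val, h3]; rfl
    have h4 := eq_one_of_pow_eq_one _ hN _ h1 h2
    apply Additive.toMul.injective
    apply Units.ext
    exact h4
  · intro (x : Additive Rˣ) hx0
    obtain ⟨a, ha, ha1⟩ := exists_root _ hN _ (hres x hx0)
    have hau : IsUnit a := by
      rw [← residue_ne_zero_iff_isUnit, ha1]; exact one_ne_zero
    refine ⟨Additive.ofMul hau.unit, hres' _ (by rw [IsUnit.unit_spec]; exact ha1), ?_⟩
    apply Additive.toMul.injective
    apply Units.ext
    show ((hau.unit ^ Fintype.card G : Rˣ) : R) = ((Additive.toMul x : Rˣ) : R)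
    rw [Units.val_pow_eq_pow_val, IsUnit.unit_spec]
    exact ha

end Groth.Agent.H85.UnitsCoh
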