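import Groth.Prelude.Def_Isoc
import Mathlib.RingTheory.WittVector.Complete
import Mathlib.FieldTheory.Finite.Basic
import Mathlib.Tactic

set_option autoImplicit false

noncomputable section

open scoped Isocrystal

universe u

namespace Groth.Agent.H85

variable (p : ℕ) [Fact p.Prime] (k : Type u) [Field k] [CharP k p]

theorem witt_natCast_ne_zero : ∀ n : ℕ, 0 < n → (n : WittVector p k) ≠ 0 := by
  intro n
  induction n using Nat.strong_induction_on with
  | _ n ih =>
    intro hn
    by_cases hpn : p ∣ n
    · obtain ⟨m, rfl⟩ := hpn
      have hm : 0 < m := by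
        rcases Nat.eq_zero_or_pos m with h | h
        · subst h; simp at hn
        · exact h
      have hp1 : 1 < p := (Fact.out : p.Prime).one_lt
      have hlt : m < p * m := by nlinarith
      have h1 := ih m hlt hm
      rw [Nat.cast_mul]
      exact mul_ne_zero (WittVector.p_nonzero p k) h1
    · intro h0
      have h1 : WittVector.constantCoeff (n : WittVector p k) = 0 := by rw [h0, map_zero]
      rw [map_natCast] at h1
      exact hpn ((CharP.cast_eq_zero_iff k p n).mp h1)

instance witt_charZero : CharZero (WittVector p k) := by
  refine ⟨fun a b hab => ?_⟩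
  by_contra hne
  rcases Nat.lt_or_gt_of_ne hne with h | h
  · have h0 : ((b - a : ℕ) : WittVector p k) = 0 := by
      rw [Nat.cast_sub h.le, hab, sub_self]
    exact witt_natCast_ne_zero p k (b - a) (by omega) h0
  · have h0 : ((a - b : ℕ) : WittVector p k) = 0 := by
      rw [Nat.cast_sub h.le, hab, sub_self]
    exact witt_natCast_ne_zero p k (a - b) (by omega) h0

instance fracWitt_charZero : CharZero K(p, k) :=
  charZero_of_injective_algebraMap (IsFractionRing.injective (WittVector p k) K(p, k))

end Groth.Agent.H85
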